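/-
Packed tables for Chevalley data, with boolean checks designed for evaluation in the kernel.
All functions are written with the raw recursors so that the kernel evaluates them quickly.
-/
import Cfsg.Prelude.Def_ChevStructure

namespace CfsgLib.Chev

/-- `force i k = k i`; the kernel evaluates `i` to a numeral before passing it on. -/
noncomputable def force {α : Type} (i : ℕ) (k : ℕ → α) : α :=
  Nat.rec (k (nat_lit 0)) (fun j _ => k (Nat.succ j)) i

/-- `forceZ i k = k i`; the kernel evaluates `i` before passing it on. -/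
noncomputable def forceZ {α : Type} (i : ℤ) (k : ℤ → α) : α :=
  Int.rec (fun n => force n fun m => k (Int.ofNat m)) (fun n => force n fun m => k (Int.negSucc m)) i

/-- A binary tree of naturals, indexed by binary digits from the lowest one. -/
inductive Tree where
  | leaf (v : ℕ)
  | node (a b : Tree)

/-- The value at index `i`. -/
noncomputable def Tree.get (t : Tree) : ℕ → ℕ :=
  Tree.rec (fun v _ => v) (fun _ _ ga gb i => Bool.rec (gb (Nat.div i (nat_lit 2))) (ga (Nat.div i (nat_lit 2))) (Nat.beq (Nat.mod i (nat_lit 2)) (nat_lit 0))) t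

/-- Packed tables: `tab r` holds, in 12-bit fields indexed by `s`, the index of `r + s` and a code of `N_{r,s}`;
`cor`, `car`, `vec` hold the coroot, Cartan and coefficient tables with an offset; `smp` the fundamental roots. -/
structure Pack where
  n : ℕ
  l : ℕ
  tab : Tree
  cor : ℕ
  car : ℕ
  vec : ℕ
  smp : ℕ

/-- `allN m f`: `f i` holds for all `i < m`. -/
noncomputable def allN (m : ℕ) (f : ℕ → Bool) : Bool :=
  Nat.rec true (fun i acc => f i && acc) m

/-- `anyN m f`: `f i` holds for some `i < m`. -/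
noncomputable def anyN (m : ℕ) (f : ℕ → Bool) : Bool :=
  Nat.rec false (fun i acc => f i || acc) m

/-- `sumN m f = ∑ i < m, f i`. -/
noncomputable def sumN (m : ℕ) (f : ℕ → ℤ) : ℤ :=
  Nat.rec 0 (fun i acc => f i + acc) m

/-- Equality of integers as a boolean. -/
noncomputable def zeq (a b : ℤ) : Bool :=
  Int.rec (fun m => Int.rec (fun k => Nat.beq m k) (fun _ => false) b)
    (fun m => Int.rec (fun _ => false) (fun k => Nat.beq m k) b) a

namespace Pack

variable (P : Pack)

/-- The `i`-th field of width `w`. -/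
noncomputable def field (x w i : ℕ) : ℕ := Nat.mod (Nat.shiftRight x (Nat.mul w i)) (Nat.pow (nat_lit 2) w)

/-- The table entry of the pair `(r, s)`. -/
noncomputable def ent (r' s : ℕ) : ℕ := force r' fun r =>
  Nat.mod (Nat.shiftRight (P.tab.get r) (Nat.mul (nat_lit 12) s)) (nat_lit 4096)

/-- `r + s` is a root. -/
noncomputable def nz (r s : ℕ) : Bool := Nat.ble (nat_lit 256) (P.ent r s)

/-- The index of `r + s`. -/
noncomputable def S (r s : ℕ) : ℕ := Nat.mod (P.ent r s) (nat_lit 256)

/-- Decoding of the structure constants. -/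
noncomputable def decN (j : ℕ) : ℤ := force j fun k =>
  Bool.rec (Int.negSucc (Nat.sub k (nat_lit 4))) (Int.ofNat k) (Nat.ble k (nat_lit 3))

/-- The structure constant `N_{r,s}`. -/
noncomputable def N (r s : ℕ) : ℤ := decN (Nat.div (P.ent r s) (nat_lit 256))

noncomputable def C (r i : ℕ) : ℤ :=
  Int.subNatNat (field P.cor (nat_lit 5) (Nat.add (Nat.mul r P.l) i)) (nat_lit 16)
noncomputable def A (i r : ℕ) : ℤ :=
  Int.subNatNat (field P.car (nat_lit 3) (Nat.add (Nat.mul i P.n) r)) (nat_lit 4)
noncomputable def V (r i : ℕ) : ℤ :=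
  Int.subNatNat (field P.vec (nat_lit 5) (Nat.add (Nat.mul r P.l) i)) (nat_lit 16)
noncomputable def p (i : ℕ) : ℕ := field P.smp 8 i
noncomputable def rev (r : ℕ) : ℕ := Nat.sub P.n (Nat.add r (nat_lit 1))

/-- A linear functional on roots separating them. -/
noncomputable def code (r' : ℕ) : ℤ := force r' fun r =>
  Nat.rec (Int.ofNat (nat_lit 0))
    (fun i acc => forceZ acc fun c => Int.add (Int.mul c (Int.ofNat (nat_lit 32))) (P.V r i)) P.l

/-- The `k`-th term of the `r`-chain through `s` with its coefficient `M_{r,s,k}`. -/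
noncomputable def ch (r s : ℕ) (k : ℕ) : ℕ × ℤ :=
  Nat.rec (s, 1) (fun j c => force c.1 fun u => forceZ c.2 fun M =>
    (P.S r u, Int.ediv (Int.mul M (P.N r u)) (Int.ofNat (Nat.succ j)))) k

/-- The chain entry of the pair `(r, s)`. -/
noncomputable def entryList (r s : ℕ) : List (ℕ × ℤ) :=
  bif zeq (P.ch r s 1).2 0 then [] else P.ch r s 1 ::
    bif zeq (P.ch r s 2).2 0 then [] else P.ch r s 2 ::
      bif zeq (P.ch r s 3).2 0 then [] else [P.ch r s 3]

/-- The last `k` possible entries of row `r`. -/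
noncomputable def rowFrom (r k : ℕ) : List (ℕ × List (ℕ × ℤ)) :=
  Nat.rec [] (fun j acc => force (Nat.sub P.n (Nat.succ j)) fun s =>
    Bool.rec acc ((s, P.entryList r s) :: acc) (P.nz r s)) k

/-- Boolean comparison of chain entries. -/
noncomputable def eqEntry : List (ℕ × ℤ) → List (ℕ × ℤ) → Bool := fun x =>
  List.rec (fun y => List.rec true (fun _ _ _ => false) y)
    (fun a _ ih y => List.rec false (fun b t _ => Nat.beq a.1 b.1 && (zeq a.2 b.2 && ih t)) y) x

/-- Boolean comparison of chain rows. -/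
noncomputable def eqRow : List (ℕ × Array (ℕ × ℤ)) → List (ℕ × List (ℕ × ℤ)) → Bool := fun x =>
  List.rec (fun y => List.rec true (fun _ _ _ => false) y)
    (fun a _ ih y => List.rec false (fun b t _ => Nat.beq a.1 b.1 && (eqEntry a.2.toList b.2 && ih t)) y) x

/-- The list `[f k₀, f (k₀ + 1), …]` of length `k`, where `k₀ + k = m`. -/
noncomputable def tabulate (m : ℕ) (f : ℕ → ℤ) (k : ℕ) : List ℤ :=
  Nat.rec [] (fun j acc => force (Nat.sub m (Nat.succ j)) fun i => f i :: acc) k

/-- Boolean comparison of integer lists. -/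
noncomputable def eqZ : List ℤ → List ℤ → Bool := fun x =>
  List.rec (fun y => List.rec true (fun _ _ _ => false) y)
    (fun a _ ih y => List.rec false (fun b t _ => zeq a b && ih t) y) x

/-- `⟨h_b, a⟩`: the scalar with `[h_b, e_a] = P(b,a) e_a`. -/
noncomputable def pair (b a : ℕ) : ℤ := sumN P.l fun i => P.C b i * P.A i a

/-- A vector of the form `c e_u + d h_b`, coded as `(u, c, b, d)`. -/
noncomputable def T (a b c : ℕ) : ℕ × ℤ × ℕ × ℤ :=
  bif Nat.beq c (P.rev b) then (a, -P.pair b a, a, 0)
  else bif P.nz b c then force (P.S b c) fun u =>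
    (bif Nat.beq u (P.rev a) then (a, 0, a, P.N b c)
     else (P.S a u, P.N b c * P.N a u, a, 0))
  else (a, 0, a, 0)

/-- Coefficient of `e_u` in a coded vector. -/
noncomputable def ecoef (u : ℕ) (v : ℕ × ℤ × ℕ × ℤ) : ℤ := bif Nat.beq v.1 u then v.2.1 else 0

/-- Coefficient of `h_i` in a coded vector. -/
noncomputable def hcoef (i : ℕ) (v : ℕ × ℤ × ℕ × ℤ) : ℤ :=
  bif zeq v.2.2.2 0 then 0 else v.2.2.2 * P.C v.2.2.1 i

/-- The sum of three coded vectors is zero. -/
noncomputable def sumZero (x y z : ℕ × ℤ × ℕ × ℤ) : Bool :=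
  ((zeq x.2.1 0 && zeq y.2.1 0 && zeq z.2.1 0) ||
    (zeq (ecoef x.1 x + ecoef x.1 y + ecoef x.1 z) 0 &&
     zeq (ecoef y.1 x + ecoef y.1 y + ecoef y.1 z) 0 &&
     zeq (ecoef z.1 x + ecoef z.1 y + ecoef z.1 z) 0)) &&
  ((zeq x.2.2.2 0 && zeq y.2.2.2 0 && zeq z.2.2.2 0) ||
    allN P.l fun i => zeq (P.hcoef i x + P.hcoef i y + P.hcoef i z) 0)

/-- The Jacobi identity for the basis vectors `e_a, e_b, e_c`. -/
noncomputable def J (a' b' c' : ℕ) : Bool :=
  force a' fun a => force b' fun b => force c' fun c =>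
    P.sumZero (P.T a b c) (P.T b c a) (P.T c a b)

/-- The triple `(q, y, z)` is among those checked by the first two parts of `jacOK`. -/
noncomputable def covered (q y z : ℕ) : Bool :=
  Nat.beq y (P.rev q) ||
    (bif P.nz q y then force (P.S q y) fun u => Nat.beq z (P.rev u) || P.nz u z else false)

/-- All instances of the Jacobi identity with first argument `p` that are not trivially true. -/
noncomputable def jacOK (q' : ℕ) : Bool := force q' fun q =>
  (allN P.n fun z => P.J q (P.rev q) z) &&
  (allN P.n fun y => bif P.nz q y then force (P.S q y) fun u =>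
      P.J q y (P.rev u) && allN P.n (fun z => bif P.nz u z then P.J q y z else true)
    else true) &&
  (allN P.n fun y => P.J q y (P.rev y)) &&
  (allN P.n fun u => bif (Nat.beq u (P.rev q) || P.nz q u) then
      allN P.n (fun d => bif P.nz u d then
        force (P.rev d) fun y => force (P.S u d) fun z => P.covered q y z || P.covered q z y
      else true)
    else true)

/-- Checks for the pair `(r, s)` with `r + s` a root. -/
noncomputable def entryOK (r s : ℕ) : Bool :=
  Nat.blt (P.S r s) P.n && !(Nat.beq s r) && !(Nat.beq s (P.rev r)) &&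
  zeq (P.code (P.S r s)) (Int.add (P.code r) (P.code s)) &&
  zeq (P.N s r) (-P.N r s) && zeq (P.N (P.rev r) (P.rev s)) (-P.N r s) &&
  Nat.beq (P.S (P.rev r) (P.rev s)) (P.rev (P.S r s)) && Nat.beq (P.S s r) (P.S r s) &&
  P.nz (P.S r s) (P.rev s) && Nat.beq (P.S (P.S r s) (P.rev s)) r &&
  (allN 3 fun j => zeq ((P.ch r s (j + 1)).2 * P.N r (P.ch r s (j + 1)).1 % (Int.ofNat (j + 2))) 0 &&
    (zeq (P.ch r s (j + 1)).2 0 ||
      (Nat.blt (P.ch r s (j + 1)).1 P.n && !(Nat.beq (P.ch r s (j + 1)).1 r) &&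
        !(Nat.beq (P.ch r s (j + 1)).1 (P.rev r))))) &&
  zeq (P.ch r s 4).2 0

/-- All entries. -/
noncomputable def tabOK : Bool :=
  allN P.n fun r => allN P.n fun s => bif P.nz r s then P.entryOK r s else true

/-- Checks for the single root `r`. -/
noncomputable def rootOK (r : ℕ) : Bool :=
  !(P.nz r r) && !(P.nz r (P.rev r)) &&
  (allN P.l fun i => zeq (P.V (P.rev r) i) (-P.V r i) && zeq (P.C (P.rev r) i) (-P.C r i) &&
    zeq (P.A i (P.rev r)) (-P.A i r) &&
    zeq (P.A i r) (sumN P.l fun j => P.V r j * P.A i (P.p j)) &&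
    decide ((P.V r i).natAbs ≤ 10) &&
    (bif Nat.ble P.n (2 * r) then decide (0 ≤ P.V r i) &&
      (Nat.beq r (P.p i) || anyN P.l fun j => !(Nat.beq j i) && decide (0 < P.V r j))
    else decide (P.V r i ≤ 0))) &&
  zeq (sumN P.l fun i => P.C r i * P.A i r) 2 &&
  (Nat.ble P.n (r + 1) || decide (P.code r < P.code (r + 1))) &&
  ((anyN P.l fun i => r == P.p i || r == P.rev (P.p i)) ||
    (anyN P.l fun i => bif Nat.ble P.n (2 * r) then
        P.nz r (P.rev (P.p i)) &&
          Nat.blt (max (P.S r (P.rev (P.p i))) (P.rev (P.S r (P.rev (P.p i))))) r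
      else P.nz r (P.p i) &&
          Nat.blt (max (P.S r (P.p i)) (P.rev (P.S r (P.p i)))) (P.rev r)))

/-- All roots and fundamental roots. -/
noncomputable def rootsOK : Bool :=
  allN P.n P.rootOK &&
  allN P.l fun i => Nat.blt (P.p i) P.n && Nat.ble P.n (2 * P.p i) &&
    allN P.l fun j => zeq (P.V (P.p i) j) (bif i == j then 1 else 0) &&
      zeq (P.C (P.p i) j) (bif i == j then 1 else 0)

/-- The Jacobi identity for all fundamental roots and their negatives. -/
noncomputable def jacAll : Bool :=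
  allN P.l fun i => P.jacOK (P.p i)

variable (D : Cfsg.Lie.ChevalleyDatum)

/-- The tables agree with the datum. -/
noncomputable def datumOK : Bool :=
  (D.rank == P.l) && (D.nroots == P.n) && (P.n % 2 == 0) &&
  (allN P.n fun r => (D.negIdx.getD r 0 == P.rev r) &&
    (decide (∀ c ∈ (D.coroot.getD r #[]).toList, 0 ≤ c) == Nat.ble P.n (2 * r)) &&
    (decide (∀ c ∈ (D.coroot.getD r #[]).toList, c ≤ 0) == Nat.blt (2 * r) P.n) &&
    eqRow (D.chain.getD r #[]).toList (P.rowFrom r P.n) &&
    eqZ (D.coroot.getD r #[]).toList (tabulate P.l (P.C r) P.l)) &&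
  allN P.l fun i => D.simpleIdx.getD i 0 == P.p i &&
    eqZ (D.cartanSR.getD i #[]).toList (tabulate P.n (P.A i) P.n)

end Pack

end CfsgLib.Chev
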