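/-
Packed copy (for fast kernel evaluation) of the tables of `Cfsg.Lie.chevB2`.
-/
import Cfsg.Agent.Lib.Chev.Pack

namespace CfsgLib.Chev

/-- The packed tables of type B2. -/
noncomputable def packB2 : Pack where
  n := 8
  l := 2
  tab :=
    (.node
    (.node
    (.node
    (.leaf 4845444312250939948924928)
    (.leaf 302065434206998110208))
    (.node
    (.leaf 5073880554388547785733439488)
    (.leaf 1483810047150010663170)))
    (.node
    (.node
    (.leaf 19903756173406165695528435712)
    (.leaf 2450908494528571879994369))
    (.node
    (.leaf 1232537652028994597421056)
    (.leaf 17281601536))))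
  cor := 662996177892009961799151
  car := 164812337392802
  vec := 664139876024579954032110
  smp := 1029

end CfsgLib.Chev
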