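/-
Kernel verification of the tables of type B2.
-/
import Cfsg.Agent.Lib.Chev.DataB2
import Cfsg.Prelude.Def_ChevB2

namespace CfsgLib.Chev

set_option maxRecDepth 100000

theorem datumOKB2 : packB2.datumOK Cfsg.Lie.chevB2 = true := by decide +kernel

theorem tabOKB2 : packB2.tabOK = true := by decide +kernel

theorem rootsOKB2 : packB2.rootsOK = true := by decide +kernel

end CfsgLib.Chev
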