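/-
Packed copy (for fast kernel evaluation) of the tables of `Cfsg.Lie.chevD4`.
-/
import Cfsg.Agent.Lib.Chev.Pack

namespace CfsgLib.Chev

/-- The packed tables of type D4. -/
noncomputable def packD4 : Pack where
  n := 24
  l := 4
  tab :=
    (.node
    (.node
    (.node
    (.node
    (.node
    (.leaf 30622897449227286929078020409089720022007038136071481355417378504765185543068712960)
    (.leaf 1849888905994473185264053198624344431579581726168731211562759778278307791107))
    (.leaf 126880562023977046040203295411747634511417285477828793237765397429246338012057327108096))
    (.node
    (.node
    (.leaf 126394902307041735038151409661967632460419010197601990686544161372888955883493749948416)
    (.leaf 1751311384268429608329325166611681649648355577172335143199751))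
    (.leaf 2011887669553493379335420072929192463225146404263509152991532311323069753860096)))
    (.node
    (.node
    (.node
    (.leaf 32934664276812896324718479537974191069749147250342080780772444652107632630318187413504)
    (.leaf 26900276280347517626036903829866975151953113259938829618969075712))
    (.leaf 8183396033685579482926052320454225879253055410267147738264190697770460088992006144))
    (.node
    (.node
    (.leaf 33397743705437180713640048985086577151115389077544730263494693501866138849140679901184)
    (.leaf 391729206862767479860915743648810725957988426551656713))
    (.leaf 8270334181686100902813342886486962078746469164090621184739771072012344542070047745))))
    (.node
    (.node
    (.node
    (.node
    (.leaf 126030651875271865988250703056099739299603403781708759798637188371340474507415787667456)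
    (.leaf 120378478739244314941295576565815371360774219657955220346118033387836420))
    (.leaf 33753872002422160799631845930405665799430974715266981630404685394508075108832330645504))
    (.node
    (.node
    (.leaf 30865656935390093467291861597656790463733060353525744288296445941830687677241884672)
    (.leaf 427566255924909572346026652004805090559774628719379919880))
    (.leaf 491302970492019655678199719355795302167015180569794876950984149901584117760)))
    (.node
    (.node
    (.node
    (.leaf 33056110725351849576061431669478045503387580354012128508348429978190315436846883012608)
    (.leaf 26919426117426700573486615133100119988292952171325829437158588678))
    (.leaf 8211049117879508870925351106731811338942283788125315462019930576191499243972722688))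
    (.node
    (.node
    (.leaf 126759147200668350066561372653909750844540382133126060175587355160492698671500547325952)
    (.leaf 339468358671272655173444238987812864))
    (.leaf 7577144839495944730530448115129729301719299168787415083005398114817027300393218)))))
  cor := 1712021892572016597820829420914744991498460168017434866291424606098018475037601847265650329414218890801267596919768812754644825123267654406618575
  car := 291090498101991460775927876284617153789136356856018745046429719811170413759807450592988
  vec := 1712021892572016597820829420914744991498460168017434866291424606098018475037601847265650329414218890801267596919768812754644825123267654406618575
  smp := 202182162

end CfsgLib.Chev
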