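/-
Kernel verification of the tables of type D4.
-/
import Cfsg.Agent.Lib.Chev.DataD4
import Cfsg.Prelude.Def_ChevD4

namespace CfsgLib.Chev

set_option maxRecDepth 100000

theorem datumOKD4 : packD4.datumOK Cfsg.Lie.chevD4 = true := by decide +kernel

theorem tabOKD4 : packD4.tabOK = true := by decide +kernel

theorem rootsOKD4 : packD4.rootsOK = true := by decide +kernel

end CfsgLib.Chev
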