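/-
Kernel verification of the tables of type E6.
-/
import Cfsg.Agent.Lib.Chev.DataE6
import Cfsg.Prelude.Def_ChevE6

namespace CfsgLib.Chev

set_option maxRecDepth 100000

theorem datumOKE6 : packE6.datumOK Cfsg.Lie.chevE6 = true := by decide +kernel

theorem tabOKE6 : packE6.tabOK = true := by decide +kernel

theorem rootsOKE6 : packE6.rootsOK = true := by decide +kernel

end CfsgLib.Chev
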