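/-
Kernel verification of the tables of type E7.
-/
import Cfsg.Agent.Lib.Chev.DataE7
import Cfsg.Prelude.Def_ChevE7

namespace CfsgLib.Chev

set_option maxRecDepth 100000

theorem datumOKE7 : packE7.datumOK Cfsg.Lie.chevE7 = true := by decide +kernel

theorem tabOKE7 : packE7.tabOK = true := by decide +kernel

theorem rootsOKE7 : packE7.rootsOK = true := by decide +kernel

end CfsgLib.Chev
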