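/-
Kernel verification of the tables of type E8.
-/
import Cfsg.Agent.Lib.Chev.DataE8
import Cfsg.Prelude.Def_ChevE8

namespace CfsgLib.Chev

set_option maxRecDepth 100000

theorem datumOKE8 : packE8.datumOK Cfsg.Lie.chevE8 = true := by decide +kernel

theorem tabOKE8 : packE8.tabOK = true := by decide +kernel

theorem rootsOKE8 : packE8.rootsOK = true := by decide +kernel

end CfsgLib.Chev
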