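/-
Kernel verification of the tables of type F4.
-/
import Cfsg.Agent.Lib.Chev.DataF4
import Cfsg.Prelude.Def_ChevF4

namespace CfsgLib.Chev

set_option maxRecDepth 100000

theorem datumOKF4 : packF4.datumOK Cfsg.Lie.chevF4 = true := by decide +kernel

theorem tabOKF4 : packF4.tabOK = true := by decide +kernel

theorem rootsOKF4 : packF4.rootsOK = true := by decide +kernel

end CfsgLib.Chev
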