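/-
Packed copy (for fast kernel evaluation) of the tables of `Cfsg.Lie.chevG2`.
-/
import Cfsg.Agent.Lib.Chev.Pack

namespace CfsgLib.Chev

/-- The packed tables of type G2. -/
noncomputable def packG2 : Pack where
  n := 12
  l := 2
  tab :=
    (.node
    (.node
    (.node
    (.node
    (.leaf 1368108908658152779794808962894765490176)
    (.leaf 252799963377521241351560243554812930))
    (.leaf 352663520949941357237820850214335938560))
    (.node
    (.node
    (.leaf 5620112876703096705658791006805506438201344)
    (.leaf 4887649600533738150691077))
    (.leaf 354903874879679040727368749372432974849)))
    (.node
    (.node
    (.node
    (.leaf 5607853740462144029185167180654341817106432)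
    (.leaf 122595871398641064179907880304899))
    (.leaf 1448241753636351107241374139091508652933120))
    (.node
    (.node
    (.leaf 1442797404169938242311003600662657119551488)
    (.leaf 1192120906755129499648))
    (.leaf 252577559852610362378828064820830208))))
  cor := 770469936971184641693509402417937871
  car := 3216044545421141846732
  vec := 773068541396118745246903852050396621
  smp := 1543

end CfsgLib.Chev
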