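/-
Kernel verification of the tables of type G2.
-/
import Cfsg.Agent.Lib.Chev.DataG2
import Cfsg.Prelude.Def_ChevG2

namespace CfsgLib.Chev

set_option maxRecDepth 100000

theorem datumOKG2 : packG2.datumOK Cfsg.Lie.chevG2 = true := by decide +kernel

theorem tabOKG2 : packG2.tabOK = true := by decide +kernel

theorem rootsOKG2 : packG2.rootsOK = true := by decide +kernel

end CfsgLib.Chev
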