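/-
Sparse evaluation of products of root element matrices with integer parameters, for checks in the kernel.
A basis vector is coded by a natural number: `e_u` by `u`, `h_i` by `n + i`.
-/
import Cfsg.Agent.Lib.Chev.Pack

namespace CfsgLib.Chev

namespace Pack

variable (P : Pack)

/-- Insert a term, merging it with a term of the same index. -/
noncomputable def addTerm (b : ℕ) (c : ℤ) : List (ℕ × ℤ) → List (ℕ × ℤ) := fun L =>
  List.rec [(b, c)] (fun a t ih => bif Nat.beq a.1 b then (a.1, a.2 + c) :: t else a :: ih) L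

/-- Add a multiple of a list of terms to another. -/
noncomputable def addList (c : ℤ) : List (ℕ × ℤ) → List (ℕ × ℤ) → List (ℕ × ℤ) := fun L M =>
  List.rec M (fun a _ ih => force a.1 fun b => forceZ (c * a.2) fun d => addTerm b d ih) L

/-- The column of `x_r(t)` at the basis vector coded by `b`. -/
noncomputable def colX (r : ℕ) (t : ℤ) (b : ℕ) : List (ℕ × ℤ) :=
  bif Nat.ble P.n b then [(b, 1), (r, -(P.A (Nat.sub b P.n) r) * t)]
  else bif Nat.beq b r then [(b, 1)]
  else bif Nat.beq b (P.rev r) then
    (b, 1) :: (r, -(t * t)) :: (Nat.rec [] (fun i acc => (Nat.add P.n i, P.C r i * t) :: acc) P.l)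
  else (b, 1) ::
    (bif zeq (P.ch r b 1).2 0 then [] else ((P.ch r b 1).1, (P.ch r b 1).2 * t) ::
      bif zeq (P.ch r b 2).2 0 then [] else ((P.ch r b 2).1, (P.ch r b 2).2 * (t * t)) ::
        bif zeq (P.ch r b 3).2 0 then [] else [((P.ch r b 3).1, (P.ch r b 3).2 * (t * t * t))])

/-- Apply `x_r(t)` to a sparse vector. -/
noncomputable def applyX (r : ℕ) (t : ℤ) (L : List (ℕ × ℤ)) : List (ℕ × ℤ) :=
  List.rec [] (fun a _ ih => addList a.2 (P.colX r t a.1) ih) L

/-- The column at `b` of the product of a word in root elements. -/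
noncomputable def wordCol (w : List (ℕ × ℤ)) (b : ℕ) : List (ℕ × ℤ) :=
  List.rec [(b, 1)] (fun a _ ih => P.applyX a.1 a.2 ih) w

/-- The coefficient at `x` of a sparse vector. -/
noncomputable def coef (x : ℕ) : List (ℕ × ℤ) → ℤ := fun L =>
  List.rec 0 (fun a _ ih => bif Nat.beq a.1 x then a.2 + ih else ih) L

/-- The word of `n_p(1)`. -/
noncomputable def nWord (q : ℕ) : List (ℕ × ℤ) := [(q, 1), (P.rev q, -1), (q, 1)]

/-- The root obtained from `s` by the reflection in the `i`-th fundamental root. -/
noncomputable def refl (i s : ℕ) : ℕ :=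
  force (P.p i) fun q => forceZ (P.A i s) fun a =>
    bif Nat.beq s q then P.rev q
    else bif Nat.beq s (P.rev q) then q
    else Int.rec
      (fun m => bif Nat.beq m 0 then s else ((P.entryList (P.rev q) s)[m - 1]?.map Prod.fst).getD s)
      (fun m => ((P.entryList q s)[m]?.map Prod.fst).getD s) a

/-- The sign `η_s` of `n_p` at `e_s`. -/
noncomputable def eta (i s : ℕ) : ℤ := coef (P.refl i s) (P.wordCol (P.nWord (P.p i)) s)

/-- The expected column of `n_p(1)` at `h_j`: `h_j - A_{j,p} h_i`. -/
noncomputable def hColOK (i j : ℕ) : Bool :=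
  force (P.p i) fun q =>
    (fun L => allN (Nat.add P.n P.l) fun x =>
      zeq (coef x L) ((bif Nat.beq x (Nat.add P.n j) then 1 else 0) -
        (bif Nat.beq x (Nat.add P.n i) then P.A j q else 0)))
      (P.wordCol (P.nWord q) (Nat.add P.n j))

/-- A column of `n_p(1)` at a root is a signed basis vector. -/
noncomputable def eColOK (i s : ℕ) : Bool :=
  force (P.refl i s) fun R => forceZ (P.eta i s) fun e =>
    Nat.blt R P.n && (zeq e 1 || zeq e (-1)) &&
    (List.rec true (fun a _ ih => (Nat.beq a.1 R || zeq a.2 0) && ih)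
      (P.wordCol (P.nWord (P.p i)) s) : Bool) &&
    zeq (P.code R) (P.code s - P.A i s * P.code (P.p i)) &&
    zeq (e * P.eta i R) ((-1) ^ (P.A i s).natAbs) &&
    zeq (e * P.eta i (P.rev s)) 1 &&
    ((!(Nat.beq s (P.p i) || Nat.beq s (P.rev (P.p i)))) || zeq e (-1))

/-- All checks on the reflections. -/
noncomputable def weylOK : Bool :=
  allN P.l fun i => (allN P.l fun j => P.hColOK i j) && allN P.n fun s => P.eColOK i s

end Pack

end CfsgLib.Chev
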