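/-
Boolean checks for the commutator formula: in all but a few pairs the root vectors of one of the two chains
commute; the remaining pairs are checked at `t = u = 1`.
-/
import Cfsg.Agent.Lib.Chev.Sparse

namespace CfsgLib.Chev

namespace Pack

variable (P : Pack)

/-- The index of `i r + s`. -/
noncomputable def chainRoot (r s i : ℕ) : Option ℕ := ((P.entryList r s)[i - 1]?).map Prod.fst

/-- The integer `M_{r,s,i}`. -/
noncomputable def chainM (r s i : ℕ) : ℤ := (((P.entryList r s)[i - 1]?).map Prod.snd).getD 0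

/-- The terms of the commutator formula. -/
noncomputable def terms (r s : ℕ) : List (ℕ × ℤ × ℕ × ℕ) :=
  let rs := P.chainRoot r s 1
  let cands : List (Option ℕ × ℤ × ℕ × ℕ) :=
    [ (P.chainRoot r s 1, P.chainM r s 1, 1, 1),
      (P.chainRoot r s 2, P.chainM r s 2, 2, 1),
      (P.chainRoot s r 2, P.chainM s r 2, 1, 2),
      (P.chainRoot r s 3, P.chainM r s 3, 3, 1),
      (P.chainRoot s r 3, - P.chainM s r 3, 1, 3),
      ((P.chainRoot r s 3).bind fun k => P.chainRoot k s 1, (rs.map fun k => P.chainM k r 2 / 3).getD 0, 3, 2),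
      ((P.chainRoot s r 3).bind fun k => P.chainRoot k r 1, (rs.map fun k => -2 * P.chainM k s 2 / 3).getD 0, 2, 3) ]
  cands.filterMap fun c => c.1.map fun k => (k, c.2)

/-- The terms when the chain of `r` under `s` commutes. -/
noncomputable def direct (r s : ℕ) : List (ℕ × ℤ × ℕ × ℕ) :=
  bif zeq (P.ch s r 1).2 0 then [] else ((P.ch s r 1).1, -(P.ch s r 1).2, 1, 1) ::
    bif zeq (P.ch s r 2).2 0 then [] else ((P.ch s r 2).1, (P.ch s r 2).2, 1, 2) ::
      bif zeq (P.ch s r 3).2 0 then [] else [((P.ch s r 3).1, -(P.ch s r 3).2, 1, 3)]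

/-- The terms when the chain of `s` under `r` commutes. -/
noncomputable def swapped (r s : ℕ) : List (ℕ × ℤ × ℕ × ℕ) :=
  bif zeq (P.ch r s 1).2 0 then [] else ((P.ch r s 1).1, (P.ch r s 1).2, 1, 1) ::
    bif zeq (P.ch r s 2).2 0 then [] else ((P.ch r s 2).1, (P.ch r s 2).2, 2, 1) ::
      bif zeq (P.ch r s 3).2 0 then [] else [((P.ch r s 3).1, (P.ch r s 3).2, 3, 1)]

/-- Boolean comparison of lists of terms. -/
noncomputable def eqTerms : List (ℕ × ℤ × ℕ × ℕ) → List (ℕ × ℤ × ℕ × ℕ) → Bool := fun x =>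
  List.rec (fun y => List.rec true (fun _ _ _ => false) y)
    (fun a _ ih y => List.rec false (fun b t _ => Nat.beq a.1 b.1 && (zeq a.2.1 b.2.1 &&
      (Nat.beq a.2.2.1 b.2.2.1 && (Nat.beq a.2.2.2 b.2.2.2 && ih t)))) y) x

/-- The root vectors of the `s`-chain through `r` commute pairwise. -/
noncomputable def chainComm (s r : ℕ) : Bool :=
  allN 4 fun j => zeq (P.ch s r j).2 0 || allN j fun i =>
    force (P.ch s r i).1 fun a => force (P.ch s r j).1 fun b =>
      !(Nat.beq b (P.rev a)) && !(P.nz a b)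

/-- The formula holds at `t = u = 1`, and the two roots are linearly independent. -/
noncomputable def brute (r s : ℕ) : Bool :=
  (anyN P.l fun i => anyN P.l fun j => !(zeq (P.V r i * P.V s j - P.V r j * P.V s i) 0)) &&
  (List.rec true (fun a _ ih => Nat.blt a.1 P.n &&
      (allN P.l fun m => zeq (P.V a.1 m) (Int.ofNat a.2.2.1 * P.V r m + Int.ofNat a.2.2.2 * P.V s m)) && ih)
    (P.terms r s) : Bool) &&
  allN (Nat.add P.n P.l) fun b =>
    (fun L M => allN (Nat.add P.n P.l) fun x => zeq (coef x L) (coef x M))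
      (P.wordCol [(s, 1), (r, 1)] b)
      (P.wordCol ((r, 1) :: (s, 1) :: (P.terms r s).map fun c => (c.1, c.2.1 * (-1) ^ c.2.2.1)) b)

/-- The pair `(r, s)` is certified. -/
noncomputable def pairOK (r s : ℕ) : Bool :=
  (P.chainComm s r && eqTerms (P.terms r s) (P.direct r s)) ||
  (P.chainComm r s && eqTerms (P.terms r s) (P.swapped r s)) || P.brute r s

/-- All pairs are certified. -/
noncomputable def commOK : Bool :=
  allN P.n fun r => allN P.n fun s => bif P.nz r s then P.pairOK r s else true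

end Pack

end CfsgLib.Chev
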