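/-
The axioms satisfied by the tables of a Chevalley datum (`Sys`), as used by the rest of the library.

`S r s` is the root `r + s` and `N r s` the structure constant (zero exactly when `r + s` is not a root),
`A i r` the Cartan integers, `C r i` the coefficients of the coroots, `V r i` the coefficients of the roots on
the fundamental roots, `p i` the fundamental roots.  The negative of `r` is `Fin.rev r`.
-/
import Cfsg.Prelude.Def_ChevStructure

namespace CfsgLib.Chev

open Cfsg.Lie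

/-- The functions of a system of tables. -/
structure Tables (D : ChevalleyDatum) where
  S : Fin D.nroots → Fin D.nroots → Fin D.nroots
  N : Fin D.nroots → Fin D.nroots → ℤ
  A : Fin D.rank → Fin D.nroots → ℤ
  C : Fin D.nroots → Fin D.rank → ℤ
  V : Fin D.nroots → Fin D.rank → ℤ
  p : Fin D.rank → Fin D.nroots

namespace Tables

variable {D : ChevalleyDatum} (T : Tables D)

/-- The `k`-th term `k r + s` of the `r`-chain through `s`, with the coefficient `M_{r,s,k}`. -/
def ch (r s : Fin D.nroots) : ℕ → Fin D.nroots × ℤ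
  | 0 => (s, 1)
  | k + 1 => (T.S r (ch r s k).1, (ch r s k).2 * T.N r (ch r s k).1 / ((k + 1 : ℕ) : ℤ))

/-- The chain entry: the terms with non-zero coefficient. -/
def entry (r s : Fin D.nroots) : List (ℕ × ℤ) :=
  if (T.ch r s 1).2 = 0 then [] else ((T.ch r s 1).1.val, (T.ch r s 1).2) ::
    if (T.ch r s 2).2 = 0 then [] else ((T.ch r s 2).1.val, (T.ch r s 2).2) ::
      if (T.ch r s 3).2 = 0 then [] else [((T.ch r s 3).1.val, (T.ch r s 3).2)]

/-- A linear functional separating the roots. -/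
def code (r : Fin D.nroots) : ℤ := ∑ i : Fin D.rank, T.V r i * 32 ^ (D.rank - 1 - i.val)

/-- The root with index `r` is positive. -/
def Pos (_T : Tables D) (r : Fin D.nroots) : Prop := D.nroots ≤ 2 * r.val

instance (r : Fin D.nroots) : Decidable (T.Pos r) := inferInstanceAs (Decidable (_ ≤ _))

/-- The height measure used to generate the root vectors. -/
def meas (_T : Tables D) (r : Fin D.nroots) : ℕ := max r.val r.rev.val

end Tables

/-- The properties of the tables that the theory uses, apart from the Jacobi identity. -/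
structure Sys (D : ChevalleyDatum) extends Tables D where
  even : D.nroots % 2 = 0
  negIdx_eq : ∀ r : Fin D.nroots, D.negIdx.getD r.val 0 = r.rev.val
  simpleIdx_eq : ∀ i : Fin D.rank, D.simpleIdx.getD i.val 0 = (p i).val
  coroot_eq : ∀ r i, (D.coroot.getD r.val #[]).getD i.val 0 = C r i
  cartan_eq : ∀ i r, (D.cartanSR.getD i.val #[]).getD r.val 0 = A i r
  posRoot_iff : ∀ r : Fin D.nroots, D.IsPosRoot r.val ↔ D.nroots ≤ 2 * r.val
  negRoot_iff : ∀ r : Fin D.nroots, D.IsNegRoot r.val ↔ 2 * r.val < D.nroots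
  filter_eq : ∀ r s : Fin D.nroots,
    ((D.chain.getD r.val #[]).toList.filter fun e => decide (e.1 = s.val)) =
      if N r s = 0 then [] else [(s.val, (toTables.entry r s).toArray)]
  fst_lt : ∀ r : Fin D.nroots, ∀ e ∈ (D.chain.getD r.val #[]).toList, e.1 < D.nroots
  N_self : ∀ r, N r r = 0
  N_neg : ∀ r, N r r.rev = 0
  N_anti : ∀ r s, N s r = -N r s
  N_rev : ∀ r s, N r.rev s.rev = -N r s
  S_comm : ∀ r s, N r s ≠ 0 → S s r = S r s
  S_rev : ∀ r s, N r s ≠ 0 → S r.rev s.rev = (S r s).rev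
  rot : ∀ r s, N r s ≠ 0 → N (S r s) s.rev ≠ 0 ∧ S (S r s) s.rev = r
  V_add : ∀ r s, N r s ≠ 0 → ∀ i, V (S r s) i = V r i + V s i
  V_neg : ∀ r i, V r.rev i = -V r i
  C_neg : ∀ r i, C r.rev i = -C r i
  A_lin : ∀ i r, A i r = ∑ j, V r j * A i (p j)
  pair_self : ∀ r, ∑ i, C r i * A i r = 2
  code_strictMono : StrictMono toTables.code
  V_nonneg : ∀ r, toTables.Pos r → ∀ i, 0 ≤ V r i
  V_nonpos : ∀ r, ¬ toTables.Pos r → ∀ i, V r i ≤ 0
  V_supp : ∀ r, toTables.Pos r → ∀ i, r ≠ p i → ∃ j, j ≠ i ∧ 0 < V r j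
  p_pos : ∀ i, toTables.Pos (p i)
  V_p : ∀ i j, V (p i) j = if i = j then 1 else 0
  C_p : ∀ i j, C (p i) j = if i = j then 1 else 0
  ch_dvd : ∀ r s, N r s ≠ 0 → ∀ k < 4,
    ((k + 1 : ℕ) : ℤ) ∣ (toTables.ch r s k).2 * N r (toTables.ch r s k).1
  ch_ne : ∀ r s, N r s ≠ 0 → ∀ k < 4, (toTables.ch r s k).2 ≠ 0 →
    (toTables.ch r s k).1 ≠ r ∧ (toTables.ch r s k).1 ≠ r.rev
  ch_four : ∀ r s, N r s ≠ 0 → (toTables.ch r s 4).2 = 0
  gen : ∀ r, (∃ i, r = p i ∨ r = (p i).rev) ∨
    ∃ i, (toTables.Pos r ∧ N r (p i).rev ≠ 0 ∧ toTables.meas (S r (p i).rev) < toTables.meas r) ∨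
      (¬ toTables.Pos r ∧ N r (p i) ≠ 0 ∧ toTables.meas (S r (p i)) < toTables.meas r)

end CfsgLib.Chev
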