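/-
The root element matrices as polynomials in the parameter, over an arbitrary commutative ring.
-/
import Cfsg.Agent.Lib.Chev.Sys

namespace CfsgLib.Chev

open Cfsg.Lie

variable {D : ChevalleyDatum} (Φ : Sys D)

namespace Sys

/-- The coefficient of `t ^ k` in `x_r(t)`. -/
def E (R : Type*) [CommRing R] (k : ℕ) (r : Fin D.nroots) : Matrix D.Idx D.Idx R :=
  Matrix.of fun row col =>
    match col with
    | Sum.inl i =>
      (match row with
       | Sum.inl i' => if k = 0 ∧ i' = i then 1 else 0
       | Sum.inr u => if k = 1 ∧ u = r then -(Φ.A i r : R) else 0)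
    | Sum.inr s =>
      if s = r then (match row with
        | Sum.inl _ => 0
        | Sum.inr u => if k = 0 ∧ u = r then 1 else 0)
      else if s = r.rev then (match row with
        | Sum.inl i => if k = 1 then (Φ.C r i : R) else 0
        | Sum.inr u => if k = 0 ∧ u = s then 1 else if k = 2 ∧ u = r then -1 else 0)
      else (match row with
        | Sum.inl _ => 0
        | Sum.inr u => if (Φ.toTables.ch r s k).1 = u then ((Φ.toTables.ch r s k).2 : R) else 0)

/-- The root element `x_r(t)` over a commutative ring. -/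
def X (R : Type*) [CommRing R] (r : Fin D.nroots) (t : R) : Matrix D.Idx D.Idx R :=
  ∑ k ∈ Finset.range 4, t ^ k • Φ.E R k r

theorem E_map {R S : Type*} [CommRing R] [CommRing S] {G : Type*} [FunLike G R S] [RingHomClass G R S]
    (f : G) (k : ℕ) (r : Fin D.nroots) :
    (Φ.E R k r).map f = Φ.E S k r := by
  ext row col
  rcases col with i | s <;> rcases row with i' | u <;>
    simp only [E, Matrix.map_apply, Matrix.of_apply] <;> split_ifs <;> simp

theorem X_map {R S : Type*} [CommRing R] [CommRing S] {G : Type*} [FunLike G R S] [RingHomClass G R S]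
    (f : G) (r : Fin D.nroots) (t : R) :
    (Φ.X R r t).map f = Φ.X S r (f t) := by
  ext row col
  simp only [X, Matrix.map_apply, Matrix.sum_apply, Matrix.smul_apply, smul_eq_mul, map_sum,
    map_mul, map_pow]
  refine Finset.sum_congr rfl fun k _ => ?_
  rw [← Φ.E_map f k r, Matrix.map_apply]

theorem ch_zero_snd (r s : Fin D.nroots) : (Φ.toTables.ch r s 0).2 = 1 := rfl

theorem ch_one_snd (r s : Fin D.nroots) : (Φ.toTables.ch r s 1).2 = Φ.N r s := by
  simp [Tables.ch]

theorem ch_one_fst (r s : Fin D.nroots) : (Φ.toTables.ch r s 1).1 = Φ.S r s := rfl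

theorem ch_snd_succ_eq_zero {r s : Fin D.nroots} {k : ℕ} (h : (Φ.toTables.ch r s k).2 = 0) :
    (Φ.toTables.ch r s (k + 1)).2 = 0 := by
  simp [Tables.ch, h]

theorem ch_snd_eq_zero_of_le {r s : Fin D.nroots} {k m : ℕ} (hkm : k ≤ m)
    (h : (Φ.toTables.ch r s k).2 = 0) : (Φ.toTables.ch r s m).2 = 0 := by
  induction hkm with
  | refl => exact h
  | step _ ih => exact Φ.ch_snd_succ_eq_zero ih

theorem ch_four_eq_zero (r s : Fin D.nroots) : (Φ.toTables.ch r s 4).2 = 0 := by
  by_cases h : Φ.N r s = 0
  · exact Φ.ch_snd_eq_zero_of_le (k := 1) (by norm_num) (by rw [Φ.ch_one_snd, h])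
  · exact Φ.ch_four r s h

theorem N_ne_of_ch {r s : Fin D.nroots} {k : ℕ} (hk : 1 ≤ k) (h : (Φ.toTables.ch r s k).2 ≠ 0) :
    Φ.N r s ≠ 0 := fun e => h (Φ.ch_snd_eq_zero_of_le hk (by rw [Φ.ch_one_snd, e]))

theorem chainCoeff_sum (r s u : Fin D.nroots) (K : Type*) [CommRing K] (t : K) :
    ((D.chainCoeff r.val s.val u.val).map fun km => ((km.2 : ℤ) : K) * t ^ km.1).sum =
      (if (Φ.toTables.ch r s 1).1 = u then ((Φ.toTables.ch r s 1).2 : K) * t ^ 1 else 0) +
      (if (Φ.toTables.ch r s 2).1 = u then ((Φ.toTables.ch r s 2).2 : K) * t ^ 2 else 0) +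
      (if (Φ.toTables.ch r s 3).1 = u then ((Φ.toTables.ch r s 3).2 : K) * t ^ 3 else 0) := by
  unfold ChevalleyDatum.chainCoeff
  rw [Φ.filter_eq r s]
  by_cases hN : Φ.N r s = 0
  · have h : ∀ k, 1 ≤ k → (Φ.toTables.ch r s k).2 = 0 := fun k hk =>
      Φ.ch_snd_eq_zero_of_le hk (by rw [Φ.ch_one_snd, hN])
    simp [hN, h 1 le_rfl, h 2 (by norm_num), h 3 (by norm_num)]
  · rw [if_neg hN]
    have h1 : (Φ.toTables.ch r s 1).2 ≠ 0 := by rwa [Φ.ch_one_snd]
    simp only [List.flatMap_cons, List.flatMap_nil, List.append_nil, Tables.entry, if_neg h1]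
    by_cases h2 : (Φ.toTables.ch r s 2).2 = 0
    · have h3 : (Φ.toTables.ch r s 3).2 = 0 := Φ.ch_snd_succ_eq_zero h2
      simp only [if_pos h2, h3, h2, Int.cast_zero, zero_mul, ite_self, add_zero]
      by_cases e1 : (Φ.toTables.ch r s 1).1 = u <;>
        simp [e1, Fin.val_inj]
    · by_cases h3 : (Φ.toTables.ch r s 3).2 = 0
      · simp only [if_neg h2, if_pos h3, h3, Int.cast_zero, zero_mul, ite_self, add_zero]
        by_cases e1 : (Φ.toTables.ch r s 1).1 = u <;>
          by_cases e2 : (Φ.toTables.ch r s 2).1 = u <;>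
            simp [e1, e2, Fin.val_inj]
      · simp only [if_neg h2, if_neg h3]
        by_cases e1 : (Φ.toTables.ch r s 1).1 = u <;>
          by_cases e2 : (Φ.toTables.ch r s 2).1 = u <;>
            by_cases e3 : (Φ.toTables.ch r s 3).1 = u <;>
              simp [e1, e2, e3, Fin.val_inj, add_assoc]

theorem xMat_eq (F : Type*) [Field F] (r : Fin D.nroots) (t : F) :
    D.xMat F r t = Φ.X F r t := by
  ext row col
  simp only [X, Matrix.sum_apply, Matrix.smul_apply, smul_eq_mul, Finset.sum_range_succ,
    Finset.sum_range_zero, zero_add, E, ChevalleyDatum.xMat, Matrix.of_apply]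
  rcases col with i | s
  · rcases row with i' | u
    · simp
    · simp only [Φ.cartan_eq i r]
      by_cases hu : u = r <;> simp [hu, mul_comm]
  · simp only [Φ.negIdx_eq r, Fin.val_inj]
    by_cases hsr : s = r
    · rcases row with i' | u
      · simp [hsr]
      · by_cases hu : u = r <;> simp [hsr, hu]
    · by_cases hsn : s = r.rev
      · rcases row with i' | u
        · simp only [if_neg hsr, if_pos hsn, Φ.coroot_eq r i']
          simp [mul_comm]
        · simp only [if_neg hsr, if_pos hsn]
          by_cases hu : u = s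
          · subst hu
            simp [hsr]
          · by_cases hu2 : u = r <;> simp [hu, hu2, Ne.symm hsr]
      · rcases row with i' | u
        · simp [hsr, hsn]
        · simp only [if_neg hsr, if_neg hsn, Φ.chainCoeff_sum r s u F t, mul_ite, mul_zero]
          simp only [show Φ.toTables.ch r s 0 = (s, 1) from rfl, Int.cast_one, eq_comm (a := s)]
          split_ifs <;> ring

/-- The root element of the datum is the polynomial matrix `X`. -/
theorem x_eq (F : Type*) [Field F] (r : Fin D.nroots) (t : F) :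
    D.x F r.val t = Φ.X F r t := by
  rw [ChevalleyDatum.x, dif_pos r.isLt, Φ.xMat_eq]

theorem X_zero (R : Type*) [CommRing R] (r : Fin D.nroots) : Φ.X R r 0 = Φ.E R 0 r := by
  simp [X, Finset.sum_range_succ]

theorem E_zero (R : Type*) [CommRing R] (r : Fin D.nroots) : Φ.E R 0 r = 1 := by
  ext row col
  rcases col with i | s
  · rcases row with i' | u <;> simp [E, Matrix.one_apply]
  · by_cases hsr : s = r
    · rcases row with i' | u
      · simp [E, hsr, Matrix.one_apply]
      · subst hsr
        simp [E, Matrix.one_apply]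
    · by_cases hsn : s = r.rev
      · rcases row with i' | u
        · simp [E, hsr, hsn, Matrix.one_apply]
        · simp [E, Matrix.one_apply, hsr, ← hsn]
      · rcases row with i' | u
        · simp [E, hsr, hsn, Matrix.one_apply]
        · simp [E, hsr, hsn, Tables.ch, Matrix.one_apply, eq_comm (a := u)]

end Sys

end CfsgLib.Chev
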