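/-
The Lie algebra of a system of tables over `ℚ`: brackets of basis vectors, antisymmetry, weights and the
Jacobi identity when one of the three vectors lies in the Cartan subalgebra.
-/
import Cfsg.Agent.Lib.Chev.Mat

namespace CfsgLib.Chev

open Cfsg.Lie Matrix

variable {D : ChevalleyDatum} (Φ : Sys D)

namespace Sys

theorem A_neg (i : Fin D.rank) (r : Fin D.nroots) : Φ.A i r.rev = -Φ.A i r := by
  rw [Φ.A_lin i r.rev, Φ.A_lin i r, ← Finset.sum_neg_distrib]
  exact Finset.sum_congr rfl fun j _ => by rw [Φ.V_neg r j, neg_mul]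

theorem A_add {r s : Fin D.nroots} (h : Φ.N r s ≠ 0) (i : Fin D.rank) :
    Φ.A i (Φ.S r s) = Φ.A i r + Φ.A i s := by
  rw [Φ.A_lin i (Φ.S r s), Φ.A_lin i r, Φ.A_lin i s, ← Finset.sum_add_distrib]
  exact Finset.sum_congr rfl fun j _ => by rw [Φ.V_add r s h j, add_mul]

theorem code_add {r s : Fin D.nroots} (h : Φ.N r s ≠ 0) :
    Φ.toTables.code (Φ.S r s) = Φ.toTables.code r + Φ.toTables.code s := by
  simp only [Tables.code, ← Finset.sum_add_distrib]
  exact Finset.sum_congr rfl fun j _ => by rw [Φ.V_add r s h j, add_mul]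

theorem code_neg (r : Fin D.nroots) : Φ.toTables.code r.rev = -Φ.toTables.code r := by
  simp only [Tables.code, ← Finset.sum_neg_distrib]
  exact Finset.sum_congr rfl fun j _ => by rw [Φ.V_neg r j, neg_mul]

theorem V_inj {r s : Fin D.nroots} (h : ∀ i, Φ.V r i = Φ.V s i) : r = s :=
  Φ.code_strictMono.injective (by simp only [Tables.code, h])

include Φ in
theorem rev_ne (r : Fin D.nroots) : r.rev ≠ r := by
  intro h
  have h1 := congrArg Fin.val h
  rw [Fin.val_rev] at h1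
  have := Φ.even
  omega

include Φ in
theorem ne_rev (r : Fin D.nroots) : r ≠ r.rev := (Φ.rev_ne r).symm

theorem rot' {r s : Fin D.nroots} (h : Φ.N r s ≠ 0) :
    Φ.N r (Φ.S r s).rev ≠ 0 ∧ Φ.S r (Φ.S r s).rev = s.rev := by
  obtain ⟨h1, h2⟩ := Φ.rot r s h
  have h3 : Φ.N s.rev (Φ.S r s) ≠ 0 := by rw [Φ.N_anti]; exact neg_ne_zero.mpr h1
  obtain ⟨h4, h5⟩ := Φ.rot _ _ h3
  rw [Φ.S_comm _ _ h1, h2] at h4 h5
  exact ⟨h4, h5⟩

theorem N_ne_comm {r s : Fin D.nroots} (h : Φ.N r s ≠ 0) : Φ.N s r ≠ 0 := by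
  rw [Φ.N_anti]; exact neg_ne_zero.mpr h

/-- The matrix of `ad` of a basis vector. -/
noncomputable def adB : D.Idx → Matrix D.Idx D.Idx ℚ
  | Sum.inl i => Matrix.diagonal (Sum.elim (fun _ => 0) fun u => (Φ.A i u : ℚ))
  | Sum.inr r => Φ.E ℚ 1 r

/-- The bracket of two basis vectors. -/
noncomputable def br (a b : D.Idx) : D.Idx → ℚ := fun x => Φ.adB a x b

theorem br_hh (i j : Fin D.rank) : Φ.br (Sum.inl i) (Sum.inl j) = 0 := by
  ext x
  rcases x with k | u <;> simp [br, adB, Matrix.diagonal_apply]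

theorem br_he (i : Fin D.rank) (r : Fin D.nroots) :
    Φ.br (Sum.inl i) (Sum.inr r) = (Φ.A i r : ℚ) • Pi.single (Sum.inr r) 1 := by
  ext x
  rcases x with k | u
  · simp [br, adB, Matrix.diagonal_apply]
  · by_cases h : u = r <;> simp [br, adB, Matrix.diagonal_apply, h]

theorem br_eh (i : Fin D.rank) (r : Fin D.nroots) :
    Φ.br (Sum.inr r) (Sum.inl i) = -(Φ.A i r : ℚ) • Pi.single (Sum.inr r) 1 := by
  ext x
  rcases x with k | u
  · simp [br, adB, E]
  · by_cases h : u = r <;> simp [br, adB, E, h]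

theorem br_ee_neg (r : Fin D.nroots) :
    Φ.br (Sum.inr r) (Sum.inr r.rev) = ∑ i, (Φ.C r i : ℚ) • Pi.single (Sum.inl i) 1 := by
  ext x
  rcases x with k | u
  · simp [br, adB, E, Φ.rev_ne r, Finset.sum_apply, Pi.single_apply]
  · simp [br, adB, E, Φ.rev_ne r, Finset.sum_apply, Pi.single_apply]

theorem br_ee {r s : Fin D.nroots} (h : s ≠ r.rev) :
    Φ.br (Sum.inr r) (Sum.inr s) = (Φ.N r s : ℚ) • Pi.single (Sum.inr (Φ.S r s)) 1 := by
  by_cases hsr : s = r
  · subst hsr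
    ext x
    rcases x with k | u <;> simp [br, adB, E, Φ.N_self s]
  · ext x
    rcases x with k | u
    · simp [br, adB, E, h, hsr]
    · simp only [br, adB, E, Matrix.of_apply, if_neg hsr, if_neg h, Pi.smul_apply, smul_eq_mul,
        Φ.ch_one_snd, Φ.ch_one_fst]
      by_cases hu : Φ.S r s = u <;> simp [hu, eq_comm (a := u)]

theorem br_anti (a b : D.Idx) : Φ.br a b = -Φ.br b a := by
  rcases a with i | r <;> rcases b with j | s
  · simp [br_hh]
  · rw [Φ.br_he, Φ.br_eh, neg_smul, neg_neg]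
  · rw [Φ.br_he, Φ.br_eh, neg_smul]
  · by_cases h : s = r.rev
    · subst h
      conv_rhs => rw [← Fin.rev_rev r, Fin.rev_rev r.rev, Φ.br_ee_neg]
      rw [Φ.br_ee_neg, ← Finset.sum_neg_distrib]
      refine Finset.sum_congr rfl fun i _ => ?_
      rw [Φ.C_neg, Int.cast_neg, neg_smul, neg_neg]
    · have h' : r ≠ s.rev := fun e => h (by rw [e, Fin.rev_rev])
      rw [Φ.br_ee h, Φ.br_ee h']
      by_cases hN : Φ.N r s = 0
      · simp [hN, Φ.N_anti r s]
      · rw [Φ.S_comm r s hN, Φ.N_anti r s, Int.cast_neg, neg_smul, neg_neg]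

/-- `ad` of a vector. -/
noncomputable def adv : (D.Idx → ℚ) →ₗ[ℚ] Matrix D.Idx D.Idx ℚ :=
  Fintype.linearCombination ℚ Φ.adB

theorem adv_single (a : D.Idx) : Φ.adv (Pi.single a 1) = Φ.adB a := by
  simp [adv, Fintype.linearCombination_apply_single]

theorem adv_apply (v : D.Idx → ℚ) : Φ.adv v = ∑ a, v a • Φ.adB a := by
  simp [adv, Fintype.linearCombination_apply]

theorem adB_mulVec_single (a b : D.Idx) : Φ.adB a *ᵥ Pi.single b 1 = Φ.br a b := by
  ext x
  simp [br]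

theorem adv_mulVec_single (v : D.Idx → ℚ) (c : D.Idx) :
    Φ.adv v *ᵥ Pi.single c 1 = -(Φ.adB c *ᵥ v) := by
  ext x
  rw [Matrix.mulVec_single_one]
  simp only [Matrix.col_apply, Φ.adv_apply, Matrix.sum_apply,
    Matrix.smul_apply, smul_eq_mul, Pi.neg_apply, Matrix.mulVec, dotProduct,
    ← Finset.sum_neg_distrib]
  refine Finset.sum_congr rfl fun a _ => ?_
  have := congrFun (Φ.br_anti a c) x
  simp only [br, Pi.neg_apply] at this
  rw [this]; ring

theorem adv_mulVec_anti (v w : D.Idx → ℚ) : Φ.adv v *ᵥ w = -(Φ.adv w *ᵥ v) := by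
  have hw : w = ∑ c, w c • Pi.single c 1 := by
    ext x; simp [Finset.sum_apply, Pi.single_apply]
  conv_lhs => rw [hw, Matrix.mulVec_sum]
  rw [Φ.adv_apply w, Matrix.sum_mulVec, ← Finset.sum_neg_distrib]
  refine Finset.sum_congr rfl fun c _ => ?_
  rw [Matrix.mulVec_smul, Φ.adv_mulVec_single, Matrix.smul_mulVec, smul_neg]

/-- The weight of a basis vector for `h_i`. -/
def wt (i : Fin D.rank) : D.Idx → ℤ := Sum.elim (fun _ => 0) fun u => Φ.A i u

theorem br_wt {a b x : D.Idx} (i : Fin D.rank) (h : Φ.br a b x ≠ 0) :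
    Φ.wt i x = Φ.wt i a + Φ.wt i b := by
  rcases a with j | r <;> rcases b with k | s
  · simp [br_hh] at h
  · rw [Φ.br_he] at h
    rcases x with m | u
    · simp at h
    · have : u = s := by by_contra e; simp [e] at h
      subst this; simp [wt]
  · rw [Φ.br_eh] at h
    rcases x with m | u
    · simp at h
    · have : u = r := by by_contra e; simp [e] at h
      subst this; simp [wt]
  · by_cases hs : s = r.rev
    · subst hs
      rw [Φ.br_ee_neg] at h
      rcases x with m | u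
      · simp [wt, Φ.A_neg]
      · simp [Finset.sum_apply, Pi.single_apply] at h
    · rw [Φ.br_ee hs] at h
      rcases x with m | u
      · simp at h
      · have hN : Φ.N r s ≠ 0 := by intro e; simp [e] at h
        have : u = Φ.S r s := by by_contra e; simp [e] at h
        subst this
        simp [wt, Φ.A_add hN]

/-- The cyclic sum in the Jacobi identity. -/
noncomputable def jac (a b c : D.Idx) : D.Idx → ℚ :=
  Φ.adB a *ᵥ Φ.br b c + Φ.adB b *ᵥ Φ.br c a + Φ.adB c *ᵥ Φ.br a b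

theorem jac_rotate (a b c : D.Idx) : Φ.jac a b c = Φ.jac b c a := by
  simp only [jac]; abel

theorem jac_swap (a b c : D.Idx) : Φ.jac a c b = -Φ.jac a b c := by
  simp only [jac, Φ.br_anti c b, Φ.br_anti b a, Φ.br_anti a c, Matrix.mulVec_neg]
  abel

theorem jac_inl (i : Fin D.rank) (b c : D.Idx) : Φ.jac (Sum.inl i) b c = 0 := by
  have hb : Φ.br (Sum.inl i) b = (Φ.wt i b : ℚ) • Pi.single b 1 := by
    rcases b with j | s
    · simp [br_hh, wt]
    · simp [Φ.br_he, wt]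
  have hc : Φ.br c (Sum.inl i) = -(Φ.wt i c : ℚ) • Pi.single c 1 := by
    rw [Φ.br_anti]
    rcases c with j | s
    · simp [br_hh, wt]
    · simp [Φ.br_he, wt]
  ext x
  simp only [jac, hb, hc, Matrix.mulVec_smul, Φ.adB_mulVec_single, Φ.br_anti c b, Pi.add_apply,
    Pi.smul_apply, smul_eq_mul, Pi.neg_apply, Pi.zero_apply]
  have hh : (Φ.adB (Sum.inl i) *ᵥ Φ.br b c) x = (Φ.wt i x : ℚ) * Φ.br b c x := by
    rw [adB, Matrix.mulVec_diagonal]
    rcases x with j | u <;> simp [wt]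
  rw [hh]
  by_cases h : Φ.br b c x = 0
  · simp [h]
  · rw [Φ.br_wt i h]; push_cast; ring

theorem jac_inl_middle (i : Fin D.rank) (a c : D.Idx) : Φ.jac a (Sum.inl i) c = 0 := by
  rw [Φ.jac_rotate, Φ.jac_inl]

theorem jac_inl_last (i : Fin D.rank) (a b : D.Idx) : Φ.jac a b (Sum.inl i) = 0 := by
  rw [Φ.jac_rotate, Φ.jac_rotate, Φ.jac_inl]

/-- `v` acts as a derivation. -/
def IsDer (v : D.Idx → ℚ) : Prop :=
  ∀ w, Φ.adv v * Φ.adv w - Φ.adv w * Φ.adv v = Φ.adv (Φ.adv v *ᵥ w)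

theorem isDer_single {a : D.Idx} (h : ∀ b c, Φ.jac a b c = 0) : Φ.IsDer (Pi.single a 1) := by
  intro w
  have hw : w = ∑ b, w b • Pi.single b 1 := by
    ext x; simp [Finset.sum_apply, Pi.single_apply]
  rw [hw, Matrix.mulVec_sum, map_sum, map_sum, Finset.mul_sum, Finset.sum_mul,
    ← Finset.sum_sub_distrib]
  refine Finset.sum_congr rfl fun b _ => ?_
  rw [Matrix.mulVec_smul, map_smul, map_smul, Matrix.mul_smul, Matrix.smul_mul, ← smul_sub,
    Φ.adv_single, Φ.adv_single, Φ.adB_mulVec_single]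
  congr 1
  refine Matrix.ext_of_mulVec_single fun c => ?_
  rw [Matrix.sub_mulVec, ← Matrix.mulVec_mulVec, ← Matrix.mulVec_mulVec, Φ.adB_mulVec_single,
    Φ.adB_mulVec_single, Φ.adv_mulVec_single, Φ.br_anti a c, Matrix.mulVec_neg, sub_neg_eq_add,
    eq_neg_iff_add_eq_zero]
  exact h b c

theorem IsDer.add {v w : D.Idx → ℚ} (hv : Φ.IsDer v) (hw : Φ.IsDer w) : Φ.IsDer (v + w) := by
  intro z
  rw [map_add, Matrix.add_mulVec, map_add, ← hv z, ← hw z, add_mul, mul_add]
  abel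

theorem IsDer.smul {v : D.Idx → ℚ} (hv : Φ.IsDer v) (c : ℚ) : Φ.IsDer (c • v) := by
  intro z
  rw [map_smul, Matrix.smul_mulVec, map_smul, ← hv z, Matrix.smul_mul, Matrix.mul_smul, smul_sub]

theorem isDer_zero : Φ.IsDer 0 := by
  intro z; simp

theorem IsDer.bracket {v w : D.Idx → ℚ} (hv : Φ.IsDer v) (hw : Φ.IsDer w) :
    Φ.IsDer (Φ.adv v *ᵥ w) := by
  intro z
  rw [← hv w]
  rw [Matrix.sub_mulVec, map_sub, ← Matrix.mulVec_mulVec, ← Matrix.mulVec_mulVec,
    ← hv (Φ.adv w *ᵥ z), ← hw (Φ.adv v *ᵥ z), ← hw z, ← hv z]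
  noncomm_ring

end Sys

end CfsgLib.Chev
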