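/-
From the boolean checks on packed tables to the axioms `Sys`.
-/
import Cfsg.Agent.Lib.Chev.Pack
import Cfsg.Agent.Lib.Chev.Sys

namespace CfsgLib.Chev

open Cfsg.Lie

theorem force_eq {α : Type} (i : ℕ) (k : ℕ → α) : force i k = k i := by
  cases i <;> rfl

theorem forceZ_eq {α : Type} (i : ℤ) (k : ℤ → α) : forceZ i k = k i := by
  cases i with
  | ofNat m => exact force_eq m (fun j => k (Int.ofNat j))
  | negSucc m => exact force_eq m (fun j => k (Int.negSucc j))

theorem zeq_iff {a b : ℤ} : zeq a b = true ↔ a = b := by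
  cases a <;> cases b <;> simp [zeq]

theorem allN_iff {m : ℕ} {f : ℕ → Bool} : allN m f = true ↔ ∀ i < m, f i = true := by
  induction m with
  | zero => simp [allN]
  | succ k ih =>
    have h : allN (k + 1) f = (f k && allN k f) := rfl
    rw [h, Bool.and_eq_true, ih, Nat.forall_lt_succ_right]
    exact and_comm

theorem anyN_iff {m : ℕ} {f : ℕ → Bool} : anyN m f = true ↔ ∃ i < m, f i = true := by
  induction m with
  | zero => simp [anyN]
  | succ k ih =>
    have h : anyN (k + 1) f = (f k || anyN k f) := rfl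
    rw [h, Bool.or_eq_true, ih]
    clear h
    constructor
    · rintro (h | ⟨i, hi, h⟩)
      exacts [⟨k, by omega, h⟩, ⟨i, by omega, h⟩]
    · rintro ⟨i, hi, h⟩
      rcases Nat.lt_succ_iff_lt_or_eq.mp hi with hi | hi
      exacts [Or.inr ⟨i, hi, h⟩, Or.inl (hi ▸ h)]

theorem sumN_eq (m : ℕ) (f : ℕ → ℤ) : sumN m f = ∑ i : Fin m, f i.val := by
  induction m with
  | zero => simp [sumN]
  | succ k ih =>
    have h : sumN (k + 1) f = f k + sumN k f := rfl
    rw [h, ih, Fin.sum_univ_castSucc]
    simp [add_comm]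

theorem eq_zero_of_sum_digits {m : ℕ} {d : ℕ → ℤ} (hb : ∀ i < m, |d i| < 32)
    (h : ∑ i ∈ Finset.range m, d i * 32 ^ (m - 1 - i) = 0) : ∀ i < m, d i = 0 := by
  induction m with
  | zero => simp
  | succ k ih =>
    rw [Finset.sum_range_succ] at h
    simp only [Nat.add_sub_cancel, Nat.sub_self, pow_zero, mul_one] at h
    have h32 : ∑ i ∈ Finset.range k, d i * 32 ^ (k - i)
        = 32 * ∑ i ∈ Finset.range k, d i * 32 ^ (k - 1 - i) := by
      rw [Finset.mul_sum]
      refine Finset.sum_congr rfl fun i hi => ?_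
      rw [Finset.mem_range] at hi
      rw [show k - i = k - 1 - i + 1 by omega, pow_succ]
      ring
    rw [h32] at h
    have hk : d k = 0 := by
      have := hb k (by omega)
      rw [abs_lt] at this
      omega
    have hrest : ∑ i ∈ Finset.range k, d i * 32 ^ (k - 1 - i) = 0 := by omega
    intro i hi
    rcases Nat.lt_succ_iff_lt_or_eq.mp hi with hi | rfl
    exacts [ih (fun j hj => hb j (by omega)) hrest i hi, hk]

namespace Pack

variable (P : Pack)

theorem nz_iff {r s : ℕ} : P.nz r s = true ↔ P.N r s ≠ 0 := by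
  simp only [nz, N, Nat.ble_eq, decN, force_eq]
  show 256 ≤ P.ent r s ↔ _
  by_cases h : P.ent r s / 256 ≤ 3
  · have hf' : Nat.ble ((P.ent r s).div 256) (nat_lit 3) = true := Nat.ble_eq_true_of_le h
    simp only [hf']
    show 256 ≤ P.ent r s ↔ (Int.ofNat (P.ent r s / 256)) ≠ 0
    simp only [Int.ofNat_eq_natCast, ne_eq, Nat.cast_eq_zero, Nat.div_eq_zero_iff]
    omega
  · have hf : Nat.ble (P.ent r s / 256) 3 = false := by
      simpa [Bool.eq_false_iff, Nat.ble_eq] using h
    have hf' : Nat.ble ((P.ent r s).div 256) (nat_lit 3) = false := hf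
    simp only [hf']
    show 256 ≤ P.ent r s ↔ Int.negSucc _ ≠ 0
    simp only [ne_eq, Int.negSucc_ne_zero, not_false_iff, iff_true]
    omega

theorem code_eq (r : ℕ) : P.code r = ∑ i ∈ Finset.range P.l, P.V r i * 32 ^ (P.l - 1 - i) := by
  simp only [code, force_eq]
  induction P.l with
  | zero => simp
  | succ k ih =>
    rw [Finset.sum_range_succ]
    simp only [forceZ_eq, Nat.add_sub_cancel, Nat.sub_self, pow_zero, mul_one] at *
    show Int.add (Int.mul _ 32) _ = _
    rw [ih, show ∀ a b : ℤ, Int.add a b = a + b from fun _ _ => rfl,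
      show ∀ a b : ℤ, Int.mul a b = a * b from fun _ _ => rfl, Finset.sum_mul]
    congr 1
    refine Finset.sum_congr rfl fun i hi => ?_
    rw [Finset.mem_range] at hi
    rw [show k - i = k - 1 - i + 1 by omega, pow_succ]
    ring

theorem rowFrom_eq (r : ℕ) : ∀ k ≤ P.n, P.rowFrom r k =
    ((List.range' (P.n - k) k).filter (P.nz r)).map fun s => (s, P.entryList r s) := by
  intro k
  induction k with
  | zero => intro _; rfl
  | succ j ih =>
    intro hj
    have h : P.rowFrom r (j + 1) = Bool.rec (P.rowFrom r j)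
        ((P.n - (j + 1), P.entryList r (P.n - (j + 1))) :: P.rowFrom r j)
        (P.nz r (P.n - (j + 1))) :=
      force_eq (Nat.sub P.n (Nat.succ j)) (fun s =>
        Bool.rec (motive := fun _ => List (ℕ × List (ℕ × ℤ)))
          (P.rowFrom r j) ((s, P.entryList r s) :: P.rowFrom r j) (P.nz r s))
    have h2 : List.range' (P.n - (j + 1)) (j + 1) =
        (P.n - (j + 1)) :: List.range' (P.n - j) j := by
      rw [List.range'_succ, show P.n - (j + 1) + 1 = P.n - j by omega]
    rw [h, h2, ih (by omega), List.filter_cons]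
    cases P.nz r (P.n - (j + 1)) <;> simp

theorem tabulate_eq (m : ℕ) (f : ℕ → ℤ) : ∀ k ≤ m,
    tabulate m f k = (List.range' (m - k) k).map f := by
  intro k
  induction k with
  | zero => intro _; rfl
  | succ j ih =>
    intro hj
    have h : tabulate m f (j + 1) = f (m - (j + 1)) :: tabulate m f j :=
      force_eq (Nat.sub m (Nat.succ j)) (fun i => f i :: tabulate m f j)
    rw [h, ih (by omega), List.range'_succ, show m - (j + 1) + 1 = m - j by omega, List.map_cons]

theorem eqZ_eq : ∀ {x y : List ℤ}, eqZ x y = true → x = y := by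
  intro x
  induction x with
  | nil => intro y h; cases y with
    | nil => rfl
    | cons b t => simp [eqZ] at h
  | cons a x ih => intro y h; cases y with
    | nil => simp [eqZ] at h
    | cons b t =>
      have h' : (zeq a b && eqZ x t) = true := h
      rw [Bool.and_eq_true, zeq_iff] at h'
      rw [h'.1, ih h'.2]

theorem eqEntry_eq : ∀ {x y : List (ℕ × ℤ)}, eqEntry x y = true → x = y := by
  intro x
  induction x with
  | nil => intro y h; cases y with
    | nil => rfl
    | cons b t => simp [eqEntry] at h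
  | cons a x ih => intro y h; cases y with
    | nil => simp [eqEntry] at h
    | cons b t =>
      have h' : (Nat.beq a.1 b.1 && (zeq a.2 b.2 && eqEntry x t)) = true := h
      simp only [Bool.and_eq_true, zeq_iff] at h'
      rw [Prod.ext (Nat.eq_of_beq_eq_true h'.1) h'.2.1, ih h'.2.2]

theorem eqRow_eq : ∀ {x : List (ℕ × Array (ℕ × ℤ))} {y : List (ℕ × List (ℕ × ℤ))},
    eqRow x y = true → x = y.map (fun e => (e.1, e.2.toArray)) := by
  intro x
  induction x with
  | nil => intro y h; cases y with
    | nil => rfl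
    | cons b t => simp [eqRow] at h
  | cons a x ih => intro y h; cases y with
    | nil => simp [eqRow] at h
    | cons b t =>
      have h' : (Nat.beq a.1 b.1 && (eqEntry a.2.toList b.2 && eqRow x t)) = true := h
      simp only [Bool.and_eq_true] at h'
      rw [List.map_cons, ← ih h'.2.2, ← eqEntry_eq h'.2.1, ← Nat.eq_of_beq_eq_true h'.1]

/-- The tables described by a pack, as functions on `Fin`. -/
noncomputable def tables (D : ChevalleyDatum) (hn : 0 < D.nroots) : Tables D where
  S r s := ⟨P.S r.val s.val % D.nroots, Nat.mod_lt _ hn⟩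
  N r s := P.N r.val s.val
  A i r := P.A i.val r.val
  C r i := P.C r.val i.val
  V r i := P.V r.val i.val
  p i := ⟨P.p i.val % D.nroots, Nat.mod_lt _ hn⟩

theorem rev_eq {D : ChevalleyDatum} (hn : D.nroots = P.n) (r : Fin D.nroots) :
    P.rev r.val = r.rev.val := by
  show P.n - (r.val + 1) = _
  rw [Fin.val_rev]
  omega

theorem ch_succ (r s k : ℕ) : P.ch r s (k + 1) =
    (P.S r (P.ch r s k).1, (P.ch r s k).2 * P.N r (P.ch r s k).1 / ((k + 1 : ℕ) : ℤ)) := by
  refine (force_eq (P.ch r s k).1 (fun u => forceZ (P.ch r s k).2 fun M =>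
    (P.S r u, Int.ediv (Int.mul M (P.N r u)) (Int.ofNat (Nat.succ k))))).trans ?_
  rw [forceZ_eq]
  rfl

/-- The tables of a pack passing the checks satisfy the axioms. -/
noncomputable def toSys (P : Pack) (D : ChevalleyDatum) (hn : 0 < D.nroots)
    (hd : P.datumOK D = true) (ht : P.tabOK = true) (hr : P.rootsOK = true) : Sys D :=
  have hd' : D.rank = P.l ∧ D.nroots = P.n ∧ P.n % 2 = 0 := by
    simp only [datumOK, Bool.and_eq_true, beq_iff_eq] at hd
    exact ⟨hd.1.1.1.1, hd.1.1.1.2, hd.1.1.2⟩
  have hdr : ∀ r < P.n, D.negIdx.getD r 0 = P.rev r ∧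
      (D.IsPosRoot r ↔ P.n ≤ 2 * r) ∧ (D.IsNegRoot r ↔ 2 * r < P.n) ∧
      (D.chain.getD r #[]).toList = (P.rowFrom r P.n).map (fun e => (e.1, e.2.toArray)) ∧
      (D.coroot.getD r #[]).toList = (List.range P.l).map (P.C r) := by
    intro r h
    simp only [datumOK, Bool.and_eq_true, beq_iff_eq, allN_iff] at hd
    obtain ⟨⟨⟨⟨h1, h2⟩, h3⟩, h4⟩, h5⟩ := hd.1.2 r h
    refine ⟨h1, ?_, ?_, eqRow_eq h4, ?_⟩
    · have hr' : r < D.nroots := by omega
      unfold ChevalleyDatum.IsPosRoot
      simp only [hr', true_and]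
      rw [← Nat.ble_eq, ← h2, decide_eq_true_iff]
    · have hr' : r < D.nroots := by omega
      unfold ChevalleyDatum.IsNegRoot
      simp only [hr', true_and]
      rw [← decide_eq_true_iff (p := ∀ c ∈ (D.coroot.getD r #[]).toList, c ≤ 0), h3, Nat.blt_eq]
    · rw [eqZ_eq h5, tabulate_eq _ _ _ le_rfl, Nat.sub_self, List.range_eq_range']
  have hdi : ∀ i < P.l, D.simpleIdx.getD i 0 = P.p i ∧
      (D.cartanSR.getD i #[]).toList = (List.range P.n).map (P.A i) := by
    intro i h
    simp only [datumOK, Bool.and_eq_true, beq_iff_eq, allN_iff] at hd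
    obtain ⟨h1, h2⟩ := hd.2 i h
    exact ⟨h1, by rw [eqZ_eq h2, tabulate_eq _ _ _ le_rfl, Nat.sub_self, List.range_eq_range']⟩
  have hi : ∀ i : Fin D.rank, i.val < P.l := fun i => hd'.1 ▸ i.isLt
  have hx : ∀ r : Fin D.nroots, r.val < P.n := fun r => hd'.2.1 ▸ r.isLt
  have hroots : (∀ r < P.n, P.rootOK r = true) ∧
      ∀ i < P.l, P.p i < P.n ∧ P.n ≤ 2 * P.p i ∧ ∀ j < P.l,
        P.V (P.p i) j = (if i = j then 1 else 0) ∧ P.C (P.p i) j = (if i = j then 1 else 0) := by
    simp only [rootsOK, Bool.and_eq_true, allN_iff] at hr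
    refine ⟨hr.1, fun i h => ⟨?_, ?_, fun j hj => ?_⟩⟩
    · simpa [Nat.blt_eq] using (hr.2 i h).1.1
    · simpa [Nat.ble_eq] using (hr.2 i h).1.2
    · obtain ⟨h1, h2⟩ := (hr.2 i h).2 j hj
      rw [zeq_iff] at h1 h2
      rw [h1, h2]
      by_cases hij : i = j
      · simp [hij]
      · simp [hij, beq_eq_false_iff_ne.mpr hij]
  have hpv : ∀ i : Fin D.rank, ((P.tables D hn).p i).val = P.p i.val := fun i => by
    show P.p i.val % D.nroots = _
    exact Nat.mod_eq_of_lt (hd'.2.1 ▸ (hroots.2 i.val (hi i)).1)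
  have hrev : ∀ r : Fin D.nroots, P.rev r.val = r.rev.val := P.rev_eq hd'.2.1
  have hroot : ∀ r : Fin D.nroots, P.N r.val r.val = 0 ∧ P.N r.val r.rev.val = 0 ∧
      (∀ i : Fin D.rank, P.V r.rev.val i.val = -P.V r.val i.val ∧
        P.C r.rev.val i.val = -P.C r.val i.val ∧
        P.A i.val r.val = ∑ j : Fin P.l, P.V r.val j.val * P.A i.val (P.p j.val)) ∧
      (∀ i < P.l, |P.V r.val i| ≤ 10) ∧
      (∀ i : Fin D.rank, (D.nroots ≤ 2 * r.val → 0 ≤ P.V r.val i.val ∧
        (r.val ≠ P.p i.val → ∃ j : Fin D.rank, j ≠ i ∧ 0 < P.V r.val j.val)) ∧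
        (¬ D.nroots ≤ 2 * r.val → P.V r.val i.val ≤ 0)) ∧
      (∑ i : Fin D.rank, P.C r.val i.val * P.A i.val r.val = 2) ∧
      (r.val + 1 < P.n → P.code r.val < P.code (r.val + 1)) ∧
      ((∃ i : Fin D.rank, r = (P.tables D hn).p i ∨ r = ((P.tables D hn).p i).rev) ∨
        ∃ i : Fin D.rank, (D.nroots ≤ 2 * r.val ∧
            P.N r.val ((P.tables D hn).p i).rev.val ≠ 0 ∧
            max (P.S r.val ((P.tables D hn).p i).rev.val)
              (P.rev (P.S r.val ((P.tables D hn).p i).rev.val)) < r.val) ∨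
          (¬ D.nroots ≤ 2 * r.val ∧ P.N r.val ((P.tables D hn).p i).val ≠ 0 ∧
            max (P.S r.val ((P.tables D hn).p i).val)
              (P.rev (P.S r.val ((P.tables D hn).p i).val)) < r.rev.val)) := by
    intro r
    have h := hroots.1 r.val (hx r)
    simp only [rootOK, Bool.and_eq_true, Bool.or_eq_true, allN_iff, anyN_iff, zeq_iff,
      decide_eq_true_iff, Bool.not_eq_true'] at h
    obtain ⟨⟨⟨⟨⟨h1, h2⟩, h3⟩, h4⟩, h5⟩, h6⟩ := h
    rw [hrev] at h2
    refine ⟨?_, ?_, fun i => ?_, fun i hi' => ?_, fun i => ?_, ?_, fun hlt => ?_, ?_⟩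
    · by_contra hne
      exact Bool.false_ne_true (h1.symm.trans (P.nz_iff.mpr hne))
    · by_contra hne
      exact Bool.false_ne_true (h2.symm.trans (P.nz_iff.mpr hne))
    · obtain ⟨⟨⟨⟨⟨a, b⟩, _⟩, c⟩, _⟩, _⟩ := h3 i.val (hi i)
      rw [hrev] at a b
      exact ⟨a, b, by rw [c, sumN_eq]⟩
    · obtain ⟨⟨⟨⟨⟨_, _⟩, _⟩, _⟩, c⟩, _⟩ := h3 i hi'
      rw [← Int.natCast_natAbs]
      exact_mod_cast c
    · obtain ⟨_, d⟩ := h3 i.val (hi i)
      constructor
      · intro hpos
        rw [Nat.ble_eq_true_of_le (hd'.2.1 ▸ hpos : P.n ≤ 2 * r.val)] at d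
        simp only [cond_true, Bool.and_eq_true, Bool.or_eq_true, decide_eq_true_iff, anyN_iff,
          Bool.not_eq_true'] at d
        refine ⟨d.1, fun hne => ?_⟩
        rcases d.2 with d2 | ⟨j, hj, hji, hpos'⟩
        · exact absurd (Nat.eq_of_beq_eq_true d2) hne
        · refine ⟨⟨j, hd'.1 ▸ hj⟩, fun e => ?_, hpos'⟩
          rw [show j = i.val from congrArg Fin.val e, Nat.beq_refl] at hji
          exact Bool.false_ne_true hji.symm
      · intro hneg
        have : Nat.ble P.n (2 * r.val) = false := by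
          rw [Bool.eq_false_iff, ne_eq, Nat.ble_eq, ← hd'.2.1]
          exact hneg
        rw [this] at d
        simpa using d
    · rw [sumN_eq] at h4
      convert h4 using 1
      rw [← Fin.sum_congr' (fun i : Fin P.l => P.C r.val i.val * P.A i.val r.val) hd'.1]
      rfl
    · rcases h5 with h5 | h5
      · rw [Nat.ble_eq] at h5; omega
      · exact h5
    · rcases h6 with ⟨i, hi', h⟩ | ⟨i, hi', h⟩
      · left
        refine ⟨⟨i, hd'.1 ▸ hi'⟩, ?_⟩
        simp only [beq_iff_eq] at h
        rcases h with h | h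
        · exact Or.inl (Fin.ext (by rw [hpv]; exact h))
        · right
          apply Fin.ext
          rw [← hrev, hpv]
          exact h
      · right
        refine ⟨⟨i, hd'.1 ▸ hi'⟩, ?_⟩
        have e1 : ((P.tables D hn).p ⟨i, hd'.1 ▸ hi'⟩).val = P.p i := hpv _
        have e2 : ((P.tables D hn).p ⟨i, hd'.1 ▸ hi'⟩).rev.val = P.rev (P.p i) := by
          rw [← hrev, e1]
        by_cases hpos : D.nroots ≤ 2 * r.val
        · rw [Nat.ble_eq_true_of_le (hd'.2.1 ▸ hpos : P.n ≤ 2 * r.val)] at h
          simp only [cond_true, Bool.and_eq_true, Nat.blt_eq] at h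
          refine Or.inl ⟨hpos, ?_, ?_⟩
          · rw [e2, ← P.nz_iff]; exact h.1
          · rw [e2]; exact h.2
        · have : Nat.ble P.n (2 * r.val) = false := by
            rw [Bool.eq_false_iff, ne_eq, Nat.ble_eq, ← hd'.2.1]
            exact hpos
          rw [this] at h
          simp only [cond_false, Bool.and_eq_true, Nat.blt_eq] at h
          refine Or.inr ⟨hpos, ?_, ?_⟩
          · rw [e1, ← P.nz_iff]; exact h.1
          · rw [e1, ← hrev]; exact h.2
  have hS : ∀ r s : Fin D.nroots, P.N r.val s.val ≠ 0 →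
      ((P.tables D hn).S r s).val = P.S r.val s.val ∧
      P.code (P.S r.val s.val) = P.code r.val + P.code s.val ∧
      P.N s.val r.val = -P.N r.val s.val ∧ P.N r.rev.val s.rev.val = -P.N r.val s.val ∧
      P.S r.rev.val s.rev.val = P.rev (P.S r.val s.val) ∧
      P.S s.val r.val = P.S r.val s.val ∧
      P.N (P.S r.val s.val) s.rev.val ≠ 0 ∧ P.S (P.S r.val s.val) s.rev.val = r.val ∧
      s.val ≠ r.val ∧ s.val ≠ r.rev.val ∧
      (∀ k, k < 3 → (P.ch r.val s.val (k + 1)).2 * P.N r.val (P.ch r.val s.val (k + 1)).1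
          % ((k + 2 : ℕ) : ℤ) = 0 ∧
        ((P.ch r.val s.val (k + 1)).2 ≠ 0 → (P.ch r.val s.val (k + 1)).1 < P.n ∧
          (P.ch r.val s.val (k + 1)).1 ≠ r.val ∧ (P.ch r.val s.val (k + 1)).1 ≠ r.rev.val)) ∧
      (P.ch r.val s.val 4).2 = 0 := by
    intro r s hne
    simp only [tabOK, allN_iff] at ht
    have h := ht r.val (hx r) s.val (hx s)
    rw [P.nz_iff.mpr hne] at h
    simp only [cond_true, entryOK, Bool.and_eq_true, Bool.or_eq_true, Nat.blt_eq, Bool.not_eq_true',
      zeq_iff, allN_iff, hrev] at h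
    obtain ⟨⟨⟨⟨⟨⟨⟨⟨⟨⟨⟨h0, h1⟩, h2⟩, h3⟩, h4⟩, h5⟩, h6⟩, h7⟩, h8⟩, h9⟩, h10⟩, h11⟩ := h
    refine ⟨Nat.mod_eq_of_lt (h0.trans_eq hd'.2.1.symm), h3, h4, h5, Nat.eq_of_beq_eq_true h6,
      Nat.eq_of_beq_eq_true h7, P.nz_iff.mp h8, Nat.eq_of_beq_eq_true h9, ?_, ?_,
      fun k hk => ?_, h11⟩
    · intro e; rw [e, Nat.beq_refl] at h1; exact Bool.false_ne_true h1.symm
    · intro e; rw [e, Nat.beq_refl] at h2; exact Bool.false_ne_true h2.symm
    · obtain ⟨ha, hb⟩ := h10 k hk
      refine ⟨ha, fun hM => ?_⟩
      rcases hb with hb | ⟨⟨hb1, hb2⟩, hb3⟩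
      · exact absurd hb hM
      · refine ⟨hb1, fun e => ?_, fun e => ?_⟩
        · rw [e, Nat.beq_refl] at hb2; exact Bool.false_ne_true hb2.symm
        · rw [e, Nat.beq_refl] at hb3; exact Bool.false_ne_true hb3.symm
  have hch : ∀ r s : Fin D.nroots, ∀ k ≤ 4, ((P.tables D hn).ch r s k).2 = (P.ch r.val s.val k).2 ∧
      ((P.ch r.val s.val k).2 ≠ 0 → ((P.tables D hn).ch r s k).1.val = (P.ch r.val s.val k).1) := by
    intro r s k
    induction k with
    | zero => intro _; exact ⟨rfl, fun _ => rfl⟩
    | succ k ih =>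
      intro hk
      obtain ⟨ih1, ih2⟩ := ih (by omega)
      rw [P.ch_succ]
      show ((P.tables D hn).ch r s k).2 * P.N r.val ((P.tables D hn).ch r s k).1.val
          / ((k + 1 : ℕ) : ℤ) = _ ∧ _
      by_cases hM : (P.ch r.val s.val k).2 = 0
      · simp [ih1, hM]
      · rw [ih1, ih2 hM]
        refine ⟨rfl, fun hne => ?_⟩
        show P.S r.val ((P.tables D hn).ch r s k).1.val % D.nroots = _
        rw [ih2 hM]
        have hN : P.N r.val (P.ch r.val s.val k).1 ≠ 0 := by
          intro e; simp [e] at hne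
        have hlt : (P.ch r.val s.val k).1 < D.nroots := by
          rw [← ih2 hM]; exact Fin.isLt _
        have := (hS r ⟨_, hlt⟩ hN).1
        exact this
  have hcode : ∀ r : Fin D.nroots, (P.tables D hn).code r = P.code r.val := by
    intro r
    rw [P.code_eq, ← hd'.1, ← Fin.sum_univ_eq_sum_range (fun i => P.V r.val i * 32 ^ (D.rank - 1 - i))]
    rfl
  { toTables := P.tables D hn
    even := hd'.2.1 ▸ hd'.2.2
    negIdx_eq := fun r => (hdr r.val (hx r)).1.trans (hrev r)
    simpleIdx_eq := fun i => by rw [(hdi i.val (hi i)).1, hpv]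
    coroot_eq := fun r i => by
      have h := (hdr r.val (hx r)).2.2.2.2
      rw [Array.getD_eq_getD_getElem?, ← Array.getElem?_toList, h]
      simp [hi i]
      rfl
    cartan_eq := fun i r => by
      have h := (hdi i.val (hi i)).2
      rw [Array.getD_eq_getD_getElem?, ← Array.getElem?_toList, h]
      simp [hx r]
      rfl
    posRoot_iff := fun r => (hdr r.val (hx r)).2.1.trans (by have := hd'.2.1; omega)
    negRoot_iff := fun r => (hdr r.val (hx r)).2.2.1.trans (by have := hd'.2.1; omega)
    filter_eq := fun r s => by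
      rw [(hdr r.val (hx r)).2.2.2.1, P.rowFrom_eq _ _ le_rfl, Nat.sub_self,
        ← List.range_eq_range', List.map_map, List.filter_map, List.filter_filter]
      have hfun : ((fun e : ℕ × Array (ℕ × ℤ) => decide (e.1 = s.val)) ∘
          ((fun e : ℕ × List (ℕ × ℤ) => (e.1, e.2.toArray)) ∘ fun x => (x, P.entryList r.val x)))
          = fun x => decide (x = s.val) := rfl
      rw [hfun]
      show _ = if P.N r.val s.val = 0 then _ else _
      by_cases hN : P.N r.val s.val = 0
      · rw [if_pos hN, List.map_eq_nil_iff, List.filter_eq_nil_iff]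
        intro x _ hx'
        simp only [Bool.and_eq_true, decide_eq_true_iff] at hx'
        rw [hx'.1, P.nz_iff] at hx'
        exact hx'.2 hN
      · rw [if_neg hN]
        have : (List.range P.n).filter (fun x => decide (x = s.val) && P.nz r.val x) = [s.val] := by
          rw [← List.filter_filter]
          have hnd := List.nodup_range (n := P.n)
          have hm : s.val ∈ (List.range P.n).filter (P.nz r.val) :=
            List.mem_filter.mpr ⟨List.mem_range.mpr (hx s), P.nz_iff.mpr hN⟩
          rw [List.filter_eq, List.count_eq_one_of_mem (hnd.filter _) hm]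
          rfl
        rw [this]
        have hentry : (P.tables D hn).entry r s = P.entryList r.val s.val := by
          have h1 := hch r s 1 (by omega)
          have h2 := hch r s 2 (by omega)
          have h3 := hch r s 3 (by omega)
          unfold Tables.entry entryList
          rw [h1.1, h2.1, h3.1]
          by_cases e1 : (P.ch r.val s.val 1).2 = 0
          · simp [e1, zeq_iff.mpr rfl]
          · have z1 : zeq (P.ch r.val s.val 1).2 0 = false := by simpa [Bool.eq_false_iff, zeq_iff]
            by_cases e2 : (P.ch r.val s.val 2).2 = 0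
            · simp [e1, e2, z1, h1.2 e1, zeq_iff.mpr rfl]
            · have z2 : zeq (P.ch r.val s.val 2).2 0 = false := by
                simpa [Bool.eq_false_iff, zeq_iff]
              by_cases e3 : (P.ch r.val s.val 3).2 = 0
              · simp [e1, e2, e3, z1, z2, h1.2 e1, h2.2 e2, zeq_iff.mpr rfl]
              · have z3 : zeq (P.ch r.val s.val 3).2 0 = false := by
                  simpa [Bool.eq_false_iff, zeq_iff]
                simp [e1, e2, e3, z1, z2, z3, h1.2 e1, h2.2 e2, h3.2 e3]
        simp [hentry]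
    fst_lt := fun r e he => by
      rw [(hdr r.val (hx r)).2.2.2.1, P.rowFrom_eq _ _ le_rfl, Nat.sub_self,
        ← List.range_eq_range'] at he
      simp only [List.map_map, List.mem_map, List.mem_filter, List.mem_range] at he
      obtain ⟨x, ⟨hx', _⟩, rfl⟩ := he
      exact hx'.trans_eq hd'.2.1.symm
    N_self := fun r => (hroot r).1
    N_neg := fun r => (hroot r).2.1
    N_anti := fun r s => by
      show P.N s.val r.val = -P.N r.val s.val
      by_cases h : P.N r.val s.val = 0
      · by_cases h' : P.N s.val r.val = 0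
        · rw [h, h', neg_zero]
        · have := (hS s r h').2.2.1; omega
      · exact (hS r s h).2.2.1
    N_rev := fun r s => by
      show P.N r.rev.val s.rev.val = -P.N r.val s.val
      by_cases h : P.N r.val s.val = 0
      · by_cases h' : P.N r.rev.val s.rev.val = 0
        · rw [h, h', neg_zero]
        · have := (hS r.rev s.rev h').2.2.2.1
          rw [Fin.rev_rev, Fin.rev_rev] at this
          omega
      · exact (hS r s h).2.2.2.1
    S_comm := fun r s h => by
      apply Fin.ext
      have h' : P.N s.val r.val ≠ 0 := by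
        rw [(hS r s h).2.2.1]; exact neg_ne_zero.mpr h
      rw [(hS s r h').1, (hS r s h).1]
      exact (hS r s h).2.2.2.2.2.1
    S_rev := fun r s h => by
      apply Fin.ext
      have h' : P.N r.rev.val s.rev.val ≠ 0 := by
        rw [(hS r s h).2.2.2.1]; exact neg_ne_zero.mpr h
      rw [(hS _ _ h').1, (hS r s h).2.2.2.2.1, ← hrev ((P.tables D hn).S r s), (hS r s h).1]
    rot := fun r s h => by
      obtain ⟨e, _, _, _, _, _, a, b, _⟩ := hS r s h
      rw [← e] at a b
      exact ⟨a, Fin.ext ((hS _ _ a).1.trans b)⟩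
    V_add := fun r s h i => by
      obtain ⟨e, hc, _⟩ := hS r s h
      rw [← e, P.code_eq, P.code_eq, P.code_eq, ← Finset.sum_add_distrib, eq_comm, ← sub_eq_zero,
        ← Finset.sum_sub_distrib] at hc
      have := eq_zero_of_sum_digits
        (d := fun j => P.V r.val j + P.V s.val j - P.V ((P.tables D hn).S r s).val j) ?_ ?_
        i.val (hi i)
      · show P.V _ _ = _
        exact (sub_eq_zero.mp this).symm
      · intro j hj
        have a := abs_le.mp ((hroot r).2.2.2.1 j hj)
        have b := abs_le.mp ((hroot s).2.2.2.1 j hj)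
        have c := abs_le.mp ((hroot ((P.tables D hn).S r s)).2.2.2.1 j hj)
        rw [abs_lt]
        constructor <;> omega
      · rw [← hc]
        exact Finset.sum_congr rfl fun j _ => by ring
    V_neg := fun r i => ((hroot r).2.2.1 i).1
    C_neg := fun r i => ((hroot r).2.2.1 i).2.1
    A_lin := fun i r => by
      have h := ((hroot r).2.2.1 i).2.2
      rw [← Fin.sum_congr' (fun j : Fin P.l => P.V r.val j.val * P.A i.val (P.p j.val)) hd'.1] at h
      show P.A i.val r.val = _
      rw [h]
      refine Finset.sum_congr rfl fun j _ => ?_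
      show _ = P.V r.val j.val * P.A i.val ((P.tables D hn).p j).val
      rw [hpv]
      rfl
    pair_self := fun r => (hroot r).2.2.2.2.2.1
    code_strictMono := by
      intro a b hab
      rw [hcode, hcode]
      have key : ∀ d, a.val + d + 1 < P.n → P.code a.val < P.code (a.val + d + 1) := by
        intro d
        induction d with
        | zero => intro h; exact (hroot a).2.2.2.2.2.2.1 h
        | succ d ih =>
          intro h
          have := (hroot ⟨a.val + d + 1, (show a.val + d + 1 < P.n by omega).trans_eq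
            hd'.2.1.symm⟩).2.2.2.2.2.2.1 (show a.val + d + 1 + 1 < P.n by omega)
          exact lt_trans (ih (by omega)) this
      have hab' : a.val < b.val := hab
      have := key (b.val - a.val - 1) (by have := hx b; omega)
      rwa [show a.val + (b.val - a.val - 1) + 1 = b.val by omega] at this
    V_nonneg := fun r hr i => (((hroot r).2.2.2.2.1 i).1 hr).1
    V_nonpos := fun r hr i => ((hroot r).2.2.2.2.1 i).2 hr
    V_supp := fun r hr i hne => (((hroot r).2.2.2.2.1 i).1 hr).2 fun e =>
      hne (Fin.ext (e.trans (hpv i).symm))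
    p_pos := fun i => by
      show D.nroots ≤ 2 * _
      rw [hpv, hd'.2.1]; exact (hroots.2 i.val (hi i)).2.1
    V_p := fun i j => by
      show P.V ((P.tables D hn).p i).val j.val = _
      rw [hpv, ((hroots.2 i.val (hi i)).2.2 j.val (hi j)).1]
      simp [Fin.ext_iff]
    C_p := fun i j => by
      show P.C ((P.tables D hn).p i).val j.val = _
      rw [hpv, ((hroots.2 i.val (hi i)).2.2 j.val (hi j)).2]
      simp [Fin.ext_iff]
    ch_dvd := fun r s h k hk => by
      show _ ∣ _ * P.N r.val ((P.tables D hn).ch r s k).1.val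
      rw [(hch r s k (by omega)).1]
      by_cases hM : (P.ch r.val s.val k).2 = 0
      · simp [hM]
      · rw [(hch r s k (by omega)).2 hM]
        rcases Nat.eq_zero_or_pos k with rfl | hk0
        · simp
        · have := ((hS r s h).2.2.2.2.2.2.2.2.2.2.1 (k - 1) (by omega)).1
          rw [show k - 1 + 1 = k by omega, show k - 1 + 2 = k + 1 by omega] at this
          exact Int.dvd_of_emod_eq_zero this
    ch_ne := fun r s h k hk hM => by
      rw [(hch r s k (by omega)).1] at hM
      rcases Nat.eq_zero_or_pos k with rfl | hk0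
      · obtain ⟨_, _, _, _, _, _, _, _, a, b, _⟩ := hS r s h
        exact ⟨fun e => a (congrArg Fin.val e), fun e => b (congrArg Fin.val e)⟩
      · have := ((hS r s h).2.2.2.2.2.2.2.2.2.2.1 (k - 1) (by omega)).2
        rw [show k - 1 + 1 = k by omega] at this
        obtain ⟨_, a, b⟩ := this hM
        rw [← (hch r s k (by omega)).2 hM] at a b
        exact ⟨fun e => a (congrArg Fin.val e), fun e => b (congrArg Fin.val e)⟩
    ch_four := fun r s h => by
      rw [(hch r s 4 le_rfl).1]
      exact (hS r s h).2.2.2.2.2.2.2.2.2.2.2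
    gen := fun r => by
      rcases (hroot r).2.2.2.2.2.2.2 with h | ⟨i, h⟩
      · exact Or.inl h
      · refine Or.inr ⟨i, ?_⟩
        rcases h with ⟨a, b, c⟩ | ⟨a, b, c⟩
        · refine Or.inl ⟨a, b, ?_⟩
          have e := (hS r _ b).1
          unfold Tables.meas
          rw [← e, hrev] at c
          have : r.rev.val ≤ r.val := by rw [Fin.val_rev]; omega
          omega
        · refine Or.inr ⟨a, b, ?_⟩
          have e := (hS r _ b).1
          unfold Tables.meas
          rw [← e, hrev] at c
          have : r.val ≤ r.rev.val := by rw [Fin.val_rev]; omega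
          omega }

end Pack

end CfsgLib.Chev
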