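/-
The Jacobi identity with a fundamental root vector, from the boolean check `Pack.jacAll`.
-/
import Cfsg.Agent.Lib.Chev.Lie
import Cfsg.Agent.Lib.Chev.OfCheck

namespace CfsgLib.Chev

open Cfsg.Lie Matrix

namespace Pack

variable (P : Pack) {D : ChevalleyDatum} {hn : 0 < D.nroots}
  {hd : P.datumOK D = true} {ht : P.tabOK = true} {hr : P.rootsOK = true}

include hd in
theorem rank_eq : D.rank = P.l ∧ D.nroots = P.n := by
  simp only [datumOK, Bool.and_eq_true, beq_iff_eq] at hd
  exact ⟨hd.1.1.1.1, hd.1.1.1.2⟩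

include hd ht in
theorem S_val {r s : Fin D.nroots} (h : P.N r.val s.val ≠ 0) :
    P.S r.val s.val % D.nroots = P.S r.val s.val := by
  obtain ⟨_, hn'⟩ := P.rank_eq (hd := hd)
  have hr' := r.isLt
  have hs' := s.isLt
  simp only [tabOK, allN_iff] at ht
  have h1 := ht r.val (by omega) s.val (by omega)
  rw [P.nz_iff.mpr h] at h1
  simp only [cond_true, entryOK, Bool.and_eq_true, Nat.blt_eq] at h1
  exact Nat.mod_eq_of_lt (h1.1.1.1.1.1.1.1.1.1.1.1.trans_eq hn'.symm)

local notation "Φ" => P.toSys D hn hd ht hr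

theorem term_eq (a b c : Fin D.nroots) (x : D.Idx) :
    ((Φ).adB (Sum.inr a) *ᵥ (Φ).br (Sum.inr b) (Sum.inr c)) x =
      Sum.elim (fun i : Fin D.rank => (P.hcoef i.val (P.T a.val b.val c.val) : ℚ))
        (fun u : Fin D.nroots => (ecoef u.val (P.T a.val b.val c.val) : ℚ)) x := by
  obtain ⟨hl', hn'⟩ := P.rank_eq (hd := hd)
  by_cases hc : c = b.rev
  · have hbeq : Nat.beq c.val (P.rev b.val) = true := by
      rw [P.rev_eq hn', hc]; exact Nat.beq_refl _
    subst hc
    simp only [T, hbeq, cond_true, (Φ).br_ee_neg, Matrix.mulVec_sum, Matrix.mulVec_smul,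
      (Φ).adB_mulVec_single, (Φ).br_eh, Finset.sum_apply, Pi.smul_apply, smul_eq_mul]
    rcases x with i | u
    · simp [hcoef, zeq_iff.mpr rfl]
    · simp only [Sum.elim_inr, ecoef]
      by_cases hu : u = a
      · subst hu
        rw [Nat.beq_refl, cond_true, pair, sumN_eq,
          ← Fin.sum_congr' (fun i : Fin P.l => P.C b.val i.val * P.A i.val u.val) hl',
          Int.cast_neg, Int.cast_sum, ← Finset.sum_neg_distrib]
        refine Finset.sum_congr rfl fun i _ => ?_
        show (((Φ).C b i : ℤ) : ℚ) * (-((Φ).A i u : ℚ) * _) = _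
        simp [toSys, tables]
      · have : Nat.beq a.val u.val = false := by
          rw [Bool.eq_false_iff]; exact fun e => hu (Fin.ext (Nat.eq_of_beq_eq_true e).symm)
        simp [this, hu]
  · have hbeq : Nat.beq c.val (P.rev b.val) = false := by
      rw [P.rev_eq hn', Bool.eq_false_iff]
      exact fun e => hc (Fin.ext (Nat.eq_of_beq_eq_true e))
    simp only [T, hbeq, cond_false, (Φ).br_ee hc, Matrix.mulVec_smul, (Φ).adB_mulVec_single,
      Pi.smul_apply, smul_eq_mul]
    by_cases hN : P.N b.val c.val = 0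
    · have hz : P.nz b.val c.val = false := by
        rw [Bool.eq_false_iff]; exact fun e => P.nz_iff.mp e hN
      have hN' : (Φ).N b c = 0 := hN
      rcases x with i | u <;> simp [hz, hN', hcoef, ecoef, zeq_iff.mpr rfl]
    · rw [P.nz_iff.mpr hN]
      have hu0 : ((Φ).S b c).val = P.S b.val c.val := P.S_val (hd := hd) (ht := ht) hN
      simp only [cond_true, force_eq, ← hu0, P.rev_eq hn']
      generalize (Φ).S b c = u
      by_cases hu : u = a.rev
      · subst hu
        rw [Nat.beq_refl, cond_true, (Φ).br_ee_neg]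
        rcases x with i | v
        · simp [hcoef, Finset.sum_apply, Pi.single_apply, toSys, tables]
          cases hz : zeq (P.N b.val c.val) 0
          · simp
          · exact absurd (zeq_iff.mp hz) hN
        · simp [ecoef, Finset.sum_apply, Pi.single_apply]
      · have hbeq2 : Nat.beq u.val a.rev.val = false := by
          rw [Bool.eq_false_iff]; exact fun e => hu (Fin.ext (Nat.eq_of_beq_eq_true e))
        rw [hbeq2, cond_false, (Φ).br_ee hu]
        rcases x with i | v
        · simp [hcoef, zeq_iff.mpr rfl]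
        · show ((Φ).N b c : ℚ) * _ = _
          simp only [Sum.elim_inr, ecoef, Pi.smul_apply, smul_eq_mul]
          by_cases hN2 : P.N a.val u.val = 0
          · have hN2' : (Φ).N a u = 0 := hN2
            simp [hN2, hN2']
          · have h2 : ((Φ).S a u).val = P.S a.val u.val := P.S_val (hd := hd) (ht := ht) hN2
            rw [← h2]
            by_cases hv : v = (Φ).S a u
            · subst hv; simp [toSys, tables]
            · have : Nat.beq ((Φ).S a u).val v.val = false := by
                rw [Bool.eq_false_iff]; exact fun e => hv (Fin.ext (Nat.eq_of_beq_eq_true e).symm)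
              simp [this, hv]

/-- The Jacobi sum as three coded vectors. -/
theorem jac_of_J {a b c : Fin D.nroots} (h : P.J a.val b.val c.val = true) :
    (Φ).jac (Sum.inr a) (Sum.inr b) (Sum.inr c) = 0 := by
  obtain ⟨hl', hn'⟩ := P.rank_eq (hd := hd)
  simp only [J, force_eq, sumZero, Bool.and_eq_true, Bool.or_eq_true, zeq_iff, allN_iff] at h
  ext x
  simp only [Sys.jac, Pi.add_apply, P.term_eq, Pi.zero_apply]
  rcases x with i | u
  · simp only [Sum.elim_inl]
    have hi : i.val < P.l := hl' ▸ i.isLt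
    rcases h.2 with ⟨⟨e1, e2⟩, e3⟩ | hz
    · simp [hcoef, e1, e2, e3, zeq_iff.mpr rfl]
    · exact_mod_cast hz i.val hi
  · simp only [Sum.elim_inr]
    generalize P.T a.val b.val c.val = t1, P.T b.val c.val a.val = t2,
      P.T c.val a.val b.val = t3 at h
    norm_cast
    rcases h.1 with ⟨⟨e1, e2⟩, e3⟩ | ⟨⟨k1, k2⟩, k3⟩
    · simp only [ecoef]
      cases Nat.beq t1.1 u.val <;> cases Nat.beq t2.1 u.val <;> cases Nat.beq t3.1 u.val <;>
        simp [e1, e2, e3]
    · by_cases u1 : t1.1 = u.val
      · rw [← u1]; exact k1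
      by_cases u2 : t2.1 = u.val
      · rw [← u2]; exact k2
      by_cases u3 : t3.1 = u.val
      · rw [← u3]; exact k3
      have f : ∀ m, m ≠ u.val → Nat.beq m u.val = false := fun m hm => by
        rw [Bool.eq_false_iff]; exact fun e => hm (Nat.eq_of_beq_eq_true e)
      simp [ecoef, f _ u1, f _ u2, f _ u3]

/-- The Jacobi identity with a fundamental root vector. -/
theorem jac_simple (hj : P.jacAll = true) (i : Fin D.rank) (y z : D.Idx) :
    (Φ).jac (Sum.inr ((Φ).p i)) y z = 0 := by
  obtain ⟨hl', hn'⟩ := P.rank_eq (hd := hd)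
  rcases y with jy | y
  · exact (Φ).jac_inl_middle _ _ _
  rcases z with jz | z
  · exact (Φ).jac_inl_last _ _ _
  have hp : ((Φ).p i).val = P.p i.val := by
    show P.p i.val % D.nroots = _
    simp only [rootsOK, Bool.and_eq_true, allN_iff, Nat.blt_eq] at hr
    exact Nat.mod_eq_of_lt ((hr.2 i.val (hl' ▸ i.isLt)).1.1.trans_eq hn'.symm)
  simp only [jacAll, allN_iff] at hj
  have hji := hj i.val (hl' ▸ i.isLt)
  rw [← hp] at hji
  generalize (Φ).p i = q at hji ⊢
  simp only [jacOK, force_eq, Bool.and_eq_true, allN_iff] at hji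
  obtain ⟨⟨⟨h1, h2⟩, h3⟩, h4⟩ := hji
  have hlt : ∀ r : Fin D.nroots, r.val < P.n := fun r => r.isLt.trans_eq hn'
  -- the two lists
  have cov : ∀ y z : Fin D.nroots, P.covered q.val y.val z.val = true →
      (Φ).jac (Sum.inr q) (Sum.inr y) (Sum.inr z) = 0 := by
    intro y z hc
    apply P.jac_of_J
    simp only [covered, force_eq, Bool.or_eq_true] at hc
    rcases hc with hc | hc
    · rw [Nat.eq_of_beq_eq_true hc]
      exact h1 z.val (hlt z)
    · cases hnz : P.nz q.val y.val
      · simp [hnz] at hc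
      · rw [hnz, cond_true, Bool.or_eq_true] at hc
        have h2' := h2 y.val (hlt y)
        simp only [hnz, cond_true, Bool.and_eq_true, allN_iff] at h2'
        rcases hc with hc | hc
        · rw [Nat.eq_of_beq_eq_true hc]; exact h2'.1
        · have := h2'.2 z.val (hlt z)
          rwa [hc, cond_true] at this
  have cov' : ∀ y z : Fin D.nroots, P.covered q.val z.val y.val = true →
      (Φ).jac (Sum.inr q) (Sum.inr y) (Sum.inr z) = 0 := by
    intro y z hc
    rw [(Φ).jac_swap, cov z y hc, neg_zero]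
  -- outer and inner brackets of a non-vanishing term
  have term : ∀ a b c : Fin D.nroots,
      (Φ).adB (Sum.inr a) *ᵥ (Φ).br (Sum.inr b) (Sum.inr c) ≠ 0 →
      c = b.rev ∨ ((Φ).N b c ≠ 0 ∧ ((Φ).S b c = a.rev ∨ (Φ).N a ((Φ).S b c) ≠ 0)) := by
    intro a b c hne
    by_cases hc : c = b.rev
    · exact Or.inl hc
    · refine Or.inr ?_
      rw [(Φ).br_ee hc, Matrix.mulVec_smul, (Φ).adB_mulVec_single] at hne
      refine ⟨fun e => hne (by simp [e]), ?_⟩
      by_cases hu : (Φ).S b c = a.rev
      · exact Or.inl hu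
      · exact Or.inr fun e => hne (by rw [(Φ).br_ee hu]; simp [e])
  have mk : ∀ y z : Fin D.nroots,
      (Φ).adB (Sum.inr z) *ᵥ (Φ).br (Sum.inr q) (Sum.inr y) ≠ 0 →
      P.covered q.val y.val z.val = true := by
    intro y z hne
    simp only [covered, force_eq, Bool.or_eq_true]
    rcases term _ _ _ hne with hy | ⟨hN, hu⟩
    · exact Or.inl (by rw [hy, P.rev_eq hn']; exact Nat.beq_refl _)
    · right
      have hN' : P.N q.val y.val ≠ 0 := hN
      have hS : ((Φ).S q y).val = P.S q.val y.val := P.S_val (hd := hd) (ht := ht) hN'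
      rw [P.nz_iff.mpr hN', cond_true, ← hS, Bool.or_eq_true]
      rcases hu with hu | hu
      · left; rw [hu, P.rev_eq hn', Fin.rev_rev]; exact Nat.beq_refl _
      · right; exact P.nz_iff.mpr ((Φ).N_ne_comm hu)
  by_cases t3 : (Φ).adB (Sum.inr z) *ᵥ (Φ).br (Sum.inr q) (Sum.inr y) = 0
  · by_cases t2 : (Φ).adB (Sum.inr y) *ᵥ (Φ).br (Sum.inr z) (Sum.inr q) = 0
    · by_cases t1 : (Φ).adB (Sum.inr q) *ᵥ (Φ).br (Sum.inr y) (Sum.inr z) = 0
      · simp [Sys.jac, t1, t2, t3]
      · rcases term _ _ _ t1 with hz | ⟨hN, hu⟩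
        · subst hz
          apply P.jac_of_J
          rw [← P.rev_eq hn']
          exact h3 y.val (hlt y)
        · have hN' : P.N y.val z.val ≠ 0 := hN
          obtain ⟨r1, r2⟩ := (Φ).rot z y ((Φ).N_ne_comm hN)
          rw [(Φ).S_comm y z hN] at r1 r2
          have r1' : P.N ((Φ).S y z).val y.rev.val ≠ 0 := r1
          have hS : (((Φ).S ((Φ).S y z) y.rev)).val = P.S ((Φ).S y z).val y.rev.val :=
            P.S_val (hd := hd) (ht := ht) r1'
          rw [r2] at hS
          have h4' := h4 ((Φ).S y z).val (hlt _)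
          have hcond : (Nat.beq ((Φ).S y z).val (P.rev q.val) ||
              P.nz q.val ((Φ).S y z).val) = true := by
            rw [Bool.or_eq_true]
            rcases hu with hu | hu
            · left; rw [hu, P.rev_eq hn']; exact Nat.beq_refl _
            · right; exact P.nz_iff.mpr hu
          rw [hcond, cond_true, allN_iff] at h4'
          have h4'' := h4' y.rev.val (hlt _)
          rw [P.nz_iff.mpr r1', cond_true, ← hS, P.rev_eq hn', Fin.rev_rev,
            Bool.or_eq_true] at h4''
          rcases h4'' with h | h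
          exacts [cov _ _ h, cov' _ _ h]
    · refine cov' y z (mk z y fun e => t2 ?_)
      rw [(Φ).br_anti, Matrix.mulVec_neg, e, neg_zero]
  · exact cov y z (mk y z t3)

end Pack

end CfsgLib.Chev
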