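/-
Every basis vector acts as a derivation: propagation of the Jacobi identity from the fundamental root vectors.
-/
import Cfsg.Agent.Lib.Chev.Jacobi

namespace CfsgLib.Chev

open Cfsg.Lie Matrix

/-- Tables satisfying the axioms and the Jacobi identity with a fundamental root vector. -/
structure Alg (D : ChevalleyDatum) extends Sys D where
  jac_p : ∀ i y z, toSys.jac (Sum.inr (toSys.p i)) y z = 0

variable {D : ChevalleyDatum}

/-- The permutation `e_r ↦ e_{-r}` of the basis. -/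
def flipIdx : D.Idx → D.Idx := Sum.map id Fin.rev

theorem flipIdx_flipIdx (x : D.Idx) : flipIdx (flipIdx x) = x := by
  rcases x with i | r <;> simp [flipIdx]

/-- `flipIdx` as an equivalence. -/
def flipEquiv : D.Idx ≃ D.Idx := ⟨flipIdx, flipIdx, flipIdx_flipIdx, flipIdx_flipIdx⟩

theorem Sys.br_flip (Φ : Sys D) (a b x : D.Idx) :
    Φ.br (flipIdx a) (flipIdx b) (flipIdx x) = -Φ.br a b x := by
  rcases a with i | r <;> rcases b with j | s
  · simp [flipIdx, Φ.br_hh]
  · rcases x with k | u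
    · simp [flipIdx, Φ.br_he]
    · simp only [flipIdx, Sum.map_inl, Sum.map_inr, id, Φ.br_he, Pi.smul_apply, smul_eq_mul]
      by_cases h : u = s <;> simp [h, Φ.A_neg]
  · rcases x with k | u
    · simp [flipIdx, Φ.br_eh]
    · simp only [flipIdx, Sum.map_inl, Sum.map_inr, id, Φ.br_eh, Pi.smul_apply, smul_eq_mul]
      by_cases h : u = r <;> simp [h, Φ.A_neg]
  · simp only [flipIdx, Sum.map_inr]
    by_cases h : s = r.rev
    · subst h
      rw [Φ.br_ee_neg r.rev, Φ.br_ee_neg r]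
      rcases x with k | u <;>
        simp [Finset.sum_apply, Pi.single_apply, Φ.C_neg]
    · have h' : s.rev ≠ r.rev.rev := fun e => h (Fin.rev_injective e)
      rw [Φ.br_ee h, Φ.br_ee h', Φ.N_rev]
      by_cases hN : Φ.N r s = 0
      · simp [hN]
      · rw [Φ.S_rev r s hN]
        rcases x with k | u
        · simp
        · simp only [Sum.map_inr, Pi.smul_apply, smul_eq_mul]
          by_cases hu : u = Φ.S r s <;> simp [hu]

theorem Sys.term_flip (Φ : Sys D) (a b c x : D.Idx) :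
    (Φ.adB (flipIdx a) *ᵥ Φ.br (flipIdx b) (flipIdx c)) (flipIdx x) =
      (Φ.adB a *ᵥ Φ.br b c) x := by
  simp only [Matrix.mulVec, dotProduct]
  rw [← Equiv.sum_comp flipEquiv]
  refine Finset.sum_congr rfl fun y _ => ?_
  have h1 := Φ.br_flip a y x
  have h2 := Φ.br_flip b c y
  simp only [Sys.br] at h1
  show Φ.adB (flipIdx a) (flipIdx x) (flipIdx y) * Φ.br (flipIdx b) (flipIdx c) (flipIdx y) = _
  rw [h1, h2, neg_mul_neg]

namespace Alg

variable (Φ : Alg D)

theorem jac_p_rev (i : Fin D.rank) (y z : D.Idx) :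
    Φ.toSys.jac (Sum.inr (Φ.p i).rev) y z = 0 := by
  ext x
  have h := congrFun (Φ.jac_p i (flipIdx y) (flipIdx z)) (flipIdx x)
  have e : (Sum.inr (Φ.p i) : D.Idx) = flipIdx (Sum.inr (Φ.p i).rev) := by simp [flipIdx]
  rw [e] at h
  simpa [Sys.jac, Pi.add_apply, Φ.toSys.term_flip] using h

theorem isDer_root (r : Fin D.nroots) : Φ.toSys.IsDer (Pi.single (Sum.inr r) 1) := by
  induction hm : Φ.toTables.meas r using Nat.strong_induction_on generalizing r with
  | _ m ih =>
    subst hm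
    rcases Φ.gen r with ⟨i, rfl | rfl⟩ | ⟨i, h⟩
    · exact Φ.toSys.isDer_single (Φ.jac_p i)
    · exact Φ.toSys.isDer_single (Φ.jac_p_rev i)
    · suffices key : ∀ q : Fin D.nroots, Φ.toSys.IsDer (Pi.single (Sum.inr q) 1) → Φ.N r q.rev ≠ 0 →
          Φ.toTables.meas (Φ.S r q.rev) < Φ.toTables.meas r →
          Φ.toSys.IsDer (Pi.single (Sum.inr r) 1) by
        rcases h with ⟨_, h1, h2⟩ | ⟨_, h1, h2⟩
        · exact key (Φ.p i) (Φ.toSys.isDer_single (Φ.jac_p i)) h1 h2
        · exact key (Φ.p i).rev (Φ.toSys.isDer_single (Φ.jac_p_rev i)) (by simpa using h1)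
            (by simpa using h2)
      intro q hq hN hlt
      obtain ⟨r1, r2⟩ := Φ.rot r q.rev hN
      rw [Fin.rev_rev] at r1 r2
      have hb := Sys.IsDer.bracket Φ.toSys (ih _ hlt (Φ.S r q.rev) rfl) hq
      rw [Φ.toSys.adv_single, Φ.toSys.adB_mulVec_single] at hb
      have hne : q ≠ (Φ.S r q.rev).rev := by
        intro e
        apply r1
        have := Φ.N_neg (Φ.S r q.rev)
        rwa [← e] at this
      rw [Φ.toSys.br_ee hne, r2] at hb
      have h' := Sys.IsDer.smul Φ.toSys hb ((Φ.N (Φ.S r q.rev) q : ℚ))⁻¹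
      rwa [smul_smul, inv_mul_cancel₀ (by exact_mod_cast r1), one_smul] at h'

theorem isDer_cartan (i : Fin D.rank) : Φ.toSys.IsDer (Pi.single (Sum.inl i) 1) :=
  Φ.toSys.isDer_single fun b c => Φ.toSys.jac_inl i b c

theorem isDer (v : D.Idx → ℚ) : Φ.toSys.IsDer v := by
  have hv : v = ∑ b, v b • Pi.single b 1 := by
    ext x; simp [Finset.sum_apply, Pi.single_apply]
  rw [hv]
  refine Finset.sum_induction _ Φ.toSys.IsDer (fun a b => Sys.IsDer.add Φ.toSys)
    Φ.toSys.isDer_zero fun b _ => ?_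
  rcases b with i | r
  exacts [Sys.IsDer.smul Φ.toSys (Φ.isDer_cartan i) _, Sys.IsDer.smul Φ.toSys (Φ.isDer_root r) _]

theorem comm_adB (a b : D.Idx) :
    Φ.toSys.adB a * Φ.toSys.adB b - Φ.toSys.adB b * Φ.toSys.adB a =
      Φ.toSys.adv (Φ.toSys.br a b) := by
  have := Φ.isDer (Pi.single a 1) (Pi.single b 1)
  rwa [Φ.toSys.adv_single, Φ.toSys.adv_single, Φ.toSys.adB_mulVec_single] at this

/-- `e_r` and `e_s` commute when `r + s` is neither zero nor a root. -/
theorem commute_adB {r s : Fin D.nroots} (h : s ≠ r.rev) (hN : Φ.N r s = 0) :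
    Commute (Φ.toSys.adB (Sum.inr r)) (Φ.toSys.adB (Sum.inr s)) := by
  have := Φ.comm_adB (Sum.inr r) (Sum.inr s)
  rw [Φ.toSys.br_ee h, hN, Int.cast_zero, zero_smul, map_zero, sub_eq_zero] at this
  exact this

end Alg

end CfsgLib.Chev
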