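/-
`x_r(t) = exp (t ad e_r)` over `ℚ`; root elements are automorphisms of the Lie algebra, and the resulting
conjugation rules.
-/
import Cfsg.Agent.Lib.Chev.Der

namespace CfsgLib.Chev

open Cfsg.Lie Matrix

variable {D : ChevalleyDatum} (Φ : Sys D)

namespace Sys

theorem E_eq_zero (R : Type*) [CommRing R] {k : ℕ} (hk : 4 ≤ k) (r : Fin D.nroots) :
    Φ.E R k r = 0 := by
  have h0 : k ≠ 0 := by omega
  have h1 : k ≠ 1 := by omega
  have h2 : k ≠ 2 := by omega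
  ext row col
  rcases col with i | s <;> rcases row with j | u <;> simp [E, h0, h1, h2]
  intro _ _ _
  rw [Φ.ch_snd_eq_zero_of_le hk (Φ.ch_four_eq_zero r s), Int.cast_zero]

theorem E_col_inl (R : Type*) [CommRing R] {k : ℕ} (hk : k ≠ 0) (r : Fin D.nroots) (i : Fin D.rank) :
    Φ.E R k r *ᵥ Pi.single (Sum.inl i) 1 =
      if k = 1 then (-(Φ.A i r : R)) • Pi.single (Sum.inr r) 1 else 0 := by
  ext x
  rcases x with j | u
  · by_cases h1 : k = 1 <;> simp [E, hk, h1]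
  · by_cases h1 : k = 1 <;> by_cases hu : u = r <;> simp [E, h1, hu]

theorem E_col_self (R : Type*) [CommRing R] {k : ℕ} (hk : k ≠ 0) (r : Fin D.nroots) :
    Φ.E R k r *ᵥ Pi.single (Sum.inr r) 1 = 0 := by
  ext x
  rcases x with j | u <;> simp [E, hk]

theorem E_col_neg (R : Type*) [CommRing R] {k : ℕ} (hk : k ≠ 0) (r : Fin D.nroots) :
    Φ.E R k r *ᵥ Pi.single (Sum.inr r.rev) 1 =
      (if k = 1 then ∑ i, (Φ.C r i : R) • Pi.single (Sum.inl i) 1 else 0) +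
      (if k = 2 then -Pi.single (Sum.inr r) 1 else 0) := by
  ext x
  rcases x with j | u
  · by_cases h1 : k = 1
    · simp [E, Φ.rev_ne r, h1, Finset.sum_apply, Pi.single_apply]
    · by_cases h2 : k = 2 <;> simp [E, Φ.rev_ne r, h1, h2]
  · by_cases h2 : k = 2
    · by_cases hu : u = r <;> simp [E, Φ.rev_ne r, h2, hu]
    · by_cases h1 : k = 1 <;>
        simp [E, Φ.rev_ne r, hk, h1, h2, Finset.sum_apply, Pi.single_apply]

theorem E_col (R : Type*) [CommRing R] (k : ℕ) {r s : Fin D.nroots} (h1 : s ≠ r) (h2 : s ≠ r.rev) :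
    Φ.E R k r *ᵥ Pi.single (Sum.inr s) 1 =
      ((Φ.toTables.ch r s k).2 : R) • Pi.single (Sum.inr (Φ.toTables.ch r s k).1) 1 := by
  ext x
  rcases x with j | u
  · simp [E, h1, h2]
  · by_cases hu : (Φ.toTables.ch r s k).1 = u
    · subst hu; simp [E, h1, h2]
    · simp [E, h1, h2, hu, Ne.symm hu]

theorem ch_step {r s : Fin D.nroots} (hs : s ≠ r.rev) (k : ℕ) :
    (((k + 1 : ℕ) : ℤ) * (Φ.toTables.ch r s (k + 1)).2 =
      (Φ.toTables.ch r s k).2 * Φ.N r (Φ.toTables.ch r s k).1) ∧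
    ((Φ.toTables.ch r s k).2 ≠ 0 → (Φ.toTables.ch r s k).1 ≠ r.rev) := by
  rcases Nat.eq_zero_or_pos k with rfl | hk
  · exact ⟨by simp [Tables.ch], fun _ => hs⟩
  · by_cases hM : (Φ.toTables.ch r s k).2 = 0
    · simp [hM, Φ.ch_snd_succ_eq_zero hM]
    · have hN := Φ.N_ne_of_ch hk hM
      have hk4 : k < 4 := by
        by_contra h
        exact hM (Φ.ch_snd_eq_zero_of_le (by omega) (Φ.ch_four_eq_zero r s))
      refine ⟨?_, fun _ => (Φ.ch_ne r s hN k hk4 hM).2⟩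
      show _ * ((Φ.toTables.ch r s k).2 * Φ.N r (Φ.toTables.ch r s k).1 / ((k + 1 : ℕ) : ℤ)) = _
      exact Int.mul_ediv_cancel' (Φ.ch_dvd r s hN k hk4)

theorem adB_root (r : Fin D.nroots) : Φ.adB (Sum.inr r) = Φ.E ℚ 1 r := rfl

theorem adB_mul_E (k : ℕ) (r : Fin D.nroots) :
    Φ.adB (Sum.inr r) * Φ.E ℚ k r = ((k + 1 : ℕ) : ℚ) • Φ.E ℚ (k + 1) r := by
  rcases Nat.eq_zero_or_pos k with rfl | hk
  · simp [Φ.E_zero, Φ.adB_root]
  have hk0 : k ≠ 0 := by omega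
  refine Matrix.ext_of_mulVec_single fun c => ?_
  rw [← Matrix.mulVec_mulVec, Matrix.smul_mulVec]
  rcases c with i | s
  · rw [Φ.E_col_inl ℚ hk0, Φ.E_col_inl ℚ (Nat.succ_ne_zero k), if_neg (by omega : ¬ k + 1 = 1)]
    by_cases h1 : k = 1
    · rw [if_pos h1, Matrix.mulVec_smul, Φ.adB_mulVec_single, Φ.br_ee (Φ.ne_rev r), Φ.N_self]
      simp
    · rw [if_neg h1]; simp
  · by_cases hsr : s = r
    · subst hsr
      rw [Φ.E_col_self ℚ hk0, Φ.E_col_self ℚ (Nat.succ_ne_zero k)]; simp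
    by_cases hsn : s = r.rev
    · subst hsn
      rw [Φ.E_col_neg ℚ hk0, Φ.E_col_neg ℚ (Nat.succ_ne_zero k), if_neg (by omega : ¬ k + 1 = 1)]
      by_cases h1 : k = 1
      · subst h1
        simp only [if_pos, show (1 + 1 : ℕ) = 2 from rfl, show ¬ (1 = 2) by norm_num, if_false,
          add_zero, zero_add, Matrix.mulVec_sum, Matrix.mulVec_smul, Φ.adB_mulVec_single,
          Φ.br_eh, smul_smul, ← Finset.sum_smul, mul_neg, Finset.sum_neg_distrib]
        have := congrArg (fun z : ℤ => (z : ℚ)) (Φ.pair_self r)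
        simp only [Int.cast_sum, Int.cast_mul, Int.cast_ofNat] at this
        rw [this]
        simp [smul_neg]
      · rw [if_neg h1, if_neg (by omega : ¬ k + 1 = 2)]
        by_cases h2 : k = 2
        · simp [h2, Matrix.mulVec_neg, Φ.adB_mulVec_single, Φ.br_ee (Φ.ne_rev r), Φ.N_self,
            Matrix.mulVec_add]
        · simp [h2]
    rw [Φ.E_col ℚ k hsr hsn, Φ.E_col ℚ (k + 1) hsr hsn, Matrix.mulVec_smul, Φ.adB_mulVec_single]
    obtain ⟨h3, h4⟩ := Φ.ch_step hsn k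
    by_cases hM : (Φ.toTables.ch r s k).2 = 0
    · simp [hM, Φ.ch_snd_succ_eq_zero hM]
    · rw [Φ.br_ee (h4 hM), smul_smul, smul_smul, ← Int.cast_mul, ← h3, Int.cast_mul,
        Int.cast_natCast]
      rfl

theorem adB_pow (k : ℕ) (r : Fin D.nroots) :
    Φ.adB (Sum.inr r) ^ k = (k.factorial : ℚ) • Φ.E ℚ k r := by
  induction k with
  | zero => simp [Φ.E_zero]
  | succ k ih =>
    rw [pow_succ', ih, Matrix.mul_smul, Φ.adB_mul_E, smul_smul]
    congr 1
    rw [Nat.factorial_succ]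
    push_cast
    ring

theorem adB_pow_four (r : Fin D.nroots) : Φ.adB (Sum.inr r) ^ 4 = 0 := by
  rw [Φ.adB_pow, Φ.E_eq_zero ℚ le_rfl, smul_zero]

theorem smul_adB_pow_four (r : Fin D.nroots) (t : ℚ) : (t • Φ.adB (Sum.inr r)) ^ 4 = 0 := by
  rw [smul_pow, Φ.adB_pow_four, smul_zero]

theorem isNilpotent_adB (r : Fin D.nroots) (t : ℚ) : IsNilpotent (t • Φ.adB (Sum.inr r)) :=
  ⟨4, Φ.smul_adB_pow_four r t⟩

theorem X_eq_exp (r : Fin D.nroots) (t : ℚ) :
    Φ.X ℚ r t = IsNilpotent.exp (t • Φ.adB (Sum.inr r)) := by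
  rw [IsNilpotent.exp_eq_sum (Φ.smul_adB_pow_four r t), X]
  refine Finset.sum_congr rfl fun k _ => ?_
  rw [smul_pow, Φ.adB_pow, smul_smul, smul_smul]
  congr 1
  field_simp

/-- `g` is an automorphism of the Lie algebra. -/
def IsAut (g : Matrix D.Idx D.Idx ℚ) : Prop := ∀ v, Φ.adv (g *ᵥ v) * g = g * Φ.adv v

theorem IsAut.mul {g h : Matrix D.Idx D.Idx ℚ} (hg : Φ.IsAut g) (hh : Φ.IsAut h) :
    Φ.IsAut (g * h) := by
  intro v
  rw [← Matrix.mulVec_mulVec, ← mul_assoc, hg, mul_assoc, hh, ← mul_assoc]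

/-- Conjugating an exponential by an automorphism. -/
theorem IsAut.semiconj_exp {g h : Matrix D.Idx D.Idx ℚ} (hg : Φ.IsAut g) (hgh : g * h = 1)
    (r : Fin D.nroots) (t : ℚ) :
    g * Φ.X ℚ r t = IsNilpotent.exp (t • Φ.adv (g *ᵥ Pi.single (Sum.inr r) 1)) * g := by
  have hs : g * (t • Φ.adB (Sum.inr r)) = (t • Φ.adv (g *ᵥ Pi.single (Sum.inr r) 1)) * g := by
    rw [Matrix.smul_mul, hg, Φ.adv_single, Matrix.mul_smul]
  generalize t • Φ.adv (g *ᵥ Pi.single (Sum.inr r) 1) = B at hs ⊢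
  have hp : ∀ k, g * (t • Φ.adB (Sum.inr r)) ^ k = B ^ k * g := fun k =>
    (SemiconjBy.pow_right (hs : SemiconjBy g _ _) k)
  have hB : B ^ 4 = 0 := by
    calc B ^ 4 = B ^ 4 * (g * h) := by rw [hgh, mul_one]
      _ = g * (t • Φ.adB (Sum.inr r)) ^ 4 * h := by rw [hp, mul_assoc]
      _ = 0 := by rw [Φ.smul_adB_pow_four, mul_zero, zero_mul]
  rw [Φ.X_eq_exp, IsNilpotent.exp_eq_sum (Φ.smul_adB_pow_four r t), IsNilpotent.exp_eq_sum hB,
    Finset.mul_sum, Finset.sum_mul]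
  refine Finset.sum_congr rfl fun k _ => ?_
  rw [Matrix.mul_smul, hp, Matrix.smul_mul]

end Sys

namespace Alg

variable (Ψ : Alg D)

theorem X_isAut (r : Fin D.nroots) (t : ℚ) : Ψ.toSys.IsAut (Ψ.toSys.X ℚ r t) := by
  intro v
  rw [Ψ.toSys.X_eq_exp]
  generalize hA : t • Ψ.toSys.adB (Sum.inr r) = a
  have ha4 : a ^ 4 = 0 := hA ▸ Ψ.toSys.smul_adB_pow_four r t
  have hder : ∀ w, Ψ.toSys.adv (a *ᵥ w) = a * Ψ.toSys.adv w - Ψ.toSys.adv w * a := by
    intro w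
    have h := Ψ.isDer_root r w
    rw [Ψ.toSys.adv_single] at h
    rw [← hA, Matrix.smul_mulVec, map_smul, ← h, Matrix.smul_mul, Matrix.mul_smul, smul_sub]
  -- the operator `M ↦ a M - M a` and its exponential
  let L : Module.End ℚ (Matrix D.Idx D.Idx ℚ) := LinearMap.mulLeft ℚ a
  let R : Module.End ℚ (Matrix D.Idx D.Idx ℚ) := LinearMap.mulRight ℚ (-a)
  have hL : L ^ 4 = 0 := by
    show LinearMap.mulLeft ℚ a ^ 4 = 0
    rw [LinearMap.pow_mulLeft, ha4, LinearMap.mulLeft_zero_eq_zero]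
  have hna4 : (-a) ^ 4 = 0 := by rw [Even.neg_pow ⟨2, rfl⟩, ha4]
  have hR : R ^ 4 = 0 := by
    show LinearMap.mulRight ℚ (-a) ^ 4 = 0
    rw [LinearMap.pow_mulRight, hna4, LinearMap.mulRight_zero_eq_zero]
  have hLR : Commute L R := LinearMap.commute_mulLeft_right a (-a)
  have h8 : (L + R) ^ 8 = 0 :=
    hLR.add_pow_eq_zero_of_add_le_succ_of_pow_eq_zero hL hR (by norm_num)
  have hpow : ∀ (k : ℕ) (w : D.Idx → ℚ),
      Ψ.toSys.adv ((a ^ k) *ᵥ w) = ((L + R) ^ k) (Ψ.toSys.adv w) := by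
    intro k
    induction k with
    | zero => intro w; simp
    | succ k ih =>
      intro w
      rw [pow_succ' a k, ← Matrix.mulVec_mulVec, hder, ih, pow_succ', Module.End.mul_apply,
        sub_eq_add_neg, ← mul_neg]
      rfl
  have key : Ψ.toSys.adv (IsNilpotent.exp a *ᵥ v) = IsNilpotent.exp (L + R) (Ψ.toSys.adv v) := by
    rw [IsNilpotent.exp_eq_sum (pow_eq_zero_of_le (by norm_num : 4 ≤ 8) ha4),
      IsNilpotent.exp_eq_sum h8, Matrix.sum_mulVec, map_sum, LinearMap.sum_apply]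
    refine Finset.sum_congr rfl fun k _ => ?_
    rw [Matrix.smul_mulVec, map_smul, hpow, LinearMap.smul_apply]
  have eL : IsNilpotent.exp L = LinearMap.mulLeft ℚ (IsNilpotent.exp a) := by
    rw [IsNilpotent.exp_eq_sum hL, IsNilpotent.exp_eq_sum ha4]
    refine LinearMap.ext fun M => ?_
    simp only [LinearMap.sum_apply, LinearMap.smul_apply, LinearMap.mulLeft_apply, Finset.sum_mul,
      smul_mul_assoc]
    exact Finset.sum_congr rfl fun k _ => by
      show (k.factorial : ℚ)⁻¹ • ((LinearMap.mulLeft ℚ a ^ k) M) = _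
      rw [LinearMap.pow_mulLeft]; rfl
  have eR : IsNilpotent.exp R = LinearMap.mulRight ℚ (IsNilpotent.exp (-a)) := by
    rw [IsNilpotent.exp_eq_sum hR, IsNilpotent.exp_eq_sum hna4]
    refine LinearMap.ext fun M => ?_
    simp only [LinearMap.sum_apply, LinearMap.smul_apply, LinearMap.mulRight_apply, Finset.mul_sum,
      mul_smul_comm]
    exact Finset.sum_congr rfl fun k _ => by
      show (k.factorial : ℚ)⁻¹ • ((LinearMap.mulRight ℚ (-a) ^ k) M) = _
      rw [LinearMap.pow_mulRight]; rfl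
  rw [key, IsNilpotent.exp_add_of_commute hLR ⟨4, hL⟩ ⟨4, hR⟩, Module.End.mul_apply, eL, eR,
    LinearMap.mulLeft_apply, LinearMap.mulRight_apply, mul_assoc, mul_assoc,
    IsNilpotent.exp_neg_mul_exp_self ⟨4, ha4⟩, mul_one]

end Alg

end CfsgLib.Chev
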