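/-
Relations between root elements over an arbitrary commutative ring, obtained from the rationals by
polynomial identity.
-/
import Cfsg.Agent.Lib.Chev.Exp

namespace CfsgLib.Chev

open Cfsg.Lie Matrix

/-- A matrix of integer polynomials is determined by its values at all rational points. -/
theorem eq_of_forall_rat {I σ : Type*} {L M : Matrix I I (MvPolynomial σ ℤ)}
    (h : ∀ v : σ → ℚ, L.map (MvPolynomial.aeval v).toRingHom = M.map (MvPolynomial.aeval v).toRingHom) :
    L = M := by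
  refine Matrix.ext fun i j => ?_
  apply MvPolynomial.map_injective (Int.castRingHom ℚ) (RingHom.injective_int _)
  refine MvPolynomial.funext fun v => ?_
  have := congrFun (congrFun (h v) i) j
  simpa [Matrix.map_apply, MvPolynomial.eval_map, MvPolynomial.aeval_def] using this

variable {D : ChevalleyDatum}

namespace Alg

variable (Φ : Alg D) {R : Type*} [CommRing R]

theorem X_zero_eq_one (r : Fin D.nroots) : Φ.toSys.X R r 0 = 1 := by
  rw [Φ.toSys.X_zero, Φ.toSys.E_zero]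

theorem X_add (r : Fin D.nroots) (a b : R) :
    Φ.toSys.X R r a * Φ.toSys.X R r b = Φ.toSys.X R r (a + b) := by
  have key : Φ.toSys.X (MvPolynomial (Fin 2) ℤ) r (MvPolynomial.X 0) *
      Φ.toSys.X (MvPolynomial (Fin 2) ℤ) r (MvPolynomial.X 1) =
        Φ.toSys.X (MvPolynomial (Fin 2) ℤ) r (MvPolynomial.X 0 + MvPolynomial.X 1) := by
    refine eq_of_forall_rat fun v => ?_
    simp only [Matrix.map_mul, Φ.toSys.X_map, map_add]
    simp only [AlgHom.toRingHom_eq_coe, RingHom.coe_coe, MvPolynomial.aeval_X]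
    rw [Φ.toSys.X_eq_exp, Φ.toSys.X_eq_exp, Φ.toSys.X_eq_exp, add_smul,
      IsNilpotent.exp_add_of_commute ((Commute.refl _).smul_left _ |>.smul_right _)
        (Φ.toSys.isNilpotent_adB r _) (Φ.toSys.isNilpotent_adB r _)]
  have := congrArg (fun M => M.map (MvPolynomial.aeval ![a, b]).toRingHom) key
  simpa [Matrix.map_mul, Φ.toSys.X_map] using this

theorem X_mul_X_neg (r : Fin D.nroots) (a : R) : Φ.toSys.X R r a * Φ.toSys.X R r (-a) = 1 := by
  rw [Φ.X_add, add_neg_cancel, Φ.X_zero_eq_one]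

theorem X_neg_mul_X (r : Fin D.nroots) (a : R) : Φ.toSys.X R r (-a) * Φ.toSys.X R r a = 1 := by
  rw [Φ.X_add, neg_add_cancel, Φ.X_zero_eq_one]

theorem X_commute {r s : Fin D.nroots} (h : s ≠ r.rev) (hN : Φ.N r s = 0) (a b : R) :
    Commute (Φ.toSys.X R r a) (Φ.toSys.X R s b) := by
  have key : Φ.toSys.X (MvPolynomial (Fin 2) ℤ) r (MvPolynomial.X 0) *
      Φ.toSys.X (MvPolynomial (Fin 2) ℤ) s (MvPolynomial.X 1) =
        Φ.toSys.X (MvPolynomial (Fin 2) ℤ) s (MvPolynomial.X 1) *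
          Φ.toSys.X (MvPolynomial (Fin 2) ℤ) r (MvPolynomial.X 0) := by
    refine eq_of_forall_rat fun v => ?_
    simp only [Matrix.map_mul, Φ.toSys.X_map]
    simp only [AlgHom.toRingHom_eq_coe, RingHom.coe_coe, MvPolynomial.aeval_X]
    have hcm : Commute (v 0 • Φ.toSys.adB (Sum.inr r)) (v 1 • Φ.toSys.adB (Sum.inr s)) :=
      ((Φ.commute_adB h hN).smul_left _).smul_right _
    rw [Φ.toSys.X_eq_exp, Φ.toSys.X_eq_exp,
      ← IsNilpotent.exp_add_of_commute hcm (Φ.toSys.isNilpotent_adB r _) (Φ.toSys.isNilpotent_adB s _),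
      ← IsNilpotent.exp_add_of_commute hcm.symm (Φ.toSys.isNilpotent_adB s _)
        (Φ.toSys.isNilpotent_adB r _), add_comm]
  have := congrArg (fun M => M.map (MvPolynomial.aeval ![a, b]).toRingHom) key
  simpa [Commute, SemiconjBy, Matrix.map_mul, Φ.toSys.X_map] using this

/-- The product of the root elements of the `s`-chain through `r`, first term excluded. -/
def chainProd (R : Type*) [CommRing R] (s r : Fin D.nroots) (t u : R) : Matrix D.Idx D.Idx R :=
  Φ.toSys.X R (Φ.toTables.ch s r 1).1 (t * u ^ 1 * ((Φ.toTables.ch s r 1).2 : R)) *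
  Φ.toSys.X R (Φ.toTables.ch s r 2).1 (t * u ^ 2 * ((Φ.toTables.ch s r 2).2 : R)) *
  Φ.toSys.X R (Φ.toTables.ch s r 3).1 (t * u ^ 3 * ((Φ.toTables.ch s r 3).2 : R))

/-- All the root vectors in the `s`-chain through `r` commute pairwise. -/
def ChainComm (s r : Fin D.nroots) : Prop :=
  ∀ j < 4, ∀ i < j, (Φ.toTables.ch s r j).2 ≠ 0 →
    (Φ.toTables.ch s r j).1 ≠ (Φ.toTables.ch s r i).1.rev ∧
      Φ.N (Φ.toTables.ch s r i).1 (Φ.toTables.ch s r j).1 = 0

theorem X_conj_rat {s r : Fin D.nroots} (h1 : r ≠ s) (h2 : r ≠ s.rev) (hc : Φ.ChainComm s r)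
    (t u : ℚ) :
    Φ.toSys.X ℚ s u * Φ.toSys.X ℚ r t =
      Φ.toSys.X ℚ r t * Φ.chainProd ℚ s r t u * Φ.toSys.X ℚ s u := by
  rw [Sys.IsAut.semiconj_exp Φ.toSys (Φ.X_isAut s u) (Φ.X_mul_X_neg s u) r t]
  congr 1
  set c : ℕ → ℚ := fun k => t * u ^ k * ((Φ.toTables.ch s r k).2 : ℚ) with hcdef
  set w : ℕ → Matrix D.Idx D.Idx ℚ := fun k =>
    c k • Φ.toSys.adB (Sum.inr (Φ.toTables.ch s r k).1) with hwdef
  have hsum : t • Φ.toSys.adv (Φ.toSys.X ℚ s u *ᵥ Pi.single (Sum.inr r) 1) =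
      w 0 + w 1 + w 2 + w 3 := by
    simp only [Sys.X, Finset.sum_range_succ, Finset.sum_range_zero, zero_add, Matrix.add_mulVec,
      Matrix.smul_mulVec, Φ.toSys.E_col ℚ _ h1 h2, map_add, map_smul, Φ.toSys.adv_single, smul_add,
      smul_smul, mul_assoc, hwdef, hcdef]
  have hw : ∀ j < 4, ∀ i < j, Commute (w i) (w j) := by
    intro j hj i hi
    by_cases hM : (Φ.toTables.ch s r j).2 = 0
    · simp [hwdef, hcdef, hM]
    · obtain ⟨ha, hb⟩ := hc j hj i hi hM
      exact ((Φ.commute_adB ha hb).smul_left _).smul_right _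
  have hn : ∀ k, IsNilpotent (w k) := fun k => Φ.toSys.isNilpotent_adB _ _
  have c01 := hw 1 (by norm_num) 0 (by norm_num)
  have c02 := hw 2 (by norm_num) 0 (by norm_num)
  have c12 := hw 2 (by norm_num) 1 (by norm_num)
  have c03 := hw 3 (by norm_num) 0 (by norm_num)
  have c13 := hw 3 (by norm_num) 1 (by norm_num)
  have c23 := hw 3 (by norm_num) 2 (by norm_num)
  have n01 := c01.isNilpotent_add (hn 0) (hn 1)
  have n012 := (c02.add_left c12).isNilpotent_add n01 (hn 2)
  rw [hsum, IsNilpotent.exp_add_of_commute ((c03.add_left c13).add_left c23) n012 (hn 3),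
    IsNilpotent.exp_add_of_commute (c02.add_left c12) n01 (hn 2),
    IsNilpotent.exp_add_of_commute c01 (hn 0) (hn 1)]
  simp only [chainProd, Φ.toSys.X_eq_exp, hwdef, hcdef]
  have e0 : Φ.toTables.ch s r 0 = (r, 1) := rfl
  simp only [e0, pow_zero, Int.cast_one, mul_one, mul_assoc]

/-- The conjugate of `x_r(t)` by `x_s(u)` when the root vectors of the chain commute. -/
theorem X_conj {s r : Fin D.nroots} (h1 : r ≠ s) (h2 : r ≠ s.rev) (hc : Φ.ChainComm s r)
    (t u : R) :
    Φ.toSys.X R s u * Φ.toSys.X R r t =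
      Φ.toSys.X R r t * Φ.chainProd R s r t u * Φ.toSys.X R s u := by
  have key : Φ.toSys.X (MvPolynomial (Fin 2) ℤ) s (MvPolynomial.X 1) *
      Φ.toSys.X (MvPolynomial (Fin 2) ℤ) r (MvPolynomial.X 0) =
      Φ.toSys.X (MvPolynomial (Fin 2) ℤ) r (MvPolynomial.X 0) *
        Φ.chainProd (MvPolynomial (Fin 2) ℤ) s r (MvPolynomial.X 0) (MvPolynomial.X 1) *
        Φ.toSys.X (MvPolynomial (Fin 2) ℤ) s (MvPolynomial.X 1) := by
    refine eq_of_forall_rat fun v => ?_
    have := Φ.X_conj_rat h1 h2 hc (v 0) (v 1)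
    simpa [chainProd, Matrix.map_mul, Φ.toSys.X_map] using this
  have := congrArg (fun M => M.map (MvPolynomial.aeval ![t, u]).toRingHom) key
  simpa [chainProd, Matrix.map_mul, Φ.toSys.X_map] using this

/-- The commutator formula when the chain of `r` under `s` commutes. -/
theorem comm_direct {s r : Fin D.nroots} (h1 : r ≠ s) (h2 : r ≠ s.rev) (hc : Φ.ChainComm s r)
    (t u : R) :
    Φ.toSys.X R s u * Φ.toSys.X R r t =
      Φ.toSys.X R r t * Φ.toSys.X R s u * Φ.chainProd R s r (-t) (-u) := by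
  have h := Φ.X_conj h1 h2 hc (-t) (-u)
  -- `x_s(-u) x_r(-t) = x_r(-t) P x_s(-u)`
  calc Φ.toSys.X R s u * Φ.toSys.X R r t
      = Φ.toSys.X R r t * Φ.toSys.X R s u *
          ((Φ.toSys.X R s (-u) * Φ.toSys.X R r (-t)) * Φ.toSys.X R s u) * Φ.toSys.X R r t := by
        rw [show Φ.toSys.X R r t * Φ.toSys.X R s u *
          ((Φ.toSys.X R s (-u) * Φ.toSys.X R r (-t)) * Φ.toSys.X R s u) * Φ.toSys.X R r t =
          Φ.toSys.X R r t * (Φ.toSys.X R s u * Φ.toSys.X R s (-u)) * Φ.toSys.X R r (-t) *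
            (Φ.toSys.X R s u * Φ.toSys.X R r t) by simp only [mul_assoc],
          Φ.X_mul_X_neg, mul_one, Φ.X_mul_X_neg, one_mul]
    _ = Φ.toSys.X R r t * Φ.toSys.X R s u *
          (Φ.toSys.X R r (-t) * Φ.chainProd R s r (-t) (-u) * Φ.toSys.X R r t) := by
        rw [h]
        simp only [mul_assoc]
        rw [← mul_assoc (Φ.toSys.X R s (-u)) (Φ.toSys.X R s u), Φ.X_neg_mul_X, one_mul]
    _ = _ := by
        congr 1
        -- `x_r` commutes with the chain product
        have hcm : ∀ k, 1 ≤ k → k < 4 → Commute (Φ.toSys.X R r (-t))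
            (Φ.toSys.X R (Φ.toTables.ch s r k).1 (-t * (-u) ^ k * ((Φ.toTables.ch s r k).2 : R))) := by
          intro k hk1 hk4
          by_cases hM : (Φ.toTables.ch s r k).2 = 0
          · simp [hM, Φ.X_zero_eq_one]
          · obtain ⟨ha, hb⟩ := hc k hk4 0 hk1 hM
            exact Φ.X_commute ha hb _ _
        have hP : Commute (Φ.toSys.X R r (-t)) (Φ.chainProd R s r (-t) (-u)) :=
          ((hcm 1 le_rfl (by norm_num)).mul_right (hcm 2 (by norm_num) (by norm_num))).mul_right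
            (hcm 3 (by norm_num) (by norm_num))
        rw [hP.eq, mul_assoc, Φ.X_neg_mul_X, mul_one]

/-- The commutator formula when the chain of `s` under `r` commutes. -/
theorem comm_swap {s r : Fin D.nroots} (h1 : s ≠ r) (h2 : s ≠ r.rev) (hc : Φ.ChainComm r s)
    (t u : R) :
    Φ.toSys.X R s u * Φ.toSys.X R r t =
      Φ.toSys.X R r t * Φ.toSys.X R s u * Φ.chainProd R r s u (-t) := by
  have h := Φ.X_conj h1 h2 hc u (-t)
  calc Φ.toSys.X R s u * Φ.toSys.X R r t
      = Φ.toSys.X R r t * (Φ.toSys.X R r (-t) * Φ.toSys.X R s u) * Φ.toSys.X R r t := by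
        rw [← mul_assoc, Φ.X_mul_X_neg, one_mul]
    _ = _ := by
        rw [h]
        simp only [mul_assoc]
        rw [Φ.X_neg_mul_X, mul_one]

end Alg

end CfsgLib.Chev
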