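/-
The Chevalley group over a field as generated by the units `xg r t`.
-/
import Cfsg.Agent.Lib.Chev.Rel

namespace CfsgLib.Chev

open Cfsg.Lie Matrix

variable {D : ChevalleyDatum} (Φ : Alg D) {F : Type*} [Field F]

namespace Alg

/-- The root element `x_r(t)` as a unit. -/
def xg (r : Fin D.nroots) (t : F) : GL D.Idx F :=
  ⟨Φ.toSys.X F r t, Φ.toSys.X F r (-t), Φ.X_mul_X_neg r t, Φ.X_neg_mul_X r t⟩

@[simp]
theorem xg_val (r : Fin D.nroots) (t : F) : (Φ.xg r t : Matrix D.Idx D.Idx F) = Φ.toSys.X F r t := rfl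

theorem x_val (r : Fin D.nroots) (t : F) : D.x F r.val t = (Φ.xg r t : Matrix D.Idx D.Idx F) :=
  Φ.toSys.x_eq F r t

theorem x_val' {r : ℕ} (hr : r < D.nroots) (t : F) :
    D.x F r t = (Φ.xg ⟨r, hr⟩ t : Matrix D.Idx D.Idx F) :=
  Φ.toSys.x_eq F ⟨r, hr⟩ t

theorem eq_xg_iff {r : Fin D.nroots} {t : F} {g : GL D.Idx F} :
    (g : Matrix D.Idx D.Idx F) = D.x F r.val t ↔ g = Φ.xg r t := by
  rw [Φ.x_val, Units.val_inj]

theorem xg_add (r : Fin D.nroots) (a b : F) : Φ.xg r (a + b) = Φ.xg r a * Φ.xg r b :=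
  Units.ext (Φ.X_add r a b).symm

@[simp]
theorem xg_zero (r : Fin D.nroots) : Φ.xg r (0 : F) = 1 := Units.ext (Φ.X_zero_eq_one r)

theorem xg_inv (r : Fin D.nroots) (t : F) : (Φ.xg r t)⁻¹ = Φ.xg r (-t) := Units.ext rfl

theorem xg_neg (r : Fin D.nroots) (t : F) : Φ.xg r (-t) = (Φ.xg r t)⁻¹ := Units.ext rfl

theorem xg_commute {r s : Fin D.nroots} (h : s ≠ r.rev) (hN : Φ.N r s = 0) (a b : F) :
    Commute (Φ.xg r a) (Φ.xg s b) :=
  Units.ext (Φ.X_commute h hN a b).eq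

theorem X_apply_neg_root (r : Fin D.nroots) (t : F) :
    Φ.toSys.X F r t (Sum.inr r) (Sum.inr r.rev) = -t ^ 2 := by
  simp [Sys.X, Sys.E, Finset.sum_range_succ, Φ.toSys.rev_ne r, Ne.symm (Φ.toSys.rev_ne r)]

theorem xg_eq_one_iff {r : Fin D.nroots} {t : F} : Φ.xg r t = 1 ↔ t = 0 := by
  refine ⟨fun h => ?_, fun h => by rw [h, Φ.xg_zero]⟩
  have h' := congrArg (fun g : GL D.Idx F => (g : Matrix D.Idx D.Idx F) (Sum.inr r) (Sum.inr r.rev)) h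
  simp only [xg_val, Φ.X_apply_neg_root, Units.val_one] at h'
  rw [Matrix.one_apply_ne (by simpa using Ne.symm (Φ.toSys.rev_ne r))] at h'
  simpa using h'

theorem xg_injective (r : Fin D.nroots) : Function.Injective (Φ.xg (F := F) r) := by
  intro a b h
  have : Φ.xg r (a + -b) = 1 := by rw [Φ.xg_add, h, Φ.xg_neg, mul_inv_cancel]
  rwa [Φ.xg_eq_one_iff, ← sub_eq_add_neg, sub_eq_zero] at this

/-- `t ↦ x_r(t)` as a homomorphism. -/
def xHom (r : Fin D.nroots) : Multiplicative F →* GL D.Idx F where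
  toFun t := Φ.xg r t.toAdd
  map_one' := Φ.xg_zero r
  map_mul' a b := Φ.xg_add r a.toAdd b.toAdd

theorem rootSubgroup_eq (r : Fin D.nroots) : D.rootSubgroup F r.val = (Φ.xHom (F := F) r).range := by
  rw [ChevalleyDatum.rootSubgroup]
  refine le_antisymm ((Subgroup.closure_le _).mpr ?_) ?_
  · rintro g ⟨t, hg⟩
    exact ⟨Multiplicative.ofAdd t, (Φ.eq_xg_iff.mp hg).symm⟩
  · rintro g ⟨t, rfl⟩
    exact Subgroup.subset_closure ⟨t.toAdd, Φ.eq_xg_iff.mpr rfl⟩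

theorem mem_rootSubgroup {r : Fin D.nroots} {g : GL D.Idx F} :
    g ∈ D.rootSubgroup F r.val ↔ ∃ t, Φ.xg r t = g := by
  rw [Φ.rootSubgroup_eq]
  exact ⟨fun ⟨t, h⟩ => ⟨t.toAdd, h⟩, fun ⟨t, h⟩ => ⟨Multiplicative.ofAdd t, h⟩⟩

theorem group_eq :
    D.group F = Subgroup.closure {g : GL D.Idx F | ∃ r t, Φ.xg r t = g} := by
  rw [ChevalleyDatum.group]
  congr 1
  ext g
  constructor
  · rintro ⟨r, t, h⟩
    exact ⟨r, t, (Φ.eq_xg_iff.mp (by rw [h, ChevalleyDatum.x, dif_pos r.isLt])).symm⟩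
  · rintro ⟨r, t, rfl⟩
    exact ⟨r, t, by rw [Φ.xg_val, Φ.toSys.xMat_eq]⟩

theorem xg_mem_group (r : Fin D.nroots) (t : F) : Φ.xg r t ∈ D.group F := by
  rw [Φ.group_eq]; exact Subgroup.subset_closure ⟨r, t, rfl⟩

theorem posUnipotent_eq : D.posUnipotent F =
    Subgroup.closure {g : GL D.Idx F | ∃ r t, Φ.toTables.Pos r ∧ Φ.xg r t = g} := by
  rw [ChevalleyDatum.posUnipotent]
  congr 1
  ext g
  constructor
  · rintro ⟨r, t, hr, h⟩
    exact ⟨⟨r, hr.1⟩, t, (Φ.posRoot_iff ⟨r, hr.1⟩).mp hr, (Φ.eq_xg_iff (r := ⟨r, hr.1⟩).mp h).symm⟩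
  · rintro ⟨r, t, hr, rfl⟩
    exact ⟨r, t, (Φ.posRoot_iff r).mpr hr, Φ.eq_xg_iff.mpr rfl⟩

theorem negUnipotent_eq : D.negUnipotent F =
    Subgroup.closure {g : GL D.Idx F | ∃ r t, ¬ Φ.toTables.Pos r ∧ Φ.xg r t = g} := by
  rw [ChevalleyDatum.negUnipotent]
  congr 1
  ext g
  constructor
  · rintro ⟨r, t, hr, h⟩
    exact ⟨⟨r, hr.1⟩, t, not_le.mpr ((Φ.negRoot_iff ⟨r, hr.1⟩).mp hr),
      (Φ.eq_xg_iff (r := ⟨r, hr.1⟩).mp h).symm⟩
  · rintro ⟨r, t, hr, rfl⟩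
    exact ⟨r, t, (Φ.negRoot_iff r).mpr (not_le.mp hr), Φ.eq_xg_iff.mpr rfl⟩

include Φ in
theorem posUnipotent_sup_negUnipotent : D.posUnipotent F ⊔ D.negUnipotent F = D.group F := by
  rw [Φ.posUnipotent_eq, Φ.negUnipotent_eq, Φ.group_eq, ← Subgroup.closure_union]
  congr 1
  ext g
  constructor
  · rintro (⟨r, t, _, h⟩ | ⟨r, t, _, h⟩) <;> exact ⟨r, t, h⟩
  · rintro ⟨r, t, h⟩
    by_cases hr : Φ.toTables.Pos r
    exacts [Or.inl ⟨r, t, hr, h⟩, Or.inr ⟨r, t, hr, h⟩]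

theorem wordMat_cons (a : ℕ × F) (w : List (ℕ × F)) :
    D.wordMat F (a :: w) = D.x F a.1 a.2 * D.wordMat F w := by
  simp [ChevalleyDatum.wordMat]

end Alg

end CfsgLib.Chev
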