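/-
Diagonal automorphisms given by characters of the root lattice.
-/
import Cfsg.Agent.Lib.Chev.Group

namespace CfsgLib.Chev

open Cfsg.Lie Matrix

variable {D : ChevalleyDatum} (Φ : Sys D) {R : Type*} [CommRing R]

namespace Sys

/-- The value at the root `r` of the character with values `c` on the fundamental roots. -/
def chi (c : Fin D.rank → Rˣ) (r : Fin D.nroots) : Rˣ := ∏ i, c i ^ Φ.V r i

/-- The character extended to the basis, trivial on the Cartan subalgebra. -/
def chiIdx (c : Fin D.rank → Rˣ) : D.Idx → Rˣ := Sum.elim (fun _ => 1) (Φ.chi c)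

theorem chi_simple (c : Fin D.rank → Rˣ) (i : Fin D.rank) : Φ.chi c (Φ.p i) = c i := by
  rw [chi, Finset.prod_eq_single i]
  · rw [Φ.V_p, if_pos rfl, zpow_one]
  · intro j _ hj
    rw [Φ.V_p, if_neg (Ne.symm hj), zpow_zero]
  · simp

theorem chi_neg (c : Fin D.rank → Rˣ) (r : Fin D.nroots) : Φ.chi c r.rev = (Φ.chi c r)⁻¹ := by
  simp [chi, Φ.V_neg r, Finset.prod_inv_distrib]

theorem chi_add (c : Fin D.rank → Rˣ) {r s : Fin D.nroots} (h : Φ.N r s ≠ 0) :
    Φ.chi c (Φ.S r s) = Φ.chi c r * Φ.chi c s := by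
  simp [chi, Φ.V_add r s h, _root_.zpow_add, Finset.prod_mul_distrib]

theorem chi_mul (c d : Fin D.rank → Rˣ) (r : Fin D.nroots) :
    Φ.chi (c * d) r = Φ.chi c r * Φ.chi d r := by
  simp [chi, mul_zpow, Finset.prod_mul_distrib]

theorem chi_ch (c : Fin D.rank → Rˣ) (r s : Fin D.nroots) :
    ∀ k, (Φ.toTables.ch r s k).2 ≠ 0 →
      Φ.chi c (Φ.toTables.ch r s k).1 = Φ.chi c r ^ k * Φ.chi c s := by
  intro k
  induction k with
  | zero => intro _; simp [Tables.ch]
  | succ k ih =>
    intro h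
    have hk : (Φ.toTables.ch r s k).2 ≠ 0 := fun e => h (Φ.ch_snd_succ_eq_zero e)
    have hN : Φ.N r (Φ.toTables.ch r s k).1 ≠ 0 := fun e => h (by simp [Tables.ch, e])
    show Φ.chi c (Φ.S r (Φ.toTables.ch r s k).1) = _
    rw [Φ.chi_add c hN, ih hk, pow_succ', mul_assoc]

theorem chi_E (c : Fin D.rank → Rˣ) (k : ℕ) (r : Fin D.nroots) (x y : D.Idx)
    (h : Φ.E R k r x y ≠ 0) : Φ.chiIdx c x = Φ.chi c r ^ k * Φ.chiIdx c y := by
  rcases y with i | s
  · rcases x with j | u
    · have : k = 0 := by by_contra e; simp [E, e] at h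
      subst this; simp [chiIdx]
    · have : k = 1 ∧ u = r := by by_contra e; simp [E, e] at h
      simp [chiIdx, this.1, this.2]
  · by_cases hsr : s = r
    · rcases x with j | u
      · simp [E, hsr] at h
      · have : k = 0 ∧ u = r := by by_contra e; simp [E, hsr, e] at h
        simp [chiIdx, this.1, this.2, hsr]
    · by_cases hsn : s = r.rev
      · subst hsn
        rcases x with j | u
        · have : k = 1 := by by_contra e; simp [E, hsr, e] at h
          simp [chiIdx, this, Φ.chi_neg c r]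
        · by_cases h0 : k = 0 ∧ u = r.rev
          · simp [chiIdx, h0.1, h0.2]
          · have : k = 2 ∧ u = r := by by_contra e; simp [E, hsr, h0, e] at h
            simp [chiIdx, this.1, this.2, Φ.chi_neg c r, pow_two]
      · rcases x with j | u
        · simp [E, hsr, hsn] at h
        · simp only [E, Matrix.of_apply, if_neg hsr, if_neg hsn] at h
          split_ifs at h with hu
          · subst hu
            exact Φ.chi_ch c r s k fun e => h (by simp [e])
          · exact absurd rfl h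

/-- The diagonal matrix of a character. -/
def torusMat (c : Fin D.rank → Rˣ) : Matrix D.Idx D.Idx R :=
  Matrix.diagonal fun x => (Φ.chiIdx c x : R)

theorem torusMat_mul (c d : Fin D.rank → Rˣ) :
    Φ.torusMat c * Φ.torusMat d = Φ.torusMat (c * d) := by
  rw [torusMat, torusMat, Matrix.diagonal_mul_diagonal, torusMat]
  congr 1
  funext x
  rcases x with i | r <;> simp [chiIdx, Φ.chi_mul]

theorem torusMat_one : Φ.torusMat (1 : Fin D.rank → Rˣ) = 1 := by
  rw [← Matrix.diagonal_one, torusMat]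
  congr 1
  funext x
  rcases x with i | r <;> simp [chiIdx, chi]

theorem torusMat_X (c : Fin D.rank → Rˣ) (r : Fin D.nroots) (t : R) :
    Φ.torusMat c * Φ.X R r t = Φ.X R r ((Φ.chi c r : R) * t) * Φ.torusMat c := by
  refine Matrix.ext fun x y => ?_
  rw [torusMat, Matrix.diagonal_mul, Matrix.mul_diagonal, X, X]
  simp only [Matrix.sum_apply, Matrix.smul_apply, smul_eq_mul, Finset.mul_sum, Finset.sum_mul]
  refine Finset.sum_congr rfl fun k _ => ?_
  by_cases h : Φ.E R k r x y = 0
  · simp [h]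
  · rw [Φ.chi_E c k r x y h, Units.val_mul, Units.val_pow_eq_pow_val]
    ring

theorem map_torusMat {S : Type*} [CommRing S] (f : R →+* S) (c : Fin D.rank → Rˣ) :
    (Φ.torusMat c).map f = Φ.torusMat fun i => Units.map f.toMonoidHom (c i) := by
  rw [torusMat, torusMat, Matrix.diagonal_map (map_zero f)]
  congr 1
  funext x
  rcases x with i | r
  · simp [chiIdx]
  · simp [chiIdx, chi, ← map_zpow]

end Sys

namespace Alg

variable (Ψ : Alg D)

/-- The diagonal automorphism of a character, as a unit. -/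
def torus : (Fin D.rank → Rˣ) →* GL D.Idx R where
  toFun c :=
    ⟨Ψ.toSys.torusMat c, Ψ.toSys.torusMat c⁻¹,
      by rw [Ψ.toSys.torusMat_mul, mul_inv_cancel, Ψ.toSys.torusMat_one],
      by rw [Ψ.toSys.torusMat_mul, inv_mul_cancel, Ψ.toSys.torusMat_one]⟩
  map_one' := Units.ext Ψ.toSys.torusMat_one
  map_mul' c d := Units.ext (Ψ.toSys.torusMat_mul c d).symm

@[simp]
theorem torus_val (c : Fin D.rank → Rˣ) :
    (Ψ.torus c : Matrix D.Idx D.Idx R) = Ψ.toSys.torusMat c := rfl

theorem torus_xg {F : Type*} [Field F] (c : Fin D.rank → Fˣ) (r : Fin D.nroots) (t : F) :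
    Ψ.torus c * Ψ.xg r t = Ψ.xg r ((Ψ.toSys.chi c r : F) * t) * Ψ.torus c :=
  Units.ext (Ψ.toSys.torusMat_X c r t)

/-- The character `s ↦ a ^ A_{i,s}`. -/
def cartanChar (i : Fin D.rank) (a : Rˣ) : Fin D.rank → Rˣ := fun j => a ^ Ψ.A i (Ψ.p j)

theorem chi_cartanChar (i : Fin D.rank) (a : Rˣ) (r : Fin D.nroots) :
    Ψ.toSys.chi (Ψ.cartanChar i a) r = a ^ Ψ.A i r := by
  rw [Ψ.A_lin i r, Sys.chi]
  induction (Finset.univ : Finset (Fin D.rank)) using Finset.induction_on with
  | empty => simp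
  | insert j t hj ih =>
    rw [Finset.prod_insert hj, Finset.sum_insert hj, ih, _root_.zpow_add, cartanChar, ← _root_.zpow_mul,
      mul_comm (Ψ.A i (Ψ.p j))]

end Alg

end CfsgLib.Chev
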