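/-
Correctness of the sparse evaluation.
-/
import Cfsg.Agent.Lib.Chev.Sparse
import Cfsg.Agent.Lib.Chev.Jacobi
import Cfsg.Agent.Lib.Chev.Torus

namespace CfsgLib.Chev

open Cfsg.Lie Matrix

namespace Pack

variable (P : Pack) {D : ChevalleyDatum} {hn : 0 < D.nroots}
  {hd : P.datumOK D = true} {ht : P.tabOK = true} {hr : P.rootsOK = true}

local notation "Φ" => P.toSys D hn hd ht hr

theorem ch_val (r s : Fin D.nroots) : ∀ k,
    ((Φ).toTables.ch r s k).2 = (P.ch r.val s.val k).2 ∧
      ((P.ch r.val s.val k).2 ≠ 0 → ((Φ).toTables.ch r s k).1.val = (P.ch r.val s.val k).1) := by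
  intro k
  induction k with
  | zero => exact ⟨rfl, fun _ => rfl⟩
  | succ k ih =>
    obtain ⟨ih1, ih2⟩ := ih
    rw [P.ch_succ]
    show ((Φ).toTables.ch r s k).2 * P.N r.val ((Φ).toTables.ch r s k).1.val / ((k + 1 : ℕ) : ℤ) = _ ∧ _
    by_cases hM : (P.ch r.val s.val k).2 = 0
    · simp [ih1, hM]
    · rw [ih1, ih2 hM]
      refine ⟨rfl, fun hne => ?_⟩
      show P.S r.val ((Φ).toTables.ch r s k).1.val % D.nroots = _
      rw [ih2 hM]
      have hN : P.N r.val ((Φ).toTables.ch r s k).1.val ≠ 0 := by
        intro e; rw [ih2 hM] at e; simp [e] at hne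
      have := P.S_val (hd := hd) (ht := ht) hN
      rwa [ih2 hM] at this

theorem entry_val (r s : Fin D.nroots) : (Φ).toTables.entry r s = P.entryList r.val s.val := by
  have h1 := P.ch_val (hn := hn) (hd := hd) (ht := ht) (hr := hr) r s 1
  have h2 := P.ch_val (hn := hn) (hd := hd) (ht := ht) (hr := hr) r s 2
  have h3 := P.ch_val (hn := hn) (hd := hd) (ht := ht) (hr := hr) r s 3
  unfold Tables.entry entryList
  rw [h1.1, h2.1, h3.1]
  have z : ∀ {a : ℤ}, a ≠ 0 → zeq a 0 = false := fun ha => by
    rw [Bool.eq_false_iff, ne_eq, zeq_iff]; exact ha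
  by_cases e1 : (P.ch r.val s.val 1).2 = 0
  · simp [e1, zeq_iff.mpr rfl]
  · by_cases e2 : (P.ch r.val s.val 2).2 = 0
    · simp [e1, e2, z e1, h1.2 e1, zeq_iff.mpr rfl]
    · by_cases e3 : (P.ch r.val s.val 3).2 = 0
      · simp [e1, e2, e3, z e1, z e2, h1.2 e1, h2.2 e2, zeq_iff.mpr rfl]
      · simp [e1, e2, e3, z e1, z e2, z e3, h1.2 e1, h2.2 e2, h3.2 e3]

/-- The code of a basis vector. -/
def enc (x : D.Idx) : ℕ := Sum.elim (fun i => D.nroots + i.val) (fun u => u.val) x

theorem enc_injective : Function.Injective (enc (D := D)) := by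
  rintro (i | u) (j | v) h <;> simp only [enc, Sum.elim_inl, Sum.elim_inr] at h
  · exact congrArg Sum.inl (Fin.ext (by omega))
  · have := v.isLt; omega
  · have := u.isLt; omega
  · exact congrArg Sum.inr (Fin.ext h)

theorem coef_cons (x : ℕ) (a : ℕ × ℤ) (L : List (ℕ × ℤ)) :
    coef x (a :: L) = (if a.1 = x then a.2 else 0) + coef x L := by
  show (bif Nat.beq a.1 x then a.2 + coef x L else coef x L) = _
  by_cases h : a.1 = x
  · simp [h]
  · have : Nat.beq a.1 x = false := by
      rw [Bool.eq_false_iff]; exact fun e => h (Nat.eq_of_beq_eq_true e)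
    simp [this, h]

theorem coef_addTerm (x b : ℕ) (c : ℤ) : ∀ L : List (ℕ × ℤ),
    coef x (addTerm b c L) = (if b = x then c else 0) + coef x L := by
  intro L
  induction L with
  | nil => exact coef_cons x (b, c) []
  | cons a L ih =>
    show coef x (bif Nat.beq a.1 b then (a.1, a.2 + c) :: L else a :: addTerm b c L) = _
    cases h : Nat.beq a.1 b
    · rw [cond_false, coef_cons, ih, coef_cons]; ring
    · rw [cond_true, coef_cons, coef_cons, ← Nat.eq_of_beq_eq_true h]
      show (if a.1 = x then a.2 + c else 0) + _ = _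
      split_ifs <;> ring

theorem coef_addList (x : ℕ) (c : ℤ) : ∀ L M : List (ℕ × ℤ),
    coef x (addList c L M) = c * coef x L + coef x M := by
  intro L M
  induction L with
  | nil => show coef x M = c * 0 + coef x M; ring
  | cons a L ih =>
    show coef x (force a.1 fun b => forceZ (c * a.2) fun d => addTerm b d (addList c L M)) = _
    rw [force_eq, forceZ_eq, coef_addTerm, ih, coef_cons]
    split_ifs <;> ring

theorem mem_addTerm {b : ℕ} {c : ℤ} {a : ℕ × ℤ} : ∀ {L : List (ℕ × ℤ)},
    a ∈ addTerm b c L → a.1 = b ∨ ∃ a' ∈ L, a.1 = a'.1 := by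
  intro L
  induction L with
  | nil => intro h; left; rw [List.eq_of_mem_singleton h]
  | cons d L ih =>
    intro h
    change a ∈ (bif Nat.beq d.1 b then (d.1, d.2 + c) :: L else d :: addTerm b c L) at h
    cases hb : Nat.beq d.1 b
    · rw [hb, cond_false, List.mem_cons] at h
      rcases h with rfl | h
      · exact Or.inr ⟨a, List.mem_cons_self, rfl⟩
      · rcases ih h with e | ⟨a', h', e⟩
        exacts [Or.inl e, Or.inr ⟨a', List.mem_cons_of_mem _ h', e⟩]
    · rw [hb, cond_true, List.mem_cons] at h
      rcases h with rfl | h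
      · exact Or.inr ⟨d, List.mem_cons_self, rfl⟩
      · exact Or.inr ⟨a, List.mem_cons_of_mem _ h, rfl⟩

theorem mem_addList {c : ℤ} {a : ℕ × ℤ} : ∀ {L M : List (ℕ × ℤ)},
    a ∈ addList c L M → ∃ a' ∈ L ++ M, a.1 = a'.1 := by
  intro L M
  induction L generalizing a with
  | nil => intro h; exact ⟨a, h, rfl⟩
  | cons d L ih =>
    intro h
    change a ∈ (force d.1 fun b => forceZ (c * d.2) fun e => addTerm b e (addList c L M)) at h
    rw [force_eq, forceZ_eq] at h
    rcases mem_addTerm h with e | ⟨a', h', e⟩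
    · exact ⟨d, List.mem_cons_self, e⟩
    · obtain ⟨a'', h'', e'⟩ := ih h'
      exact ⟨a'', List.mem_cons_of_mem _ h'', e.trans e'⟩

include hd in
theorem coef_hList (r : ℕ) (t : ℤ) (x : D.Idx) :
    coef (enc x) (Nat.rec [] (fun i acc => (Nat.add P.n i, P.C r i * t) :: acc) P.l) =
      Sum.elim (fun i : Fin D.rank => P.C r i.val * t) (fun _ => 0) x := by
  obtain ⟨hl', hn'⟩ := P.rank_eq (hd := hd)
  have key : ∀ m ≤ P.l, coef (enc x) (Nat.rec [] (fun i acc => (Nat.add P.n i, P.C r i * t) :: acc) m) =
      Sum.elim (fun i : Fin D.rank => if i.val < m then P.C r i.val * t else 0) (fun _ => 0) x := by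
    intro m
    induction m with
    | zero => intro _; rcases x with i | u <;> simp [coef]
    | succ m ih =>
      intro hm
      show coef (enc x) ((Nat.add P.n m, P.C r m * t) :: _) = _
      rw [coef_cons, ih (by omega)]
      rcases x with i | u
      · simp only [Sum.elim_inl]
        have e : ((Nat.add P.n m, P.C r m * t).1 = enc (Sum.inl i : D.Idx)) ↔ i.val = m := by
          show P.n + m = D.nroots + i.val ↔ _
          omega
        rcases lt_trichotomy i.val m with h | h | h
        · rw [if_neg (fun q => absurd (e.mp q) (by omega)), if_pos h, if_pos (by omega), zero_add]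
        · rw [if_pos (e.mpr h), if_neg (by omega), if_pos (by omega), h, add_zero]
        · rw [if_neg (fun q => absurd (e.mp q) (by omega)), if_neg (by omega), if_neg (by omega),
            add_zero]
      · have e : ¬ ((Nat.add P.n m, P.C r m * t).1 = enc (Sum.inr u : D.Idx)) := by
          show ¬ P.n + m = u.val
          have := u.isLt
          omega
        simp only [Sum.elim_inr]
        rw [if_neg e, zero_add]
  rw [key P.l le_rfl]
  rcases x with i | u
  · have := i.isLt
    simp only [Sum.elim_inl, if_pos (show i.val < P.l by omega)]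
  · rfl

include hd in
theorem mem_hList (r : ℕ) (t : ℤ) {a : ℕ × ℤ}
    (ha : a ∈ (Nat.rec [] (fun i acc => (Nat.add P.n i, P.C r i * t) :: acc) P.l : List (ℕ × ℤ))) :
    ∃ i : Fin D.rank, a.1 = D.nroots + i.val := by
  obtain ⟨hl', hn'⟩ := P.rank_eq (hd := hd)
  have key : ∀ m ≤ P.l,
      a ∈ (Nat.rec [] (fun i acc => (Nat.add P.n i, P.C r i * t) :: acc) m : List (ℕ × ℤ)) →
        ∃ i : Fin D.rank, a.1 = D.nroots + i.val := by
    intro m
    induction m with
    | zero => intro _ h; simp at h
    | succ m ih =>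
      intro hm h
      change a ∈ (Nat.add P.n m, P.C r m * t) :: _ at h
      rcases List.mem_cons.mp h with rfl | h
      · exact ⟨⟨m, by omega⟩, by simp [Nat.add_eq, hn']⟩
      · exact ih (by omega) h
  exact key P.l le_rfl ha

theorem coef_colX (r : Fin D.nroots) (t : ℤ) (x y : D.Idx) :
    coef (enc x) (P.colX r.val t (enc y)) = (Φ).X ℤ r t x y := by
  obtain ⟨hl', hn'⟩ := P.rank_eq (hd := hd)
  simp only [colX, Sys.X, Matrix.sum_apply, Matrix.smul_apply, smul_eq_mul, Finset.sum_range_succ,
    Finset.sum_range_zero, zero_add]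
  rcases y with j | s
  · have h1 : Nat.ble P.n (enc (Sum.inl j : D.Idx)) = true := Nat.ble_eq_true_of_le (by simp [enc, hn'])
    have h2 : Nat.sub (enc (Sum.inl j : D.Idx)) P.n = j.val := by simp [enc, hn', Nat.sub_eq]
    rw [h1, cond_true, h2, coef_cons, coef_cons]
    have hne : ¬ D.nroots + j.val = r.val := by have := r.isLt; omega
    have hA : P.A j.val r.val = (Φ).A j r := rfl
    have hnil : coef (enc x) [] = 0 := rfl
    rw [hA, hnil, add_zero]
    rcases x with i | u
    · have : ¬ r.val = D.nroots + i.val := by have := r.isLt; omega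
      simp [enc, Sys.E, this, Fin.val_inj, eq_comm (a := j)]
    · have : ¬ D.nroots + j.val = u.val := by have := u.isLt; omega
      by_cases hu : u = r
      · subst hu; simp [enc, Sys.E, this, mul_comm]
      · simp [enc, Sys.E, this, hu, Fin.val_inj, Ne.symm hu]
  · have h1 : Nat.ble P.n (enc (Sum.inr s : D.Idx)) = false := by
      have := s.isLt
      rw [Bool.eq_false_iff, ne_eq, Nat.ble_eq]; simp [enc]; omega
    rw [h1, cond_false]
    by_cases hsr : s = r
    · have : Nat.beq (enc (Sum.inr s : D.Idx)) r.val = true := by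
        rw [hsr]; exact Nat.beq_refl _
      rw [this, cond_true, coef_cons]
      rcases x with i | u
      · have : ¬ r.val = D.nroots + i.val := by have := r.isLt; omega
        simp [enc, Sys.E, hsr, this, coef]
      · simp [enc, Sys.E, hsr, Fin.val_inj, coef, eq_comm]
    · have hb : Nat.beq (enc (Sum.inr s : D.Idx)) r.val = false := by
        rw [Bool.eq_false_iff]; exact fun e => hsr (Fin.ext (Nat.eq_of_beq_eq_true e))
      rw [hb, cond_false]
      by_cases hsn : s = r.rev
      · have : Nat.beq (enc (Sum.inr s : D.Idx)) (P.rev r.val) = true := by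
          rw [P.rev_eq hn', hsn]; exact Nat.beq_refl _
        rw [this, cond_true, coef_cons, coef_cons, P.coef_hList (hd := hd)]
        rcases x with i | u
        · have h3 : ¬ r.val = D.nroots + i.val := by have := r.isLt; omega
          have h4 : ¬ s.val = D.nroots + i.val := by have := s.isLt; omega
          have hC : P.C r.val i.val = (Φ).C r i := rfl
          simp [enc, Sys.E, hsr, hsn, h3, (Φ).rev_ne r, hC, mul_comm]
          have : ¬ r.rev.val = D.nroots + i.val := by rw [← hsn]; exact h4
          simp [Fin.val_rev] at this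
          simp [this]
        · simp only [enc, Sys.E, Matrix.of_apply, if_neg hsr, if_pos hsn, Sum.elim_inr]
          by_cases hu : u = s
          · subst hu
            simp [Fin.val_inj, Ne.symm hsr, hsr]
          · by_cases hu2 : u = r
            · subst hu2; simp [Fin.val_inj, hu, Ne.symm hu, pow_two]
            · simp [Fin.val_inj, hu, hu2, Ne.symm hu, Ne.symm hu2]
      · have : Nat.beq (enc (Sum.inr s : D.Idx)) (P.rev r.val) = false := by
          rw [P.rev_eq hn', Bool.eq_false_iff]; exact fun e => hsn (Fin.ext (Nat.eq_of_beq_eq_true e))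
        rw [this, cond_false, coef_cons]
        obtain ⟨a1, b1⟩ := P.ch_val (hn := hn) (hd := hd) (ht := ht) (hr := hr) r s 1
        obtain ⟨a2, b2⟩ := P.ch_val (hn := hn) (hd := hd) (ht := ht) (hr := hr) r s 2
        obtain ⟨a3, b3⟩ := P.ch_val (hn := hn) (hd := hd) (ht := ht) (hr := hr) r s 3
        have z : ∀ {a : ℤ}, a ≠ 0 → zeq a 0 = false := fun ha => by
          rw [Bool.eq_false_iff, ne_eq, zeq_iff]; exact ha
        rcases x with i | u
        · have g : ∀ m : ℕ, m < D.nroots → ¬ m = D.nroots + i.val := fun m hm => by omega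
          have g1 : (P.ch r.val s.val 1).2 ≠ 0 → ¬ (P.ch r.val s.val 1).1 = D.nroots + i.val :=
            fun h => g _ (b1 h ▸ Fin.isLt _)
          have g2 : (P.ch r.val s.val 2).2 ≠ 0 → ¬ (P.ch r.val s.val 2).1 = D.nroots + i.val :=
            fun h => g _ (b2 h ▸ Fin.isLt _)
          have g3 : (P.ch r.val s.val 3).2 ≠ 0 → ¬ (P.ch r.val s.val 3).1 = D.nroots + i.val :=
            fun h => g _ (b3 h ▸ Fin.isLt _)
          simp only [enc, Sys.E, Matrix.of_apply, if_neg hsr, if_neg hsn, mul_zero, add_zero,
            Sum.elim_inl, Sum.elim_inr]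
          simp only [g _ s.isLt, if_false, zero_add]
          by_cases e1 : (P.ch r.val s.val 1).2 = 0
          · simp [e1, zeq_iff.mpr rfl, coef]
          · rw [z e1, cond_false, coef_cons, if_neg (g1 e1)]
            by_cases e2 : (P.ch r.val s.val 2).2 = 0
            · simp [e2, zeq_iff.mpr rfl, coef]
            · rw [z e2, cond_false, coef_cons, if_neg (g2 e2)]
              by_cases e3 : (P.ch r.val s.val 3).2 = 0
              · simp [e3, zeq_iff.mpr rfl, coef]
              · rw [z e3, cond_false, coef_cons, if_neg (g3 e3)]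
                simp [coef]
        · simp only [enc, Sys.E, Matrix.of_apply, if_neg hsr, if_neg hsn, Sum.elim_inr]
          have e0 : (Φ).toTables.ch r s 0 = (s, 1) := rfl
          simp only [a1, a2, a3, e0, mul_ite, mul_zero, Int.cast_id]
          by_cases e1 : (P.ch r.val s.val 1).2 = 0
          · have e2 : (P.ch r.val s.val 2).2 = 0 := by
              rw [← a2]; exact (Φ).ch_snd_succ_eq_zero (a1.trans e1)
            have e3 : (P.ch r.val s.val 3).2 = 0 := by
              rw [← a3]; exact (Φ).ch_snd_succ_eq_zero (a2.trans e2)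
            simp [e1, e2, e3, zeq_iff.mpr rfl, coef, Fin.val_inj]
          · rw [z e1, cond_false, coef_cons, ← b1 e1]
            by_cases e2 : (P.ch r.val s.val 2).2 = 0
            · have e3 : (P.ch r.val s.val 3).2 = 0 := by
                rw [← a3]; exact (Φ).ch_snd_succ_eq_zero (a2.trans e2)
              simp [e2, e3, zeq_iff.mpr rfl, coef, Fin.val_inj, mul_comm]
            · rw [z e2, cond_false, coef_cons, ← b2 e2]
              by_cases e3 : (P.ch r.val s.val 3).2 = 0
              · simp [e3, zeq_iff.mpr rfl, coef, Fin.val_inj, mul_comm, pow_two]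
                ring
              · rw [z e3, cond_false, coef_cons, ← b3 e3]
                simp [coef, Fin.val_inj]
                ring_nf

include hn hd ht hr in
theorem mem_colX (r : Fin D.nroots) (t : ℤ) (y : D.Idx) {a : ℕ × ℤ}
    (ha : a ∈ P.colX r.val t (enc y)) : ∃ x : D.Idx, a.1 = enc x := by
  obtain ⟨hl', hn'⟩ := P.rank_eq (hd := hd)
  simp only [colX] at ha
  cases h1 : Nat.ble P.n (enc y)
  · rw [h1, cond_false] at ha
    rcases y with j | s
    · rw [Bool.eq_false_iff, ne_eq, Nat.ble_eq] at h1; simp [enc, hn'] at h1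
    cases h2 : Nat.beq (enc (Sum.inr s : D.Idx)) r.val
    · rw [h2, cond_false] at ha
      cases h3 : Nat.beq (enc (Sum.inr s : D.Idx)) (P.rev r.val)
      · rw [h3, cond_false, List.mem_cons] at ha
        rcases ha with rfl | ha
        · exact ⟨Sum.inr s, rfl⟩
        have b := fun k => (P.ch_val (hn := hn) (hd := hd) (ht := ht) (hr := hr) r s k).2
        simp only [enc, Sum.elim_inr] at ha
        cases e1 : zeq (P.ch r.val s.val 1).2 0
        · rw [e1, cond_false, List.mem_cons] at ha
          rcases ha with rfl | ha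
          · exact ⟨Sum.inr _, (b 1 fun e => by rw [zeq_iff.mpr e] at e1; cases e1).symm⟩
          cases e2 : zeq (P.ch r.val s.val 2).2 0
          · rw [e2, cond_false, List.mem_cons] at ha
            rcases ha with rfl | ha
            · exact ⟨Sum.inr _, (b 2 fun e => by rw [zeq_iff.mpr e] at e2; cases e2).symm⟩
            cases e3 : zeq (P.ch r.val s.val 3).2 0
            · rw [e3, cond_false, List.mem_singleton] at ha
              subst ha
              exact ⟨Sum.inr _, (b 3 fun e => by rw [zeq_iff.mpr e] at e3; cases e3).symm⟩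
            · simp [e3] at ha
          · simp [e2] at ha
        · simp [e1] at ha
      · rw [h3, cond_true, List.mem_cons, List.mem_cons] at ha
        rcases ha with rfl | rfl | ha
        · exact ⟨Sum.inr s, rfl⟩
        · exact ⟨Sum.inr r, rfl⟩
        · obtain ⟨i, hi⟩ := P.mem_hList (hd := hd) _ _ ha
          exact ⟨Sum.inl i, hi⟩
    · rw [h2, cond_true, List.mem_singleton] at ha
      subst ha; exact ⟨Sum.inr s, rfl⟩
  · rw [h1, cond_true, List.mem_cons, List.mem_singleton] at ha
    rcases ha with rfl | rfl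
    · exact ⟨_, rfl⟩
    · exact ⟨Sum.inr r, rfl⟩

/-- A sparse vector only mentions codes of basis vectors. -/
def Good (D : ChevalleyDatum) (L : List (ℕ × ℤ)) : Prop := ∀ a ∈ L, ∃ x : D.Idx, a.1 = enc x

theorem applyX_spec (r : Fin D.nroots) (t : ℤ) : ∀ {L : List (ℕ × ℤ)}, Good D L →
    Good D (P.applyX r.val t L) ∧ ∀ x : D.Idx, coef (enc x) (P.applyX r.val t L) =
      ((Φ).X ℤ r t *ᵥ fun y => coef (enc y) L) x := by
  intro L
  induction L with
  | nil =>
    intro _
    refine ⟨fun a ha => ?_, fun x => ?_⟩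
    · exact absurd ha (List.not_mem_nil (a := a))
    · show (0 : ℤ) = _
      simp [Matrix.mulVec, dotProduct, coef]
  | cons a L ih =>
    intro hL
    obtain ⟨ih1, ih2⟩ := ih fun b hb => hL b (List.mem_cons_of_mem _ hb)
    obtain ⟨y, hy⟩ := hL a List.mem_cons_self
    have happ : P.applyX r.val t (a :: L) =
        addList a.2 (P.colX r.val t (enc y)) (P.applyX r.val t L) := by rw [← hy]; rfl
    constructor
    · intro b hb
      rw [happ] at hb
      obtain ⟨b', hb', e⟩ := mem_addList hb
      rcases List.mem_append.mp hb' with h | h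
      · obtain ⟨x, hx⟩ := P.mem_colX (hn := hn) (hd := hd) (ht := ht) (hr := hr) r t y h
        exact ⟨x, e.trans hx⟩
      · obtain ⟨x, hx⟩ := ih1 b' h
        exact ⟨x, e.trans hx⟩
    · intro x
      rw [happ, coef_addList, ih2, P.coef_colX (hn := hn) (hd := hd) (ht := ht) (hr := hr)]
      have : (fun z : D.Idx => coef (enc z) (a :: L)) =
          a.2 • Pi.single y 1 + fun z => coef (enc z) L := by
        funext z
        rw [coef_cons, hy]
        by_cases hz : z = y
        · subst hz; simp
        · simp [hz, enc_injective.eq_iff, Ne.symm hz]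
      rw [this, Matrix.mulVec_add, Matrix.mulVec_smul]
      simp

/-- The product of the matrices of a word. -/
noncomputable def wordZ (Ψ : Sys D) (w : List (Fin D.nroots × ℤ)) : Matrix D.Idx D.Idx ℤ :=
  (w.map fun a => Ψ.X ℤ a.1 a.2).prod

theorem wordCol_spec (y : D.Idx) : ∀ w : List (Fin D.nroots × ℤ),
    Good D (P.wordCol (w.map fun a => (a.1.val, a.2)) (enc y)) ∧ ∀ x : D.Idx,
      coef (enc x) (P.wordCol (w.map fun a => (a.1.val, a.2)) (enc y)) = wordZ (Φ) w x y := by
  intro w
  induction w with
  | nil =>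
    refine ⟨fun a ha => ⟨y, ?_⟩, fun x => ?_⟩
    · rw [List.eq_of_mem_singleton ha]
    · show coef (enc x) [(enc y, 1)] = _
      rw [coef_cons]
      by_cases h : y = x
      · subst h; simp [wordZ, coef]
      · simp [wordZ, coef, enc_injective.eq_iff, h, Matrix.one_apply_ne (Ne.symm h)]
  | cons a w ih =>
    obtain ⟨h1, h2⟩ := ih
    obtain ⟨h3, h4⟩ := P.applyX_spec (hn := hn) (hd := hd) (ht := ht) (hr := hr) a.1 a.2 h1
    refine ⟨h3, fun x => (h4 x).trans ?_⟩
    simp only [wordZ, List.map_cons, List.prod_cons, Matrix.mul_apply, Matrix.mulVec, dotProduct, h2]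

theorem coef_eq_zero_of_good {L : List (ℕ × ℤ)} (hL : Good D L) {m : ℕ}
    (hm : ∀ x : D.Idx, enc x ≠ m) : coef m L = 0 := by
  induction L with
  | nil => rfl
  | cons a L ih =>
    obtain ⟨y, hy⟩ := hL a List.mem_cons_self
    rw [coef_cons, if_neg (hy ▸ hm y), zero_add, ih fun b hb => hL b (List.mem_cons_of_mem _ hb)]

end Pack

end CfsgLib.Chev
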