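/-
The complete package `Chev D`: algebra, reflections and certified commutator terms, built from the checks.
-/
import Cfsg.Agent.Lib.Chev.SparseSound
import Cfsg.Agent.Lib.Chev.CommCheck

namespace CfsgLib.Chev

open Cfsg.Lie Matrix

variable {D : ChevalleyDatum}

namespace Sys

variable (Φ : Sys D)

/-- The chain entry of the datum. -/
theorem chainEntry_eq (r s : Fin D.nroots) : D.chainEntry r.val s.val = Φ.toTables.entry r s := by
  unfold ChevalleyDatum.chainEntry
  rw [← List.head?_filter, Φ.filter_eq r s]
  by_cases hN : Φ.N r s = 0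
  · rw [if_pos hN]
    have : (Φ.toTables.ch r s 1).2 = 0 := by rw [Φ.ch_one_snd, hN]
    simp [Tables.entry, this]
  · simp [hN]

/-- `x_r(t)` for a natural number `r`, the identity out of range. -/
def XN (R : Type*) [CommRing R] (r : ℕ) (t : R) : Matrix D.Idx D.Idx R :=
  if h : r < D.nroots then Φ.X R ⟨r, h⟩ t else 1

theorem x_eq_XN (F : Type*) [Field F] (r : ℕ) (t : F) : D.x F r t = Φ.XN F r t := by
  by_cases h : r < D.nroots
  · rw [XN, dif_pos h]; exact Φ.x_eq F ⟨r, h⟩ t
  · rw [XN, dif_neg h, ChevalleyDatum.x, dif_neg h]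

/-- The terms of the commutator formula when the `s`-chain through `r` commutes. -/
def directTerms (r s : Fin D.nroots) : List (ℕ × ℤ × ℕ × ℕ) :=
  if (Φ.toTables.ch s r 1).2 = 0 then [] else ((Φ.toTables.ch s r 1).1.val, -(Φ.toTables.ch s r 1).2, 1, 1) ::
    if (Φ.toTables.ch s r 2).2 = 0 then [] else ((Φ.toTables.ch s r 2).1.val, (Φ.toTables.ch s r 2).2, 1, 2) ::
      if (Φ.toTables.ch s r 3).2 = 0 then [] else
        [((Φ.toTables.ch s r 3).1.val, -(Φ.toTables.ch s r 3).2, 1, 3)]

/-- The terms of the commutator formula when the `r`-chain through `s` commutes. -/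
def swapTerms (r s : Fin D.nroots) : List (ℕ × ℤ × ℕ × ℕ) :=
  if (Φ.toTables.ch r s 1).2 = 0 then [] else ((Φ.toTables.ch r s 1).1.val, (Φ.toTables.ch r s 1).2, 1, 1) ::
    if (Φ.toTables.ch r s 2).2 = 0 then [] else ((Φ.toTables.ch r s 2).1.val, (Φ.toTables.ch r s 2).2, 2, 1) ::
      if (Φ.toTables.ch r s 3).2 = 0 then [] else
        [((Φ.toTables.ch r s 3).1.val, (Φ.toTables.ch r s 3).2, 3, 1)]

end Sys

/-- How the commutator formula of a pair is certified. -/
def PairOK (Φ : Alg D) (r s : Fin D.nroots) : Prop :=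
  (Φ.ChainComm s r ∧ D.commTerms r.val s.val = Φ.toSys.directTerms r s) ∨
  (Φ.ChainComm r s ∧ D.commTerms r.val s.val = Φ.toSys.swapTerms r s) ∨
  ((∃ i j, Φ.V r i * Φ.V s j - Φ.V r j * Φ.V s i ≠ 0) ∧
    (∀ c ∈ D.commTerms r.val s.val, ∃ h : c.1 < D.nroots,
      ∀ m, Φ.V ⟨c.1, h⟩ m = (c.2.2.1 : ℤ) * Φ.V r m + (c.2.2.2 : ℤ) * Φ.V s m) ∧
    Φ.toSys.X ℤ s 1 * Φ.toSys.X ℤ r 1 = Φ.toSys.X ℤ r 1 * Φ.toSys.X ℤ s 1 *
      ((D.commTerms r.val s.val).map fun c => Φ.toSys.XN ℤ c.1 (c.2.1 * (-1) ^ c.2.2.1)).prod)

/-- The matrix of `n_p(1)` for the reflection data `R`, `η`. -/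
def monMat (Φ : Sys D) (i : Fin D.rank) (R : Fin D.nroots → Fin D.nroots) (η : Fin D.nroots → ℤ) :
    Matrix D.Idx D.Idx ℤ :=
  Matrix.of fun x y =>
    match x, y with
    | Sum.inl k, Sum.inl j => (if k = j then 1 else 0) - if k = i then Φ.A j (Φ.p i) else 0
    | Sum.inr _, Sum.inl _ => 0
    | Sum.inl _, Sum.inr _ => 0
    | Sum.inr u, Sum.inr s => if u = R s then η s else 0

/-- A Chevalley basis with all the data used for the group theory. -/
structure Chev (D : ChevalleyDatum) extends Alg D where
  refl : Fin D.rank → Fin D.nroots → Fin D.nroots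
  eta : Fin D.rank → Fin D.nroots → ℤ
  reflectRoot_eq : ∀ i s, D.reflectRoot i.val s.val = (refl i s).val
  V_refl : ∀ i s j, V (refl i s) j = V s j - if j = i then A i s else 0
  eta_unit : ∀ i s, eta i s = 1 ∨ eta i s = -1
  eta_refl : ∀ i s, eta i s * eta i (refl i s) = (-1) ^ (A i s).natAbs
  eta_rev : ∀ i s, eta i s * eta i s.rev = 1
  eta_p : ∀ i, eta i (p i) = -1 ∧ eta i (p i).rev = -1
  nmat : ∀ i, toSys.X ℤ (p i) 1 * toSys.X ℤ (p i).rev (-1) * toSys.X ℤ (p i) 1 =
    monMat toSys i (refl i) (eta i)
  comm_ok : ∀ r s, N r s ≠ 0 → PairOK toAlg r s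

namespace Pack

variable (P : Pack) {hn : 0 < D.nroots}
  {hd : P.datumOK D = true} {ht : P.tabOK = true} {hr : P.rootsOK = true}

local notation "Φ" => P.toSys D hn hd ht hr

include hn hd ht hr in
theorem chainEntry_val (r s : Fin D.nroots) : D.chainEntry r.val s.val = P.entryList r.val s.val := by
  rw [(Φ).chainEntry_eq r s, P.entry_val]

theorem eqTerms_eq : ∀ {x y : List (ℕ × ℤ × ℕ × ℕ)}, eqTerms x y = true → x = y := by
  intro x
  induction x with
  | nil => intro y h; cases y with
    | nil => rfl
    | cons b t => simp [eqTerms] at h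
  | cons a x ih => intro y h; cases y with
    | nil => simp [eqTerms] at h
    | cons b t =>
      have h' : (Nat.beq a.1 b.1 && (zeq a.2.1 b.2.1 && (Nat.beq a.2.2.1 b.2.2.1 &&
          (Nat.beq a.2.2.2 b.2.2.2 && eqTerms x t)))) = true := h
      simp only [Bool.and_eq_true, zeq_iff] at h'
      obtain ⟨a1, a2, a3, a4, a5⟩ := h'
      rw [ih a5, show a = b from Prod.ext (Nat.eq_of_beq_eq_true a1) (Prod.ext a2
        (Prod.ext (Nat.eq_of_beq_eq_true a3) (Nat.eq_of_beq_eq_true a4)))]

include hn hd ht hr in
theorem commTerms_val (r s : Fin D.nroots) : D.commTerms r.val s.val = P.terms r.val s.val := by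
  have e1 : ∀ k, D.chainRoot r.val s.val k = P.chainRoot r.val s.val k := fun k => by
    rw [ChevalleyDatum.chainRoot, chainRoot, P.chainEntry_val (hn := hn) (hd := hd) (ht := ht) (hr := hr)]
  have e2 : ∀ k, D.chainRoot s.val r.val k = P.chainRoot s.val r.val k := fun k => by
    rw [ChevalleyDatum.chainRoot, chainRoot, P.chainEntry_val (hn := hn) (hd := hd) (ht := ht) (hr := hr)]
  have e3 : ∀ k, D.chainM r.val s.val k = P.chainM r.val s.val k := fun k => by
    rw [ChevalleyDatum.chainM, chainM, P.chainEntry_val (hn := hn) (hd := hd) (ht := ht) (hr := hr)]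
  have e4 : ∀ k, D.chainM s.val r.val k = P.chainM s.val r.val k := fun k => by
    rw [ChevalleyDatum.chainM, chainM, P.chainEntry_val (hn := hn) (hd := hd) (ht := ht) (hr := hr)]
  -- roots occurring in the chains are in range
  have hlt : ∀ a b : Fin D.nroots, ∀ k u, P.chainRoot a.val b.val k = some u → u < D.nroots := by
    intro a b k u h
    rw [chainRoot, ← P.entry_val (hn := hn) (hd := hd) (ht := ht) (hr := hr)] at h
    obtain ⟨e, he, rfl⟩ := Option.map_eq_some_iff.mp h
    have := List.mem_of_getElem? he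
    unfold Tables.entry at this
    split_ifs at this <;> simp at this <;>
      (rcases this with h | h | h) <;> simp [h]
  have e5 : ∀ (a b c : Fin D.nroots) (i : ℕ) (u : ℕ), P.chainRoot a.val b.val i = some u →
      ∀ k, D.chainRoot u c.val k = P.chainRoot u c.val k ∧ D.chainM u c.val k = P.chainM u c.val k := by
    intro a b c i u h k
    have := hlt a b i u h
    constructor
    · rw [ChevalleyDatum.chainRoot, chainRoot,
        P.chainEntry_val (hn := hn) (hd := hd) (ht := ht) (hr := hr) ⟨u, this⟩ c]
    · rw [ChevalleyDatum.chainM, chainM,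
        P.chainEntry_val (hn := hn) (hd := hd) (ht := ht) (hr := hr) ⟨u, this⟩ c]
  have b1 : (P.chainRoot r.val s.val 3).bind (fun k => D.chainRoot k s.val 1) =
      (P.chainRoot r.val s.val 3).bind (fun k => P.chainRoot k s.val 1) := by
    cases h : P.chainRoot r.val s.val 3 with
    | none => rfl
    | some u => exact (e5 r s s 3 u h 1).1
  have b2 : (P.chainRoot s.val r.val 3).bind (fun k => D.chainRoot k r.val 1) =
      (P.chainRoot s.val r.val 3).bind (fun k => P.chainRoot k r.val 1) := by
    cases h : P.chainRoot s.val r.val 3 with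
    | none => rfl
    | some u => exact (e5 s r r 3 u h 1).1
  have b3 : (P.chainRoot r.val s.val 1).map (fun k => D.chainM k r.val 2 / 3) =
      (P.chainRoot r.val s.val 1).map (fun k => P.chainM k r.val 2 / 3) := by
    cases h : P.chainRoot r.val s.val 1 with
    | none => rfl
    | some u => simp [(e5 r s r 1 u h 2).2]
  have b4 : (P.chainRoot r.val s.val 1).map (fun k => -2 * D.chainM k s.val 2 / 3) =
      (P.chainRoot r.val s.val 1).map (fun k => -2 * P.chainM k s.val 2 / 3) := by
    cases h : P.chainRoot r.val s.val 1 with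
    | none => rfl
    | some u => simp [(e5 r s s 1 u h 2).2]
  simp only [ChevalleyDatum.commTerms, terms, e1, e2, e3, e4, b1, b2, b3, b4]

include hn hd ht hr in
theorem chainComm_of (s r : Fin D.nroots) (h : P.chainComm s.val r.val = true)
    (Ψ : Alg D) (hΨ : Ψ.toSys = Φ) : Ψ.ChainComm s r := by
  obtain ⟨hl', hn'⟩ := P.rank_eq (hd := hd)
  intro j hj i hi hne
  simp only [chainComm, allN_iff, Bool.or_eq_true, zeq_iff, force_eq, Bool.and_eq_true,
    Bool.not_eq_true'] at h
  have hT : Ψ.toTables = (Φ).toTables := congrArg Sys.toTables hΨ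
  have hN : ∀ a b, Ψ.N a b = P.N a.val b.val := fun a b => congrFun (congrFun (congrArg Tables.N hT) a) b
  rw [hT] at hne ⊢
  have hN' : ∀ a b, (Φ).N a b = P.N a.val b.val := fun _ _ => rfl
  obtain ⟨a, b⟩ := P.ch_val (hn := hn) (hd := hd) (ht := ht) (hr := hr) s r j
  rw [a] at hne
  rcases h j hj with h' | h'
  · exact absurd h' hne
  obtain ⟨h1, h2⟩ := h' i hi
  have hMi : (P.ch s.val r.val i).2 ≠ 0 := by
    rw [← (P.ch_val (hn := hn) (hd := hd) (ht := ht) (hr := hr) s r i).1]
    intro e
    exact hne (a ▸ (Φ).ch_snd_eq_zero_of_le (le_of_lt hi) e)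
  have bi := (P.ch_val (hn := hn) (hd := hd) (ht := ht) (hr := hr) s r i).2 hMi
  rw [← b hne, ← bi] at h1 h2
  refine ⟨fun e => ?_, ?_⟩
  · rw [e, P.rev_eq hn', Nat.beq_refl] at h1; exact Bool.false_ne_true h1.symm
  · rw [hN']
    by_contra e
    rw [P.nz_iff.mpr e] at h2
    exact Bool.false_ne_true h2.symm

include hn hd ht hr in
theorem pairOK_of (r s : Fin D.nroots) (h : P.pairOK r.val s.val = true)
    (Ψ : Alg D) (hΨ : Ψ.toSys = Φ) : PairOK Ψ r s := by
  obtain ⟨hl', hn'⟩ := P.rank_eq (hd := hd)
  have hT := P.commTerms_val (hn := hn) (hd := hd) (ht := ht) (hr := hr) r s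
  have z : ∀ {a : ℤ}, a ≠ 0 → zeq a 0 = false := fun ha => by
    rw [Bool.eq_false_iff, ne_eq, zeq_iff]; exact ha
  simp only [pairOK, Bool.or_eq_true, Bool.and_eq_true] at h
  rcases h with (⟨hc, he⟩ | ⟨hc, he⟩) | hb
  · refine Or.inl ⟨P.chainComm_of (hn := hn) (hd := hd) (ht := ht) (hr := hr) s r hc Ψ hΨ, ?_⟩
    rw [hT, eqTerms_eq he, hΨ]
    obtain ⟨a1, b1⟩ := P.ch_val (hn := hn) (hd := hd) (ht := ht) (hr := hr) s r 1
    obtain ⟨a2, b2⟩ := P.ch_val (hn := hn) (hd := hd) (ht := ht) (hr := hr) s r 2
    obtain ⟨a3, b3⟩ := P.ch_val (hn := hn) (hd := hd) (ht := ht) (hr := hr) s r 3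
    unfold direct Sys.directTerms
    by_cases e1 : (P.ch s.val r.val 1).2 = 0
    · simp [a1, e1, zeq_iff.mpr rfl]
    · by_cases e2 : (P.ch s.val r.val 2).2 = 0
      · simp [a1, a2, e1, e2, z e1, b1 e1, zeq_iff.mpr rfl]
      · by_cases e3 : (P.ch s.val r.val 3).2 = 0
        · simp [a1, a2, a3, e1, e2, e3, z e1, z e2, b1 e1, b2 e2, zeq_iff.mpr rfl]
        · simp [a1, a2, a3, e1, e2, e3, z e1, z e2, z e3, b1 e1, b2 e2, b3 e3]
  · refine Or.inr (Or.inl ⟨P.chainComm_of (hn := hn) (hd := hd) (ht := ht) (hr := hr) r s hc Ψ hΨ, ?_⟩)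
    rw [hT, eqTerms_eq he, hΨ]
    obtain ⟨a1, b1⟩ := P.ch_val (hn := hn) (hd := hd) (ht := ht) (hr := hr) r s 1
    obtain ⟨a2, b2⟩ := P.ch_val (hn := hn) (hd := hd) (ht := ht) (hr := hr) r s 2
    obtain ⟨a3, b3⟩ := P.ch_val (hn := hn) (hd := hd) (ht := ht) (hr := hr) r s 3
    unfold swapped Sys.swapTerms
    by_cases e1 : (P.ch r.val s.val 1).2 = 0
    · simp [a1, e1, zeq_iff.mpr rfl]
    · by_cases e2 : (P.ch r.val s.val 2).2 = 0
      · simp [a1, a2, e1, e2, z e1, b1 e1, zeq_iff.mpr rfl]
      · by_cases e3 : (P.ch r.val s.val 3).2 = 0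
        · simp [a1, a2, a3, e1, e2, e3, z e1, z e2, b1 e1, b2 e2, zeq_iff.mpr rfl]
        · simp [a1, a2, a3, e1, e2, e3, z e1, z e2, z e3, b1 e1, b2 e2, b3 e3]
  · refine Or.inr (Or.inr ?_)
    simp only [brute, Bool.and_eq_true, anyN_iff, allN_iff, Bool.not_eq_true', Bool.eq_false_iff,
      ne_eq, zeq_iff] at hb
    obtain ⟨⟨⟨i, hi, j, hj, hdet⟩, hterms⟩, hid⟩ := hb
    rw [hT]
    have hV : ∀ a b, Ψ.V a b = P.V a.val b.val := fun a b =>
      congrFun (congrFun (congrArg Tables.V (congrArg Sys.toTables hΨ)) a) b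
    refine ⟨⟨⟨i, by omega⟩, ⟨j, by omega⟩, by rw [hV, hV, hV, hV]; exact hdet⟩, ?_, ?_⟩
    · clear hid hT
      generalize P.terms r.val s.val = T0 at hterms ⊢
      induction T0 with
      | nil => intro c hc; simp at hc
      | cons a L ih =>
        change (Nat.blt a.1 P.n && (allN P.l fun m => zeq (P.V a.1 m)
          (Int.ofNat a.2.2.1 * P.V r.val m + Int.ofNat a.2.2.2 * P.V s.val m)) && _) = true at hterms
        simp only [Bool.and_eq_true, Nat.blt_eq, allN_iff, zeq_iff] at hterms
        obtain ⟨⟨ha, hVa⟩, hrest⟩ := hterms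
        intro c hc
        rcases List.mem_cons.mp hc with rfl | hc
        · refine ⟨by omega, fun m => ?_⟩
          rw [hV, hV, hV]
          exact hVa m.val (by have := m.isLt; omega)
        · exact ih hrest c hc
    · -- translate the word into roots
      set L := (r.val, (1 : ℤ)) :: (s.val, 1) ::
        (P.terms r.val s.val).map fun c => (c.1, c.2.1 * (-1) ^ c.2.2.1) with hL
      have hmem : ∀ c ∈ P.terms r.val s.val, c.1 < D.nroots := by
        clear hid hL L hT
        generalize P.terms r.val s.val = T0 at hterms ⊢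
        induction T0 with
        | nil => simp
        | cons a L ih =>
          change (Nat.blt a.1 P.n && _ && _) = true at hterms
          simp only [Bool.and_eq_true, Nat.blt_eq] at hterms
          intro c hc
          rcases List.mem_cons.mp hc with rfl | hc
          · omega
          · exact ih hterms.2 c hc
      let w : List (Fin D.nroots × ℤ) := (r, 1) :: (s, 1) ::
        (P.terms r.val s.val).pmap (fun c h => (⟨c.1, h⟩, c.2.1 * (-1) ^ c.2.2.1)) hmem
      have hw : w.map (fun a => (a.1.val, a.2)) = L := by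
        simp only [w, hL, List.map_cons, List.map_pmap, List.pmap_eq_map]
      have hprod : Pack.wordZ (Φ) w = (Φ).X ℤ r 1 * (Φ).X ℤ s 1 *
          ((P.terms r.val s.val).map fun c => (Φ).XN ℤ c.1 (c.2.1 * (-1) ^ c.2.2.1)).prod := by
        simp only [Pack.wordZ, w, List.map_cons, List.prod_cons, List.map_pmap, mul_assoc]
        congr 3
        rw [← List.pmap_eq_map (f := fun c => (Φ).XN ℤ c.1 (c.2.1 * (-1) ^ c.2.2.1)) (H := hmem)]
        refine List.pmap_congr_left _ fun c _ h _ => ?_
        rw [Sys.XN, dif_pos h]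
      rw [hΨ, ← hprod]
      refine Matrix.ext fun x y => ?_
      obtain ⟨_, h1⟩ := P.wordCol_spec (hn := hn) (hd := hd) (ht := ht) (hr := hr) y [(s, 1), (r, 1)]
      obtain ⟨_, h2⟩ := P.wordCol_spec (hn := hn) (hd := hd) (ht := ht) (hr := hr) y w
      rw [hw] at h2
      have hy : enc y < P.n + P.l := by
        rcases y with k | k <;> have := k.isLt <;> simp only [enc, Sum.elim_inl, Sum.elim_inr] <;> omega
      have hx : enc x < P.n + P.l := by
        rcases x with k | k <;> have := k.isLt <;> simp only [enc, Sum.elim_inl, Sum.elim_inr] <;> omega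
      have := hid (enc y) hy (enc x) hx
      rw [show P.wordCol [(s.val, 1), (r.val, 1)] (enc y) =
        P.wordCol (List.map (fun a => (a.1.val, a.2)) [(s, 1), (r, 1)]) (enc y) from rfl, h1, h2] at this
      simpa [Pack.wordZ] using this

include hn hd ht hr in
theorem reflect_val (i : Fin D.rank) (s : Fin D.nroots) :
    D.reflectRoot i.val s.val = P.refl i.val s.val := by
  obtain ⟨hl', hn'⟩ := P.rank_eq (hd := hd)
  have hp : D.simple i.val = ((Φ).p i).val := (Φ).simpleIdx_eq i
  have hp' : ((Φ).p i).val = P.p i.val := by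
    show P.p i.val % D.nroots = _
    have h := hr
    simp only [rootsOK, Bool.and_eq_true, allN_iff, Nat.blt_eq] at h
    exact Nat.mod_eq_of_lt ((h.2 i.val (hl' ▸ i.isLt)).1.1.trans_eq hn'.symm)
  have hneg : D.neg (P.p i.val) = P.rev (P.p i.val) := by
    rw [← hp', P.rev_eq hn']
    exact (Φ).negIdx_eq ((Φ).p i)
  have hcart : D.cartan i.val s.val = P.A i.val s.val := (Φ).cartan_eq i s
  simp only [ChevalleyDatum.reflectRoot, refl, force_eq, forceZ_eq, hp, hp', hneg, hcart]
  by_cases h1 : s.val = P.p i.val
  · simp [h1]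
  by_cases h2 : s.val = P.rev (P.p i.val)
  · have : Nat.beq s.val (P.p i.val) = false := by
      rw [Bool.eq_false_iff]; exact fun e => h1 (Nat.eq_of_beq_eq_true e)
    rw [if_neg h1, if_pos h2, this, cond_false, h2, Nat.beq_refl, cond_true]
  have b1 : Nat.beq s.val (P.p i.val) = false := by
    rw [Bool.eq_false_iff]; exact fun e => h1 (Nat.eq_of_beq_eq_true e)
  have b2 : Nat.beq s.val (P.rev (P.p i.val)) = false := by
    rw [Bool.eq_false_iff]; exact fun e => h2 (Nat.eq_of_beq_eq_true e)
  rw [if_neg h1, if_neg h2, b1, b2, cond_false, cond_false]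
  cases hA : P.A i.val s.val with
  | ofNat m =>
    show _ = (bif Nat.beq m 0 then s.val else _)
    rcases Nat.eq_zero_or_pos m with rfl | hm
    · simp
    · have : Nat.beq m 0 = false := by
        rw [Bool.eq_false_iff]; exact fun e => by have := Nat.eq_of_beq_eq_true e; omega
      rw [this, cond_false, if_pos (by simp; omega)]
      rw [ChevalleyDatum.chainRoot, ← hp', P.rev_eq hn', P.chainEntry_val (hn := hn) (hd := hd) (ht := ht) (hr := hr)]
      rfl
  | negSucc m =>
    rw [if_neg (by simp), if_pos (Int.negSucc_lt_zero m)]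
    rw [ChevalleyDatum.chainRoot, ← hp', P.chainEntry_val (hn := hn) (hd := hd) (ht := ht) (hr := hr)]
    rfl

end Pack

end CfsgLib.Chev

namespace CfsgLib.Chev

open Cfsg.Lie Matrix

namespace Pack

/-- The package from the checks. -/
noncomputable def toChev (P : Pack) (D : ChevalleyDatum) (hn : 0 < D.nroots)
    (hd : P.datumOK D = true) (ht : P.tabOK = true) (hr : P.rootsOK = true) (hj : P.jacAll = true)
    (hw : P.weylOK = true) (hc : P.commOK = true) : Chev D :=
  let A : Alg D := ⟨P.toSys D hn hd ht hr, P.jac_simple hj⟩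
  have hl' : D.rank = P.l := (P.rank_eq (hd := hd)).1
  have hn' : D.nroots = P.n := (P.rank_eq (hd := hd)).2
  have hwe : ∀ (i : Fin D.rank) (s : Fin D.nroots), P.eColOK i.val s.val = true := fun i s => by
    simp only [weylOK, allN_iff, Bool.and_eq_true] at hw
    exact (hw i.val (hl' ▸ i.isLt)).2 s.val (hn' ▸ s.isLt)
  have hwh : ∀ (i j : Fin D.rank), P.hColOK i.val j.val = true := fun i j => by
    simp only [weylOK, allN_iff, Bool.and_eq_true] at hw
    exact (hw i.val (hl' ▸ i.isLt)).1 j.val (hl' ▸ j.isLt)
  have hlt : ∀ (i : Fin D.rank) (s : Fin D.nroots), P.refl i.val s.val < D.nroots := fun i s => by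
    have h := hwe i s
    simp only [eColOK, force_eq, forceZ_eq, Bool.and_eq_true, Nat.blt_eq] at h
    omega
  have hpv : ∀ i : Fin D.rank, (A.p i).val = P.p i.val := fun i => by
    show P.p i.val % D.nroots = _
    have h := hr
    simp only [rootsOK, Bool.and_eq_true, allN_iff, Nat.blt_eq] at h
    exact Nat.mod_eq_of_lt ((h.2 i.val (hl' ▸ i.isLt)).1.1.trans_eq hn'.symm)
  { toAlg := A
    refl := fun i s => ⟨P.refl i.val s.val, hlt i s⟩
    eta := fun i s => P.eta i.val s.val
    reflectRoot_eq := fun i s => P.reflect_val (hn := hn) (hd := hd) (ht := ht) (hr := hr) i s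
    eta_unit := fun i s => by
      have h := hwe i s
      simp only [eColOK, force_eq, forceZ_eq, Bool.and_eq_true, Bool.or_eq_true, zeq_iff] at h
      exact h.1.1.1.1.1.2
    eta_refl := fun i s => by
      have h := hwe i s
      simp only [eColOK, force_eq, forceZ_eq, Bool.and_eq_true, zeq_iff] at h
      exact h.1.1.2
    eta_rev := fun i s => by
      have h := hwe i s
      simp only [eColOK, force_eq, forceZ_eq, Bool.and_eq_true, zeq_iff] at h
      rw [← P.rev_eq hn']
      exact h.1.2
    eta_p := fun i => by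
      constructor
      · have h := hwe i (A.p i)
        simp only [eColOK, force_eq, forceZ_eq, Bool.and_eq_true, Bool.or_eq_true, zeq_iff,
          Bool.not_eq_true'] at h
        rcases h.2 with h2 | h2
        · rw [hpv, Nat.beq_refl, Bool.true_or] at h2; cases h2
        · exact h2
      · have h := hwe i (A.p i).rev
        simp only [eColOK, force_eq, forceZ_eq, Bool.and_eq_true, Bool.or_eq_true, zeq_iff,
          Bool.not_eq_true'] at h
        rcases h.2 with h2 | h2
        · rw [← P.rev_eq hn', hpv, Nat.beq_refl, Bool.or_true] at h2; cases h2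
        · exact h2
    V_refl := fun i s j => by
      have h := hwe i s
      simp only [eColOK, force_eq, forceZ_eq, Bool.and_eq_true, zeq_iff] at h
      have hcode := h.1.1.1.2
      rw [P.code_eq, P.code_eq, P.code_eq, Finset.mul_sum, ← Finset.sum_sub_distrib, ← sub_eq_zero,
        ← Finset.sum_sub_distrib] at hcode
      have hp := fun q => P.code_eq q
      have bnd : ∀ q < P.n, ∀ m < P.l, |P.V q m| ≤ 10 := by
        intro q hq m hm
        have h' := hr
        simp only [rootsOK, rootOK, Bool.and_eq_true, allN_iff, decide_eq_true_iff] at h'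
        have := ((h'.1 q hq).1.1.1.2 m hm).1.2
        rw [← Int.natCast_natAbs]; exact_mod_cast this
      have hAb : |P.A i.val s.val| ≤ 4 := by
        have : field P.car 3 (Nat.add (Nat.mul i.val P.n) s.val) < 8 := Nat.mod_lt _ (by norm_num)
        show |Int.subNatNat (field P.car 3 (Nat.add (Nat.mul i.val P.n) s.val)) 4| ≤ 4
        rw [Int.subNatNat_eq_coe, abs_le]
        generalize field P.car 3 (Nat.add (Nat.mul i.val P.n) s.val) = q at this ⊢
        omega
      have hVp : ∀ m < P.l, P.V (P.p i.val) m = if i.val = m then 1 else 0 := by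
        intro m hm
        have h' := hr
        simp only [rootsOK, Bool.and_eq_true, allN_iff, zeq_iff] at h'
        rw [((h'.2 i.val (hl' ▸ i.isLt)).2 m hm).1]
        by_cases e : i.val = m
        · simp [e]
        · simp [e, beq_eq_false_iff_ne.mpr e]
      have key := eq_zero_of_sum_digits
        (d := fun m => P.V (P.refl i.val s.val) m - P.V s.val m + P.A i.val s.val * P.V (P.p i.val) m)
        ?_ ?_ j.val (j.isLt.trans_eq hl')
      · show P.V (P.refl i.val s.val) j.val = P.V s.val j.val - if j = i then P.A i.val s.val else 0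
        rw [hVp j.val (j.isLt.trans_eq hl')] at key
        by_cases e : j = i
        · subst e; simp at key ⊢; omega
        · have : ¬ i.val = j.val := fun q => e (Fin.ext q.symm)
          simp [e, this] at key ⊢; omega
      · intro m hm
        have a := abs_le.mp (bnd _ ((hlt i s).trans_eq hn') m hm)
        have b := abs_le.mp (bnd s.val (hn' ▸ s.isLt) m hm)
        have c := abs_le.mp hAb
        rw [hVp m hm, abs_lt]
        split_ifs <;> constructor <;> omega
      · rw [← hcode]
        exact Finset.sum_congr rfl fun m _ => by ring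
    nmat := fun i => by
      refine Matrix.ext fun x y => ?_
      obtain ⟨g, h1⟩ := P.wordCol_spec (hn := hn) (hd := hd) (ht := ht) (hr := hr) y
        [(A.p i, 1), ((A.p i).rev, -1), (A.p i, 1)]
      have e := h1 x
      simp only [wordZ, List.map_cons, List.map_nil, List.prod_cons, List.prod_nil, mul_one,
        ← mul_assoc] at e
      rw [← e]
      have hword : P.wordCol [((A.p i).val, 1), ((A.p i).rev.val, -1), ((A.p i).val, 1)] (enc y) =
          P.wordCol (P.nWord (P.p i.val)) (enc y) := by
        rw [nWord, ← P.rev_eq hn', hpv]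
      rw [hword]
      rcases y with j | s
      · have h := hwh i j
        simp only [hColOK, force_eq, allN_iff, zeq_iff] at h
        have := h (enc x) (by
          rcases x with k | k <;> have := k.isLt <;>
            simp only [enc, Sum.elim_inl, Sum.elim_inr, Nat.add_eq] <;> omega)
        have hy : enc (Sum.inl j : D.Idx) = P.n + j.val := by simp [enc, hn']
        rw [hy]
        rw [show Nat.add P.n j.val = P.n + j.val from rfl] at this
        rw [this]
        rcases x with k | u
        · show _ = (if k = j then (1 : ℤ) else 0) - if k = i then P.A j.val (A.p i).val else 0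
          rw [hpv]
          congr 1
          · by_cases e : k = j
            · subst e; rw [if_pos rfl, hy, Nat.beq_refl]; rfl
            · have : Nat.beq (enc (Sum.inl k : D.Idx)) (P.n + j.val) = false := by
                rw [Bool.eq_false_iff]
                intro q
                have := Nat.eq_of_beq_eq_true q
                simp only [enc, Sum.elim_inl] at this
                exact e (Fin.ext (by omega))
              rw [this, if_neg e]; rfl
          · by_cases e : k = i
            · subst e
              have : Nat.beq (enc (Sum.inl k : D.Idx)) (Nat.add P.n k.val) = true := by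
                simp [enc, hn']
              rw [this, if_pos rfl]; rfl
            · have : Nat.beq (enc (Sum.inl k : D.Idx)) (Nat.add P.n i.val) = false := by
                rw [Bool.eq_false_iff]
                intro q
                have := Nat.eq_of_beq_eq_true q
                simp only [enc, Sum.elim_inl, Nat.add_eq] at this
                exact e (Fin.ext (by omega))
              rw [this, if_neg e]; rfl
        · have a : ∀ m, Nat.beq (enc (Sum.inr u : D.Idx)) (P.n + m) = false := fun m => by
            rw [Bool.eq_false_iff]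
            intro q
            have := Nat.eq_of_beq_eq_true q
            simp only [enc, Sum.elim_inr] at this
            omega
          simp [monMat, a, Nat.add_eq]
      · have h := hwe i s
        simp only [eColOK, force_eq, forceZ_eq, Bool.and_eq_true] at h
        have hall := h.1.1.1.1.2
        have off : ∀ m, m ≠ P.refl i.val s.val →
            coef m (P.wordCol (P.nWord (P.p i.val)) s.val) = 0 := by
          intro m hm
          generalize P.wordCol (P.nWord (P.p i.val)) s.val = W at hall ⊢
          induction W with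
          | nil => rfl
          | cons a L ih =>
            change ((Nat.beq a.1 _ || zeq a.2 0) && _) = true at hall
            simp only [Bool.and_eq_true, Bool.or_eq_true, zeq_iff] at hall
            rw [coef_cons, ih hall.2, add_zero]
            rcases hall.1 with q | q
            · rw [if_neg (fun e => hm (e.symm.trans (Nat.eq_of_beq_eq_true q)))]
            · rw [q, ite_self]
        show coef (enc x) (P.wordCol (P.nWord (P.p i.val)) s.val) = _
        rcases x with k | u
        · show _ = (0 : ℤ)
          refine off _ ?_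
          have := hlt i s
          simp only [enc, Sum.elim_inl]
          omega
        · show _ = if u = ⟨P.refl i.val s.val, hlt i s⟩ then P.eta i.val s.val else 0
          by_cases e : u = ⟨P.refl i.val s.val, hlt i s⟩
          · rw [if_pos e, e]; rfl
          · rw [if_neg e]; exact off _ fun q => e (Fin.ext q)
    comm_ok := fun r s hN => by
      simp only [commOK, allN_iff] at hc
      have h := hc r.val (hn' ▸ r.isLt) s.val (hn' ▸ s.isLt)
      have hN' : P.N r.val s.val ≠ 0 := hN
      rw [P.nz_iff.mpr hN', cond_true] at h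
      exact P.pairOK_of (hn := hn) (hd := hd) (ht := ht) (hr := hr) r s h A rfl }

end Pack

end CfsgLib.Chev
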