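/-
Kernel verification of the Jacobi identities with a fundamental root for type F4.
-/
import Cfsg.Agent.Lib.Chev.DataF4

namespace CfsgLib.Chev

set_option maxRecDepth 100000

theorem jacAllF4 : packF4.jacAll = true := by decide +kernel

end CfsgLib.Chev
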