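/-
The packages of the seven tabulated types.
-/
import Cfsg.Agent.Lib.Chev.Full
import Cfsg.Agent.Lib.Chev.CheckG2
import Cfsg.Agent.Lib.Chev.JacG2
import Cfsg.Agent.Lib.Chev.WeylG2
import Cfsg.Agent.Lib.Chev.CommG2
import Cfsg.Agent.Lib.Chev.CheckB2
import Cfsg.Agent.Lib.Chev.JacB2
import Cfsg.Agent.Lib.Chev.WeylB2
import Cfsg.Agent.Lib.Chev.CommB2
import Cfsg.Agent.Lib.Chev.CheckD4
import Cfsg.Agent.Lib.Chev.JacD4
import Cfsg.Agent.Lib.Chev.WeylD4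
import Cfsg.Agent.Lib.Chev.CommD4
import Cfsg.Agent.Lib.Chev.CheckF4
import Cfsg.Agent.Lib.Chev.JacF4
import Cfsg.Agent.Lib.Chev.WeylF4
import Cfsg.Agent.Lib.Chev.CommF4
import Cfsg.Agent.Lib.Chev.CheckE6
import Cfsg.Agent.Lib.Chev.JacE6
import Cfsg.Agent.Lib.Chev.WeylE6
import Cfsg.Agent.Lib.Chev.CommE6
import Cfsg.Agent.Lib.Chev.CheckE7
import Cfsg.Agent.Lib.Chev.JacE7
import Cfsg.Agent.Lib.Chev.WeylE7
import Cfsg.Agent.Lib.Chev.CommE7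
import Cfsg.Agent.Lib.Chev.CheckE8
import Cfsg.Agent.Lib.Chev.JacE8
import Cfsg.Agent.Lib.Chev.WeylE8
import Cfsg.Agent.Lib.Chev.CommE8

namespace CfsgLib.Chev

/-- The package of type G2. -/
noncomputable def chevG2 : Chev Cfsg.Lie.chevG2 :=
  packG2.toChev Cfsg.Lie.chevG2 (by decide) datumOKG2 tabOKG2 rootsOKG2 jacAllG2 weylOKG2 commOKG2

/-- The package of type B2. -/
noncomputable def chevB2 : Chev Cfsg.Lie.chevB2 :=
  packB2.toChev Cfsg.Lie.chevB2 (by decide) datumOKB2 tabOKB2 rootsOKB2 jacAllB2 weylOKB2 commOKB2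

/-- The package of type D4. -/
noncomputable def chevD4 : Chev Cfsg.Lie.chevD4 :=
  packD4.toChev Cfsg.Lie.chevD4 (by decide) datumOKD4 tabOKD4 rootsOKD4 jacAllD4 weylOKD4 commOKD4

/-- The package of type F4. -/
noncomputable def chevF4 : Chev Cfsg.Lie.chevF4 :=
  packF4.toChev Cfsg.Lie.chevF4 (by decide) datumOKF4 tabOKF4 rootsOKF4 jacAllF4 weylOKF4 commOKF4

/-- The package of type E6. -/
noncomputable def chevE6 : Chev Cfsg.Lie.chevE6 :=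
  packE6.toChev Cfsg.Lie.chevE6 (by decide) datumOKE6 tabOKE6 rootsOKE6 jacAllE6 weylOKE6 commOKE6

/-- The package of type E7. -/
noncomputable def chevE7 : Chev Cfsg.Lie.chevE7 :=
  packE7.toChev Cfsg.Lie.chevE7 (by decide) datumOKE7 tabOKE7 rootsOKE7 jacAllE7 weylOKE7 commOKE7

/-- The package of type E8. -/
noncomputable def chevE8 : Chev Cfsg.Lie.chevE8 :=
  packE8.toChev Cfsg.Lie.chevE8 (by decide) datumOKE8 tabOKE8 rootsOKE8 jacAllE8 weylOKE8 commOKE8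

theorem exists_chev {D : Cfsg.Lie.ChevalleyDatum}
    (hD : D ∈ [Cfsg.Lie.chevG2, Cfsg.Lie.chevB2, Cfsg.Lie.chevD4, Cfsg.Lie.chevF4, Cfsg.Lie.chevE6,
      Cfsg.Lie.chevE7, Cfsg.Lie.chevE8]) : Nonempty (Chev D) := by
  simp only [List.mem_cons, List.not_mem_nil, or_false] at hD
  rcases hD with rfl | rfl | rfl | rfl | rfl | rfl | rfl
  exacts [⟨chevG2⟩, ⟨chevB2⟩, ⟨chevD4⟩, ⟨chevF4⟩, ⟨chevE6⟩, ⟨chevE7⟩, ⟨chevE8⟩]

theorem exists_alg {D : Cfsg.Lie.ChevalleyDatum}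
    (hD : D ∈ [Cfsg.Lie.chevG2, Cfsg.Lie.chevB2, Cfsg.Lie.chevD4, Cfsg.Lie.chevF4, Cfsg.Lie.chevE6,
      Cfsg.Lie.chevE7, Cfsg.Lie.chevE8]) : Nonempty (Alg D) :=
  ⟨(exists_chev hD).some.toAlg⟩

end CfsgLib.Chev
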