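/-
Checkable certificates for the Poincaré polynomial of a Weyl group: orbits of fundamental coweights along a
chain of parabolic subgroups.
-/
import Mathlib.Data.List.OfFn
import Mathlib.Algebra.BigOperators.Ring.Finset
import Mathlib.Tactic.Ring

namespace CfsgLib.Chev.Cert

/-- The value of a coefficient list. -/
def evalP (q : ℕ) : List ℕ → ℕ
  | [] => 0
  | a :: as => a + q * evalP q as

/-- Sum of coefficient lists. -/
def addP : List ℕ → List ℕ → List ℕ
  | [], b => b
  | a, [] => a
  | a :: as, b :: bs => (a + b) :: addP as bs

/-- Product of coefficient lists. -/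
def mulP : List ℕ → List ℕ → List ℕ
  | [], _ => []
  | a :: as, b => addP (b.map fun x => a * x) (0 :: mulP as b)

/-- The coefficient list of `q ^ d`. -/
def monP : ℕ → List ℕ
  | 0 => [1]
  | d + 1 => 0 :: monP d

/-- Equality of coefficient lists up to trailing zeros. -/
def eqP : List ℕ → List ℕ → Bool
  | [], b => b.all (· == 0)
  | a, [] => a.all (· == 0)
  | a :: as, b :: bs => a == b && eqP as bs

theorem evalP_addP (q : ℕ) : ∀ a b, evalP q (addP a b) = evalP q a + evalP q b
  | [], b => by simp [addP, evalP]
  | a :: as, [] => by simp [addP, evalP]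
  | a :: as, b :: bs => by simp only [addP, evalP, evalP_addP q as bs]; ring

theorem evalP_map_mul (q a : ℕ) : ∀ b, evalP q (b.map fun x => a * x) = a * evalP q b
  | [] => by simp [evalP]
  | b :: bs => by simp only [List.map_cons, evalP, evalP_map_mul q a bs]; ring

theorem evalP_mulP (q : ℕ) : ∀ a b, evalP q (mulP a b) = evalP q a * evalP q b
  | [], b => by simp [mulP, evalP]
  | a :: as, b => by
    simp only [mulP, evalP_addP, evalP_map_mul, evalP, evalP_mulP q as b]; ring

theorem evalP_monP (q : ℕ) : ∀ d, evalP q (monP d) = q ^ d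
  | 0 => by simp [monP, evalP]
  | d + 1 => by simp only [monP, evalP, evalP_monP q d]; ring

theorem evalP_all_zero (q : ℕ) : ∀ a : List ℕ, a.all (· == 0) = true → evalP q a = 0
  | [], _ => rfl
  | a :: as, h => by
    simp only [List.all_cons, Bool.and_eq_true, beq_iff_eq] at h
    simp [evalP, h.1, evalP_all_zero q as h.2]

theorem evalP_eqP (q : ℕ) : ∀ a b, eqP a b = true → evalP q a = evalP q b
  | [], b, h => by
    cases b with
    | nil => rfl
    | cons b bs => exact (evalP_all_zero q _ (by simpa [eqP] using h)).symm
  | a :: as, [], h => evalP_all_zero q _ (by simpa [eqP] using h)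
  | a :: as, b :: bs, h => by
    simp only [eqP, Bool.and_eq_true, beq_iff_eq] at h
    simp [evalP, h.1, evalP_eqP q as bs h.2]

theorem evalP_replicate_mul (m : ℕ) : ∀ d,
    m * evalP (m + 1) (List.replicate d 1) + 1 = (m + 1) ^ d
  | 0 => by simp [evalP]
  | d + 1 => by
    rw [List.replicate_succ, evalP, pow_succ, ← evalP_replicate_mul m d]; ring

/-- An orbit with the heights of its vectors. -/
abbrev Orbit := List (List ℤ × ℕ)

/-- The coefficient list of an orbit. -/
def levelP : Orbit → List ℕ
  | [] => []
  | e :: L => addP (monP e.2) (levelP L)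

theorem evalP_levelP (q : ℕ) : ∀ L : Orbit, evalP q (levelP L) = (L.map fun e => q ^ e.2).sum
  | [] => rfl
  | e :: L => by simp [levelP, evalP_addP, evalP_monP, evalP_levelP q L]

/-- The product of the coefficient lists `1 + q + ⋯ + q^(d-1)`. -/
def degP : List ℕ → List ℕ
  | [] => [1]
  | d :: ds => mulP (List.replicate d 1) (degP ds)

theorem evalP_degP (m : ℕ) : ∀ ds : List ℕ,
    m ^ ds.length * evalP (m + 1) (degP ds) = (ds.map fun d => (m + 1) ^ d - 1).prod
  | [] => by simp [degP, evalP]
  | d :: ds => by
    rw [degP, evalP_mulP, List.length_cons, pow_succ, List.map_cons, List.prod_cons,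
      ← evalP_degP m ds, ← evalP_replicate_mul m d, Nat.add_sub_cancel]
    ring

variable {l : ℕ}

/-- The vector as a function. -/
def get (c : List ℤ) (j : Fin l) : ℤ := c.getD j.val 0

/-- The reflection in the `i`-th fundamental root. -/
def step (M : Fin l → Fin l → ℤ) (i : Fin l) (c : List ℤ) : List ℤ :=
  List.ofFn fun j => get c j - M i j * get c i

/-- The fundamental coweight. -/
def unit (k : Fin l) : List ℤ := List.ofFn fun j => if j = k then 1 else 0

/-- The checks for one level of the chain. -/
def levelOK (M : Fin l → Fin l → ℤ) (K : List (Fin l)) (k : Fin l) (L : Orbit) : Bool :=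
  L.contains (unit k, 0) && decide (L.map Prod.fst).Nodup &&
    L.all fun e =>
      decide (e.1.length = l) &&
      (K.all fun i =>
        if get e.1 i < 0 then (0 < e.2 : Bool) && L.contains (step M i e.1, e.2 - 1)
        else (L.map Prod.fst).contains (step M i e.1)) &&
      (e.1 == unit k || K.any fun i => decide (get e.1 i < 0))

/-- The checks for a whole chain. -/
def chainOK (M : Fin l → Fin l → ℤ) : List (Fin l) → List (Fin l × Orbit) → Bool
  | K, [] => K.isEmpty
  | K, (k, L) :: rest =>
    K.contains k && levelOK M K k L && chainOK M (K.filter fun i => decide (i ≠ k)) rest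

/-- The coefficient list of a chain. -/
def chainP : List (Fin l × Orbit) → List ℕ
  | [] => [1]
  | (_, L) :: rest => mulP (levelP L) (chainP rest)

theorem get_ofFn (f : Fin l → ℤ) (j : Fin l) : get (List.ofFn f) j = f j := by
  simp [get, List.getD_eq_getElem?_getD]

theorem ofFn_get {c : List ℤ} (h : c.length = l) : List.ofFn (fun j : Fin l => get c j) = c := by
  subst h
  exact List.ext_getElem (by simp) fun i h1 h2 => by simp [get, List.getD_eq_getElem?_getD, h2]

theorem step_step {M : Fin l → Fin l → ℤ} {i : Fin l} (hi : M i i = 2) {c : List ℤ} (hc : c.length = l) :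
    step M i (step M i c) = c := by
  conv_rhs => rw [← ofFn_get hc]
  refine congrArg List.ofFn (funext fun j => ?_)
  simp only [step, get_ofFn, hi]
  ring

end CfsgLib.Chev.Cert
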