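/-
Orbit certificate for the Poincaré polynomial of the Weyl group of type G2.
-/
import Cfsg.Agent.Lib.Chev.PoincareCert
import Cfsg.Prelude.Def_ChevG2
import Cfsg.Prelude.Def_ChevStructure

namespace CfsgLib.Chev.Cert

open Cfsg.Lie

set_option maxRecDepth 100000

/-- The Cartan matrix. -/
def cmG2 (i j : Fin 2) : ℤ :=
  ([[2, -3], [-1, 2]].getD i.val []).getD j.val 0

/-- An orbit. -/
def orbG2_0 : Orbit :=
  [([1, 0], 0),
   ([-1, 3], 1),
   ([2, -3], 2),
   ([-2, 3], 3),
   ([1, -3], 4),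
   ([-1, 0], 5)]

/-- An orbit. -/
def orbG2_1 : Orbit :=
  [([0, 1], 0),
   ([1, -1], 1)]

/-- The chain. -/
def chainG2 : List (Fin 2 × Orbit) :=
  [(0, orbG2_0), (1, orbG2_1)]

theorem cartanG2 : ∀ a b : Fin 2,
    chevG2.cartan a.val (chevG2.simple b.val) = cmG2 a b := by
  decide +kernel

theorem chainG2_ok : chainOK cmG2 (List.finRange 2) chainG2 = true := by
  decide +kernel

theorem chainG2_deg : eqP (chainP chainG2) (degP [2, 6]) = true := by
  decide +kernel

end CfsgLib.Chev.Cert
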