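/-
Chevalley's commutator formula with the terms of the datum.
-/
import Cfsg.Agent.Lib.Chev.Full

namespace CfsgLib.Chev

open Cfsg.Lie Matrix

set_option linter.dupNamespace false

/-- A matrix of integer polynomials in two variables is determined by its values at complex points with
non-zero coordinates. -/
theorem eq_of_forall_units {I : Type*} {L M : Matrix I I (MvPolynomial (Fin 2) ℤ)}
    (h : ∀ a b : ℂˣ, L.map (MvPolynomial.aeval ![(a : ℂ), b]).toRingHom =
      M.map (MvPolynomial.aeval ![(a : ℂ), b]).toRingHom) :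
    L = M := by
  refine Matrix.ext fun i j => ?_
  have key : (L i j - M i j) * (MvPolynomial.X 0 * MvPolynomial.X 1) = 0 := by
    apply MvPolynomial.map_injective (Int.castRingHom ℂ) (RingHom.injective_int _)
    refine MvPolynomial.funext fun v => ?_
    by_cases ha : v 0 = 0
    · simp [MvPolynomial.eval_map, ha]
    by_cases hb : v 1 = 0
    · simp [MvPolynomial.eval_map, hb]
    have := congrFun (congrFun (h (Units.mk0 _ ha) (Units.mk0 _ hb)) i) j
    have hv : ![v 0, v 1] = v := by funext k; fin_cases k <;> rfl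
    simp only [Units.val_mk0, hv] at this
    simp only [Matrix.map_apply, AlgHom.toRingHom_eq_coe, RingHom.coe_coe,
      MvPolynomial.aeval_def] at this
    simp only [map_mul, map_sub, map_zero, MvPolynomial.eval_map]
    rw [show Int.castRingHom ℂ = algebraMap ℤ ℂ from (algebraMap_int_eq ℂ).symm, this, sub_self,
      zero_mul]
  have hX : (MvPolynomial.X 0 * MvPolynomial.X 1 : MvPolynomial (Fin 2) ℤ) ≠ 0 :=
    mul_ne_zero (MvPolynomial.X_ne_zero 0) (MvPolynomial.X_ne_zero 1)
  exact sub_eq_zero.mp ((mul_eq_zero.mp key).resolve_right hX)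

variable {D : ChevalleyDatum}

namespace Sys

variable (Φ : Sys D)

theorem map_XN {R S G : Type*} [CommRing R] [CommRing S] [FunLike G R S] [RingHomClass G R S]
    (f : G) (r : ℕ) (t : R) : (Φ.XN R r t).map f = Φ.XN S r (f t) := by
  by_cases h : r < D.nroots
  · simp [XN, h, Φ.X_map]
  · simp only [XN, dif_neg h]
    exact Matrix.map_one f (map_zero f) (map_one f)

theorem XN_val (R : Type*) [CommRing R] (r : Fin D.nroots) (t : R) :
    Φ.XN R r.val t = Φ.X R r t := by simp [XN]

/-- The product of the terms of a commutator formula. -/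
def termProd (R : Type*) [CommRing R] (L : List (ℕ × ℤ × ℕ × ℕ)) (t u : R) : Matrix D.Idx D.Idx R :=
  (L.map fun c => Φ.XN R c.1 ((c.2.1 : R) * (-t) ^ c.2.2.1 * u ^ c.2.2.2)).prod

theorem map_termProd {R S G : Type*} [CommRing R] [CommRing S] [FunLike G R S] [RingHomClass G R S]
    (f : G) (L : List (ℕ × ℤ × ℕ × ℕ)) (t u : R) :
    (Φ.termProd R L t u).map f = Φ.termProd S L (f t) (f u) := by
  induction L with
  | nil => simp [termProd, Matrix.map_one f (map_zero f) (map_one f)]
  | cons c L ih =>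
    simp only [termProd, List.map_cons, List.prod_cons, Matrix.map_mul] at ih ⊢
    rw [ih, Φ.map_XN]
    simp

end Sys

namespace Chev

variable (Φ : Chev D) {R : Type*} [CommRing R]

theorem termProd_direct (r s : Fin D.nroots) (t u : R) :
    Φ.toSys.termProd R (Φ.toSys.directTerms r s) t u = Φ.toAlg.chainProd R s r (-t) (-u) := by
  have z : ∀ k, k ≤ 3 → (Φ.toTables.ch s r k).2 = 0 → ∀ m, k ≤ m →
      (Φ.toTables.ch s r m).2 = 0 := fun k _ hk m hm => Φ.toSys.ch_snd_eq_zero_of_le hm hk
  unfold Sys.directTerms Alg.chainProd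
  by_cases e1 : (Φ.toTables.ch s r 1).2 = 0
  · simp [e1, z 1 (by norm_num) e1 2 (by norm_num), z 1 (by norm_num) e1 3 (by norm_num),
      Sys.termProd, Φ.toAlg.X_zero_eq_one]
  · by_cases e2 : (Φ.toTables.ch s r 2).2 = 0
    · simp [e1, e2, z 2 (by norm_num) e2 3 (by norm_num), Sys.termProd, Sys.XN_val,
        Φ.toAlg.X_zero_eq_one]
      congr 1
      ring
    · by_cases e3 : (Φ.toTables.ch s r 3).2 = 0
      · simp [e1, e2, e3, Sys.termProd, Sys.XN_val, Φ.toAlg.X_zero_eq_one]
        congr 2 <;> ring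
      · simp [e1, e2, e3, Sys.termProd, Sys.XN_val, mul_assoc]
        congr 2 <;> first | ring | (congr 1 <;> first | ring | (congr 1; ring))

theorem termProd_swap (r s : Fin D.nroots) (t u : R) :
    Φ.toSys.termProd R (Φ.toSys.swapTerms r s) t u = Φ.toAlg.chainProd R r s u (-t) := by
  have z : ∀ k, k ≤ 3 → (Φ.toTables.ch r s k).2 = 0 → ∀ m, k ≤ m →
      (Φ.toTables.ch r s m).2 = 0 := fun k _ hk m hm => Φ.toSys.ch_snd_eq_zero_of_le hm hk
  unfold Sys.swapTerms Alg.chainProd
  by_cases e1 : (Φ.toTables.ch r s 1).2 = 0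
  · simp [e1, z 1 (by norm_num) e1 2 (by norm_num), z 1 (by norm_num) e1 3 (by norm_num),
      Sys.termProd, Φ.toAlg.X_zero_eq_one]
  · by_cases e2 : (Φ.toTables.ch r s 2).2 = 0
    · simp [e1, e2, z 2 (by norm_num) e2 3 (by norm_num), Sys.termProd, Sys.XN_val,
        Φ.toAlg.X_zero_eq_one]
      congr 1
      ring
    · by_cases e3 : (Φ.toTables.ch r s 3).2 = 0
      · simp [e1, e2, e3, Sys.termProd, Sys.XN_val, Φ.toAlg.X_zero_eq_one]
        congr 2 <;> ring
      · simp [e1, e2, e3, Sys.termProd, Sys.XN_val, mul_assoc]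
        congr 2 <;> first | ring | (congr 1 <;> first | ring | (congr 1; ring))

theorem commTerms_eq_nil {r s : Fin D.nroots} (hN : Φ.N r s = 0) :
    D.commTerms r.val s.val = [] := by
  have hN' : Φ.N s r = 0 := by rw [Φ.N_anti, hN, neg_zero]
  have h1 : D.chainEntry r.val s.val = [] := by
    rw [Φ.toSys.chainEntry_eq, Tables.entry, if_pos (by rw [Φ.toSys.ch_one_snd, hN])]
  have h2 : D.chainEntry s.val r.val = [] := by
    rw [Φ.toSys.chainEntry_eq, Tables.entry, if_pos (by rw [Φ.toSys.ch_one_snd, hN'])]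
  simp [ChevalleyDatum.commTerms, ChevalleyDatum.chainRoot, h1, h2]

/-- Chevalley's commutator formula over a commutative ring. -/
theorem commutator_formula {r s : Fin D.nroots} (hrs : s ≠ r) (hneg : s ≠ r.rev) (t u : R) :
    Φ.toSys.X R s u * Φ.toSys.X R r t = Φ.toSys.X R r t * Φ.toSys.X R s u *
      Φ.toSys.termProd R (D.commTerms r.val s.val) t u := by
  have hneg' : r ≠ s.rev := fun e => hneg (by rw [e, Fin.rev_rev])
  by_cases hN : Φ.N r s = 0
  · rw [Φ.commTerms_eq_nil hN]
    simp only [Sys.termProd, List.map_nil, List.prod_nil, mul_one]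
    exact (Φ.toAlg.X_commute hneg hN t u).eq.symm
  rcases Φ.comm_ok r s hN with ⟨hc, he⟩ | ⟨hc, he⟩ | ⟨⟨i, j, hdet⟩, hV, hid⟩
  · rw [he, Φ.termProd_direct]
    exact Φ.toAlg.comm_direct (Ne.symm hrs) hneg' hc t u
  · rw [he, Φ.termProd_swap]
    exact Φ.toAlg.comm_swap hrs hneg hc t u
  -- the certified value at `t = u = 1`, moved by diagonal automorphisms
  set L := D.commTerms r.val s.val
  have key : Φ.toSys.X (MvPolynomial (Fin 2) ℤ) s (MvPolynomial.X 1) *
      Φ.toSys.X (MvPolynomial (Fin 2) ℤ) r (MvPolynomial.X 0) =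
      Φ.toSys.X (MvPolynomial (Fin 2) ℤ) r (MvPolynomial.X 0) *
        Φ.toSys.X (MvPolynomial (Fin 2) ℤ) s (MvPolynomial.X 1) *
        Φ.toSys.termProd (MvPolynomial (Fin 2) ℤ) L (MvPolynomial.X 0) (MvPolynomial.X 1) := by
    refine eq_of_forall_units fun a b => ?_
    simp only [Matrix.map_mul, Φ.toSys.X_map, Φ.toSys.map_termProd]
    simp only [AlgHom.toRingHom_eq_coe, RingHom.coe_coe, MvPolynomial.aeval_X, Matrix.cons_val_zero,
      Matrix.cons_val_one, Matrix.cons_val_fin_one]
    -- a character with prescribed values at `r` and `s`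
    obtain ⟨c, hcr, hcs⟩ : ∃ c : Fin D.rank → ℂˣ, Φ.toSys.chi c r = a ∧ Φ.toSys.chi c s = b := by
      have hij : i ≠ j := by
        intro e; subst e; exact hdet (by ring)
      set k := Φ.V r i * Φ.V s j - Φ.V r j * Φ.V s i with hk
      have hroot : ∀ z : ℂˣ, ∃ w : ℂˣ, w ^ k = z := by
        intro z
        rcases Int.natAbs_eq k with e | e
        · obtain ⟨w, hw⟩ := IsAlgClosed.exists_pow_nat_eq (z : ℂ) (n := k.natAbs) (by omega)
          have hw0 : w ≠ 0 := by
            intro e0; rw [e0, zero_pow (by omega)] at hw; exact z.ne_zero hw.symm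
          refine ⟨Units.mk0 w hw0, Units.ext ?_⟩
          rw [e, zpow_natCast, Units.val_pow_eq_pow_val, Units.val_mk0, hw]
        · obtain ⟨w, hw⟩ := IsAlgClosed.exists_pow_nat_eq ((z⁻¹ : ℂˣ) : ℂ) (n := k.natAbs) (by omega)
          have hw0 : w ≠ 0 := by
            intro e0; rw [e0, zero_pow (by omega)] at hw; exact (z⁻¹).ne_zero hw.symm
          refine ⟨Units.mk0 w hw0, ?_⟩
          rw [e, _root_.zpow_neg, zpow_natCast, inv_eq_iff_eq_inv]
          exact Units.ext (by rw [Units.val_pow_eq_pow_val, Units.val_mk0, hw])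
      obtain ⟨x, hx⟩ := hroot a
      obtain ⟨y, hy⟩ := hroot b
      refine ⟨Function.update (Function.update 1 i (x ^ Φ.V s j * y ^ (-Φ.V r j))) j
        (x ^ (-Φ.V s i) * y ^ Φ.V r i), ?_, ?_⟩
      all_goals
        rw [Sys.chi, ← Finset.mul_prod_erase Finset.univ _ (Finset.mem_univ i),
          ← Finset.mul_prod_erase (Finset.univ.erase i) _
            (Finset.mem_erase.mpr ⟨Ne.symm hij, Finset.mem_univ j⟩),
          Finset.prod_eq_one (s := ((Finset.univ : Finset (Fin D.rank)).erase i).erase j) (fun m hm => by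
            simp only [Finset.mem_erase] at hm
            simp [Function.update_of_ne hm.1, Function.update_of_ne hm.2.1]), mul_one,
          Function.update_self, Function.update_of_ne hij, Function.update_self, mul_zpow, mul_zpow,
          ← _root_.zpow_mul, ← _root_.zpow_mul, ← _root_.zpow_mul, ← _root_.zpow_mul,
          mul_mul_mul_comm, ← _root_.zpow_add, ← _root_.zpow_add]
      · rw [← hx, hk, show -Φ.V r j * Φ.V r i + Φ.V r i * Φ.V r j = 0 by ring, zpow_zero, mul_one]
        congr 1; ring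
      · rw [← hy, hk, show Φ.V s j * Φ.V s i + -Φ.V s i * Φ.V s j = 0 by ring, zpow_zero, one_mul]
        congr 1; ring
    -- conjugate the certified identity
    have hid' : Φ.toSys.X ℂ s 1 * Φ.toSys.X ℂ r 1 =
        Φ.toSys.X ℂ r 1 * Φ.toSys.X ℂ s 1 * Φ.toSys.termProd ℂ L 1 1 := by
      have h := congrArg (fun M => M.map (Int.castRingHom ℂ)) hid
      simp only [Matrix.map_mul, Φ.toSys.X_map, map_one] at h
      rw [h]
      congr 1
      have : ((L.map fun c => Φ.toSys.XN ℤ c.1 (c.2.1 * (-1) ^ c.2.2.1)).prod).map (Int.castRingHom ℂ) =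
          (L.map fun c => Φ.toSys.XN ℂ c.1 ((c.2.1 : ℂ) * (-1) ^ c.2.2.1)).prod := by
        clear hid hV h
        induction L with
        | nil => simp
        | cons c L ih =>
          simp only [List.map_cons, List.prod_cons, Matrix.map_mul, Φ.toSys.map_XN, ih]
          simp
      rw [this, Sys.termProd]
      simp
    set T := Φ.toSys.torusMat c with hTdef
    have hT := fun (x : Fin D.nroots) (z : ℂ) => Φ.toSys.torusMat_X c x z
    have hTt : T * Φ.toSys.termProd ℂ L 1 1 = Φ.toSys.termProd ℂ L a b * T := by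
      suffices hgen : ∀ M : List (ℕ × ℤ × ℕ × ℕ), (∀ e ∈ M, ∃ h : e.1 < D.nroots,
          ∀ m, Φ.V ⟨e.1, h⟩ m = (e.2.2.1 : ℤ) * Φ.V r m + (e.2.2.2 : ℤ) * Φ.V s m) →
          T * Φ.toSys.termProd ℂ M 1 1 = Φ.toSys.termProd ℂ M a b * T from hgen L hV
      intro M hM
      induction M with
      | nil => simp [Sys.termProd]
      | cons d M ih =>
        have ih' := ih (fun e he => hM e (List.mem_cons_of_mem _ he))
        obtain ⟨hd, hdV⟩ := hM d List.mem_cons_self
        have hval : (Φ.toSys.chi c ⟨d.1, hd⟩ : ℂ) = (a : ℂ) ^ d.2.2.1 * (b : ℂ) ^ d.2.2.2 := by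
          rw [← hcr, ← hcs, ← Units.val_pow_eq_pow_val, ← Units.val_pow_eq_pow_val, ← Units.val_mul]
          congr 1
          simp only [Sys.chi, hdV, _root_.zpow_add, mul_comm (d.2.2.1 : ℤ), mul_comm (d.2.2.2 : ℤ),
            _root_.zpow_mul, zpow_natCast, Finset.prod_mul_distrib, Finset.prod_pow]
        simp only [Sys.termProd, List.map_cons, List.prod_cons] at ih' ⊢
        rw [← mul_assoc, Sys.XN, dif_pos hd, hTdef, hT, ← hTdef, mul_assoc, ih', ← mul_assoc]
        congr 2
        rw [Sys.XN, dif_pos hd, hval]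
        congr 1
        simp [mul_pow, mul_comm, mul_left_comm, mul_assoc, neg_pow (a : ℂ)]
    have hr := hT r 1
    have hs := hT s 1
    rw [hcr, mul_one] at hr
    rw [hcs, mul_one] at hs
    have hinv : T * Φ.toSys.torusMat c⁻¹ = 1 := by
      rw [hTdef, Φ.toSys.torusMat_mul, mul_inv_cancel, Φ.toSys.torusMat_one]
    have h2 := congrArg (fun M => T * M * Φ.toSys.torusMat c⁻¹) hid'
    simp only [← mul_assoc] at h2
    rw [← hTdef] at hr hs
    rw [hs, mul_assoc (Φ.toSys.X ℂ s b), hr] at h2
    simp only [← mul_assoc] at h2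
    rw [mul_assoc (Φ.toSys.X ℂ r a) T, hs] at h2
    simp only [← mul_assoc] at h2
    rw [mul_assoc (_ * Φ.toSys.X ℂ s b) T, hTt] at h2
    simp only [← mul_assoc] at h2
    rwa [mul_assoc _ T, mul_assoc _ T, hinv, mul_one, mul_one] at h2
  have := congrArg (fun M => M.map (MvPolynomial.aeval ![t, u]).toRingHom) key
  simpa [Matrix.map_mul, Φ.toSys.X_map, Φ.toSys.map_termProd] using this

theorem commWord_val {F : Type*} [Field F] (r s : Fin D.nroots) (t u : F) :
    D.wordMat F (D.commWord F r.val s.val t u) =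
      Φ.toSys.termProd F (D.commTerms r.val s.val) t u := by
  simp only [ChevalleyDatum.wordMat, ChevalleyDatum.commWord, Sys.termProd, List.map_map]
  congr 1
  refine List.map_congr_left fun c _ => ?_
  exact Φ.toSys.x_eq_XN F _ _

end Chev

end CfsgLib.Chev
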