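/-
Unipotence by grading: matrices that raise a weight.
-/
import Cfsg.Agent.Lib.Chev.Group

namespace CfsgLib.Chev

open Matrix

set_option linter.unusedSimpArgs false

variable {I : Type*} [Fintype I] [DecidableEq I] {R : Type*} [CommRing R] (w : I → ℤ)

/-- Every non-zero entry of `M` raises the weight by at least `c`. -/
def Raises (c : ℤ) (M : Matrix I I R) : Prop := ∀ x y, M x y ≠ 0 → w y + c ≤ w x

theorem Raises.mono {a b : ℤ} {M : Matrix I I R} (h : Raises w a M) (hab : b ≤ a) : Raises w b M :=
  fun x y hxy => by have := h x y hxy; omega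

omit [DecidableEq I] in
theorem Raises.mul {a b : ℤ} {M N : Matrix I I R} (hM : Raises w a M) (hN : Raises w b N) :
    Raises w (a + b) (M * N) := by
  intro x y hxy
  rw [Matrix.mul_apply] at hxy
  obtain ⟨z, _, hz⟩ := Finset.exists_ne_zero_of_sum_ne_zero hxy
  have h1 := hM x z (fun e => hz (by simp [e]))
  have h2 := hN z y (fun e => hz (by simp [e]))
  omega

omit [Fintype I] [DecidableEq I] in
theorem Raises.add {a : ℤ} {M N : Matrix I I R} (hM : Raises w a M) (hN : Raises w a N) :
    Raises w a (M + N) := by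
  intro x y hxy
  by_cases h : M x y = 0
  · exact hN x y (by simpa [h] using hxy)
  · exact hM x y h

omit [Fintype I] [DecidableEq I] in
theorem Raises.sub {a : ℤ} {M N : Matrix I I R} (hM : Raises w a M) (hN : Raises w a N) :
    Raises w a (M - N) := by
  intro x y hxy
  by_cases h : M x y = 0
  · exact hN x y (by simpa [h] using hxy)
  · exact hM x y h

omit [Fintype I] [DecidableEq I] in
theorem raises_zero (a : ℤ) : Raises w a (0 : Matrix I I R) := fun x y h => absurd rfl h

omit [Fintype I] in
theorem raises_one : Raises w 0 (1 : Matrix I I R) := by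
  intro x y h
  by_cases e : x = y
  · subst e; omega
  · exact absurd (Matrix.one_apply_ne e) h

theorem raises_of_sub_one {a : ℤ} (ha : 0 ≤ a) {M : Matrix I I R} (h : Raises w a (M - 1)) :
    Raises w 0 M := by
  have := (h.mono w ha).add w (raises_one w)
  rwa [sub_add_cancel] at this

theorem mul_sub_one (M N : Matrix I I R) : M * N - 1 = (M - 1) * (N - 1) + (M - 1) + (N - 1) := by
  noncomm_ring

/-- The units `g` with `g - 1` and `g⁻¹ - 1` raising the weight by at least `c`. -/
def raiseSubgroup (c : ℤ) (hc : 0 ≤ c) : Subgroup (Matrix I I R)ˣ where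
  carrier := {g | Raises w c ((g : Matrix I I R) - 1) ∧ Raises w c ((↑g⁻¹ : Matrix I I R) - 1)}
  one_mem' := by simp [raises_zero]
  mul_mem' := by
    rintro g h ⟨g1, g2⟩ ⟨h1, h2⟩
    constructor
    · rw [Units.val_mul, mul_sub_one]
      exact (((g1.mul w h1).mono w (by omega)).add w g1).add w h1
    · rw [_root_.mul_inv_rev, Units.val_mul, mul_sub_one]
      exact (((h2.mul w g2).mono w (by omega)).add w h2).add w g2
  inv_mem' := by
    rintro g ⟨g1, g2⟩
    exact ⟨g2, by rwa [inv_inv]⟩

theorem commutator_mem_raiseSubgroup {a b : ℤ} (ha : 0 ≤ a) (hb : 0 ≤ b) {g h : (Matrix I I R)ˣ}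
    (hg : g ∈ raiseSubgroup w a ha) (hh : h ∈ raiseSubgroup w b hb) :
    g * h * g⁻¹ * h⁻¹ ∈ raiseSubgroup w (a + b) (add_nonneg ha hb) := by
  obtain ⟨g1, g2⟩ := hg
  obtain ⟨h1, h2⟩ := hh
  have key : ∀ g h : (Matrix I I R)ˣ,
      Raises w a ((g : Matrix I I R) - 1) → Raises w b ((h : Matrix I I R) - 1) →
      Raises w 0 (↑g⁻¹ : Matrix I I R) → Raises w 0 (↑h⁻¹ : Matrix I I R) →
      Raises w (a + b) ((↑(g * h * g⁻¹ * h⁻¹) : Matrix I I R) - 1) ∧
        Raises w (a + b) ((↑(h * g * h⁻¹ * g⁻¹) : Matrix I I R) - 1) := by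
    intro g h g1 h1 g0 h0
    have e : ((g : Matrix I I R) - 1) * ((h : Matrix I I R) - 1) -
        ((h : Matrix I I R) - 1) * ((g : Matrix I I R) - 1) =
        (g : Matrix I I R) * h - (h : Matrix I I R) * g := by noncomm_ring
    have d1 : Raises w (a + b) ((g : Matrix I I R) * (h : Matrix I I R) - (h : Matrix I I R) * (g : Matrix I I R)) := by
      rw [← e]; exact (g1.mul w h1).sub w ((h1.mul w g1).mono w (by omega))
    have d2 : Raises w (a + b) ((h : Matrix I I R) * (g : Matrix I I R) - (g : Matrix I I R) * (h : Matrix I I R)) := by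
      have := (raises_zero (R := R) w (a + b)).sub w d1
      rwa [zero_sub, neg_sub] at this
    constructor
    · have e1 : (↑(g * h * g⁻¹ * h⁻¹) : Matrix I I R) - 1 =
          ((g : Matrix I I R) * (h : Matrix I I R) - (h : Matrix I I R) * (g : Matrix I I R)) * (↑g⁻¹ : Matrix I I R) * (↑h⁻¹ : Matrix I I R) := by
        simp only [Units.val_mul, sub_mul, mul_assoc, Units.mul_inv_cancel_left, Units.mul_inv, one_mul]
      rw [e1]
      exact ((d1.mul w g0).mul w h0).mono w (by omega)
    · have e1 : (↑(h * g * h⁻¹ * g⁻¹) : Matrix I I R) - 1 =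
          ((h : Matrix I I R) * (g : Matrix I I R) - (g : Matrix I I R) * (h : Matrix I I R)) * (↑h⁻¹ : Matrix I I R) * (↑g⁻¹ : Matrix I I R) := by
        simp only [Units.val_mul, sub_mul, mul_assoc, Units.mul_inv_cancel_left, Units.mul_inv, one_mul]
      rw [e1]
      exact ((d2.mul w h0).mul w g0).mono w (by omega)
  obtain ⟨r1, r2⟩ := key g h g1 h1 (raises_of_sub_one w ha g2) (raises_of_sub_one w hb h2)
  refine ⟨r1, ?_⟩
  rw [show (g * h * g⁻¹ * h⁻¹)⁻¹ = h * g * h⁻¹ * g⁻¹ by group]
  exact r2

/-- The number of weights below that of `x`. -/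
noncomputable def level (x : I) : ℕ := ((Finset.univ.image w).filter (· < w x)).card

omit [DecidableEq I] in
theorem level_lt {x y : I} (h : w y < w x) : level w y < level w x := by
  classical
  refine Finset.card_lt_card ⟨fun z hz => ?_, fun hss => ?_⟩
  · simp only [Finset.mem_filter] at hz ⊢
    exact ⟨hz.1, by omega⟩
  · have : w y ∈ (Finset.univ.image w).filter (· < w y) :=
      hss (Finset.mem_filter.mpr ⟨Finset.mem_image_of_mem _ (Finset.mem_univ y), h⟩)
    simp at this

omit [DecidableEq I] in
theorem level_lt_card (x : I) : level w x < (Finset.univ.image w).card := by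
  classical
  refine Finset.card_lt_card ⟨Finset.filter_subset _ _, fun hss => ?_⟩
  have := hss (Finset.mem_image_of_mem _ (Finset.mem_univ x))
  simp at this

theorem Raises.pow_eq_zero {M : Matrix I I R} (h : Raises w 1 M) {k : ℕ}
    (hk : (Finset.univ.image w).card ≤ k) : M ^ k = 0 := by
  have key : ∀ k : ℕ, ∀ x y, (M ^ k) x y ≠ 0 → level w y + k ≤ level w x := by
    intro k
    induction k with
    | zero =>
      intro x y hxy
      by_cases e : x = y
      · subst e; simp
      · exact absurd (by simp [Matrix.one_apply_ne e]) hxy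
    | succ k ih =>
      intro x y hxy
      rw [pow_succ, Matrix.mul_apply] at hxy
      obtain ⟨z, _, hz⟩ := Finset.exists_ne_zero_of_sum_ne_zero hxy
      have h1 := ih x z (fun e => hz (by simp [e]))
      have h2 := level_lt w (show w y < w z by have := h z y (fun e => hz (by simp [e])); omega)
      omega
  refine Matrix.ext fun x y => ?_
  by_contra hne
  have := key k x y hne
  have := level_lt_card w x
  omega

/-- A subgroup of a raising subgroup of positive degree is nilpotent. -/
theorem isNilpotent_of_le_raiseSubgroup {G : Subgroup (Matrix I I R)ˣ}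
    (hG : G ≤ raiseSubgroup w 1 zero_le_one) : Group.IsNilpotent G := by
  obtain ⟨B, hB⟩ : ∃ B : ℕ, ∀ x y : I, w x - w y < B := by
    refine ⟨(2 * ∑ z, (w z).natAbs) + 1, fun x y => ?_⟩
    have hx := Finset.single_le_sum (f := fun z => (w z).natAbs) (fun _ _ => Nat.zero_le _) (Finset.mem_univ x)
    have hy := Finset.single_le_sum (f := fun z => (w z).natAbs) (fun _ _ => Nat.zero_le _) (Finset.mem_univ y)
    generalize ∑ z, (w z).natAbs = S at hx hy ⊢
    omega
  rw [Subgroup.nilpotent_iff_finite_descending_central_series]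
  refine ⟨B, fun k => (raiseSubgroup w ((k : ℤ) + 1) (by omega)).subgroupOf G, ⟨?_, ?_⟩, ?_⟩
  · rw [eq_top_iff]
    intro g _
    rw [Subgroup.mem_subgroupOf]
    exact hG g.2
  · intro x n hx g
    rw [Subgroup.mem_subgroupOf] at hx ⊢
    have := commutator_mem_raiseSubgroup w _ _ hx (hG g.2)
    simp only [commutatorElement_def, Subgroup.coe_mul, Subgroup.coe_inv]
    simpa [add_comm, add_left_comm] using this
  · rw [eq_bot_iff]
    intro g hg
    rw [Subgroup.mem_subgroupOf] at hg
    rw [Subgroup.mem_bot]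
    apply Subtype.ext
    refine Units.ext (sub_eq_zero.mp (Matrix.ext fun x y => ?_))
    by_contra hne
    have := hg.1 x y hne
    have := hB x y
    omega

end CfsgLib.Chev
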