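/-
The elements `n_r(t)` and `h_r(t)`: monomial form, conjugation of root elements, diagonal form of `h_r(t)`.
-/
import Cfsg.Agent.Lib.Chev.Full

namespace CfsgLib.Chev

open Cfsg.Lie Matrix

set_option linter.dupNamespace false
set_option linter.unusedSimpArgs false

variable {D : ChevalleyDatum} (Φ : Chev D)

namespace Chev

/-! ### The reflections as permutations of the roots -/

theorem A_pp (i : Fin D.rank) : Φ.A i (Φ.p i) = 2 := by
  have h := Φ.pair_self (Φ.p i)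
  rw [Finset.sum_eq_single i] at h
  · simpa [Φ.C_p] using h
  · intro j _ hj; simp [Φ.C_p, Ne.symm hj]
  · simp

theorem A_refl (i : Fin D.rank) (s : Fin D.nroots) (k : Fin D.rank) :
    Φ.A k (Φ.refl i s) = Φ.A k s - Φ.A i s * Φ.A k (Φ.p i) := by
  rw [Φ.A_lin k (Φ.refl i s), Φ.A_lin k s]
  simp only [Φ.V_refl, sub_mul, Finset.sum_sub_distrib, ite_mul, zero_mul,
    Finset.sum_ite_eq', Finset.mem_univ, if_true]

theorem refl_refl (i : Fin D.rank) (s : Fin D.nroots) : Φ.refl i (Φ.refl i s) = s := by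
  refine Φ.toSys.V_inj fun j => ?_
  rw [Φ.V_refl, Φ.V_refl, Φ.A_refl, Φ.A_pp]
  split_ifs <;> ring

/-- The reflection as a permutation. -/
def reflPerm (i : Fin D.rank) : Equiv.Perm (Fin D.nroots) :=
  ⟨Φ.refl i, Φ.refl i, Φ.refl_refl i, Φ.refl_refl i⟩

theorem refl_rev (i : Fin D.rank) (s : Fin D.nroots) : Φ.refl i s.rev = (Φ.refl i s).rev := by
  refine Φ.toSys.V_inj fun j => ?_
  rw [Φ.V_refl, Φ.V_neg s, Φ.V_neg (Φ.refl i s), Φ.V_refl, Φ.toSys.A_neg]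
  split_ifs <;> ring

theorem refl_p (i : Fin D.rank) : Φ.refl i (Φ.p i) = (Φ.p i).rev := by
  refine Φ.toSys.V_inj fun j => ?_
  rw [Φ.V_refl, Φ.V_neg (Φ.p i), Φ.A_pp, Φ.V_p]
  by_cases h : j = i
  · subst h; simp
  · simp [h, Ne.symm h]

theorem refl_p_rev (i : Fin D.rank) : Φ.refl i (Φ.p i).rev = Φ.p i := by
  rw [Φ.refl_rev, Φ.refl_p, Fin.rev_rev]

theorem pos_rev_iff (r : Fin D.nroots) : Φ.toTables.Pos r.rev ↔ ¬ Φ.toTables.Pos r := by
  have := r.isLt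
  have := Φ.even
  simp only [Tables.Pos, Fin.val_rev]
  omega

theorem refl_pos {i : Fin D.rank} {s : Fin D.nroots} (hs : Φ.toTables.Pos s) (h : s ≠ Φ.p i) :
    Φ.toTables.Pos (Φ.refl i s) ∧ Φ.refl i s ≠ Φ.p i := by
  obtain ⟨j, hji, hj⟩ := Φ.V_supp s hs i h
  constructor
  · by_contra hn
    have := Φ.V_nonpos _ hn j
    rw [Φ.V_refl, if_neg hji] at this
    omega
  · intro e
    have := Φ.V_refl i s j
    rw [e, Φ.V_p, if_neg (Ne.symm hji), if_neg hji] at this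
    omega

theorem C_nonneg {r : Fin D.nroots} (hr : Φ.toTables.Pos r) (i : Fin D.rank) : 0 ≤ Φ.C r i := by
  rw [← Φ.coroot_eq r i]
  have h := ((Φ.posRoot_iff r).mpr hr).2
  generalize hL : D.coroot.getD r.val #[] = L at h
  by_cases hi : i.val < L.size
  · refine h _ ?_
    rw [Array.getD_eq_getD_getElem?, Array.getElem?_eq_getElem hi, Option.getD_some]
    exact Array.getElem_mem_toList hi
  · rw [Array.getD_eq_getD_getElem?, Array.getElem?_eq_none (Nat.le_of_not_lt hi), Option.getD_none]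

theorem exists_descent {r : Fin D.nroots} (hr : Φ.toTables.Pos r) :
    ∃ i, 0 < Φ.A i r := by
  by_contra hn
  push Not at hn
  have h := Φ.pair_self r
  have : ∑ i, Φ.C r i * Φ.A i r ≤ 0 :=
    Finset.sum_nonpos fun i _ => mul_nonpos_of_nonneg_of_nonpos (Φ.C_nonneg hr i) (hn i)
  omega

theorem code_refl (i : Fin D.rank) (s : Fin D.nroots) :
    Φ.toTables.code (Φ.refl i s) = Φ.toTables.code s - Φ.A i s * Φ.toTables.code (Φ.p i) := by
  simp only [Tables.code, Φ.V_refl, Finset.mul_sum, ← Finset.sum_sub_distrib, Φ.V_p, sub_mul]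
  refine Finset.sum_congr rfl fun j _ => ?_
  by_cases h : j = i
  · subst h; simp
  · simp [h, Ne.symm h]

theorem code_pos {r : Fin D.nroots} (hr : Φ.toTables.Pos r) : 0 < Φ.toTables.code r := by
  have h : r.rev < r := by
    have := r.isLt
    rw [Fin.lt_def, Fin.val_rev]
    have hr' : D.nroots ≤ 2 * r.val := hr
    omega
  have := Φ.code_strictMono h
  rw [Φ.toSys.code_neg] at this
  omega

theorem refl_lt {i : Fin D.rank} {r : Fin D.nroots} (h : 0 < Φ.A i r) : Φ.refl i r < r := by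
  refine Φ.code_strictMono.lt_iff_lt.mp ?_
  rw [Φ.code_refl]
  have := Φ.code_pos (Φ.p_pos i)
  nlinarith

/-- Every root is obtained from a fundamental one by reflections. -/
theorem root_induction {Q : Fin D.nroots → Prop} (hp : ∀ i, Q (Φ.p i))
    (hstep : ∀ i r, Q r → Q (Φ.refl i r)) : ∀ r, Q r := by
  have key : ∀ m : ℕ, ∀ r : Fin D.nroots, r.val = m → Φ.toTables.Pos r → Q r ∧ Q r.rev := by
    intro m
    induction m using Nat.strong_induction_on with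
    | _ m ih =>
      intro r hm hr
      obtain ⟨i, hi⟩ := Φ.exists_descent hr
      by_cases hri : r = Φ.p i
      · subst hri
        exact ⟨hp i, Φ.refl_p i ▸ hstep i _ (hp i)⟩
      · have hlt := Φ.refl_lt hi
        obtain ⟨h1, h2⟩ := ih (Φ.refl i r).val (hm ▸ hlt) _ rfl (Φ.refl_pos hr hri).1
        constructor
        · simpa [Φ.refl_refl] using hstep i _ h1
        · simpa [Φ.refl_rev, Φ.refl_refl] using hstep i _ h2
  intro r
  by_cases hr : Φ.toTables.Pos r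
  · exact (key _ r rfl hr).1
  · have := (key _ r.rev rfl ((Φ.pos_rev_iff r).mpr hr)).2
    rwa [Fin.rev_rev] at this

/-! ### `n_p(1)` over a commutative ring -/

/-- The matrix of `n_p(1)`. -/
def nOne (R : Type*) [CommRing R] (i : Fin D.rank) : Matrix D.Idx D.Idx R :=
  Φ.toSys.X R (Φ.p i) 1 * Φ.toSys.X R (Φ.p i).rev (-1) * Φ.toSys.X R (Φ.p i) 1

theorem map_nOne {R S G : Type*} [CommRing R] [CommRing S] [FunLike G R S] [RingHomClass G R S]
    (f : G) (i : Fin D.rank) : (Φ.nOne R i).map f = Φ.nOne S i := by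
  simp [nOne, Matrix.map_mul, Φ.toSys.X_map]

theorem nOne_eq (R : Type*) [CommRing R] (i : Fin D.rank) :
    Φ.nOne R i = (monMat Φ.toSys i (Φ.refl i) (Φ.eta i)).map (Int.castRingHom R) := by
  rw [← Φ.nmat i, ← Φ.map_nOne (Int.castRingHom R) i]
  rfl

theorem nOne_apply_inr (R : Type*) [CommRing R] (i : Fin D.rank) (x : D.Idx) (s : Fin D.nroots) :
    Φ.nOne R i x (Sum.inr s) = if x = Sum.inr (Φ.refl i s) then (Φ.eta i s : R) else 0 := by
  rw [Φ.nOne_eq]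
  rcases x with j | u
  · simp [monMat]
  · by_cases h : u = Φ.refl i s <;> simp [monMat, h]

theorem nOne_apply_inl (R : Type*) [CommRing R] (i : Fin D.rank) (x : D.Idx) (j : Fin D.rank) :
    Φ.nOne R i x (Sum.inl j) = (if x = Sum.inl j then 1 else 0) -
      (if x = Sum.inl i then (Φ.A j (Φ.p i) : R) else 0) := by
  rw [Φ.nOne_eq]
  rcases x with k | u
  · by_cases h1 : k = j <;> by_cases h2 : k = i <;>
      first | simp [monMat, h1, h2] | (subst h1; simp_all [monMat])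
  · simp [monMat]

theorem nOne_isAut (i : Fin D.rank) : Φ.toSys.IsAut (Φ.nOne ℚ i) :=
  Sys.IsAut.mul Φ.toSys (Sys.IsAut.mul Φ.toSys (Φ.toAlg.X_isAut _ _) (Φ.toAlg.X_isAut _ _))
    (Φ.toAlg.X_isAut _ _)

theorem nOne_inv (R : Type*) [CommRing R] (i : Fin D.rank) : Φ.nOne R i *
    (Φ.toSys.X R (Φ.p i) (-1) * Φ.toSys.X R (Φ.p i).rev 1 * Φ.toSys.X R (Φ.p i) (-1)) = 1 := by
  have h := Φ.toAlg.X_mul_X_neg (R := R) (Φ.p i).rev (-1)
  rw [neg_neg] at h
  simp only [nOne, mul_assoc]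
  rw [← mul_assoc (Φ.toSys.X R (Φ.p i) 1) (Φ.toSys.X R (Φ.p i) (-1)), Φ.toAlg.X_mul_X_neg, one_mul,
    ← mul_assoc (Φ.toSys.X R (Φ.p i).rev (-1)), h, one_mul, Φ.toAlg.X_mul_X_neg]

theorem nOne_conj_rat (i : Fin D.rank) (s : Fin D.nroots) (t : ℚ) :
    Φ.nOne ℚ i * Φ.toSys.X ℚ s t = Φ.toSys.X ℚ (Φ.refl i s) ((Φ.eta i s : ℚ) * t) * Φ.nOne ℚ i := by
  rw [Sys.IsAut.semiconj_exp Φ.toSys (Φ.nOne_isAut i) (Φ.nOne_inv ℚ i) s t, Φ.toSys.X_eq_exp]
  congr 2
  have : Φ.nOne ℚ i *ᵥ Pi.single (Sum.inr s) 1 =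
      (Φ.eta i s : ℚ) • Pi.single (Sum.inr (Φ.refl i s)) 1 := by
    ext x
    rw [Matrix.mulVec_single_one, Matrix.col_apply, Φ.nOne_apply_inr]
    by_cases h : x = Sum.inr (Φ.refl i s) <;> simp [h]
  rw [this, map_smul, Φ.toSys.adv_single, smul_smul, mul_comm]

theorem nOne_conj (R : Type*) [CommRing R] (i : Fin D.rank) (s : Fin D.nroots) (t : R) :
    Φ.nOne R i * Φ.toSys.X R s t = Φ.toSys.X R (Φ.refl i s) ((Φ.eta i s : R) * t) * Φ.nOne R i := by
  have key : Φ.nOne (MvPolynomial (Fin 2) ℤ) i * Φ.toSys.X (MvPolynomial (Fin 2) ℤ) s (MvPolynomial.X 0) =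
      Φ.toSys.X (MvPolynomial (Fin 2) ℤ) (Φ.refl i s)
        ((Φ.eta i s : MvPolynomial (Fin 2) ℤ) * MvPolynomial.X 0) * Φ.nOne (MvPolynomial (Fin 2) ℤ) i := by
    refine eq_of_forall_rat fun v => ?_
    simpa [Matrix.map_mul, Φ.toSys.X_map, Φ.map_nOne] using Φ.nOne_conj_rat i s (v 0)
  have := congrArg (fun M => M.map (MvPolynomial.aeval ![t, t]).toRingHom) key
  simpa [Matrix.map_mul, Φ.toSys.X_map, Φ.map_nOne] using this

/-- The coroot coefficients transform by the reflection. -/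
theorem C_refl (i : Fin D.rank) (r : Fin D.nroots) (k : Fin D.rank) :
    Φ.C (Φ.refl i r) k = Φ.C r k - if k = i then ∑ j, Φ.C r j * Φ.A j (Φ.p i) else 0 := by
  have he : ∀ x, Φ.nOne ℚ i *ᵥ Pi.single (Sum.inr x) 1 =
      (Φ.eta i x : ℚ) • Pi.single (Sum.inr (Φ.refl i x)) 1 := by
    intro x; ext y
    rw [Matrix.mulVec_single_one, Matrix.col_apply, Φ.nOne_apply_inr]
    by_cases h : y = Sum.inr (Φ.refl i x) <;> simp [h]
  have h := congrArg (fun M : Matrix D.Idx D.Idx ℚ => M *ᵥ Pi.single (Sum.inr r.rev) 1)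
    (Φ.nOne_isAut i (Pi.single (Sum.inr r) 1))
  simp only [← Matrix.mulVec_mulVec, he, Matrix.mulVec_smul, map_smul, Φ.toSys.adv_single,
    Matrix.smul_mulVec, Φ.toSys.adB_mulVec_single, smul_smul, Φ.refl_rev, Φ.toSys.br_ee_neg] at h
  have he2 : ((Φ.eta i r : ℚ) * (Φ.eta i r.rev : ℚ)) = 1 := by exact_mod_cast Φ.eta_rev i r
  rw [mul_comm, he2, one_smul] at h
  have h' := congrFun h (Sum.inl k)
  simp only [Matrix.mulVec_sum, Matrix.mulVec_smul, Finset.sum_apply, Pi.smul_apply, smul_eq_mul,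
    Matrix.mulVec_single_one, Matrix.col_apply, Φ.nOne_apply_inl, Sum.inl.injEq,
    Pi.single_apply, mul_sub, mul_ite, mul_one, mul_zero, Finset.sum_sub_distrib,
    Finset.sum_ite_eq, Finset.mem_univ, if_true] at h'
  rw [← @Int.cast_inj ℚ, h']
  by_cases hk : k = i <;> simp [hk]

/-! ### Characters and `n_p(1)` -/

variable {R : Type*} [CommRing R]

theorem chi_refl (c : Fin D.rank → Rˣ) (i : Fin D.rank) (s : Fin D.nroots) :
    Φ.toSys.chi c (Φ.refl i s) = Φ.toSys.chi c s * c i ^ (-Φ.A i s) := by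
  simp only [Sys.chi, Φ.V_refl]
  rw [← Finset.mul_prod_erase Finset.univ (fun j => c j ^ (Φ.V s j - if j = i then Φ.A i s else 0))
      (Finset.mem_univ i),
    ← Finset.mul_prod_erase Finset.univ (fun j => c j ^ Φ.V s j) (Finset.mem_univ i), if_pos rfl,
    Finset.prod_congr rfl (g := fun j => c j ^ Φ.V s j)
      (fun j hj => by rw [if_neg (Finset.ne_of_mem_erase hj), sub_zero]),
    sub_eq_add_neg, _root_.zpow_add, mul_right_comm]

/-- The character `s ↦ χ (w_i s)`. -/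
def reflChar (i : Fin D.rank) (c : Fin D.rank → Rˣ) : Fin D.rank → Rˣ :=
  c * (Φ.toAlg.cartanChar i (c i))⁻¹

theorem chi_inv (c : Fin D.rank → Rˣ) (s : Fin D.nroots) :
    Φ.toSys.chi c⁻¹ s = (Φ.toSys.chi c s)⁻¹ := by
  simp [Sys.chi, Finset.prod_inv_distrib]

theorem chi_reflChar (i : Fin D.rank) (c : Fin D.rank → Rˣ) (s : Fin D.nroots) :
    Φ.toSys.chi (Φ.reflChar i c) s = Φ.toSys.chi c (Φ.refl i s) := by
  rw [reflChar, Φ.toSys.chi_mul, Φ.chi_inv, Φ.toAlg.chi_cartanChar, Φ.chi_refl, _root_.zpow_neg]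

theorem torusMat_nOne (i : Fin D.rank) (c : Fin D.rank → Rˣ) :
    Φ.toSys.torusMat c * Φ.nOne R i = Φ.nOne R i * Φ.toSys.torusMat (Φ.reflChar i c) := by
  refine Matrix.ext fun x y => ?_
  rw [Sys.torusMat, Sys.torusMat, Matrix.diagonal_mul, Matrix.mul_diagonal]
  rcases y with j | s
  · rw [Φ.nOne_apply_inl]
    rcases x with k | u <;> simp [Sys.chiIdx]
  · rw [Φ.nOne_apply_inr]
    by_cases h : x = Sum.inr (Φ.refl i s)
    · subst h; simp [Sys.chiIdx, Φ.chi_reflChar, mul_comm]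
    · simp [h]

theorem neg_one_zpow_cast (a : ℤ) :
    ((((-1 : Rˣ) ^ a : Rˣ)) : R) = (((-1 : ℤ) ^ a.natAbs : ℤ) : R) := by
  cases a with
  | ofNat m => simp
  | negSucc m =>
    rw [zpow_negSucc, Int.natAbs_negSucc, ← inv_pow, inv_neg, inv_one]
    simp

theorem nOne_sq (i : Fin D.rank) :
    Φ.nOne R i * Φ.nOne R i = Φ.toSys.torusMat (Φ.toAlg.cartanChar i (-1)) := by
  refine Matrix.ext fun x y => ?_
  rw [Matrix.mul_apply, Sys.torusMat, Matrix.diagonal_apply]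
  rcases y with j | s
  · simp only [Φ.nOne_apply_inl R i _ j, mul_sub, mul_ite, mul_one, mul_zero, Finset.sum_sub_distrib,
      Finset.sum_ite_eq', Finset.mem_univ, if_true]
    simp only [Φ.nOne_apply_inl]
    rcases x with k | u
    · simp only [Sum.inl.injEq, Sys.chiIdx, Φ.A_pp, Int.cast_ofNat]
      by_cases h2 : k = i
      · subst h2
        by_cases h1 : k = j <;> simp [h1] <;> ring
      · by_cases h1 : k = j <;> simp [h1, h2] <;> (try subst h1) <;> simp_all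
    · simp
  · simp only [Φ.nOne_apply_inr R i _ s, mul_ite, mul_zero, Finset.sum_ite_eq', Finset.mem_univ,
      if_true]
    rw [Φ.nOne_apply_inr, Φ.refl_refl]
    by_cases h : x = Sum.inr s
    · subst h
      simp only [if_true, Sys.chiIdx, Sum.elim_inr, Φ.toAlg.chi_cartanChar, neg_one_zpow_cast]
      rw [← Int.cast_mul, mul_comm, Φ.eta_refl]
    · simp [h]

/-! ### Units -/

variable {F : Type*} [Field F]

/-- `n_r(t) = x_r(t) x_{-r}(-1/t) x_r(t)`. -/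
def nw (r : Fin D.nroots) (t : Fˣ) : GL D.Idx F :=
  Φ.toAlg.xg r (t : F) * Φ.toAlg.xg r.rev (-(t : F)⁻¹) * Φ.toAlg.xg r (t : F)

/-- `h_r(t) = n_r(t) n_r(-1)`. -/
def hw (r : Fin D.nroots) (t : Fˣ) : GL D.Idx F := Φ.nw r t * Φ.nw r (-1)

theorem nw_val (r : Fin D.nroots) (t : Fˣ) :
    (Φ.nw r t : Matrix D.Idx D.Idx F) = D.nMat F r.val (t : F) := by
  have hn : D.neg r.val = r.rev.val := Φ.negIdx_eq r
  simp only [ChevalleyDatum.nMat, ChevalleyDatum.wordMat, ChevalleyDatum.nWord, List.map_cons,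
    List.map_nil, List.prod_cons, List.prod_nil, mul_one, hn, Φ.toAlg.x_val, nw, Units.val_mul,
    mul_assoc]

theorem hw_val (r : Fin D.nroots) (t : Fˣ) :
    (Φ.hw r t : Matrix D.Idx D.Idx F) = D.hMat F r.val (t : F) := by
  rw [hw, Units.val_mul, Φ.nw_val, Φ.nw_val, ChevalleyDatum.hMat, ChevalleyDatum.hWord,
    ChevalleyDatum.wordMat, List.map_append, List.prod_append, Units.val_neg, Units.val_one]
  rfl

theorem nw_neg (r : Fin D.nroots) (t : Fˣ) : Φ.nw r (-t) = (Φ.nw r t)⁻¹ := by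
  simp [nw, _root_.mul_inv_rev, Φ.toAlg.xg_inv, mul_assoc, inv_neg]

theorem nw_one_val (i : Fin D.rank) :
    (Φ.nw (Φ.p i) (1 : Fˣ) : Matrix D.Idx D.Idx F) = Φ.nOne F i := by
  simp [nw, nOne]

/-- The character with value `t` at the fundamental root `i` and `1` at the others. -/
def unitChar (i : Fin D.rank) (t : Fˣ) : Fin D.rank → Fˣ := Function.update 1 i t

theorem nw_p_eq (i : Fin D.rank) (t : Fˣ) :
    Φ.nw (Φ.p i) t = Φ.toAlg.torus (unitChar i t) * Φ.nw (Φ.p i) 1 * (Φ.toAlg.torus (unitChar i t))⁻¹ := by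
  rw [eq_mul_inv_iff_mul_eq]
  have h1 : Φ.toSys.chi (unitChar i t) (Φ.p i) = t := by simp [Φ.toSys.chi_simple, unitChar]
  have e1 := Φ.toAlg.torus_xg (unitChar i t) (Φ.p i) (1 : F)
  have e2 := Φ.toAlg.torus_xg (unitChar i t) (Φ.p i).rev (-1 : F)
  rw [h1, mul_one] at e1
  rw [Φ.toSys.chi_neg, h1, Units.val_inv_eq_inv_val, mul_neg, mul_one] at e2
  simp only [nw, Units.val_one, inv_one]
  rw [← mul_assoc, ← mul_assoc, e1, mul_assoc (Φ.toAlg.xg (Φ.p i) (t : F)) (Φ.toAlg.torus _), e2,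
    ← mul_assoc, mul_assoc (_ * _) (Φ.toAlg.torus _), e1, ← mul_assoc]

theorem torus_nw_one (i : Fin D.rank) (c : Fin D.rank → Fˣ) :
    Φ.toAlg.torus c * Φ.nw (Φ.p i) 1 = Φ.nw (Φ.p i) 1 * Φ.toAlg.torus (Φ.reflChar i c) :=
  Units.ext (by simp only [Units.val_mul, Φ.nw_one_val, Φ.toAlg.torus_val]; exact Φ.torusMat_nOne i c)

theorem nw_one_sq (i : Fin D.rank) :
    Φ.nw (Φ.p i) 1 * Φ.nw (Φ.p i) 1 = Φ.toAlg.torus (Φ.toAlg.cartanChar i (-1 : Fˣ)) :=
  Units.ext (by simp only [Units.val_mul, Φ.nw_one_val, Φ.toAlg.torus_val]; exact Φ.nOne_sq i)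

theorem hw_p (i : Fin D.rank) (t : Fˣ) :
    Φ.hw (Φ.p i) t = Φ.toAlg.torus (Φ.toAlg.cartanChar i t) := by
  set T := Φ.toAlg.torus (R := F)
  set N := Φ.nw (Φ.p i) (1 : Fˣ)
  have hT : ∀ c, T c * N = N * T (Φ.reflChar i c) := Φ.torus_nw_one i
  have hsq : N * N = T (Φ.toAlg.cartanChar i (-1)) := Φ.nw_one_sq i
  set a := unitChar (F := F) i t
  set b := unitChar (F := F) i (-1)
  have : Φ.hw (Φ.p i) t = T (a * Φ.reflChar i (a⁻¹ * b) * Φ.toAlg.cartanChar i (-1) * b⁻¹) := by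
    calc Φ.hw (Φ.p i) t = T a * N * T a⁻¹ * (T b * N * T b⁻¹) := by
          rw [hw, Φ.nw_p_eq i t, Φ.nw_p_eq i (-1), map_inv, map_inv]
      _ = T a * N * (T (a⁻¹ * b) * N) * T b⁻¹ := by
          simp only [map_mul, mul_assoc]
      _ = T a * (N * N) * T (Φ.reflChar i (a⁻¹ * b)) * T b⁻¹ := by
          rw [hT (a⁻¹ * b)]; simp only [mul_assoc]
      _ = _ := by
          rw [hsq, ← map_mul, ← map_mul, ← map_mul, mul_right_comm a]
  rw [this]
  congr 1
  funext j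
  simp only [reflChar, Pi.mul_apply, Pi.inv_apply, Alg.cartanChar, a, b, unitChar]
  simp only [Function.update_self]
  have e1 : ((t⁻¹ * -1 : Fˣ) ^ Φ.A i (Φ.p j))⁻¹ * (-1 : Fˣ) ^ Φ.A i (Φ.p j) = t ^ Φ.A i (Φ.p j) := by
    rw [← _root_.inv_zpow, ← mul_zpow, _root_.mul_inv_rev, inv_inv]
    simp
  by_cases h : j = i
  · subst h
    simp only [Function.update_self]
    have e2 : ∀ x y : Fˣ, t * (t⁻¹ * -1 * x) * y * (-1)⁻¹ = x * y := fun x y => by
      simp [mul_comm, mul_left_comm]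
    rw [e2, e1]
  · simp only [Function.update_of_ne h, Pi.one_apply]
    simpa using e1

/-- The character `s ↦ t ^ ⟨h_r, s⟩`. -/
def coChar (r : Fin D.nroots) (t : Rˣ) : Fin D.rank → Rˣ :=
  fun j => t ^ (∑ k, Φ.C r k * Φ.A k (Φ.p j))

theorem chi_coChar (r : Fin D.nroots) (t : Rˣ) (s : Fin D.nroots) :
    Φ.toSys.chi (Φ.coChar r t) s = t ^ (∑ k, Φ.C r k * Φ.A k s) := by
  have e : ∑ k, Φ.C r k * Φ.A k s = ∑ j, Φ.V s j * ∑ k, Φ.C r k * Φ.A k (Φ.p j) := by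
    simp only [Finset.mul_sum]
    rw [Finset.sum_comm]
    refine Finset.sum_congr rfl fun k _ => ?_
    rw [Φ.A_lin k s, Finset.mul_sum]
    exact Finset.sum_congr rfl fun j _ => by ring
  have hc : ∀ j, Φ.coChar r t j = t ^ (∑ k, Φ.C r k * Φ.A k (Φ.p j)) := fun _ => rfl
  rw [e, Sys.chi]
  have hp : ∀ (S : Finset (Fin D.rank)) (K : Fin D.rank → ℤ),
      ∏ j ∈ S, t ^ K j = t ^ ∑ j ∈ S, K j := by
    intro S K
    induction S using Finset.induction_on with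
    | empty => simp
    | insert j S hj ih => rw [Finset.prod_insert hj, Finset.sum_insert hj, ih, _root_.zpow_add]
  simp only [hc, ← _root_.zpow_mul, mul_comm (∑ k, Φ.C r k * Φ.A k (Φ.p _))]
  exact hp _ _

theorem coChar_mul (r : Fin D.nroots) (a b : Rˣ) :
    Φ.coChar r (a * b) = Φ.coChar r a * Φ.coChar r b := by
  funext j; simp [coChar, mul_zpow]

theorem coChar_p (i : Fin D.rank) (t : Rˣ) : Φ.coChar (Φ.p i) t = Φ.toAlg.cartanChar i t := by
  funext j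
  simp [coChar, Alg.cartanChar, Φ.C_p]

theorem coChar_refl (i : Fin D.rank) (r : Fin D.nroots) (t : Rˣ) :
    Φ.reflChar i (Φ.coChar r t) = Φ.coChar (Φ.refl i r) t := by
  funext j
  simp only [reflChar, Pi.mul_apply, Pi.inv_apply, Alg.cartanChar, coChar, ← _root_.zpow_mul,
    ← _root_.zpow_neg, ← _root_.zpow_add, Φ.C_refl, sub_mul, Finset.sum_sub_distrib, ite_mul,
    zero_mul, Finset.sum_ite_eq', Finset.mem_univ, if_true]
  congr 1

/-- The sign `η_s` as a unit. -/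
def etaU (R : Type*) [CommRing R] (i : Fin D.rank) (s : Fin D.nroots) : Rˣ :=
  if Φ.eta i s = 1 then 1 else -1

theorem etaU_val (i : Fin D.rank) (s : Fin D.nroots) : (Φ.etaU R i s : R) = (Φ.eta i s : R) := by
  rcases Φ.eta_unit i s with h | h <;> simp [etaU, h]

theorem etaU_rev (i : Fin D.rank) (s : Fin D.nroots) : Φ.etaU R i s.rev = Φ.etaU R i s := by
  have h := Φ.eta_rev i s
  rcases Φ.eta_unit i s with e | e <;> rcases Φ.eta_unit i s.rev with e' | e' <;>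
    simp [etaU, e, e'] <;> simp [e, e'] at h

theorem nw_conj_xg (i : Fin D.rank) (s : Fin D.nroots) (t : F) :
    Φ.nw (Φ.p i) 1 * Φ.toAlg.xg s t =
      Φ.toAlg.xg (Φ.refl i s) ((Φ.eta i s : F) * t) * Φ.nw (Φ.p i) 1 :=
  Units.ext (by simp only [Units.val_mul, Φ.nw_one_val, Alg.xg_val]; exact Φ.nOne_conj F i s t)

theorem nw_conj_nw (i : Fin D.rank) (r : Fin D.nroots) (t : Fˣ) :
    Φ.nw (Φ.p i) 1 * Φ.nw r t = Φ.nw (Φ.refl i r) (Φ.etaU F i r * t) * Φ.nw (Φ.p i) 1 := by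
  have he : ((Φ.eta i r.rev : ℤ) : F) * -(t : F)⁻¹ = -((Φ.etaU F i r * t : Fˣ) : F)⁻¹ := by
    rw [Units.val_mul, ← Φ.etaU_val, Φ.etaU_rev, _root_.mul_inv_rev, mul_neg, mul_comm]
    rcases Φ.eta_unit i r with e | e <;> simp [etaU, e]
  simp only [nw]
  rw [← mul_assoc, ← mul_assoc]
  have h1 := Φ.nw_conj_xg (F := F) i r (t : F)
  have h2 := Φ.nw_conj_xg (F := F) i r.rev (-(t : F)⁻¹)
  rw [he, Φ.refl_rev, ] at h2
  rw [← Φ.etaU_val, ← Units.val_mul] at h1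
  simp only [nw] at h1 h2 ⊢
  rw [h1, mul_assoc (Φ.toAlg.xg _ _), h2, ← mul_assoc, mul_assoc (_ * _) _ (Φ.toAlg.xg r _), h1,
    ← mul_assoc]

/-- `h_r(t)` is the diagonal automorphism of the coroot character. -/
theorem hw_eq (r : Fin D.nroots) : ∀ t : Fˣ, Φ.hw r t = Φ.toAlg.torus (Φ.coChar r t) := by
  induction r using Φ.root_induction with
  | hp i => intro t; rw [Φ.hw_p, Φ.coChar_p]
  | hstep i r ih =>
    intro t
    set N := Φ.nw (Φ.p i) (1 : Fˣ)
    have hc : N * Φ.toAlg.torus (Φ.coChar r t) = Φ.toAlg.torus (Φ.coChar (Φ.refl i r) t) * N := by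
      rw [Φ.torus_nw_one i (Φ.coChar (Φ.refl i r) t), Φ.coChar_refl, Φ.refl_refl]
    -- `n_r(-t) n_r(1)` equals `h_r(t)`
    have hflip : Φ.nw r (-t) * Φ.nw r 1 = Φ.hw r t := by
      have hsplit : ∀ a : Fˣ, Φ.nw r a = Φ.hw r a * Φ.nw r 1 := by
        intro a; rw [hw, mul_assoc, Φ.nw_neg, inv_mul_cancel, mul_one]
      have hsq : Φ.nw r (1 : Fˣ) * Φ.nw r 1 = Φ.hw r (-1) := by
        have h1 : Φ.hw r (-1 : Fˣ) * Φ.hw r (-1) = 1 := by
          rw [ih, ← map_mul, ← Φ.coChar_mul, neg_mul_neg, one_mul]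
          have : Φ.coChar r (1 : Fˣ) = 1 := by funext j; simp [coChar]
          rw [this, map_one]
        have h2 : Φ.hw r (-1 : Fˣ) = (Φ.nw r 1 * Φ.nw r 1)⁻¹ := by
          rw [hw, Φ.nw_neg, _root_.mul_inv_rev]
        rw [← inv_inv (Φ.nw r 1 * Φ.nw r 1), ← h2]
        exact inv_eq_of_mul_eq_one_left h1
      rw [hsplit, mul_assoc, hsq, ih, ih, ← map_mul, ← Φ.coChar_mul, neg_mul_neg, mul_one, ih]
    have key : Φ.hw (Φ.refl i r) t * N = N * Φ.hw r t := by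
      rcases (show Φ.etaU F i r = 1 ∨ Φ.etaU F i r = -1 by unfold etaU; split_ifs <;> simp) with e | e
      · rw [hw, hw, ← mul_assoc, Φ.nw_conj_nw, mul_assoc, mul_assoc, Φ.nw_conj_nw, e, one_mul, one_mul]
      · rw [← hflip, hw, ← mul_assoc, Φ.nw_conj_nw, mul_assoc, mul_assoc, Φ.nw_conj_nw, e]
        simp [N]
    rw [ih, hc] at key
    exact mul_right_cancel key

theorem hw_mul (r : Fin D.nroots) (a b : Fˣ) : Φ.hw r (a * b) = Φ.hw r a * Φ.hw r b := by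
  rw [Φ.hw_eq, Φ.hw_eq, Φ.hw_eq, Φ.coChar_mul, map_mul]

theorem nw_eq_hw_mul (r : Fin D.nroots) (t : Fˣ) : Φ.nw r t = Φ.hw r t * Φ.nw r 1 := by
  rw [hw, mul_assoc, Φ.nw_neg, inv_mul_cancel, mul_one]

theorem hw_val_diagonal (i : Fin D.rank) (t : Fˣ) :
    (Φ.hw (Φ.p i) t : Matrix D.Idx D.Idx F) =
      Matrix.diagonal (Sum.elim (fun _ => (1 : F)) (fun s => (t : F) ^ Φ.A i s)) := by
  rw [Φ.hw_p, Φ.toAlg.torus_val, Sys.torusMat]
  congr 1
  funext x
  rcases x with j | s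
  · simp [Sys.chiIdx]
  · simp [Sys.chiIdx, Φ.toAlg.chi_cartanChar, Units.val_zpow_eq_zpow_val]

theorem simple_val (i : Fin D.rank) : D.simple i.val = (Φ.p i).val := Φ.simpleIdx_eq i

theorem cartan_val (i : Fin D.rank) (s : Fin D.nroots) : D.cartan i.val s.val = Φ.A i s :=
  Φ.cartan_eq i s

end Chev

end CfsgLib.Chev
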