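/-
Unipotent subgroups attached to sets of roots closed under addition: normal forms, grading and orders.
-/
import Cfsg.Agent.Lib.Chev.Comm
import Cfsg.Agent.Lib.Chev.Weyl
import Cfsg.Agent.Lib.Chev.Raise

namespace CfsgLib.Chev

open Cfsg.Lie Matrix

set_option linter.dupNamespace false
set_option linter.unusedSimpArgs false

variable {D : ChevalleyDatum}

namespace Sys

variable (Φ : Sys D)

/-- The grading of the basis by the separating functional. -/
def codeIdx : D.Idx → ℤ := Sum.elim (fun _ => 0) Φ.toTables.code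

theorem code_ch (r s : Fin D.nroots) : ∀ k, (Φ.toTables.ch r s k).2 ≠ 0 →
    Φ.toTables.code (Φ.toTables.ch r s k).1 = k * Φ.toTables.code r + Φ.toTables.code s := by
  intro k
  induction k with
  | zero => intro _; simp [Tables.ch]
  | succ k ih =>
    intro h
    have hk : (Φ.toTables.ch r s k).2 ≠ 0 := fun e => h (Φ.ch_snd_succ_eq_zero e)
    have hN : Φ.N r (Φ.toTables.ch r s k).1 ≠ 0 := fun e => h (by simp [Tables.ch, e])
    show Φ.toTables.code (Φ.S r (Φ.toTables.ch r s k).1) = _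
    rw [Φ.code_add hN, ih hk]; push_cast; ring

theorem code_E {R : Type*} [CommRing R] (k : ℕ) (r : Fin D.nroots) (x y : D.Idx)
    (h : Φ.E R k r x y ≠ 0) : Φ.codeIdx x = k * Φ.toTables.code r + Φ.codeIdx y := by
  rcases y with i | s
  · rcases x with j | u
    · have : k = 0 := by by_contra e; simp [E, e] at h
      subst this; simp [codeIdx]
    · have : k = 1 ∧ u = r := by by_contra e; simp [E, e] at h
      simp [codeIdx, this.1, this.2]
  · by_cases hsr : s = r
    · rcases x with j | u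
      · simp [E, hsr] at h
      · have : k = 0 ∧ u = r := by by_contra e; simp [E, hsr, e] at h
        simp [codeIdx, this.1, this.2, hsr]
    · by_cases hsn : s = r.rev
      · subst hsn
        rcases x with j | u
        · have : k = 1 := by by_contra e; simp [E, hsr, e] at h
          simp [codeIdx, this, Φ.code_neg r]
        · by_cases h0 : k = 0 ∧ u = r.rev
          · simp [codeIdx, h0.1, h0.2]
          · have : k = 2 ∧ u = r := by by_contra e; simp [E, hsr, h0, e] at h
            simp [codeIdx, this.1, this.2, Φ.code_neg r]; ring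
      · rcases x with j | u
        · simp [E, hsr, hsn] at h
        · simp only [E, Matrix.of_apply, if_neg hsr, if_neg hsn] at h
          split_ifs at h with hu
          · subst hu
            exact Φ.code_ch r s k fun e => h (by simp [e])
          · exact absurd rfl h

theorem raises_X {R : Type*} [CommRing R] (σ : ℤ) (r : Fin D.nroots)
    (hpos : 0 ≤ σ * Φ.toTables.code r) (t : R) :
    Raises (fun x => σ * Φ.codeIdx x) (σ * Φ.toTables.code r) (Φ.X R r t - 1) := by
  intro x y hxy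
  have : ∃ k, 1 ≤ k ∧ Φ.E R k r x y ≠ 0 := by
    by_contra hall
    push Not at hall
    apply hxy
    simp [X, Finset.sum_range_succ, hall 1 le_rfl, hall 2 (by norm_num), hall 3 (by norm_num), Φ.E_zero]
  obtain ⟨k, hk, hE⟩ := this
  show _ ≤ σ * Φ.codeIdx x
  rw [Φ.code_E k r x y hE]
  have : (1 : ℤ) ≤ k := by exact_mod_cast hk
  nlinarith

end Sys

namespace Chev

variable (Φ : Chev D) {F : Type*} [Field F]

theorem code_pos_iff (r : Fin D.nroots) : 0 < Φ.toTables.code r ↔ Φ.toTables.Pos r := by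
  refine ⟨fun h => ?_, Φ.code_pos⟩
  by_contra hn
  have := Φ.code_pos ((Φ.pos_rev_iff r).mpr hn)
  rw [Φ.toSys.code_neg] at this
  omega

theorem code_ne_zero (r : Fin D.nroots) : Φ.toTables.code r ≠ 0 := by
  by_cases h : Φ.toTables.Pos r
  · exact (Φ.code_pos h).ne'
  · have := Φ.code_pos ((Φ.pos_rev_iff r).mpr h)
    rw [Φ.toSys.code_neg] at this
    omega

theorem exists_C_ne_zero (r : Fin D.nroots) : ∃ i, (Φ.C r i : F) ≠ 0 := by
  induction r using Φ.root_induction with
  | hp i => exact ⟨i, by simp [Φ.C_p]⟩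
  | hstep i r ih =>
    by_contra hall
    push Not at hall
    obtain ⟨k, hk⟩ := ih
    apply hk
    have := Φ.C_refl i (Φ.refl i r) k
    rw [Φ.refl_refl] at this
    rw [this, Int.cast_sub, hall k]
    by_cases e : k = i <;> simp [e, hall]

/-! ### Closed sets of roots -/

/-- A set of roots closed under addition. -/
def Closed (S : Fin D.nroots → Prop) : Prop :=
  ∀ r s, S r → S s → Φ.N r s ≠ 0 → S (Φ.S r s)

theorem chainRoot_some {a b : Fin D.nroots} {k u : ℕ} (hk : 1 ≤ k)
    (h : D.chainRoot a.val b.val k = some u) :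
    ∃ m, 1 ≤ m ∧ (Φ.toTables.ch a b m).2 ≠ 0 ∧ u = (Φ.toTables.ch a b m).1.val := by
  rw [ChevalleyDatum.chainRoot, Φ.toSys.chainEntry_eq] at h
  obtain ⟨e, he, rfl⟩ := Option.map_eq_some_iff.mp h
  have hm := List.mem_of_getElem? he
  unfold Tables.entry at hm
  by_cases e1 : (Φ.toTables.ch a b 1).2 = 0
  · simp [e1] at hm
  rw [if_neg e1] at hm
  rcases List.mem_cons.mp hm with rfl | hm
  · exact ⟨1, le_rfl, e1, rfl⟩
  by_cases e2 : (Φ.toTables.ch a b 2).2 = 0
  · simp [e2] at hm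
  rw [if_neg e2] at hm
  rcases List.mem_cons.mp hm with rfl | hm
  · exact ⟨2, by norm_num, e2, rfl⟩
  by_cases e3 : (Φ.toTables.ch a b 3).2 = 0
  · simp [e3] at hm
  rw [if_neg e3, List.mem_singleton] at hm
  subst hm
  exact ⟨3, by norm_num, e3, rfl⟩

/-- The roots of the commutator terms are obtained from `r + s` by adding `r` or `s`. -/
theorem commTerms_mem {Q : Fin D.nroots → Prop} {r s : Fin D.nroots}
    (h0 : Φ.N r s ≠ 0 → Q (Φ.S r s)) (hr : ∀ x, Q x → Φ.N r x ≠ 0 → Q (Φ.S r x))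
    (hs : ∀ x, Q x → Φ.N s x ≠ 0 → Q (Φ.S s x)) {c : ℕ × ℤ × ℕ × ℕ}
    (hc : c ∈ D.commTerms r.val s.val) : ∃ h : c.1 < D.nroots, Q ⟨c.1, h⟩ := by
  have chainQ : ∀ a b : Fin D.nroots, (Φ.N a b ≠ 0 → Q (Φ.S a b)) →
      (∀ x, Q x → Φ.N a x ≠ 0 → Q (Φ.S a x)) →
      ∀ k u, 1 ≤ k → D.chainRoot a.val b.val k = some u → ∃ h : u < D.nroots, Q ⟨u, h⟩ := by
    intro a b hab ha k u hk h
    obtain ⟨m, hm, hne, rfl⟩ := Φ.chainRoot_some hk h
    refine ⟨Fin.isLt _, ?_⟩
    clear h
    induction m with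
    | zero => omega
    | succ m ih =>
      have hN : Φ.N a (Φ.toTables.ch a b m).1 ≠ 0 := fun e => hne (by simp [Tables.ch, e])
      rcases Nat.eq_zero_or_pos m with rfl | hm0
      · exact hab hN
      · exact ha _ (ih hm0 (fun e => hne (Φ.toSys.ch_snd_succ_eq_zero e))) hN
  have h0' : Φ.N s r ≠ 0 → Q (Φ.S s r) := fun h => by
    have h' := Φ.toSys.N_ne_comm h
    rw [Φ.S_comm r s h']
    exact h0 h'
  have A := chainQ r s h0 hr
  have B := chainQ s r h0' hs
  -- one more step, adding `s` or `r`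
  have step : ∀ (a : Fin D.nroots) (u v : ℕ), (∃ h : u < D.nroots, Q ⟨u, h⟩) →
      (∀ x, Q x → Φ.N a x ≠ 0 → Q (Φ.S a x)) →
      D.chainRoot u a.val 1 = some v → ∃ h : v < D.nroots, Q ⟨v, h⟩ := by
    rintro a u v ⟨hu, hQ⟩ ha h
    obtain ⟨m, hm, hne, rfl⟩ := Φ.chainRoot_some (a := ⟨u, hu⟩) (b := a) le_rfl h
    have : m = 1 := by
      rw [ChevalleyDatum.chainRoot, show D.chainEntry u a.val = _ from Φ.toSys.chainEntry_eq ⟨u, hu⟩ a] at h
      obtain ⟨e, he, he'⟩ := Option.map_eq_some_iff.mp h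
      by_contra hne1
      unfold Tables.entry at he
      by_cases e1 : (Φ.toTables.ch ⟨u, hu⟩ a 1).2 = 0
      · exact hne (Φ.toSys.ch_snd_eq_zero_of_le hm e1)
      · simp [e1] at he
        subst he
        have hval := congrArg Φ.toTables.code (Fin.ext he')
        rw [Φ.toSys.code_ch _ _ _ e1, Φ.toSys.code_ch _ _ _ hne] at hval
        have : (m : ℤ) = 1 := by
          by_contra hm1
          have h3 : ((m : ℤ) - 1) * Φ.toTables.code ⟨u, hu⟩ = 0 := by push_cast at hval; linarith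
          rcases mul_eq_zero.mp h3 with h4 | h4
          · exact hm1 (by omega)
          · exact Φ.code_ne_zero _ h4
        omega
    subst this
    have hN : Φ.N ⟨u, hu⟩ a ≠ 0 := fun e => hne (by rw [Φ.toSys.ch_one_snd, e])
    refine ⟨Fin.isLt _, ?_⟩
    rw [Fin.eta, Φ.toSys.ch_one_fst, ← Φ.S_comm _ _ hN]
    exact ha _ hQ (Φ.toSys.N_ne_comm hN)
  simp only [ChevalleyDatum.commTerms, List.mem_filterMap, List.mem_cons, List.not_mem_nil, or_false] at hc
  obtain ⟨d, hd, hdc⟩ := hc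
  obtain ⟨k, hk, rfl⟩ := Option.map_eq_some_iff.mp hdc
  rcases hd with rfl | rfl | rfl | rfl | rfl | rfl | rfl
  · exact A 1 k le_rfl hk
  · exact A 2 k (by norm_num) hk
  · exact B 2 k (by norm_num) hk
  · exact A 3 k (by norm_num) hk
  · exact B 3 k (by norm_num) hk
  · obtain ⟨u, hu, hv⟩ := Option.bind_eq_some_iff.mp hk
    exact step s u k (A 3 u (by norm_num) hu) hs hv
  · obtain ⟨u, hu, hv⟩ := Option.bind_eq_some_iff.mp hk
    exact step r u k (B 3 u (by norm_num) hu) hr hv

/-- The subgroup generated by the root subgroups of a set of roots. -/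
def US (F : Type*) [Field F] (S : Fin D.nroots → Prop) : Subgroup (GL D.Idx F) :=
  Subgroup.closure {g : GL D.Idx F | ∃ r t, S r ∧ Φ.toAlg.xg r t = g}

theorem xg_mem_US {S : Fin D.nroots → Prop} {r : Fin D.nroots} (h : S r) (t : F) :
    Φ.toAlg.xg r t ∈ Φ.US F S :=
  Subgroup.subset_closure ⟨r, t, h, rfl⟩

theorem US_mono {S T : Fin D.nroots → Prop} (h : ∀ r, S r → T r) : Φ.US F S ≤ Φ.US F T :=
  Subgroup.closure_mono fun g ⟨r, t, hr, e⟩ => ⟨r, t, h r hr, e⟩

theorem posUnipotent_eq_US : D.posUnipotent F = Φ.US F Φ.toTables.Pos := by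
  rw [Φ.toAlg.posUnipotent_eq, US]

theorem negUnipotent_eq_US : D.negUnipotent F = Φ.US F fun r => ¬ Φ.toTables.Pos r := by
  rw [Φ.toAlg.negUnipotent_eq, US]

theorem commWord_mem {S : Fin D.nroots → Prop} {r s : Fin D.nroots}
    (hS : ∀ c ∈ D.commTerms r.val s.val, ∃ h : c.1 < D.nroots, S ⟨c.1, h⟩) (t u : F) :
    ∃ W ∈ Φ.US F S, (W : Matrix D.Idx D.Idx F) =
      Φ.toSys.termProd F (D.commTerms r.val s.val) t u := by
  generalize D.commTerms r.val s.val = L at hS ⊢
  induction L with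
  | nil => exact ⟨1, Subgroup.one_mem _, by simp [Sys.termProd]⟩
  | cons c L ih =>
    obtain ⟨W, hW, hv⟩ := ih fun d hd => hS d (List.mem_cons_of_mem _ hd)
    obtain ⟨h, hc⟩ := hS c List.mem_cons_self
    refine ⟨Φ.toAlg.xg ⟨c.1, h⟩ ((c.2.1 : F) * (-t) ^ c.2.2.1 * u ^ c.2.2.2) * W,
      Subgroup.mul_mem _ (Φ.xg_mem_US hc _) hW, ?_⟩
    rw [Units.val_mul, hv]
    simp [Sys.termProd, Sys.XN, h]

theorem conj_xg_mem {S : Fin D.nroots → Prop} {r s : Fin D.nroots} (hrs : s ≠ r) (hneg : s ≠ r.rev)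
    (hs : S s) (hS : ∀ c ∈ D.commTerms r.val s.val, ∃ h : c.1 < D.nroots, S ⟨c.1, h⟩) (t u : F) :
    (Φ.toAlg.xg r t)⁻¹ * Φ.toAlg.xg s u * Φ.toAlg.xg r t ∈ Φ.US F S := by
  obtain ⟨W, hW, hv⟩ := Φ.commWord_mem hS t u
  have h : Φ.toAlg.xg s u * Φ.toAlg.xg r t = Φ.toAlg.xg r t * Φ.toAlg.xg s u * W :=
    Units.ext (by simp only [Units.val_mul, Alg.xg_val, hv]; exact Φ.commutator_formula hrs hneg t u)
  rw [mul_assoc, h, ← mul_assoc, ← mul_assoc, inv_mul_cancel, one_mul]
  exact Subgroup.mul_mem _ (Φ.xg_mem_US hs u) hW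

/-- The ordered product of root elements. -/
def prodL (L : List (Fin D.nroots)) (t : Fin D.nroots → F) : GL D.Idx F :=
  (L.map fun r => Φ.toAlg.xg r (t r)).prod

theorem prodL_mem_US (L : List (Fin D.nroots)) (t : Fin D.nroots → F) :
    Φ.prodL L t ∈ Φ.US F fun r => r ∈ L := by
  refine Subgroup.list_prod_mem _ fun g hg => ?_
  obtain ⟨r, hr, rfl⟩ := List.mem_map.mp hg
  exact Φ.xg_mem_US hr _

theorem exists_prodL : ∀ {L : List (Fin D.nroots)}, L.Pairwise (· < ·) →
    (∀ r ∈ L, Φ.toTables.Pos r) → Φ.Closed (fun r => r ∈ L) →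
    ∀ {g : GL D.Idx F}, g ∈ Φ.US F (fun r => r ∈ L) → ∃ t, g = Φ.prodL L t := by
  intro L
  induction L with
  | nil =>
    intro _ _ _ g hg
    refine ⟨fun _ => 0, ?_⟩
    have : Φ.US F (fun r => r ∈ ([] : List (Fin D.nroots))) = ⊥ := by
      rw [eq_bot_iff, US, Subgroup.closure_le]
      rintro x ⟨r, t, hr, _⟩
      simp at hr
    rw [this, Subgroup.mem_bot] at hg
    simp [prodL, hg]
  | cons a L ih =>
    intro hsort hpos hcl g hg
    rw [List.pairwise_cons] at hsort
    have hlt : ∀ x ∈ L, Φ.toTables.code a < Φ.toTables.code x := fun x hx =>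
      Φ.code_strictMono (hsort.1 x hx)
    have hcl' : Φ.Closed (fun r => r ∈ L) := by
      intro r s hr hs hN
      rcases List.mem_cons.mp (hcl r s (List.mem_cons_of_mem _ hr) (List.mem_cons_of_mem _ hs) hN)
        with h | h
      · have := Φ.toSys.code_add hN
        rw [h] at this
        have := hlt r hr
        have := Φ.code_pos (hpos s (List.mem_cons_of_mem _ hs))
        omega
      · exact h
    have hnorm : ∀ (c : F) (x : GL D.Idx F), x ∈ Φ.US F (fun r => r ∈ L) →
        (Φ.toAlg.xg a c)⁻¹ * x * Φ.toAlg.xg a c ∈ Φ.US F (fun r => r ∈ L) := by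
      intro c x hx
      induction hx using Subgroup.closure_induction with
      | mem y hy =>
        obtain ⟨s, u, hs, rfl⟩ := hy
        have hca := Φ.code_pos (hpos a List.mem_cons_self)
        have hcs := Φ.code_pos (hpos s (List.mem_cons_of_mem _ hs))
        have hsa := hlt s hs
        refine Φ.conj_xg_mem (fun e => by subst e; omega) (fun e => by
          subst e; rw [Φ.toSys.code_neg] at hcs; omega) hs (fun d hd => ?_) c u
        obtain ⟨h, hQ⟩ := Φ.commTerms_mem
          (Q := fun x => x ∈ a :: L ∧ Φ.toTables.code a < Φ.toTables.code x)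
          (fun hN => ⟨hcl a s List.mem_cons_self (List.mem_cons_of_mem _ hs) hN,
            by rw [Φ.toSys.code_add hN]; omega⟩)
          (fun x hx hN => ⟨hcl a x List.mem_cons_self hx.1 hN, by
            rw [Φ.toSys.code_add hN]; omega⟩)
          (fun x hx hN => ⟨hcl s x (List.mem_cons_of_mem _ hs) hx.1 hN, by
            rw [Φ.toSys.code_add hN]; omega⟩) hd
        refine ⟨h, (List.mem_cons.mp hQ.1).resolve_left fun e => ?_⟩
        rw [e] at hQ; omega
      | one => simp
      | mul y z _ _ hy hz =>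
        rw [show (Φ.toAlg.xg a c)⁻¹ * (y * z) * Φ.toAlg.xg a c =
          ((Φ.toAlg.xg a c)⁻¹ * y * Φ.toAlg.xg a c) * ((Φ.toAlg.xg a c)⁻¹ * z * Φ.toAlg.xg a c) by group]
        exact Subgroup.mul_mem _ hy hz
      | inv y _ hy =>
        rw [show (Φ.toAlg.xg a c)⁻¹ * y⁻¹ * Φ.toAlg.xg a c =
          ((Φ.toAlg.xg a c)⁻¹ * y * Φ.toAlg.xg a c)⁻¹ by group]
        exact Subgroup.inv_mem _ hy
    have hsub : ∃ c : F, ∃ x ∈ Φ.US F (fun r => r ∈ L), g = Φ.toAlg.xg a c * x := by
      induction hg using Subgroup.closure_induction with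
      | mem y hy =>
        obtain ⟨s, u, hs, rfl⟩ := hy
        rcases List.mem_cons.mp hs with rfl | hs
        · exact ⟨u, 1, Subgroup.one_mem _, (mul_one _).symm⟩
        · exact ⟨0, _, Φ.xg_mem_US hs u, by simp⟩
      | one => exact ⟨0, 1, Subgroup.one_mem _, by simp⟩
      | mul y z _ _ hy hz =>
        obtain ⟨c, x, hx, rfl⟩ := hy
        obtain ⟨d, x', hx', rfl⟩ := hz
        refine ⟨c + d, _, Subgroup.mul_mem _ (hnorm d x hx) hx', ?_⟩
        rw [Φ.toAlg.xg_add]; group
      | inv y _ hy =>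
        obtain ⟨c, x, hx, rfl⟩ := hy
        refine ⟨-c, _, hnorm (-c) x⁻¹ (Subgroup.inv_mem _ hx), ?_⟩
        rw [Φ.toAlg.xg_neg]; group
    obtain ⟨c, x, hx, rfl⟩ := hsub
    obtain ⟨t, ht⟩ := ih hsort.2 (fun r hr => hpos r (List.mem_cons_of_mem _ hr)) hcl' hx
    refine ⟨Function.update t a c, ?_⟩
    have hna : ∀ r ∈ L, r ≠ a := fun r hr e => (hsort.1 r hr).ne e.symm
    rw [ht, prodL, prodL, List.map_cons, List.prod_cons, Function.update_self]
    congr 2
    exact List.map_congr_left fun r hr => by rw [Function.update_of_ne (hna r hr)]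

theorem US_le_raise {S : Fin D.nroots → Prop} (σ c : ℤ) (hc : 0 ≤ c)
    (hS : ∀ r, S r → c ≤ σ * Φ.toTables.code r) :
    Φ.US F S ≤ raiseSubgroup (fun x => σ * Φ.toSys.codeIdx x) c hc := by
  rw [US, Subgroup.closure_le]
  rintro g ⟨r, t, hr, rfl⟩
  have h := hS r hr
  exact ⟨(Φ.toSys.raises_X σ r (hc.trans h) t).mono _ h,
    (Φ.toSys.raises_X σ r (hc.trans h) (-t)).mono _ h⟩

theorem C_mul_of_prod {r : Fin D.nroots} (c : F) {g : GL D.Idx F} {b : ℤ} (hb : 0 ≤ b)
    (hg : g ∈ raiseSubgroup (fun x => 1 * Φ.toSys.codeIdx x) b hb)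
    (hr : Φ.toTables.Pos r) (hlt : Φ.toTables.code r < b) (i : Fin D.rank) :
    (↑(Φ.toAlg.xg r c * g) : Matrix D.Idx D.Idx F) (Sum.inl i) (Sum.inr r.rev) = c * (Φ.C r i : F) := by
  have hcp := Φ.code_pos hr
  rw [Units.val_mul, Matrix.mul_apply, Finset.sum_eq_single (Sum.inr r.rev)]
  · have hd : (g : Matrix D.Idx D.Idx F) (Sum.inr r.rev) (Sum.inr r.rev) = 1 := by
      have := hg.1 (Sum.inr r.rev) (Sum.inr r.rev)
      by_contra hne
      have := this (by simpa [Matrix.sub_apply, sub_eq_zero] using hne)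
      omega
    rw [hd, mul_one, Alg.xg_val, Sys.X]
    simp [Finset.sum_range_succ, Sys.E, Φ.toSys.rev_ne r, mul_comm]
  · intro y _ hy
    by_contra hne
    obtain ⟨h1, h2⟩ := mul_ne_zero_iff.mp hne
    have hgy : (Sum.inr r.rev : D.Idx) ≠ y → ((g : Matrix D.Idx D.Idx F) - 1) y (Sum.inr r.rev) ≠ 0 := by
      intro hy'
      simpa [Matrix.sub_apply, Matrix.one_apply_ne hy'.symm] using h2
    have hw := hg.1 y (Sum.inr r.rev) (hgy (Ne.symm hy))
    have hyE : ∃ k, Φ.toSys.E F k r (Sum.inl i) y ≠ 0 := by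
      by_contra hall
      push Not at hall
      exact h1 (by simp [Sys.X, Matrix.sum_apply, hall])
    obtain ⟨k, hk⟩ := hyE
    have := Φ.toSys.code_E k r (Sum.inl i) y hk
    simp only [Sys.codeIdx, Sum.elim_inl, Sum.elim_inr, Φ.toSys.code_neg] at this hw
    have hk0 : (0 : ℤ) ≤ k := Int.natCast_nonneg k
    rcases k.eq_zero_or_pos with rfl | hkp
    · push_cast at this; omega
    · have : (1 : ℤ) ≤ k := by exact_mod_cast hkp
      nlinarith
  · simp

theorem prodL_injective : ∀ {L : List (Fin D.nroots)}, L.Pairwise (· < ·) →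
    (∀ r ∈ L, Φ.toTables.Pos r) → ∀ {t u : Fin D.nroots → F}, Φ.prodL L t = Φ.prodL L u →
    ∀ r ∈ L, t r = u r := by
  intro L
  induction L with
  | nil => intro _ _ t u _ r hr; simp at hr
  | cons a L ih =>
    intro hsort hpos t u h r hr
    rw [List.pairwise_cons] at hsort
    simp only [prodL, List.map_cons, List.prod_cons] at h
    have hcp := Φ.code_pos (hpos a List.mem_cons_self)
    have hrest : ∀ v : Fin D.nroots → F, (L.map fun x => Φ.toAlg.xg x (v x)).prod ∈
        raiseSubgroup (fun x => 1 * Φ.toSys.codeIdx x) (Φ.toTables.code a + 1) (by omega) := by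
      intro v
      refine Φ.US_le_raise 1 _ (by omega) (fun x (hx : x ∈ L) => ?_) (Φ.prodL_mem_US L v)
      have := Φ.code_strictMono (hsort.1 x hx)
      omega
    obtain ⟨i, hi⟩ := Φ.exists_C_ne_zero (F := F) a
    have e1 := Φ.C_mul_of_prod (t a) (by omega) (hrest t) (hpos a List.mem_cons_self) (by omega) i
    have e2 := Φ.C_mul_of_prod (u a) (by omega) (hrest u) (hpos a List.mem_cons_self) (by omega) i
    rw [h, e2] at e1
    have hta : u a = t a := mul_right_cancel₀ hi e1
    rcases List.mem_cons.mp hr with rfl | hr'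
    · exact hta.symm
    · rw [hta] at h
      exact ih hsort.2 (fun x hx => hpos x (List.mem_cons_of_mem _ hx)) (mul_left_cancel h) r hr'

/-- The ordered list of a set of roots. -/
def rootList (S : Fin D.nroots → Prop) [DecidablePred S] : List (Fin D.nroots) :=
  (List.finRange D.nroots).filter fun r => decide (S r)

theorem mem_rootList {S : Fin D.nroots → Prop} [DecidablePred S] {r : Fin D.nroots} :
    r ∈ rootList S ↔ S r := by simp [rootList]

theorem pairwise_rootList (S : Fin D.nroots → Prop) [DecidablePred S] :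
    (rootList S).Pairwise (· < ·) :=
  List.Pairwise.filter _ (List.pairwise_lt_finRange _)

theorem US_rootList (S : Fin D.nroots → Prop) [DecidablePred S] :
    Φ.US F (fun r => r ∈ rootList S) = Φ.US F S := by
  congr 1; funext r; exact propext mem_rootList

theorem mem_US_iff {S : Fin D.nroots → Prop} [DecidablePred S] (hpos : ∀ r, S r → Φ.toTables.Pos r)
    (hcl : Φ.Closed S) {g : GL D.Idx F} :
    g ∈ Φ.US F S ↔ ∃ t, g = Φ.prodL (rootList S) t := by
  constructor
  · intro hg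
    rw [← Φ.US_rootList S] at hg
    exact Φ.exists_prodL (pairwise_rootList S) (fun r hr => hpos r (mem_rootList.mp hr))
      (fun r s hr hs hN => mem_rootList.mpr (hcl r s (mem_rootList.mp hr) (mem_rootList.mp hs) hN)) hg
  · rintro ⟨t, rfl⟩
    rw [← Φ.US_rootList S]
    exact Φ.prodL_mem_US _ t

theorem card_US {S : Fin D.nroots → Prop} [DecidablePred S] (hpos : ∀ r, S r → Φ.toTables.Pos r)
    (hcl : Φ.Closed S) : Nat.card (Φ.US F S) = Nat.card F ^ Nat.card {r // S r} := by
  rw [← Nat.card_fun]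
  refine (Nat.card_congr (Equiv.ofBijective
    (fun t : {r // S r} → F => (⟨Φ.prodL (rootList S) fun r => if h : S r then t ⟨r, h⟩ else 0,
      (Φ.mem_US_iff hpos hcl).mpr ⟨_, rfl⟩⟩ : Φ.US F S)) ⟨?_, ?_⟩)).symm
  · intro t u h
    funext ⟨r, hr⟩
    have := Φ.prodL_injective (pairwise_rootList S) (fun x hx => hpos x (mem_rootList.mp hx))
      (congrArg Subtype.val h) r (mem_rootList.mpr hr)
    simpa [hr] using this
  · rintro ⟨g, hg⟩
    obtain ⟨t, rfl⟩ := (Φ.mem_US_iff hpos hcl).mp hg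
    refine ⟨fun r => t r.val, Subtype.ext ?_⟩
    show (List.map _ _).prod = (List.map _ _).prod
    congr 1
    exact List.map_congr_left fun r hr => by simp [mem_rootList.mp hr]

theorem closed_pos : Φ.Closed Φ.toTables.Pos := by
  intro r s hr hs hN
  rw [← Φ.code_pos_iff, Φ.toSys.code_add hN]
  have := Φ.code_pos hr
  have := Φ.code_pos hs
  omega

theorem card_pos : Nat.card {r : Fin D.nroots // Φ.toTables.Pos r} = D.nroots / 2 := by
  have e : {r : Fin D.nroots // Φ.toTables.Pos r} ≃ {r : Fin D.nroots // ¬ Φ.toTables.Pos r} :=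
    Equiv.subtypeEquiv Fin.revPerm fun r => by simp [Φ.pos_rev_iff]
  have h1 : Nat.card {r : Fin D.nroots // Φ.toTables.Pos r} +
      Nat.card {r : Fin D.nroots // ¬ Φ.toTables.Pos r} = D.nroots := by
    rw [← Nat.card_sum, Nat.card_congr (Equiv.sumCompl _), Nat.card_fin]
  rw [← Nat.card_congr e] at h1
  omega

theorem US_pos_le_raise :
    Φ.US F Φ.toTables.Pos ≤ raiseSubgroup (fun x => 1 * Φ.toSys.codeIdx x) 1 zero_le_one :=
  Φ.US_le_raise 1 1 zero_le_one fun r hr => by have := Φ.code_pos hr; omega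

theorem US_neg_le_raise :
    Φ.US F (fun r => ¬ Φ.toTables.Pos r) ≤
      raiseSubgroup (fun x => -1 * Φ.toSys.codeIdx x) 1 zero_le_one :=
  Φ.US_le_raise (-1) 1 zero_le_one fun r hr => by
    have := Φ.code_pos ((Φ.pos_rev_iff r).mpr hr)
    rw [Φ.toSys.code_neg] at this
    omega

end Chev

end CfsgLib.Chev
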