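/-
The diagonal subgroup H, the monomial subgroup N and the subgroup B = UH.
-/
import Cfsg.Agent.Lib.Chev.Unip

namespace CfsgLib.Chev

open Cfsg.Lie Matrix

set_option linter.dupNamespace false
set_option linter.unusedSimpArgs false

variable {D : ChevalleyDatum}

namespace Chev

variable (Φ : Chev D) {F : Type*} [Field F]

/-- `c ↦ ∏ i, h_{p_i}(c_i)` as a character. -/
def coHom (F : Type*) [Field F] : (Fin D.rank → Fˣ) →* (Fin D.rank → Fˣ) where
  toFun c j := ∏ k, c k ^ Φ.A k (Φ.p j)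
  map_one' := by funext j; simp
  map_mul' a b := by funext j; simp [mul_zpow, Finset.prod_mul_distrib]

theorem coHom_apply (c : Fin D.rank → Fˣ) :
    Φ.coHom F c = ∏ k, Φ.toAlg.cartanChar k (c k) := by
  funext j
  simp [coHom, Alg.cartanChar, Finset.prod_apply]

theorem coChar_eq (r : Fin D.nroots) (t : Fˣ) :
    Φ.coChar r t = Φ.coHom F (fun k => t ^ Φ.C r k) := by
  funext j
  simp only [coChar, coHom, MonoidHom.coe_mk, OneHom.coe_mk, ← _root_.zpow_mul]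
  induction (Finset.univ : Finset (Fin D.rank)) using Finset.induction_on with
  | empty => simp
  | insert k s hk ih => rw [Finset.prod_insert hk, Finset.sum_insert hk, _root_.zpow_add, ih]

theorem torus_injective : Function.Injective (Φ.toAlg.torus (R := F)) := by
  rw [injective_iff_map_eq_one]
  intro c hc
  funext i
  have h := congrArg (fun g : GL D.Idx F => (g : Matrix D.Idx D.Idx F) (Sum.inr (Φ.p i)) (Sum.inr (Φ.p i))) hc
  simp only [Alg.torus_val, Units.val_one, Sys.torusMat, Matrix.diagonal_apply_eq, Matrix.one_apply_eq,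
    Sys.chiIdx, Sum.elim_inr, Φ.toSys.chi_simple] at h
  exact Units.ext h

theorem coHom_mem (c : Fin D.rank → Fˣ) :
    Φ.toAlg.torus (Φ.coHom F c) =
      ((List.finRange D.rank).map fun k => Φ.hw (Φ.p k) (c k)).prod := by
  rw [Φ.coHom_apply, Fin.prod_univ_def, map_list_prod, List.map_map]
  congr 1
  exact List.map_congr_left fun k _ => (Φ.hw_p k (c k)).symm

theorem hw_mem_range (r : Fin D.nroots) (t : Fˣ) :
    Φ.hw r t ∈ ((Φ.toAlg.torus).comp (Φ.coHom F)).range :=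
  ⟨fun k => t ^ Φ.C r k, by rw [MonoidHom.comp_apply, ← Φ.coChar_eq, ← Φ.hw_eq]⟩

theorem diagonalSubgroup_eq :
    D.diagonalSubgroup F = ((Φ.toAlg.torus).comp (Φ.coHom F)).range := by
  refine le_antisymm ((Subgroup.closure_le _).mpr ?_) ?_
  · rintro g ⟨r, t, hr, ht, hg⟩
    have : g = Φ.hw ⟨r, hr⟩ (Units.mk0 t ht) := Units.ext (by rw [hg, Φ.hw_val, Units.val_mk0])
    rw [this]; exact Φ.hw_mem_range _ _
  · rintro g ⟨c, rfl⟩
    rw [MonoidHom.comp_apply, Φ.coHom_mem]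
    refine Subgroup.list_prod_mem _ fun x hx => ?_
    obtain ⟨k, _, rfl⟩ := List.mem_map.mp hx
    exact Subgroup.subset_closure ⟨(Φ.p k).val, (c k : F), (Φ.p k).isLt, (c k).ne_zero, Φ.hw_val _ _⟩

theorem hw_mem_H (r : Fin D.nroots) (t : Fˣ) : Φ.hw r t ∈ D.diagonalSubgroup F := by
  rw [Φ.diagonalSubgroup_eq]; exact Φ.hw_mem_range r t

theorem exists_torus_of_mem_H {h : GL D.Idx F} (hh : h ∈ D.diagonalSubgroup F) :
    ∃ c, h = Φ.toAlg.torus c := by
  rw [Φ.diagonalSubgroup_eq] at hh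
  obtain ⟨c, rfl⟩ := hh
  exact ⟨_, rfl⟩

include Φ in
theorem H_comm {a b : GL D.Idx F} (ha : a ∈ D.diagonalSubgroup F) (hb : b ∈ D.diagonalSubgroup F) :
    Commute a b := by
  obtain ⟨c, rfl⟩ := Φ.exists_torus_of_mem_H ha
  obtain ⟨d, rfl⟩ := Φ.exists_torus_of_mem_H hb
  exact (Commute.all c d).map _

/-! ### Monomial elements -/

theorem root_eq_of_xg_eq {r s : Fin D.nroots} {a b : F} (ha : a ≠ 0)
    (h : Φ.toAlg.xg r a = Φ.toAlg.xg s b) : r = s := by
  by_contra hne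
  obtain ⟨i, hi⟩ := Φ.exists_C_ne_zero (F := F) r
  have h' := congrArg (fun g : GL D.Idx F => (g : Matrix D.Idx D.Idx F) (Sum.inl i) (Sum.inr r.rev)) h
  simp [Sys.X, Sys.E, Finset.sum_range_succ, Φ.toSys.rev_ne r, Fin.rev_inj, hne, ha, hi] at h'

/-- `g` permutes the root subgroups and the lines of the root vectors by `π`, and preserves the Cartan
subalgebra. -/
def Mono (g : GL D.Idx F) (π : Equiv.Perm (Fin D.nroots)) : Prop :=
  (∀ s, ∃ a : F, a ≠ 0 ∧
    (∀ t, g * Φ.toAlg.xg s t * g⁻¹ = Φ.toAlg.xg (π s) (a * t)) ∧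
    (g : Matrix D.Idx D.Idx F) *ᵥ Pi.single (Sum.inr s) 1 = a • Pi.single (Sum.inr (π s)) 1) ∧
  ∀ v : D.Idx → F, (∀ u, v (Sum.inr u) = 0) → ∀ u, ((g : Matrix D.Idx D.Idx F) *ᵥ v) (Sum.inr u) = 0

theorem Mono.one : Φ.Mono (1 : GL D.Idx F) 1 :=
  ⟨fun s => ⟨1, one_ne_zero, fun t => by simp, by rw [Units.val_one, Matrix.one_mulVec, one_smul]; rfl⟩,
    fun v hv u => by simp [hv]⟩

theorem Mono.mul {g h : GL D.Idx F} {π σ : Equiv.Perm (Fin D.nroots)} (hg : Φ.Mono g π)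
    (hh : Φ.Mono h σ) : Φ.Mono (g * h) (π * σ) := by
  refine ⟨fun s => ?_, fun v hv u => ?_⟩
  · obtain ⟨a, ha, a1, a2⟩ := hh.1 s
    obtain ⟨b, hb, b1, b2⟩ := hg.1 (σ s)
    refine ⟨b * a, mul_ne_zero hb ha, fun t => ?_, ?_⟩
    · rw [show g * h * Φ.toAlg.xg s t * (g * h)⁻¹ = g * (h * Φ.toAlg.xg s t * h⁻¹) * g⁻¹ by group,
        a1, b1, mul_assoc]
      rfl
    · rw [Units.val_mul, ← Matrix.mulVec_mulVec, a2, Matrix.mulVec_smul, b2, smul_smul, mul_comm]
      rfl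
  · rw [Units.val_mul, ← Matrix.mulVec_mulVec]
    exact hg.2 _ (fun w => hh.2 v hv w) u

theorem mono_torus (c : Fin D.rank → Fˣ) : Φ.Mono (Φ.toAlg.torus c) 1 := by
  refine ⟨fun s => ⟨(Φ.toSys.chi c s : F), Units.ne_zero _, fun t => ?_, ?_⟩, fun v hv u => ?_⟩
  · rw [Φ.toAlg.torus_xg]; simp
  · ext x
    rw [Alg.torus_val, Sys.torusMat, Matrix.mulVec_diagonal]
    by_cases e : x = Sum.inr s
    · subst e; simp [Sys.chiIdx]
    · simp [e]
  · rw [Alg.torus_val, Sys.torusMat, Matrix.mulVec_diagonal, hv, mul_zero]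

theorem nw_one_mono (i : Fin D.rank) : Φ.Mono (Φ.nw (Φ.p i) (1 : Fˣ)) (Φ.reflPerm i) := by
  refine ⟨fun s => ⟨(Φ.eta i s : F), ?_, fun t => ?_, ?_⟩, fun v hv u => ?_⟩
  · rcases Φ.eta_unit i s with e | e <;> simp [e]
  · rw [Φ.nw_conj_xg, mul_inv_cancel_right]; rfl
  · ext x
    rw [Φ.nw_one_val, Matrix.mulVec_single_one, Matrix.col_apply, Φ.nOne_apply_inr]
    by_cases e : x = Sum.inr (Φ.refl i s)
    · subst e; simp [reflPerm]
    · simp [e, reflPerm]
  · rw [Φ.nw_one_val, Matrix.mulVec, dotProduct]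
    refine Finset.sum_eq_zero fun y _ => ?_
    rcases y with j | s
    · simp [Φ.nOne_apply_inl]
    · simp [hv]

theorem Mono.unique {g : GL D.Idx F} {π σ : Equiv.Perm (Fin D.nroots)} (h1 : Φ.Mono g π)
    (h2 : Φ.Mono g σ) : π = σ := by
  refine Equiv.ext fun s => ?_
  obtain ⟨a, ha, a1, _⟩ := h1.1 s
  obtain ⟨b, _, b1, _⟩ := h2.1 s
  exact Φ.root_eq_of_xg_eq (mul_ne_zero ha one_ne_zero) ((a1 1).symm.trans (b1 1))

theorem nw_one_inv {F : Type*} [Field F] (i : Fin D.rank) :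
    (Φ.nw (Φ.p i) (1 : Fˣ))⁻¹ = Φ.hw (Φ.p i) (-1) * Φ.nw (Φ.p i) 1 := by
  rw [← Φ.nw_neg, Φ.nw_eq_hw_mul]

/-- The elements `n_p(1)` for the fundamental roots. -/
def simpleN (F : Type*) [Field F] : Set (GL D.Idx F) := {g | ∃ i, g = Φ.nw (Φ.p i) 1}

theorem simpleN_conj_hw (i : Fin D.rank) (r : Fin D.nroots) (t : Fˣ) :
    Φ.nw (Φ.p i) 1 * Φ.hw r t * (Φ.nw (Φ.p i) 1)⁻¹ = Φ.hw (Φ.refl i r) t := by
  rw [mul_inv_eq_iff_eq_mul, Φ.hw_eq, Φ.hw_eq, Φ.torus_nw_one i, Φ.coChar_refl, Φ.refl_refl]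

include Φ in
theorem simpleN_normalizes {g : GL D.Idx F} (hg : g ∈ Φ.simpleN F) :
    g ∈ Subgroup.normalizer (D.diagonalSubgroup F : Set (GL D.Idx F)) := by
  obtain ⟨i, rfl⟩ := hg
  set n := Φ.nw (Φ.p i) (1 : Fˣ)
  have hgen : ∀ x ∈ D.diagonalSubgroup F, n * x * n⁻¹ ∈ D.diagonalSubgroup F := by
    intro x hx
    rw [Φ.diagonalSubgroup_eq] at hx
    obtain ⟨c, rfl⟩ := hx
    rw [MonoidHom.comp_apply, Φ.coHom_mem]
    induction List.finRange D.rank with
    | nil => simp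
    | cons a L ih =>
      simp only [List.map_cons, List.prod_cons]
      rw [show n * (Φ.hw (Φ.p a) (c a) * (L.map fun k => Φ.hw (Φ.p k) (c k)).prod) * n⁻¹ =
        n * Φ.hw (Φ.p a) (c a) * n⁻¹ * (n * (L.map fun k => Φ.hw (Φ.p k) (c k)).prod * n⁻¹) by group]
      rw [show n * Φ.hw (Φ.p a) (c a) * n⁻¹ = Φ.hw (Φ.refl i (Φ.p a)) (c a) from
        Φ.simpleN_conj_hw i _ _]
      exact Subgroup.mul_mem _ (Φ.hw_mem_H _ _) ih
  rw [Subgroup.mem_normalizer_iff]
  intro x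
  refine ⟨hgen x, fun hx => ?_⟩
  have h2 := hgen _ hx
  have hsq : n * n ∈ D.diagonalSubgroup F := by
    rw [Φ.nw_one_sq, ← Φ.hw_p]; exact Φ.hw_mem_H _ _
  have := Subgroup.mul_mem _ (Subgroup.mul_mem _ (Subgroup.inv_mem _ hsq) h2) hsq
  convert this using 1
  group

include Φ in
theorem closure_le_normalizer :
    D.diagonalSubgroup F ⊔ Subgroup.closure (Φ.simpleN F) ≤
      Subgroup.normalizer (D.diagonalSubgroup F : Set (GL D.Idx F)) :=
  sup_le Subgroup.le_normalizer ((Subgroup.closure_le _).mpr fun _ h => Φ.simpleN_normalizes h)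

theorem nw_one_mem (r : Fin D.nroots) :
    Φ.nw r (1 : Fˣ) ∈ D.diagonalSubgroup F ⊔ Subgroup.closure (Φ.simpleN F) := by
  induction r using Φ.root_induction with
  | hp i => exact Subgroup.mem_sup_right (Subgroup.subset_closure ⟨i, rfl⟩)
  | hstep i r ih =>
    have hn : Φ.nw (Φ.p i) (1 : Fˣ) ∈ D.diagonalSubgroup F ⊔ Subgroup.closure (Φ.simpleN F) :=
      Subgroup.mem_sup_right (Subgroup.subset_closure ⟨i, rfl⟩)
    have hm : Φ.nw (Φ.refl i r) (Φ.etaU F i r) ∈ D.diagonalSubgroup F ⊔ Subgroup.closure (Φ.simpleN F) := by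
      have : Φ.nw (Φ.refl i r) (Φ.etaU F i r) = Φ.nw (Φ.p i) 1 * Φ.nw r 1 * (Φ.nw (Φ.p i) 1)⁻¹ := by
        rw [eq_mul_inv_iff_mul_eq]
        simpa using (Φ.nw_conj_nw (F := F) i r 1).symm
      rw [this]
      exact Subgroup.mul_mem _ (Subgroup.mul_mem _ hn ih) (Subgroup.inv_mem _ hn)
    rcases (show Φ.etaU F i r = 1 ∨ Φ.etaU F i r = -1 by unfold etaU; split_ifs <;> simp) with e | e
    · rwa [e] at hm
    · rw [e, Φ.nw_neg] at hm
      exact (Subgroup.inv_mem_iff _).mp hm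

theorem monomialSubgroup_eq :
    D.monomialSubgroup F = D.diagonalSubgroup F ⊔ Subgroup.closure (Φ.simpleN F) := by
  refine le_antisymm (sup_le le_sup_left ((Subgroup.closure_le _).mpr ?_))
    (sup_le_sup_left (Subgroup.closure_mono ?_) _)
  · rintro g ⟨r, hr, hg⟩
    have : g = Φ.nw ⟨r, hr⟩ 1 := Units.ext (by rw [hg, Φ.nw_val, Units.val_one])
    rw [this]; exact Φ.nw_one_mem _
  · rintro g ⟨i, rfl⟩
    exact ⟨(Φ.p i).val, (Φ.p i).isLt, by rw [Φ.nw_val, Units.val_one]⟩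

theorem nw_mem_N (r : Fin D.nroots) (t : Fˣ) : Φ.nw r t ∈ D.monomialSubgroup F := by
  rw [Φ.nw_eq_hw_mul, Φ.monomialSubgroup_eq]
  exact Subgroup.mul_mem _ (Subgroup.mem_sup_left (Φ.hw_mem_H r t)) (Φ.nw_one_mem r)

theorem H_le_N : D.diagonalSubgroup F ≤ D.monomialSubgroup F := le_sup_left

include Φ in
theorem N_le_normalizer_H :
    D.monomialSubgroup F ≤ Subgroup.normalizer (D.diagonalSubgroup F : Set (GL D.Idx F)) := by
  rw [Φ.monomialSubgroup_eq]; exact Φ.closure_le_normalizer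

theorem exists_mono {g : GL D.Idx F} (hg : g ∈ D.monomialSubgroup F) :
    ∃ π : Equiv.Perm (Fin D.nroots), Φ.Mono g π ∧ Φ.Mono g⁻¹ π⁻¹ := by
  rw [Φ.monomialSubgroup_eq, ← Subgroup.closure_eq (D.diagonalSubgroup F), ← Subgroup.closure_union] at hg
  induction hg using Subgroup.closure_induction with
  | mem x hx =>
    rcases hx with hx | ⟨i, rfl⟩
    · obtain ⟨c, rfl⟩ := Φ.exists_torus_of_mem_H hx
      exact ⟨1, Φ.mono_torus c, by rw [← map_inv, inv_one]; exact Φ.mono_torus _⟩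
    · refine ⟨Φ.reflPerm i, Φ.nw_one_mono i, ?_⟩
      rw [Φ.nw_one_inv, Φ.hw_p]
      have h := Mono.mul Φ (Φ.mono_torus (Φ.toAlg.cartanChar i (-1 : Fˣ))) (Φ.nw_one_mono i)
      have e : (Φ.reflPerm i)⁻¹ = 1 * Φ.reflPerm i := by
        rw [one_mul]
        exact Equiv.ext fun s => rfl
      rwa [e]
  | one => exact ⟨1, Mono.one Φ, by rw [inv_one, inv_one]; exact Mono.one Φ⟩
  | mul x y _ _ hx hy =>
    obtain ⟨π, a, a'⟩ := hx
    obtain ⟨σ, b, b'⟩ := hy
    exact ⟨π * σ, Mono.mul Φ a b, by rw [_root_.mul_inv_rev, _root_.mul_inv_rev]; exact Mono.mul Φ b' a'⟩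
  | inv x _ hx =>
    obtain ⟨π, a, a'⟩ := hx
    exact ⟨π⁻¹, a', by rwa [inv_inv, inv_inv]⟩

/-- The diagonal subgroup normalises the subgroup of any set of roots. -/
theorem H_le_normalizer_US (S : Fin D.nroots → Prop) :
    D.diagonalSubgroup F ≤ Subgroup.normalizer (Φ.US F S : Set (GL D.Idx F)) := by
  have key : ∀ h ∈ D.diagonalSubgroup F, ∀ x ∈ Φ.US F S, h * x * h⁻¹ ∈ Φ.US F S := by
    intro h hh x hx
    obtain ⟨c, rfl⟩ := Φ.exists_torus_of_mem_H hh
    induction hx using Subgroup.closure_induction with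
    | mem y hy =>
      obtain ⟨r, t, hr, rfl⟩ := hy
      rw [Φ.toAlg.torus_xg, mul_inv_cancel_right]
      exact Φ.xg_mem_US hr _
    | one => simp
    | mul a b _ _ ha hb =>
      rw [show Φ.toAlg.torus c * (a * b) * (Φ.toAlg.torus c)⁻¹ = (Φ.toAlg.torus c * a * (Φ.toAlg.torus c)⁻¹) *
        (Φ.toAlg.torus c * b * (Φ.toAlg.torus c)⁻¹) by group]
      exact Subgroup.mul_mem _ ha hb
    | inv a _ ha =>
      rw [show Φ.toAlg.torus c * a⁻¹ * (Φ.toAlg.torus c)⁻¹ = (Φ.toAlg.torus c * a * (Φ.toAlg.torus c)⁻¹)⁻¹ by group]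
      exact Subgroup.inv_mem _ ha
  intro h hh
  rw [Subgroup.mem_normalizer_iff]
  refine fun x => ⟨key h hh x, fun hx => ?_⟩
  have := key h⁻¹ (Subgroup.inv_mem _ hh) _ hx
  simpa [mul_assoc] using this

include Φ in
theorem H_le_normalizer_U :
    D.diagonalSubgroup F ≤ Subgroup.normalizer (D.posUnipotent F : Set (GL D.Idx F)) := by
  rw [Φ.posUnipotent_eq_US]; exact Φ.H_le_normalizer_US _

include Φ in
theorem diag_apply {h : GL D.Idx F} (hh : h ∈ D.diagonalSubgroup F) {x y : D.Idx} (hxy : x ≠ y) :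
    (h : Matrix D.Idx D.Idx F) x y = 0 := by
  obtain ⟨c, rfl⟩ := Φ.exists_torus_of_mem_H hh
  simp [Sys.torusMat, hxy]

theorem raises_diag (σ : ℤ) {h : GL D.Idx F} (hh : h ∈ D.diagonalSubgroup F) :
    Raises (fun x => σ * Φ.toSys.codeIdx x) 0 (h : Matrix D.Idx D.Idx F) := by
  intro x y hxy
  by_cases e : x = y
  · subst e; simp
  · exact absurd (Φ.diag_apply hh e) hxy

include Φ in
theorem mem_B_iff {g : GL D.Idx F} :
    g ∈ D.borelSubgroup F ↔ ∃ u ∈ D.posUnipotent F, ∃ h ∈ D.diagonalSubgroup F, g = u * h := by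
  constructor
  · intro hg
    have : (g : GL D.Idx F) ∈ ((D.posUnipotent F ⊔ D.diagonalSubgroup F : Subgroup (GL D.Idx F)) : Set (GL D.Idx F)) := hg
    rw [Subgroup.coe_mul_of_right_le_normalizer_left _ _ Φ.H_le_normalizer_U] at this
    obtain ⟨u, hu, h, hh, e⟩ := Set.mem_mul.mp this
    exact ⟨u, hu, h, hh, e.symm⟩
  · rintro ⟨u, hu, h, hh, rfl⟩
    exact Subgroup.mul_mem _ (Subgroup.mem_sup_left hu) (Subgroup.mem_sup_right hh)

include Φ in
/-- A unipotent element which is also monomial, or diagonal, is trivial. -/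
theorem eq_one_of_mem_U_of_mem_N {g : GL D.Idx F} (hu : g ∈ D.posUnipotent F)
    (hn : g ∈ D.monomialSubgroup F) : g = 1 := by
  rw [Φ.posUnipotent_eq_US] at hu
  obtain ⟨hr, -⟩ := Φ.US_pos_le_raise hu
  obtain ⟨π, hm, -⟩ := Φ.exists_mono hn
  refine Units.ext (sub_eq_zero.mp (Matrix.ext fun x y => ?_))
  by_contra hne
  have hw : (1 : ℤ) * Φ.toSys.codeIdx y + 1 ≤ 1 * Φ.toSys.codeIdx x := hr x y hne
  have hxy : x ≠ y := fun e => by subst e; omega
  have hgne : (g : Matrix D.Idx D.Idx F) x y ≠ 0 := by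
    simpa [Matrix.sub_apply, Matrix.one_apply_ne hxy] using hne
  rcases y with i | s
  · rcases x with j | u
    · simp [Sys.codeIdx] at hw
    · apply hgne
      simpa using hm.2 (Pi.single (Sum.inl i) 1) (fun v => by simp) u
  · obtain ⟨a, ha, -, h2⟩ := hm.1 s
    have hxu : x = Sum.inr (π s) := by
      by_contra e
      apply hgne
      simpa [e] using congrFun h2 x
    -- the diagonal entry is one
    have hd := hr (Sum.inr s) (Sum.inr s)
    have hss : (g : Matrix D.Idx D.Idx F) (Sum.inr s) (Sum.inr s) = 1 := by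
      by_contra hne'
      have := hd (by simpa [Matrix.sub_apply, sub_eq_zero] using hne')
      omega
    have h3 := congrFun h2 (Sum.inr s)
    simp only [Matrix.mulVec_single_one, Matrix.col_apply, hss, Pi.smul_apply, smul_eq_mul] at h3
    by_cases e : π s = s
    · rw [e] at hxu; exact hxy hxu
    · simp [Ne.symm e] at h3

include Φ in
theorem U_inf_N : D.posUnipotent F ⊓ D.monomialSubgroup F = ⊥ :=
  (Subgroup.eq_bot_iff_forall _).mpr fun _ ⟨a, b⟩ => Φ.eq_one_of_mem_U_of_mem_N a b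

include Φ in
theorem B_inf_N : D.borelSubgroup F ⊓ D.monomialSubgroup F = D.diagonalSubgroup F := by
  refine le_antisymm ?_ (le_inf le_sup_right H_le_N)
  rintro g ⟨hb, hn⟩
  obtain ⟨u, hu, h, hh, rfl⟩ := Φ.mem_B_iff.mp hb
  have : u ∈ D.monomialSubgroup F := by
    simpa using Subgroup.mul_mem _ hn (Subgroup.inv_mem _ (H_le_N hh))
  rw [Φ.eq_one_of_mem_U_of_mem_N hu this, one_mul]
  exact hh

include Φ in
theorem B_inf_V : D.borelSubgroup F ⊓ D.negUnipotent F = ⊥ := by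
  rw [Subgroup.eq_bot_iff_forall]
  rintro g ⟨hb, hv⟩
  obtain ⟨u, hu, h, hh, rfl⟩ := Φ.mem_B_iff.mp hb
  rw [Φ.posUnipotent_eq_US] at hu
  rw [Φ.negUnipotent_eq_US] at hv
  have h1 : Raises (fun x => 1 * Φ.toSys.codeIdx x) 0 ((u * h : GL D.Idx F) : Matrix D.Idx D.Idx F) := by
    rw [Units.val_mul]
    simpa using (raises_of_sub_one _ zero_le_one (Φ.US_pos_le_raise hu).1).mul _ (Φ.raises_diag 1 hh)
  obtain ⟨h2, -⟩ := Φ.US_neg_le_raise hv
  refine Units.ext (sub_eq_zero.mp (Matrix.ext fun x y => ?_))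
  by_contra hne
  have a : -1 * Φ.toSys.codeIdx y + 1 ≤ -1 * Φ.toSys.codeIdx x := h2 x y hne
  have hxy : x ≠ y := fun e => by subst e; omega
  have b : 1 * Φ.toSys.codeIdx y + 0 ≤ 1 * Φ.toSys.codeIdx x :=
    h1 x y (by simpa [Matrix.sub_apply, Matrix.one_apply_ne hxy] using hne)
  omega

include Φ in
theorem B_inf_VH : D.borelSubgroup F ⊓ (D.negUnipotent F ⊔ D.diagonalSubgroup F) =
    D.diagonalSubgroup F := by
  refine le_antisymm ?_ (le_inf le_sup_right le_sup_right)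
  rintro g ⟨hb, hv⟩
  have hn : D.diagonalSubgroup F ≤ Subgroup.normalizer (D.negUnipotent F : Set (GL D.Idx F)) := by
    rw [Φ.negUnipotent_eq_US]; exact Φ.H_le_normalizer_US _
  have : (g : GL D.Idx F) ∈ ((D.negUnipotent F ⊔ D.diagonalSubgroup F : Subgroup (GL D.Idx F)) : Set (GL D.Idx F)) := hv
  rw [Subgroup.coe_mul_of_right_le_normalizer_left _ _ hn] at this
  obtain ⟨v, hv', h, hh, rfl⟩ := Set.mem_mul.mp this
  have : v ∈ D.borelSubgroup F := by
    simpa using Subgroup.mul_mem _ hb (Subgroup.inv_mem _ (Subgroup.mem_sup_right hh : h ∈ D.borelSubgroup F))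
  have hv1 : v = 1 := by
    have h' : v ∈ D.borelSubgroup F ⊓ D.negUnipotent F := ⟨this, hv'⟩
    rw [Φ.B_inf_V] at h'
    exact Subgroup.mem_bot.mp h'
  rw [hv1, one_mul]
  exact hh

include Φ in
theorem B_le_group : D.borelSubgroup F ≤ D.group F := by
  refine sup_le ?_ ((Subgroup.closure_le _).mpr ?_)
  · rw [Φ.posUnipotent_eq_US, US, Subgroup.closure_le]
    rintro g ⟨r, t, _, rfl⟩
    exact Φ.toAlg.xg_mem_group r t
  · rintro g ⟨r, t, hr, ht, hg⟩
    have : g = Φ.hw ⟨r, hr⟩ (Units.mk0 t ht) := Units.ext (by rw [hg, Φ.hw_val, Units.val_mk0])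
    rw [this, hw, nw, nw]
    simp only [mul_assoc]
    repeat' apply Subgroup.mul_mem
    all_goals exact Φ.toAlg.xg_mem_group _ _

theorem nw_mem_group (r : Fin D.nroots) (t : Fˣ) : Φ.nw r t ∈ D.group F :=
  Subgroup.mul_mem _ (Subgroup.mul_mem _ (Φ.toAlg.xg_mem_group _ _) (Φ.toAlg.xg_mem_group _ _))
    (Φ.toAlg.xg_mem_group _ _)

include Φ in
theorem N_le_group : D.monomialSubgroup F ≤ D.group F := by
  rw [Φ.monomialSubgroup_eq]
  refine sup_le (le_trans le_sup_right Φ.B_le_group) ((Subgroup.closure_le _).mpr ?_)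
  rintro g ⟨i, rfl⟩
  exact Φ.nw_mem_group _ _

theorem xg_mem_B_sup_N (r : Fin D.nroots) (t : F) :
    Φ.toAlg.xg r t ∈ D.borelSubgroup F ⊔ D.monomialSubgroup F := by
  revert t
  induction r using Φ.root_induction with
  | hp i =>
    intro t
    refine Subgroup.mem_sup_left (Subgroup.mem_sup_left ?_)
    rw [Φ.posUnipotent_eq_US]
    exact Φ.xg_mem_US (Φ.p_pos i) t
  | hstep i r ih =>
    intro t
    have h := Φ.nw_conj_xg (F := F) i r ((Φ.eta i r : F) * t)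
    rw [← mul_assoc, show (Φ.eta i r : F) * (Φ.eta i r : F) = 1 by
      rcases Φ.eta_unit i r with e | e <;> simp [e], one_mul] at h
    rw [eq_mul_inv_of_mul_eq h.symm]
    exact Subgroup.mul_mem _ (Subgroup.mul_mem _ (Subgroup.mem_sup_right (Φ.nw_mem_N _ _)) (ih _))
      (Subgroup.inv_mem _ (Subgroup.mem_sup_right (Φ.nw_mem_N _ _)))

include Φ in
theorem B_sup_N : D.borelSubgroup F ⊔ D.monomialSubgroup F = D.group F := by
  refine le_antisymm (sup_le Φ.B_le_group Φ.N_le_group) ?_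
  rw [Φ.toAlg.group_eq, Subgroup.closure_le]
  rintro g ⟨r, t, rfl⟩
  exact Φ.xg_mem_B_sup_N r t

end Chev

end CfsgLib.Chev
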