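/-
The Weyl group as a group of permutations of the roots: linearity on the root lattice and inversions.
-/
import Cfsg.Agent.Lib.Chev.Unip

namespace CfsgLib.Chev

open Cfsg.Lie Matrix

set_option linter.dupNamespace false
set_option linter.unusedSectionVars false

variable {D : ChevalleyDatum}

namespace Chev

variable (Φ : Chev D)

/-- The permutation is induced by a linear map of the root lattice. -/
def Lin (π : Equiv.Perm (Fin D.nroots)) : Prop :=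
  ∃ M : Matrix (Fin D.rank) (Fin D.rank) ℤ, ∀ r, Φ.V (π r) = M *ᵥ Φ.V r

theorem Lin.one : Φ.Lin 1 := ⟨1, fun r => by simp⟩

theorem Lin.mul {π σ : Equiv.Perm (Fin D.nroots)} (hπ : Φ.Lin π) (hσ : Φ.Lin σ) : Φ.Lin (π * σ) := by
  obtain ⟨M, hM⟩ := hπ
  obtain ⟨N, hN⟩ := hσ
  exact ⟨M * N, fun r => by rw [Equiv.Perm.mul_apply, hM, hN, Matrix.mulVec_mulVec]⟩

theorem Lin.pow {π : Equiv.Perm (Fin D.nroots)} (hπ : Φ.Lin π) : ∀ k : ℕ, Φ.Lin (π ^ k)
  | 0 => by rw [pow_zero]; exact Lin.one Φ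
  | k + 1 => by rw [pow_succ]; exact Lin.mul Φ (Lin.pow hπ k) hπ

theorem lin_reflPerm (i : Fin D.rank) : Φ.Lin (Φ.reflPerm i) := by
  refine ⟨Matrix.of fun j k => (if j = k then 1 else 0) - (if j = i then Φ.A i (Φ.p k) else 0),
    fun r => funext fun j => ?_⟩
  show Φ.V (Φ.refl i r) j = _
  rw [Φ.V_refl, Φ.A_lin i r]
  simp only [Matrix.mulVec, dotProduct, Matrix.of_apply, sub_mul, Finset.sum_sub_distrib, ite_mul,
    one_mul, zero_mul, Finset.sum_ite_eq, Finset.mem_univ, if_true]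
  by_cases h : j = i
  · simp [h, mul_comm]
  · simp [h]

/-- The reflections in the fundamental roots of `K`. -/
def simpleRefl (K : Set (Fin D.rank)) : Set (Equiv.Perm (Fin D.nroots)) := Φ.reflPerm '' K

/-- The subgroup of the Weyl group generated by the reflections in `K`. -/
def WK (K : Set (Fin D.rank)) : Subgroup (Equiv.Perm (Fin D.nroots)) := Subgroup.closure (Φ.simpleRefl K)

/-- The Weyl group acting on the roots. -/
def WL : Subgroup (Equiv.Perm (Fin D.nroots)) := Φ.WK Set.univ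

theorem reflPerm_mem_WK {K : Set (Fin D.rank)} {i : Fin D.rank} (h : i ∈ K) : Φ.reflPerm i ∈ Φ.WK K :=
  Subgroup.subset_closure ⟨i, h, rfl⟩

theorem reflPerm_mem_WL (i : Fin D.rank) : Φ.reflPerm i ∈ Φ.WL := Φ.reflPerm_mem_WK (Set.mem_univ i)

theorem WK_mono {J K : Set (Fin D.rank)} (h : J ⊆ K) : Φ.WK J ≤ Φ.WK K :=
  Subgroup.closure_mono (Set.image_mono h)

theorem WK_le_WL (K : Set (Fin D.rank)) : Φ.WK K ≤ Φ.WL := Φ.WK_mono (Set.subset_univ K)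

theorem reflPerm_mul_self' (i : Fin D.rank) : Φ.reflPerm i * Φ.reflPerm i = 1 :=
  Equiv.ext (Φ.refl_refl i)

theorem reflPerm_inv' (i : Fin D.rank) : (Φ.reflPerm i)⁻¹ = Φ.reflPerm i :=
  inv_eq_of_mul_eq_one_right (Φ.reflPerm_mul_self' i)

theorem lin_of_mem {π : Equiv.Perm (Fin D.nroots)} (h : π ∈ Φ.WL) : Φ.Lin π := by
  induction h using Subgroup.closure_induction with
  | mem x hx => obtain ⟨i, -, rfl⟩ := hx; exact Φ.lin_reflPerm i
  | one => exact Lin.one Φ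
  | mul x y _ _ hx hy => exact Lin.mul Φ hx hy
  | inv x _ hx =>
    have hx' : x⁻¹ = x ^ (orderOf x - 1) := by
      refine inv_eq_of_mul_eq_one_right ?_
      rw [← pow_succ', Nat.sub_add_cancel (orderOf_pos x), pow_orderOf_eq_one]
    rw [hx']; exact Lin.pow Φ hx _

/-- The action on the root lattice, read off on the fundamental roots. -/
theorem V_map {π : Equiv.Perm (Fin D.nroots)} (h : π ∈ Φ.WL) (r : Fin D.nroots) (j : Fin D.rank) :
    Φ.V (π r) j = ∑ k, Φ.V r k * Φ.V (π (Φ.p k)) j := by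
  obtain ⟨M, hM⟩ := Φ.lin_of_mem h
  rw [hM r]
  show ∑ k, M j k * Φ.V r k = _
  refine Finset.sum_congr rfl fun k _ => ?_
  rw [hM (Φ.p k), mul_comm (Φ.V r k)]
  congr 1
  simp [Matrix.mulVec, dotProduct, Φ.V_p]

theorem map_rev {π : Equiv.Perm (Fin D.nroots)} (h : π ∈ Φ.WL) (r : Fin D.nroots) :
    π r.rev = (π r).rev := by
  refine Φ.toSys.V_inj fun j => ?_
  rw [Φ.V_neg, Φ.V_map h, Φ.V_map h r, ← Finset.sum_neg_distrib]
  exact Finset.sum_congr rfl fun k _ => by rw [Φ.V_neg, neg_mul]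

theorem V_map_add {π : Equiv.Perm (Fin D.nroots)} (h : π ∈ Φ.WL) {r s : Fin D.nroots}
    (hN : Φ.N r s ≠ 0) (j : Fin D.rank) : Φ.V (π (Φ.S r s)) j = Φ.V (π r) j + Φ.V (π s) j := by
  rw [Φ.V_map h, Φ.V_map h r, Φ.V_map h s, ← Finset.sum_add_distrib]
  exact Finset.sum_congr rfl fun k _ => by rw [Φ.V_add r s hN, add_mul]

theorem exists_V_pos {r : Fin D.nroots} (hr : Φ.toTables.Pos r) : ∃ j, 0 < Φ.V r j := by
  by_cases h : ∃ i, r = Φ.p i
  · obtain ⟨i, rfl⟩ := h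
    exact ⟨i, by simp [Φ.V_p]⟩
  · push Not at h
    rcases isEmpty_or_nonempty (Fin D.rank) with he | ⟨⟨i⟩⟩
    · obtain ⟨i, -⟩ := Φ.exists_descent hr
      exact isEmptyElim i
    · obtain ⟨j, -, hj⟩ := Φ.V_supp r hr i (h i)
      exact ⟨j, hj⟩

theorem pos_iff_V_nonneg {r : Fin D.nroots} : Φ.toTables.Pos r ↔ ∀ j, 0 ≤ Φ.V r j := by
  refine ⟨Φ.V_nonneg r, fun h => by_contra fun hn => ?_⟩
  obtain ⟨j, hj⟩ := Φ.exists_V_pos ((Φ.pos_rev_iff r).mpr hn)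
  rw [Φ.V_neg] at hj
  have := h j
  omega

theorem pos_map_add {π : Equiv.Perm (Fin D.nroots)} (h : π ∈ Φ.WL) {r s : Fin D.nroots}
    (hN : Φ.N r s ≠ 0) (hr : Φ.toTables.Pos (π r)) (hs : Φ.toTables.Pos (π s)) :
    Φ.toTables.Pos (π (Φ.S r s)) := by
  rw [Φ.pos_iff_V_nonneg]
  intro j
  rw [Φ.V_map_add h hN]
  exact add_nonneg (Φ.V_nonneg _ hr j) (Φ.V_nonneg _ hs j)

theorem neg_map_add {π : Equiv.Perm (Fin D.nroots)} (h : π ∈ Φ.WL) {r s : Fin D.nroots}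
    (hN : Φ.N r s ≠ 0) (hr : ¬ Φ.toTables.Pos (π r)) (hs : ¬ Φ.toTables.Pos (π s)) :
    ¬ Φ.toTables.Pos (π (Φ.S r s)) := by
  rw [← Φ.pos_rev_iff, Φ.pos_iff_V_nonneg]
  intro j
  rw [Φ.V_neg, Φ.V_map_add h hN]
  have := Φ.V_nonpos _ hr j
  have := Φ.V_nonpos _ hs j
  omega

theorem closed_pos_pos {π : Equiv.Perm (Fin D.nroots)} (h : π ∈ Φ.WL) :
    Φ.Closed fun r => Φ.toTables.Pos r ∧ Φ.toTables.Pos (π r) :=
  fun r s hr hs hN => ⟨Φ.closed_pos r s hr.1 hs.1 hN, Φ.pos_map_add h hN hr.2 hs.2⟩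

theorem closed_pos_neg {π : Equiv.Perm (Fin D.nroots)} (h : π ∈ Φ.WL) :
    Φ.Closed fun r => Φ.toTables.Pos r ∧ ¬ Φ.toTables.Pos (π r) :=
  fun r s hr hs hN => ⟨Φ.closed_pos r s hr.1 hs.1 hN, Φ.neg_map_add h hN hr.2 hs.2⟩

/-! ### Inversions -/

/-- The positive roots made negative. -/
def invSet (π : Equiv.Perm (Fin D.nroots)) : Finset (Fin D.nroots) :=
  Finset.univ.filter fun r => Φ.toTables.Pos r ∧ ¬ Φ.toTables.Pos (π r)

/-- The number of positive roots made negative. -/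
def inv (π : Equiv.Perm (Fin D.nroots)) : ℕ := (Φ.invSet π).card

theorem mem_invSet {π : Equiv.Perm (Fin D.nroots)} {r : Fin D.nroots} :
    r ∈ Φ.invSet π ↔ Φ.toTables.Pos r ∧ ¬ Φ.toTables.Pos (π r) := by simp [invSet]

theorem inv_one : Φ.inv 1 = 0 := by
  rw [inv, Finset.card_eq_zero, Finset.eq_empty_iff_forall_notMem]
  intro r hr
  exact (Φ.mem_invSet.1 hr).2 (Φ.mem_invSet.1 hr).1

theorem pos_refl_iff (i : Fin D.rank) {s : Fin D.nroots} (h1 : s ≠ Φ.p i) (h2 : s ≠ (Φ.p i).rev) :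
    Φ.toTables.Pos (Φ.refl i s) ↔ Φ.toTables.Pos s := by
  refine ⟨fun h => by_contra fun hn => ?_, fun h => (Φ.refl_pos h h1).1⟩
  have := (Φ.refl_pos ((Φ.pos_rev_iff s).mpr hn) fun e => h2 (by rw [← e, Fin.rev_rev])).1
  rw [Φ.refl_rev] at this
  exact (Φ.pos_rev_iff _).mp this h

theorem inv_refl_mul {π : Equiv.Perm (Fin D.nroots)} (h : π ∈ Φ.WL) (i : Fin D.rank)
    (hi : Φ.toTables.Pos (π⁻¹ (Φ.p i))) : Φ.inv (Φ.reflPerm i * π) = Φ.inv π + 1 := by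
  have hne : π⁻¹ (Φ.p i) ∉ Φ.invSet π := fun hm => (Φ.mem_invSet.1 hm).2 (by simpa using Φ.p_pos i)
  rw [inv, inv, ← Finset.card_insert_of_notMem hne]
  congr 1
  ext r
  rw [Φ.mem_invSet, Finset.mem_insert, Φ.mem_invSet]
  show _ ∧ ¬ Φ.toTables.Pos (Φ.refl i (π r)) ↔ _
  by_cases h1 : π r = Φ.p i
  · have hr : r = π⁻¹ (Φ.p i) := by rw [← h1]; simp
    rw [h1, Φ.refl_p, Φ.pos_rev_iff, not_not]
    exact ⟨fun _ => Or.inl hr, fun _ => ⟨hr ▸ hi, Φ.p_pos i⟩⟩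
  · have h1' : r ≠ π⁻¹ (Φ.p i) := fun e => h1 (by rw [e]; simp)
    by_cases h2 : π r = (Φ.p i).rev
    · have : ¬ Φ.toTables.Pos r := by
        have e : r = (π⁻¹ (Φ.p i)).rev := by
          rw [← Φ.map_rev (inv_mem h), ← h2]; simp
        rw [e, Φ.pos_rev_iff, not_not]; exact hi
      exact ⟨fun e => absurd e.1 this, fun e => e.elim (absurd · h1') fun e => absurd e.1 this⟩
    · rw [Φ.pos_refl_iff i h1 h2]
      exact ⟨Or.inr, fun e => e.resolve_left h1'⟩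

theorem inv_refl_mul_of_neg {π : Equiv.Perm (Fin D.nroots)} (h : π ∈ Φ.WL) (i : Fin D.rank)
    (hi : ¬ Φ.toTables.Pos (π⁻¹ (Φ.p i))) : Φ.inv π = Φ.inv (Φ.reflPerm i * π) + 1 := by
  have hm : Φ.reflPerm i * π ∈ Φ.WL := mul_mem (Φ.reflPerm_mem_WL i) h
  have := Φ.inv_refl_mul hm i (by
    rw [_root_.mul_inv_rev, Φ.reflPerm_inv', Equiv.Perm.mul_apply]
    show Φ.toTables.Pos (π⁻¹ (Φ.refl i (Φ.p i)))
    rw [Φ.refl_p, Φ.map_rev (inv_mem h), Φ.pos_rev_iff]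
    exact hi)
  rwa [← mul_assoc, Φ.reflPerm_mul_self', one_mul] at this

theorem map_p_of_mem_WK {K : Set (Fin D.rank)} {π : Equiv.Perm (Fin D.nroots)} (h : π ∈ Φ.WK K)
    (r : Fin D.nroots) {j : Fin D.rank} (hj : j ∉ K) : Φ.V (π r) j = Φ.V r j := by
  induction h using Subgroup.closure_induction generalizing r with
  | mem x hx =>
    obtain ⟨i, hi, rfl⟩ := hx
    show Φ.V (Φ.refl i r) j = _
    rw [Φ.V_refl, if_neg fun e => hj (by rwa [e]), sub_zero]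
  | one => rfl
  | mul x y _ _ hx hy => rw [Equiv.Perm.mul_apply, hx, hy]
  | inv x _ hx =>
    have := hx (x⁻¹ r)
    rw [show x (x⁻¹ r) = r from x.apply_symm_apply r] at this
    exact this.symm

end Chev

end CfsgLib.Chev
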