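/-
The (B,N)-pair of a Chevalley group, and the faithfulness of the Weyl group on the roots.
-/
import Cfsg.Agent.Lib.Chev.HN
import Cfsg.Agent.Lib.Chev.WeylGroup
import Cfsg.Agent.Lib.BN.Basic

namespace CfsgLib.Chev

open Cfsg.Lie Matrix

set_option linter.dupNamespace false
set_option linter.unusedSectionVars false

variable {D : ChevalleyDatum}

namespace Chev

variable (Φ : Chev D) {F : Type*} [Field F]

theorem exists_mono_W {g : GL D.Idx F} (hg : g ∈ D.monomialSubgroup F) :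
    ∃ π ∈ Φ.WL, Φ.Mono g π ∧ Φ.Mono g⁻¹ π⁻¹ := by
  rw [Φ.monomialSubgroup_eq, ← Subgroup.closure_eq (D.diagonalSubgroup F), ← Subgroup.closure_union] at hg
  induction hg using Subgroup.closure_induction with
  | mem x hx =>
    have hN : x ∈ D.monomialSubgroup F := by
      rw [Φ.monomialSubgroup_eq]
      exact hx.elim Subgroup.mem_sup_left fun h => Subgroup.mem_sup_right (Subgroup.subset_closure h)
    obtain ⟨π, hπ, hπ'⟩ := Φ.exists_mono hN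
    refine ⟨π, ?_, hπ, hπ'⟩
    rcases hx with hx | ⟨i, rfl⟩
    · obtain ⟨c, rfl⟩ := Φ.exists_torus_of_mem_H hx
      rw [Mono.unique Φ hπ (Φ.mono_torus c)]
      exact one_mem _
    · rw [Mono.unique Φ hπ (Φ.nw_one_mono i)]
      exact Φ.reflPerm_mem_WL i
  | one => exact ⟨1, one_mem _, Mono.one Φ, by rw [_root_.inv_one, _root_.inv_one]; exact Mono.one Φ⟩
  | mul x y _ _ hx hy =>
    obtain ⟨π, hπ, a, a'⟩ := hx
    obtain ⟨σ, hσ, b, b'⟩ := hy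
    exact ⟨π * σ, mul_mem hπ hσ, Mono.mul Φ a b,
      by rw [_root_.mul_inv_rev, _root_.mul_inv_rev]; exact Mono.mul Φ b' a'⟩
  | inv x _ hx =>
    obtain ⟨π, hπ, a, a'⟩ := hx
    exact ⟨π⁻¹, inv_mem hπ, a', by rwa [inv_inv, inv_inv]⟩

theorem mem_W_of_mono {g : GL D.Idx F} (hg : g ∈ D.monomialSubgroup F)
    {π : Equiv.Perm (Fin D.nroots)} (hπ : Φ.Mono g π) : π ∈ Φ.WL := by
  obtain ⟨σ, hσ, h, -⟩ := Φ.exists_mono_W hg
  rwa [Mono.unique Φ hπ h]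

theorem mono_inv {g : GL D.Idx F} (hg : g ∈ D.monomialSubgroup F)
    {π : Equiv.Perm (Fin D.nroots)} (hπ : Φ.Mono g π) : Φ.Mono g⁻¹ π⁻¹ := by
  obtain ⟨σ, -, h, h'⟩ := Φ.exists_mono_W hg
  rwa [Mono.unique Φ hπ h]

theorem exists_preimage (F : Type*) [Field F] {π : Equiv.Perm (Fin D.nroots)} (hπ : π ∈ Φ.WL) :
    ∃ g ∈ D.monomialSubgroup F, Φ.Mono g π := by
  induction hπ using Subgroup.closure_induction with
  | mem x hx =>
    obtain ⟨i, -, rfl⟩ := hx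
    exact ⟨_, Φ.nw_mem_N (Φ.p i) 1, Φ.nw_one_mono i⟩
  | one => exact ⟨1, one_mem _, Mono.one Φ⟩
  | mul x y _ _ hx hy =>
    obtain ⟨g, hg, a⟩ := hx
    obtain ⟨h, hh, b⟩ := hy
    exact ⟨g * h, mul_mem hg hh, Mono.mul Φ a b⟩
  | inv x _ hx =>
    obtain ⟨g, hg, a⟩ := hx
    exact ⟨g⁻¹, inv_mem hg, Φ.mono_inv hg a⟩

/-- Conjugation by a monomial element of a subgroup attached to a set of roots. -/
theorem mono_conj_US {g : GL D.Idx F} {π : Equiv.Perm (Fin D.nroots)} (hg : Φ.Mono g π)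
    {S T : Fin D.nroots → Prop} (hST : ∀ r, S r → T (π r)) {x : GL D.Idx F} (hx : x ∈ Φ.US F S) :
    g * x * g⁻¹ ∈ Φ.US F T := by
  induction hx using Subgroup.closure_induction with
  | mem y hy =>
    obtain ⟨r, t, hr, rfl⟩ := hy
    obtain ⟨a, -, h, -⟩ := hg.1 r
    rw [h]
    exact Φ.xg_mem_US (hST r hr) _
  | one => simp
  | mul a b _ _ ha hb =>
    rw [show g * (a * b) * g⁻¹ = (g * a * g⁻¹) * (g * b * g⁻¹) by group]
    exact mul_mem ha hb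
  | inv a _ ha =>
    rw [show g * a⁻¹ * g⁻¹ = (g * a * g⁻¹)⁻¹ by group]
    exact inv_mem ha

theorem xg_mem_U {r : Fin D.nroots} (hr : Φ.toTables.Pos r) (t : F) :
    Φ.toAlg.xg r t ∈ D.posUnipotent F := by
  rw [Φ.posUnipotent_eq_US]; exact Φ.xg_mem_US hr t

theorem xg_mem_V {r : Fin D.nroots} (hr : ¬ Φ.toTables.Pos r) (t : F) :
    Φ.toAlg.xg r t ∈ D.negUnipotent F := by
  rw [Φ.negUnipotent_eq_US]; exact Φ.xg_mem_US hr t

theorem U_le_B {x : GL D.Idx F} (hx : x ∈ D.posUnipotent F) : x ∈ D.borelSubgroup F :=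
  Subgroup.mem_sup_left hx

theorem H_le_B {x : GL D.Idx F} (hx : x ∈ D.diagonalSubgroup F) : x ∈ D.borelSubgroup F :=
  Subgroup.mem_sup_right hx

include Φ in
theorem H_conj_mem {n h : GL D.Idx F} (hn : n ∈ D.monomialSubgroup F) (hh : h ∈ D.diagonalSubgroup F) :
    n * h * n⁻¹ ∈ D.diagonalSubgroup F :=
  (Subgroup.mem_normalizer_iff.1 (Φ.N_le_normalizer_H hn) h).1 hh

include Φ in
theorem H_conj_mem' {n h : GL D.Idx F} (hn : n ∈ D.monomialSubgroup F) (hh : h ∈ D.diagonalSubgroup F) :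
    n⁻¹ * h * n ∈ D.diagonalSubgroup F := by
  simpa using Φ.H_conj_mem (inv_mem hn) hh

/-- The positive roots other than a fundamental one. -/
def PosNe (i : Fin D.rank) (r : Fin D.nroots) : Prop := Φ.toTables.Pos r ∧ r ≠ Φ.p i

theorem add_ne_p {r s : Fin D.nroots} (hr : Φ.toTables.Pos r) (hs : Φ.toTables.Pos s)
    (hN : Φ.N r s ≠ 0) (i : Fin D.rank) : Φ.S r s ≠ Φ.p i := by
  intro e
  obtain ⟨j, hj⟩ := Φ.exists_V_pos hr
  obtain ⟨k, hk⟩ := Φ.exists_V_pos hs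
  have h := fun m => (Φ.V_add r s hN m).symm.trans (by rw [e, Φ.V_p])
  have hjr := Φ.V_nonneg r hr
  have hjs := Φ.V_nonneg s hs
  have h1 := h j
  have h2 := h k
  have := hjs j
  have := hjr k
  by_cases ej : i = j
  · subst ej
    by_cases ek : i = k
    · subst ek; rw [if_pos rfl] at h1; omega
    · rw [if_neg ek] at h2; omega
  · rw [if_neg ej] at h1; omega

theorem closed_posNe (i : Fin D.rank) : Φ.Closed (Φ.PosNe i) :=
  fun r s hr hs hN => ⟨Φ.closed_pos r s hr.1 hs.1 hN, Φ.add_ne_p hr.1 hs.1 hN i⟩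

/-- The fundamental root subgroup normalises the product of the other positive root subgroups. -/
theorem xg_p_conj_posNe (i : Fin D.rank) (c : F) {x : GL D.Idx F} (hx : x ∈ Φ.US F (Φ.PosNe i)) :
    (Φ.toAlg.xg (Φ.p i) c)⁻¹ * x * Φ.toAlg.xg (Φ.p i) c ∈ Φ.US F (Φ.PosNe i) := by
  induction hx using Subgroup.closure_induction with
  | mem y hy =>
    obtain ⟨s, u, hs, rfl⟩ := hy
    refine Φ.conj_xg_mem hs.2 (fun e => ?_) hs (fun d hd => ?_) c u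
    · exact (Φ.pos_rev_iff _).mp (e ▸ hs.1) (Φ.p_pos i)
    · refine Φ.commTerms_mem (Q := Φ.PosNe i) (fun hN => ?_) (fun x hx hN => ?_) (fun x hx hN => ?_) hd
      · exact ⟨Φ.closed_pos _ _ (Φ.p_pos i) hs.1 hN, Φ.add_ne_p (Φ.p_pos i) hs.1 hN i⟩
      · exact ⟨Φ.closed_pos _ _ (Φ.p_pos i) hx.1 hN, Φ.add_ne_p (Φ.p_pos i) hx.1 hN i⟩
      · exact Φ.closed_posNe i _ _ hs hx hN
  | one => simp
  | mul y z _ _ hy hz =>
    rw [show (Φ.toAlg.xg (Φ.p i) c)⁻¹ * (y * z) * Φ.toAlg.xg (Φ.p i) c =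
      ((Φ.toAlg.xg (Φ.p i) c)⁻¹ * y * Φ.toAlg.xg (Φ.p i) c) *
        ((Φ.toAlg.xg (Φ.p i) c)⁻¹ * z * Φ.toAlg.xg (Φ.p i) c) by group]
    exact mul_mem hy hz
  | inv y _ hy =>
    rw [show (Φ.toAlg.xg (Φ.p i) c)⁻¹ * y⁻¹ * Φ.toAlg.xg (Φ.p i) c =
      ((Φ.toAlg.xg (Φ.p i) c)⁻¹ * y * Φ.toAlg.xg (Φ.p i) c)⁻¹ by group]
    exact inv_mem hy

/-- `U = U_p X_p`. -/
theorem exists_split (i : Fin D.rank) {u : GL D.Idx F} (hu : u ∈ D.posUnipotent F) :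
    ∃ v ∈ Φ.US F (Φ.PosNe i), ∃ a : F, u = v * Φ.toAlg.xg (Φ.p i) a := by
  rw [Φ.posUnipotent_eq_US] at hu
  induction hu using Subgroup.closure_induction with
  | mem y hy =>
    obtain ⟨s, t, hs, rfl⟩ := hy
    by_cases e : s = Φ.p i
    · exact ⟨1, one_mem _, t, by rw [e, one_mul]⟩
    · exact ⟨_, Φ.xg_mem_US (show Φ.PosNe i s from ⟨hs, e⟩) t, 0, by simp⟩
  | one => exact ⟨1, one_mem _, 0, by simp⟩
  | mul y z _ _ hy hz =>
    obtain ⟨v, hv, a, rfl⟩ := hy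
    obtain ⟨w, hw, b, rfl⟩ := hz
    refine ⟨_, mul_mem hv (Φ.xg_p_conj_posNe i (-a) hw), a + b, ?_⟩
    rw [Φ.toAlg.xg_neg, Φ.toAlg.xg_add]; group
  | inv y _ hy =>
    obtain ⟨v, hv, a, rfl⟩ := hy
    refine ⟨_, Φ.xg_p_conj_posNe i a (inv_mem hv), -a, ?_⟩
    rw [Φ.toAlg.xg_neg]; group

theorem nw_conj_posNe (i : Fin D.rank) {v : GL D.Idx F} (hv : v ∈ Φ.US F (Φ.PosNe i)) :
    Φ.nw (Φ.p i) 1 * v * (Φ.nw (Φ.p i) 1)⁻¹ ∈ Φ.US F (Φ.PosNe i) :=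
  Φ.mono_conj_US (Φ.nw_one_mono i) (fun _ hr => Φ.refl_pos hr.1 hr.2) hv

theorem posNe_le_U {i : Fin D.rank} {v : GL D.Idx F} (hv : v ∈ Φ.US F (Φ.PosNe i)) :
    v ∈ D.posUnipotent F := by
  rw [Φ.posUnipotent_eq_US]; exact Φ.US_mono (fun _ h => h.1) hv

/-- `x_{-p}(c)` in terms of the opposite root subgroup and `n_p`. -/
theorem xg_rev_eq' (r : Fin D.nroots) {c : F} (hc : c ≠ 0) :
    Φ.toAlg.xg r.rev c =
      Φ.toAlg.xg r c⁻¹ * Φ.nw r (-(Units.mk0 c hc)⁻¹) * Φ.toAlg.xg r c⁻¹ := by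
  have : Φ.nw r (-(Units.mk0 c hc)⁻¹) =
      (Φ.toAlg.xg r c⁻¹)⁻¹ * Φ.toAlg.xg r.rev c * (Φ.toAlg.xg r c⁻¹)⁻¹ := by
    rw [Φ.toAlg.xg_inv, nw]
    simp [inv_neg]
  rw [this]; group

/-- The double coset relation of the (B,N)-pair. -/
theorem simple_mul_cell {n b : GL D.Idx F} (hn : n ∈ D.monomialSubgroup F)
    {π : Equiv.Perm (Fin D.nroots)} (hπ : Φ.Mono n π) (i : Fin D.rank) (hb : b ∈ D.borelSubgroup F) :
    (Φ.toTables.Pos (π⁻¹ (Φ.p i)) → ∃ x ∈ D.borelSubgroup F, ∃ y ∈ D.borelSubgroup F,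
        Φ.nw (Φ.p i) 1 * b * n = x * (Φ.nw (Φ.p i) 1 * n) * y) ∧
      ((∃ x ∈ D.borelSubgroup F, ∃ y ∈ D.borelSubgroup F,
        Φ.nw (Φ.p i) 1 * b * n = x * (Φ.nw (Φ.p i) 1 * n) * y) ∨
      ∃ x ∈ D.borelSubgroup F, ∃ y ∈ D.borelSubgroup F, Φ.nw (Φ.p i) 1 * b * n = x * n * y) := by
  set s := Φ.nw (Φ.p i) (1 : Fˣ) with hs
  have hsN : s ∈ D.monomialSubgroup F := Φ.nw_mem_N _ _
  obtain ⟨u, hu, h, hh, rfl⟩ := Φ.mem_B_iff.mp hb
  obtain ⟨v, hv, a, rfl⟩ := Φ.exists_split i hu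
  have hv' : s * v * s⁻¹ ∈ D.borelSubgroup F := U_le_B (Φ.posNe_le_U (Φ.nw_conj_posNe i hv))
  have hh' : n⁻¹ * h * n ∈ D.borelSubgroup F := H_le_B (Φ.H_conj_mem' hn hh)
  have hpos : Φ.toTables.Pos (π⁻¹ (Φ.p i)) → ∃ x ∈ D.borelSubgroup F, ∃ y ∈ D.borelSubgroup F,
      s * (v * Φ.toAlg.xg (Φ.p i) a * h) * n = x * (s * n) * y := by
    intro hp
    obtain ⟨a', -, ha', -⟩ := (Φ.mono_inv hn hπ).1 (Φ.p i)
    refine ⟨_, hv', _, mul_mem (U_le_B (Φ.xg_mem_U hp (a' * a))) hh', ?_⟩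
    rw [← ha' a]; group
  refine ⟨hpos, ?_⟩
  by_cases hp : Φ.toTables.Pos (π⁻¹ (Φ.p i))
  · exact Or.inl (hpos hp)
  · -- the root `p` becomes negative
    have hW : π ∈ Φ.WL := Φ.mem_W_of_mono hn hπ
    obtain ⟨e, he, he', -⟩ := (Φ.nw_one_mono (F := F) i).1 (Φ.p i)
    have hrp : Φ.reflPerm i (Φ.p i) = (Φ.p i).rev := Φ.refl_p i
    rw [← hs] at he'
    rw [hrp] at he'
    have hh1 : s * h * s⁻¹ ∈ D.diagonalSubgroup F := Φ.H_conj_mem hsN hh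
    by_cases ha : a = 0
    · left
      subst ha
      exact ⟨_, mul_mem hv' (H_le_B hh1), 1, one_mem _, by
        rw [Φ.toAlg.xg_zero]; group⟩
    · right
      have hea : e * a ≠ 0 := mul_ne_zero he ha
      set c : F := (e * a)⁻¹ with hc
      set T : GL D.Idx F := Φ.hw (Φ.p i) (-(Units.mk0 (e * a) hea)⁻¹) with hT
      have hTH : T ∈ D.diagonalSubgroup F := Φ.hw_mem_H _ _
      have hsa : s * Φ.toAlg.xg (Φ.p i) a * s⁻¹ =
          Φ.toAlg.xg (Φ.p i) c * (T * s) * Φ.toAlg.xg (Φ.p i) c := by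
        rw [he' a, Φ.xg_rev_eq' (Φ.p i) hea, Φ.nw_eq_hw_mul (Φ.p i) (-(Units.mk0 (e * a) hea)⁻¹)]
      -- move the right factor across
      set k := s * h * s⁻¹ with hk
      set m := s * n with hm
      have hmN : m ∈ D.monomialSubgroup F := mul_mem hsN hn
      have hmπ : Φ.Mono m (Φ.reflPerm i * π) := Mono.mul Φ (Φ.nw_one_mono i) hπ
      have hpm : Φ.toTables.Pos ((Φ.reflPerm i * π)⁻¹ (Φ.p i)) := by
        rw [_root_.mul_inv_rev, Φ.reflPerm_inv', Equiv.Perm.mul_apply]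
        show Φ.toTables.Pos (π⁻¹ (Φ.refl i (Φ.p i)))
        rw [Φ.refl_p, Φ.map_rev (inv_mem hW), Φ.pos_rev_iff]
        exact hp
      have hku : (k * m)⁻¹ * Φ.toAlg.xg (Φ.p i) c * (k * m) ∈ D.borelSubgroup F := by
        obtain ⟨d, hd⟩ := Φ.exists_torus_of_mem_H (inv_mem hh1)
        obtain ⟨a1, -, ha1, -⟩ := (Φ.mono_torus d).1 (Φ.p i)
        obtain ⟨a2, -, ha2, -⟩ := (Φ.mono_inv hmN hmπ).1 (Φ.p i)
        have h1 : k⁻¹ * Φ.toAlg.xg (Φ.p i) c * k = Φ.toAlg.xg (Φ.p i) (a1 * c) := by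
          have := ha1 c
          rw [← hd, inv_inv] at this
          exact this
        have h2 := ha2 (a1 * c)
        rw [inv_inv] at h2
        rw [show (k * m)⁻¹ * Φ.toAlg.xg (Φ.p i) c * (k * m) =
          m⁻¹ * (k⁻¹ * Φ.toAlg.xg (Φ.p i) c * k) * m by group, h1, h2]
        exact U_le_B (Φ.xg_mem_U hpm _)
      have hssH : s * s ∈ D.diagonalSubgroup F := by
        rw [hs, Φ.nw_one_sq, ← Φ.hw_p]; exact Φ.hw_mem_H _ _
      have hTk : T * (s * k * s⁻¹) * (s * s) ∈ D.diagonalSubgroup F :=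
        mul_mem (mul_mem hTH (Φ.H_conj_mem hsN hh1)) hssH
      refine ⟨_, mul_mem (mul_mem hv' (U_le_B (Φ.xg_mem_U (Φ.p_pos i) c))) (H_le_B hTk), _, hku, ?_⟩
      calc s * (v * Φ.toAlg.xg (Φ.p i) a * h) * n
          = (s * v * s⁻¹) * (s * Φ.toAlg.xg (Φ.p i) a * s⁻¹) * (k * m) := by rw [hk, hm]; group
        _ = (s * v * s⁻¹) * (Φ.toAlg.xg (Φ.p i) c * (T * s) * Φ.toAlg.xg (Φ.p i) c) * (k * m) := by
            rw [hsa]
        _ = _ := by rw [hk, hm]; group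

/-! ### The (B,N)-pair -/

theorem eq_of_nw_inv_mul_mem {i j : Fin D.rank}
    (h : (Φ.nw (Φ.p i) (1 : Fˣ))⁻¹ * Φ.nw (Φ.p j) 1 ∈ D.borelSubgroup F) : i = j := by
  by_contra hij
  have hN : (Φ.nw (Φ.p i) (1 : Fˣ))⁻¹ * Φ.nw (Φ.p j) 1 ∈ D.monomialSubgroup F :=
    mul_mem (inv_mem (Φ.nw_mem_N _ _)) (Φ.nw_mem_N _ _)
  have hH : (Φ.nw (Φ.p i) (1 : Fˣ))⁻¹ * Φ.nw (Φ.p j) 1 ∈ D.diagonalSubgroup F := by
    rw [← Φ.B_inf_N]; exact ⟨h, hN⟩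
  obtain ⟨c, hc⟩ := Φ.exists_torus_of_mem_H hH
  have h1 : Φ.Mono ((Φ.nw (Φ.p i) (1 : Fˣ))⁻¹ * Φ.nw (Φ.p j) 1) (Φ.reflPerm i * Φ.reflPerm j) := by
    have := Φ.mono_inv (Φ.nw_mem_N (Φ.p i) 1) (Φ.nw_one_mono (F := F) i)
    rw [Φ.reflPerm_inv'] at this
    exact Mono.mul Φ this (Φ.nw_one_mono j)
  have h2 := Mono.unique Φ h1 (by rw [hc]; exact Φ.mono_torus c)
  have h3 : Φ.refl i (Φ.refl j (Φ.p j)) = Φ.p j := Equiv.ext_iff.1 h2 (Φ.p j)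
  rw [Φ.refl_p, Φ.refl_rev] at h3
  have hne : Φ.p j ≠ Φ.p i := fun e => hij (by
    have := congrArg (fun r => Φ.V r i) e
    simp only [Φ.V_p, if_pos] at this
    split_ifs at this with e'
    · exact e'.symm
    · simp at this)
  have h4 := (Φ.refl_pos (Φ.p_pos j) hne).1
  exact (Φ.pos_rev_iff (Φ.refl i (Φ.p j))).mp (by rw [h3]; exact Φ.p_pos j) h4

/-- The (B,N)-pair of the Chevalley group. -/
noncomputable def bnP (F : Type*) [Field F] : Cfsg.BNPair ↥(D.group F) where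
  B := (D.borelSubgroup F).subgroupOf (D.group F)
  N := (D.monomialSubgroup F).subgroupOf (D.group F)
  S := {n : ↥(D.group F) | ∃ i, (n : GL D.Idx F) = Φ.nw (Φ.p i) 1}
  sup_eq_top := by
    rw [← Subgroup.subgroupOf_sup Φ.B_le_group Φ.N_le_group, Φ.B_sup_N, Subgroup.subgroupOf_self]
  conj_mem n hn t ht := by
    have h1 : (t : GL D.Idx F) ∈ D.diagonalSubgroup F := by rw [← Φ.B_inf_N]; exact ⟨ht.1, ht.2⟩
    exact H_le_B (Φ.H_conj_mem hn h1)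
  subset := by rintro n ⟨i, hi⟩; show (n : GL D.Idx F) ∈ D.monomialSubgroup F; rw [hi]; exact Φ.nw_mem_N _ _
  sq_mem := by
    rintro n ⟨i, hi⟩
    show (n : GL D.Idx F) * n ∈ D.borelSubgroup F
    rw [hi, Φ.nw_one_sq, ← Φ.hw_p]
    exact H_le_B (Φ.hw_mem_H _ _)
  inj := by
    rintro n ⟨i, hi⟩ n' ⟨j, hj⟩ h
    have h' : (n : GL D.Idx F)⁻¹ * n' ∈ D.borelSubgroup F := h
    rw [hi, hj] at h'
    obtain rfl := Φ.eq_of_nw_inv_mul_mem h'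
    exact Subtype.ext (hi.trans hj.symm)
  closure_sup := by
    apply Subgroup.map_injective (D.group F).subtype_injective
    rw [Subgroup.map_sup, MonoidHom.map_closure,
      Subgroup.map_inf_eq _ _ _ (D.group F).subtype_injective, Subgroup.map_subgroupOf_eq_of_le Φ.B_le_group,
      Subgroup.map_subgroupOf_eq_of_le Φ.N_le_group, Φ.B_inf_N, sup_comm, Φ.monomialSubgroup_eq]
    congr 2
    ext g
    constructor
    · rintro ⟨n, ⟨i, hi⟩, rfl⟩; exact ⟨i, hi⟩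
    · rintro ⟨i, rfl⟩; exact ⟨⟨_, Φ.nw_mem_group _ _⟩, ⟨i, rfl⟩, rfl⟩
  mul_mem_union := by
    rintro s ⟨i, hi⟩ n hn b hb
    obtain ⟨π, -, hπ, -⟩ := Φ.exists_mono_W (g := (n : GL D.Idx F)) hn
    have key : ∀ m : ↥(D.group F), (∃ x ∈ D.borelSubgroup F, ∃ y ∈ D.borelSubgroup F,
        ((s * b * n : ↥(D.group F)) : GL D.Idx F) = x * (m : GL D.Idx F) * y) →
        s * b * n ∈ DoubleCoset.doubleCoset m
          ((D.borelSubgroup F).subgroupOf (D.group F) : Set ↥(D.group F))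
          ((D.borelSubgroup F).subgroupOf (D.group F)) := by
      rintro m ⟨x, hx, y, hy, h⟩
      exact DoubleCoset.mem_doubleCoset.2
        ⟨⟨x, Φ.B_le_group hx⟩, hx, ⟨y, Φ.B_le_group hy⟩, hy, Subtype.ext h⟩
    rcases (Φ.simple_mul_cell (n := (n : GL D.Idx F)) (b := (b : GL D.Idx F)) hn hπ i hb).2 with h | h
    · exact Or.inl (key (s * n) (by simpa only [Subgroup.coe_mul, hi] using h))
    · exact Or.inr (key n (by simpa only [Subgroup.coe_mul, hi] using h))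
  conj_ne := by
    rintro s ⟨i, hi⟩ heq
    let x : ↥(D.group F) := ⟨Φ.toAlg.xg (Φ.p i) (1 : F), Φ.toAlg.xg_mem_group _ _⟩
    have hx : s * x * s ∈ (D.borelSubgroup F).subgroupOf (D.group F) := by
      have hxB : x ∈ (D.borelSubgroup F).subgroupOf (D.group F) := U_le_B (Φ.xg_mem_U (Φ.p_pos i) 1)
      have hm := Set.mem_image_of_mem (fun b : ↥(D.group F) => s * b * s) hxB
      rw [heq] at hm
      exact hm
    have hx' : Φ.nw (Φ.p i) 1 * Φ.toAlg.xg (Φ.p i) (1 : F) * Φ.nw (Φ.p i) 1 ∈ D.borelSubgroup F := by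
      have := Subgroup.mem_subgroupOf.1 hx
      simpa [hi, x] using this
    obtain ⟨e, he, he', -⟩ := (Φ.nw_one_mono (F := F) i).1 (Φ.p i)
    have hrp : Φ.reflPerm i (Φ.p i) = (Φ.p i).rev := Φ.refl_p i
    rw [hrp] at he'
    have h2 : Φ.toAlg.xg (Φ.p i).rev e ∈ D.borelSubgroup F ⊓ D.negUnipotent F := by
      refine ⟨?_, Φ.xg_mem_V (fun h => (Φ.pos_rev_iff _).mp h (Φ.p_pos i)) _⟩
      have hsq : Φ.nw (Φ.p i) (1 : Fˣ) * Φ.nw (Φ.p i) 1 ∈ D.borelSubgroup F := by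
        rw [Φ.nw_one_sq, ← Φ.hw_p]; exact H_le_B (Φ.hw_mem_H _ _)
      have := mul_mem hx' (inv_mem hsq)
      rw [← mul_one e, ← he' 1]
      simpa [mul_assoc] using this
    rw [Φ.B_inf_V, Subgroup.mem_bot, Φ.toAlg.xg_eq_one_iff] at h2
    exact he h2

theorem mem_bnPair_N {n : ↥(D.group F)} :
    n ∈ (Φ.bnP F).N ↔ (n : GL D.Idx F) ∈ D.monomialSubgroup F := Iff.rfl

theorem mem_bnPair_B {n : ↥(D.group F)} :
    n ∈ (Φ.bnP F).B ↔ (n : GL D.Idx F) ∈ D.borelSubgroup F := Iff.rfl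

/-- A monomial element which fixes every root lies in `H`. -/
theorem mem_H_of_mono_one {n : GL D.Idx F} (hn : n ∈ D.monomialSubgroup F) (h1 : Φ.Mono n 1) :
    n ∈ D.diagonalSubgroup F := by
  rw [← Φ.B_inf_N]
  refine ⟨?_, hn⟩
  let P := Φ.bnP F
  have hconj : ∀ b ∈ P.B,
      (⟨n, Φ.N_le_group hn⟩ : ↥(D.group F)) * b * (⟨n, Φ.N_le_group hn⟩ : ↥(D.group F))⁻¹ ∈
        P.parabolic ∅ := by
    intro b hb
    obtain ⟨u, hu, h, hh, e⟩ := Φ.mem_B_iff.mp (Φ.mem_bnPair_B.1 hb)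
    refine Subgroup.mem_sup_left (Φ.mem_bnPair_B.2 ?_)
    show n * (b : GL D.Idx F) * n⁻¹ ∈ D.borelSubgroup F
    rw [e, show n * (u * h) * n⁻¹ = (n * u * n⁻¹) * (n * h * n⁻¹) by group]
    refine mul_mem (U_le_B ?_) (H_le_B (Φ.H_conj_mem hn hh))
    rw [Φ.posUnipotent_eq_US] at hu ⊢
    exact Φ.mono_conj_US h1 (fun r hr => hr) hu
  have hb := CfsgLib.BN.mem_parabolic_of_conj P (n := ⟨⟨n, Φ.N_le_group hn⟩, hn⟩) hconj
  rw [Cfsg.BNPair.parabolic, Subgroup.closure_empty, sup_bot_eq] at hb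
  exact hb

/-- Monomial elements with the same permutation agree modulo `H`. -/
theorem inv_mul_mem_H {n m : GL D.Idx F} (hn : n ∈ D.monomialSubgroup F)
    (hm : m ∈ D.monomialSubgroup F) {π : Equiv.Perm (Fin D.nroots)} (hπn : Φ.Mono n π)
    (hπm : Φ.Mono m π) : n⁻¹ * m ∈ D.diagonalSubgroup F := by
  refine Φ.mem_H_of_mono_one (mul_mem (inv_mem hn) hm) ?_
  have := Mono.mul Φ (Φ.mono_inv hn hπn) hπm
  rwa [inv_mul_cancel] at this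

/-- An element of the Weyl group which keeps every fundamental root positive is trivial. -/
theorem eq_one_of_pos_inv {π : Equiv.Perm (Fin D.nroots)} (hπ : π ∈ Φ.WL)
    (hp : ∀ i, Φ.toTables.Pos (π⁻¹ (Φ.p i))) : π = 1 := by
  obtain ⟨n, hn, hπn⟩ := Φ.exists_preimage ℚ hπ
  let P := Φ.bnP ℚ
  let n' : P.N := ⟨⟨n, Φ.N_le_group hn⟩, hn⟩
  by_contra hne
  have hq : CfsgLib.BN.cls P n' ≠ 1 := by
    intro h
    have h' : n ∈ D.borelSubgroup ℚ := (CfsgLib.BN.cls_eq_one_iff P).1 h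
    have hH : n ∈ D.diagonalSubgroup ℚ := by rw [← Φ.B_inf_N]; exact ⟨h', hn⟩
    obtain ⟨c, hc⟩ := Φ.exists_torus_of_mem_H hH
    exact hne (Mono.unique Φ hπn (by rw [hc]; exact Φ.mono_torus c))
  obtain ⟨s, q, hq1, hlen⟩ := CfsgLib.BN.exists_cons P
    (q := CfsgLib.BN.cls P n') fun h => hq (CfsgLib.BN.len_eq_zero P h)
  obtain ⟨x, hx, y, hy, hxy⟩ := CfsgLib.BN.exists_σ_mul_mem_self P s
    (q := CfsgLib.BN.cls P n') (by rw [hq1] at hlen ⊢; rw [CfsgLib.BN.σ_mul_σ_mul]; omega)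
  obtain ⟨x1, hx1, x2, hx2, rfl⟩ := (CfsgLib.BN.mem_cell_cls P).1 hx
  obtain ⟨y1, hy1, y2, hy2, rfl⟩ := (CfsgLib.BN.mem_cell_cls P).1 hy
  obtain ⟨i, hi⟩ := s.2
  obtain ⟨u, hu, v, hv, e⟩ := (Φ.simple_mul_cell hn hπn i
    (b := (x2 : GL D.Idx ℚ) * (y1 : GL D.Idx ℚ))
    (mul_mem (Φ.mem_bnPair_B.1 hx2) (Φ.mem_bnPair_B.1 hy1))).1 (hp i)
  have hs : (⟨s.1, P.subset s.2⟩ : P.N) * n' = ⟨s.1 * n'.1, mul_mem (P.subset s.2) n'.2⟩ := rfl
  have hmem : x1 * ↑(⟨s.1, P.subset s.2⟩ : P.N) * x2 * (y1 * ↑n' * y2) ∈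
      CfsgLib.BN.cell P (CfsgLib.BN.σ P s * CfsgLib.BN.cls P n') := by
    rw [CfsgLib.BN.σ, ← CfsgLib.BN.cls_mul, CfsgLib.BN.mem_cell_cls]
    refine ⟨⟨(x1 : GL D.Idx ℚ) * u, Φ.B_le_group (mul_mem (Φ.mem_bnPair_B.1 hx1) hu)⟩,
      mul_mem (Φ.mem_bnPair_B.1 hx1) hu, ⟨v * (y2 : GL D.Idx ℚ),
        Φ.B_le_group (mul_mem hv (Φ.mem_bnPair_B.1 hy2))⟩, mul_mem hv (Φ.mem_bnPair_B.1 hy2), ?_⟩
    refine Subtype.ext ?_
    have e' : Φ.nw (Φ.p i) 1 * ((x2 : GL D.Idx ℚ) * (y1 : GL D.Idx ℚ)) * n = u * (Φ.nw (Φ.p i) 1 * n) * v := e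
    simp only [Subgroup.coe_mul, hi, n']
    calc (x1 : GL D.Idx ℚ) * Φ.nw (Φ.p i) 1 * (x2 : GL D.Idx ℚ) * ((y1 : GL D.Idx ℚ) * n * (y2 : GL D.Idx ℚ))
        = (x1 : GL D.Idx ℚ) * (Φ.nw (Φ.p i) 1 * ((x2 : GL D.Idx ℚ) * (y1 : GL D.Idx ℚ)) * n) *
            (y2 : GL D.Idx ℚ) := by group
      _ = _ := by rw [e']; group
  have := CfsgLib.BN.cell_unique P hmem hxy
  exact CfsgLib.BN.σ_ne_one P s (mul_eq_right.1 this)

end Chev

end CfsgLib.Chev
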