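/-
Bruhat normal form and the order of a Chevalley group in terms of the inversion numbers of the Weyl group.
-/
import Cfsg.Agent.Lib.Chev.BNPairChev

namespace CfsgLib.Chev

open Cfsg.Lie Matrix

set_option linter.dupNamespace false
set_option linter.unusedSectionVars false

variable {D : ChevalleyDatum}

namespace Chev

variable (Φ : Chev D) {F : Type*} [Field F]

theorem rev_map_mem_invSet {π : Equiv.Perm (Fin D.nroots)} (hπ : π ∈ Φ.WL) {r : Fin D.nroots}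
    (hr : r ∈ Φ.invSet π) : (π r).rev ∈ Φ.invSet π⁻¹ := by
  rw [Φ.mem_invSet] at hr ⊢
  refine ⟨(Φ.pos_rev_iff _).mpr hr.2, ?_⟩
  rw [Φ.map_rev (inv_mem hπ), show π⁻¹ (π r) = r from π.symm_apply_apply r, Φ.pos_rev_iff, not_not]
  exact hr.1

theorem inv_inv_eq {π : Equiv.Perm (Fin D.nroots)} (hπ : π ∈ Φ.WL) : Φ.inv π⁻¹ = Φ.inv π := by
  have key : ∀ {σ : Equiv.Perm (Fin D.nroots)}, σ ∈ Φ.WL → Φ.inv σ ≤ Φ.inv σ⁻¹ := fun {σ} hσ => by
    refine Finset.card_le_card_of_injOn (fun r => (σ r).rev)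
      (fun r hr => Φ.rev_map_mem_invSet hσ hr) ?_
    intro a _ b _ hab
    exact σ.injective (Fin.rev_injective hab)
  refine le_antisymm ?_ (key hπ)
  have := key (inv_mem hπ)
  rwa [inv_inv] at this

theorem exists_right_descent {π : Equiv.Perm (Fin D.nroots)} (hπ : π ∈ Φ.WL) (h : π ≠ 1) :
    ∃ i, ¬ Φ.toTables.Pos (π (Φ.p i)) := by
  by_contra! hall
  exact h (inv_eq_one.1 (Φ.eq_one_of_pos_inv (inv_mem hπ) fun i => by rw [inv_inv]; exact hall i))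

theorem inv_mul_refl_lt {π : Equiv.Perm (Fin D.nroots)} (hπ : π ∈ Φ.WL) {i : Fin D.rank}
    (hi : ¬ Φ.toTables.Pos (π (Φ.p i))) : Φ.inv (π * Φ.reflPerm i) < Φ.inv π := by
  have h := Φ.inv_refl_mul_of_neg (inv_mem hπ) i (by rwa [inv_inv])
  rw [← Φ.inv_inv_eq (mul_mem hπ (Φ.reflPerm_mem_WL i)), _root_.mul_inv_rev, Φ.reflPerm_inv',
    ← Φ.inv_inv_eq hπ]
  omega

/-- There is an element of the Weyl group making every positive root negative. -/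
theorem exists_long : ∃ π ∈ Φ.WL, ∀ r, Φ.toTables.Pos r → ¬ Φ.toTables.Pos (π r) := by
  classical
  obtain ⟨π, hπ, hmax⟩ := Finset.exists_max_image (Finset.univ.filter (· ∈ Φ.WL)) Φ.inv
    ⟨1, by simp [one_mem]⟩
  simp only [Finset.mem_filter, Finset.mem_univ, true_and] at hπ hmax
  have hneg : ∀ i, ¬ Φ.toTables.Pos (π⁻¹ (Φ.p i)) := fun i hi => by
    have := hmax _ (mul_mem (Φ.reflPerm_mem_WL i) hπ)
    rw [Φ.inv_refl_mul hπ i hi] at this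
    omega
  refine ⟨π⁻¹, inv_mem hπ, fun r hr hr' => ?_⟩
  have h1 : ∀ j, Φ.V (π⁻¹ r) j ≤ 0 := fun j => by
    rw [Φ.V_map (inv_mem hπ)]
    exact Finset.sum_nonpos fun k _ => mul_nonpos_of_nonneg_of_nonpos (Φ.V_nonneg r hr k)
      (Φ.V_nonpos _ (hneg k) j)
  obtain ⟨j, hj⟩ := Φ.exists_V_pos hr'
  have := h1 j
  omega

/-- The subgroup `U_n⁻` of an element with permutation `π`. -/
def Uneg (F : Type*) [Field F] (π : Equiv.Perm (Fin D.nroots)) : Subgroup (GL D.Idx F) :=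
  Φ.US F fun r => Φ.toTables.Pos r ∧ ¬ Φ.toTables.Pos (π r)

theorem Uneg_conj_mem_V {n : GL D.Idx F} {π : Equiv.Perm (Fin D.nroots)} (hπ : Φ.Mono n π)
    {u : GL D.Idx F} (hu : u ∈ Φ.Uneg F π) : n * u * n⁻¹ ∈ D.negUnipotent F := by
  rw [Φ.negUnipotent_eq_US]
  exact Φ.mono_conj_US hπ (fun r hr => hr.2) hu

theorem Uneg_le_U {π : Equiv.Perm (Fin D.nroots)} {u : GL D.Idx F} (hu : u ∈ Φ.Uneg F π) :
    u ∈ D.posUnipotent F := by
  rw [Φ.posUnipotent_eq_US]; exact Φ.US_mono (fun _ h => h.1) hu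

/-- `U = (U ∩ n⁻¹Bn) U_n⁻`. -/
theorem exists_factor_U : ∀ {π : Equiv.Perm (Fin D.nroots)}, π ∈ Φ.WL →
    ∀ {n : GL D.Idx F}, n ∈ D.monomialSubgroup F → Φ.Mono n π →
    ∀ {u : GL D.Idx F}, u ∈ D.posUnipotent F →
      ∃ c w, w ∈ Φ.Uneg F π ∧ n * c * n⁻¹ ∈ D.borelSubgroup F ∧ u = c * w := by
  intro π
  induction h : Φ.inv π using Nat.strong_induction_on generalizing π with
  | _ k ih =>
    intro hπ n hn hm u hu
    by_cases h1 : π = 1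
    · refine ⟨u, 1, one_mem _, U_le_B ?_, (mul_one u).symm⟩
      rw [Φ.posUnipotent_eq_US] at hu ⊢
      subst h1
      exact Φ.mono_conj_US hm (fun r hr => hr) hu
    obtain ⟨i, hi⟩ := Φ.exists_right_descent hπ h1
    set s := Φ.nw (Φ.p i) (1 : Fˣ) with hs
    obtain ⟨v, hv, a, rfl⟩ := Φ.exists_split i hu
    have hn' : n * s⁻¹ ∈ D.monomialSubgroup F := mul_mem hn (inv_mem (Φ.nw_mem_N _ _))
    have hm' : Φ.Mono (n * s⁻¹) (π * Φ.reflPerm i) := by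
      have := Φ.mono_inv (Φ.nw_mem_N (Φ.p i) 1) (Φ.nw_one_mono (F := F) i)
      rw [Φ.reflPerm_inv'] at this
      exact Mono.mul Φ hm this
    obtain ⟨c, w, hw, hc, e⟩ := ih _ (h ▸ Φ.inv_mul_refl_lt hπ hi) rfl
      (mul_mem hπ (Φ.reflPerm_mem_WL i)) hn' hm' (Φ.posNe_le_U (Φ.nw_conj_posNe i hv))
    have hsi : Φ.Mono s⁻¹ (Φ.reflPerm i) := by
      have := Φ.mono_inv (Φ.nw_mem_N (Φ.p i) 1) (Φ.nw_one_mono (F := F) i)
      rwa [Φ.reflPerm_inv'] at this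
    refine ⟨s⁻¹ * c * s, s⁻¹ * w * s * Φ.toAlg.xg (Φ.p i) a,
      mul_mem ?_ (Φ.xg_mem_US (show Φ.toTables.Pos (Φ.p i) ∧ _ from ⟨Φ.p_pos i, hi⟩) a), ?_, ?_⟩
    · have := Φ.mono_conj_US (T := fun r => Φ.toTables.Pos r ∧ ¬ Φ.toTables.Pos (π r)) hsi
        (S := fun r => Φ.toTables.Pos r ∧ ¬ Φ.toTables.Pos ((π * Φ.reflPerm i) r)) (fun r hr => ?_) hw
      · simpa [Uneg] using this
      · have hne : r ≠ Φ.p i := by
          rintro rfl
          apply hr.2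
          show Φ.toTables.Pos (π (Φ.refl i (Φ.p i)))
          rw [Φ.refl_p, Φ.map_rev hπ, Φ.pos_rev_iff]
          exact hi
        exact ⟨(Φ.refl_pos hr.1 hne).1, hr.2⟩
    · have : n * (s⁻¹ * c * s) * n⁻¹ = n * s⁻¹ * c * (n * s⁻¹)⁻¹ := by group
      rw [this]; exact hc
    · calc v * Φ.toAlg.xg (Φ.p i) a = s⁻¹ * (s * v * s⁻¹) * s * Φ.toAlg.xg (Φ.p i) a := by group
        _ = s⁻¹ * (c * w) * s * Φ.toAlg.xg (Φ.p i) a := by rw [e]
        _ = _ := by group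

include Φ in
/-- Bruhat decomposition inside the general linear group. -/
theorem exists_bnb {g : GL D.Idx F} (hg : g ∈ D.group F) :
    ∃ b ∈ D.borelSubgroup F, ∃ n ∈ D.monomialSubgroup F, ∃ b' ∈ D.borelSubgroup F, g = b * n * b' := by
  obtain ⟨q, n, -, a, ha, b, hb, e⟩ := CfsgLib.BN.bruhat (Φ.bnP F) ⟨g, hg⟩
  exact ⟨_, ha, _, n.2, _, hb, congrArg Subtype.val e⟩

/-- The normal form `g = b n u`. -/
theorem exists_normal_form {g : GL D.Idx F} (hg : g ∈ D.group F) :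
    ∃ b ∈ D.borelSubgroup F, ∃ n ∈ D.monomialSubgroup F, ∃ π ∈ Φ.WL, Φ.Mono n π ∧
      ∃ u ∈ Φ.Uneg F π, g = b * n * u := by
  obtain ⟨b, hb, n, hn, b', hb', rfl⟩ := Φ.exists_bnb hg
  obtain ⟨u, hu, h, hh, rfl⟩ := Φ.mem_B_iff.mp hb'
  obtain ⟨d, hd⟩ := Φ.exists_torus_of_mem_H hh
  obtain ⟨π, hW, hm, -⟩ := Φ.exists_mono_W (mul_mem hn (H_le_N hh))
  have hu' : h⁻¹ * u * h ∈ D.posUnipotent F := by
    have := (Subgroup.mem_normalizer_iff.1 (Φ.H_le_normalizer_U (inv_mem hh)) u).1 hu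
    simpa using this
  obtain ⟨c, w, hw, hc, e⟩ := Φ.exists_factor_U hW (mul_mem hn (H_le_N hh)) hm hu'
  refine ⟨b * (n * h * c * (n * h)⁻¹), mul_mem hb hc, n * h, mul_mem hn (H_le_N hh), π, hW, hm, w, hw, ?_⟩
  calc b * n * (u * h) = b * (n * h) * (h⁻¹ * u * h) := by group
    _ = b * (n * h) * (c * w) := by rw [e]
    _ = _ := by group

include Φ in
/-- Two normal forms have the same monomial part modulo `H`. -/
theorem bnb_unique {b b' c c' n n' : GL D.Idx F} (hb : b ∈ D.borelSubgroup F)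
    (hb' : b' ∈ D.borelSubgroup F) (hc : c ∈ D.borelSubgroup F) (hc' : c' ∈ D.borelSubgroup F)
    (hn : n ∈ D.monomialSubgroup F) (hn' : n' ∈ D.monomialSubgroup F)
    (h : b * n * c = b' * n' * c') : n⁻¹ * n' ∈ D.diagonalSubgroup F := by
  let P := Φ.bnP F
  let m : P.N := ⟨⟨n, Φ.N_le_group hn⟩, hn⟩
  let m' : P.N := ⟨⟨n', Φ.N_le_group hn'⟩, hn'⟩
  have key : CfsgLib.BN.cls P m = CfsgLib.BN.cls P m' :=
    CfsgLib.BN.cell_unique P
      (g := (⟨b, Φ.B_le_group hb⟩ : ↥(D.group F)) * (m : ↥(D.group F)) * ⟨c, Φ.B_le_group hc⟩)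
      ((CfsgLib.BN.mem_cell_cls P).2 ⟨_, hb, _, hc, rfl⟩)
      ((CfsgLib.BN.mem_cell_cls P).2
        ⟨⟨b', Φ.B_le_group hb'⟩, hb', ⟨c', Φ.B_le_group hc'⟩, hc', Subtype.ext h⟩)
  rw [← Φ.B_inf_N]
  exact ⟨(CfsgLib.BN.cls_eq_iff P).1 key, (D.monomialSubgroup F).mul_mem ((D.monomialSubgroup F).inv_mem hn) hn'⟩

theorem same_perm {n n' : GL D.Idx F} (h : n⁻¹ * n' ∈ D.diagonalSubgroup F)
    {π π' : Equiv.Perm (Fin D.nroots)} (hπ : Φ.Mono n π) (hπ' : Φ.Mono n' π') : π = π' := by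
  obtain ⟨d, hd⟩ := Φ.exists_torus_of_mem_H h
  have hmul := Mono.mul Φ hπ (Φ.mono_torus d)
  rw [← hd, mul_inv_cancel_left, mul_one] at hmul
  exact Mono.unique Φ hmul hπ'

theorem normal_form_unique {b b' u u' n : GL D.Idx F} {π : Equiv.Perm (Fin D.nroots)}
    (hπ : Φ.Mono n π) (hb : b ∈ D.borelSubgroup F) (hb' : b' ∈ D.borelSubgroup F)
    (hu : u ∈ Φ.Uneg F π) (hu' : u' ∈ Φ.Uneg F π) (h : b * n * u = b' * n * u') :
    b = b' ∧ u = u' := by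
  have h1 : b'⁻¹ * b = n * (u' * u⁻¹) * n⁻¹ := by
    calc b'⁻¹ * b = b'⁻¹ * (b * n * u) * (n * u)⁻¹ := by group
      _ = b'⁻¹ * (b' * n * u') * (n * u)⁻¹ := by rw [h]
      _ = _ := by group
  have h2 : b'⁻¹ * b ∈ D.borelSubgroup F ⊓ D.negUnipotent F :=
    ⟨(D.borelSubgroup F).mul_mem ((D.borelSubgroup F).inv_mem hb') hb, h1 ▸ Φ.Uneg_conj_mem_V hπ (mul_mem hu' (inv_mem hu))⟩
  rw [Φ.B_inf_V, Subgroup.mem_bot, inv_mul_eq_one] at h2
  subst h2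
  exact ⟨rfl, mul_left_cancel (a := b' * n) h⟩

/-! ### Orders -/

include Φ in
theorem card_B : Nat.card (D.borelSubgroup F) =
    Nat.card (D.posUnipotent F) * Nat.card (D.diagonalSubgroup F) := by
  rw [← Nat.card_prod]
  symm
  refine Nat.card_congr (Equiv.ofBijective (fun x : D.posUnipotent F × D.diagonalSubgroup F =>
    (⟨(x.1 : GL D.Idx F) * x.2, mul_mem (U_le_B x.1.2) (H_le_B x.2.2)⟩ : D.borelSubgroup F)) ⟨?_, ?_⟩)
  · rintro ⟨⟨u, hu⟩, ⟨h, hh⟩⟩ ⟨⟨u', hu'⟩, ⟨h', hh'⟩⟩ e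
    have e' : u * h = u' * h' := congrArg Subtype.val e
    have h1 : u'⁻¹ * u = h' * h⁻¹ := by
      calc u'⁻¹ * u = u'⁻¹ * (u * h) * h⁻¹ := by group
        _ = u'⁻¹ * (u' * h') * h⁻¹ := by rw [e']
        _ = _ := by group
    have h2 : u'⁻¹ * u = 1 := Φ.eq_one_of_mem_U_of_mem_N (mul_mem (inv_mem hu') hu)
      (h1 ▸ H_le_N (mul_mem hh' (inv_mem hh)))
    rw [inv_mul_eq_one] at h2
    subst h2
    have := mul_left_cancel e'
    subst this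
    rfl
  · rintro ⟨g, hg⟩
    obtain ⟨u, hu, h, hh, rfl⟩ := Φ.mem_B_iff.mp hg
    exact ⟨⟨⟨u, hu⟩, ⟨h, hh⟩⟩, rfl⟩

include Φ in
theorem card_U : Nat.card (D.posUnipotent F) = Nat.card F ^ (D.nroots / 2) := by
  rw [Φ.posUnipotent_eq_US, Φ.card_US (fun _ h => h) Φ.closed_pos, Φ.card_pos]

theorem card_Uneg {π : Equiv.Perm (Fin D.nroots)} (hπ : π ∈ Φ.WL) :
    Nat.card (Φ.Uneg F π) = Nat.card F ^ Φ.inv π := by
  rw [Uneg, Φ.card_US (fun _ h => h.1) (Φ.closed_pos_neg hπ), Nat.card_eq_fintype_card (α := {r // Φ.toTables.Pos r ∧ ¬ Φ.toTables.Pos (π r)}),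
    Fintype.card_subtype]
  rfl

/-- The Weyl group as a finite set. -/
noncomputable def WFin : Finset (Equiv.Perm (Fin D.nroots)) :=
  letI := Classical.decPred (· ∈ Φ.WL)
  Finset.univ.filter (· ∈ Φ.WL)

theorem mem_WFin {π : Equiv.Perm (Fin D.nroots)} : π ∈ Φ.WFin ↔ π ∈ Φ.WL := by
  simp [WFin]

theorem card_group [Finite F] :
    Nat.card (D.group F) = Nat.card F ^ (D.nroots / 2) * Nat.card (D.diagonalSubgroup F) *
      ∑ π ∈ Φ.WFin, Nat.card F ^ Φ.inv π := by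
  classical
  choose rep hrepN hrep using fun π : Φ.WFin => Φ.exists_preimage F (Φ.mem_WFin.1 π.2)
  have hbij : Function.Bijective (fun x : Σ π : Φ.WFin, D.borelSubgroup F × Φ.Uneg F π.1 =>
      (⟨(x.2.1 : GL D.Idx F) * rep x.1 * x.2.2, mul_mem (mul_mem (Φ.B_le_group x.2.1.2)
        (Φ.N_le_group (hrepN x.1))) (Φ.B_le_group (U_le_B (Φ.Uneg_le_U x.2.2.2)))⟩ : D.group F)) := by
    constructor
    · rintro ⟨π, ⟨b, hb⟩, ⟨u, hu⟩⟩ ⟨π', ⟨b', hb'⟩, ⟨u', hu'⟩⟩ e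
      have e' : b * rep π * u = b' * rep π' * u' := congrArg Subtype.val e
      have hH := Φ.bnb_unique hb hb' (U_le_B (Φ.Uneg_le_U hu)) (U_le_B (Φ.Uneg_le_U hu'))
        (hrepN π) (hrepN π') e'
      obtain rfl : π = π' := Subtype.ext (Φ.same_perm hH (hrep π) (hrep π'))
      obtain ⟨rfl, rfl⟩ := Φ.normal_form_unique (hrep π) hb hb' hu hu' e'
      rfl
    · rintro ⟨g, hg⟩
      obtain ⟨b, hb, n, hn, π, hW, hm, u, hu, rfl⟩ := Φ.exists_normal_form hg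
      set π' : Φ.WFin := ⟨π, Φ.mem_WFin.2 hW⟩ with hπ'
      have hH := Φ.inv_mul_mem_H (hrepN π') hn (hrep π') hm
      refine ⟨⟨π', ⟨b * (rep π' * ((rep π')⁻¹ * n) * (rep π')⁻¹),
        mul_mem hb (H_le_B (Φ.H_conj_mem (hrepN π') hH))⟩, ⟨u, hu⟩⟩, Subtype.ext ?_⟩
      show b * (rep π' * ((rep π')⁻¹ * n) * (rep π')⁻¹) * rep π' * u = b * n * u
      group
  rw [← Nat.card_congr (Equiv.ofBijective _ hbij), Nat.card_sigma, Finset.mul_sum,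
    ← Finset.sum_attach Φ.WFin]
  refine Finset.sum_congr rfl fun π _ => ?_
  rw [Nat.card_prod, Φ.card_B, Φ.card_U, Φ.card_Uneg (Φ.mem_WFin.1 π.2)]

end Chev

end CfsgLib.Chev
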