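/-
The Poincaré polynomial of the Weyl group from a certificate.
-/
import Cfsg.Agent.Lib.Chev.BNPairChev
import Cfsg.Agent.Lib.Chev.Bruhat
import Cfsg.Agent.Lib.Chev.PoincareCert

namespace CfsgLib.Chev

open Cfsg.Lie Matrix

set_option linter.dupNamespace false
set_option linter.unusedSectionVars false

variable {D : ChevalleyDatum}

namespace Chev

variable (Φ : Chev D)

/-- The image of the `k`-th fundamental coweight, in coordinates. -/
def orbVec (π : Equiv.Perm (Fin D.nroots)) (k : Fin D.rank) : List ℤ :=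
  List.ofFn fun j => Φ.V (π⁻¹ (Φ.p j)) k

theorem orbVec_one (k : Fin D.rank) : Φ.orbVec 1 k = Cert.unit k := by
  refine congrArg List.ofFn (funext fun j => ?_)
  rw [_root_.inv_one, Equiv.Perm.one_apply, Φ.V_p]

theorem orbVec_refl_mul {π : Equiv.Perm (Fin D.nroots)} (hπ : π ∈ Φ.WL) (i k : Fin D.rank) :
    Φ.orbVec (Φ.reflPerm i * π) k = Cert.step (fun a b => Φ.A a (Φ.p b)) i (Φ.orbVec π k) := by
  refine congrArg List.ofFn (funext fun j => ?_)
  simp only [orbVec, Cert.get_ofFn]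
  rw [_root_.mul_inv_rev, Φ.reflPerm_inv', Equiv.Perm.mul_apply, Φ.V_map (inv_mem hπ)]
  show ∑ m, Φ.V (Φ.refl i (Φ.p j)) m * Φ.V (π⁻¹ (Φ.p m)) k = _
  simp only [Φ.V_refl, Φ.V_p, sub_mul, Finset.sum_sub_distrib, ite_mul, one_mul, zero_mul,
    Finset.sum_ite_eq, Finset.sum_ite_eq', Finset.mem_univ, if_true]

theorem inv_refl_of_orbVec_neg {π : Equiv.Perm (Fin D.nroots)} (hπ : π ∈ Φ.WL) {i k : Fin D.rank}
    (h : Cert.get (Φ.orbVec π k) i < 0) : Φ.inv π = Φ.inv (Φ.reflPerm i * π) + 1 := by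
  refine Φ.inv_refl_mul_of_neg hπ i fun hp => ?_
  have := Φ.V_nonneg _ hp k
  simp only [orbVec, Cert.get_ofFn] at h
  omega

/-- The elements of a standard parabolic subgroup of the Weyl group. -/
noncomputable def WKFin (K : List (Fin D.rank)) : Finset (Equiv.Perm (Fin D.nroots)) :=
  letI := Classical.decPred (· ∈ Φ.WK {i | i ∈ K})
  Finset.univ.filter (· ∈ Φ.WK {i | i ∈ K})

theorem mem_WKFin {K : List (Fin D.rank)} {π : Equiv.Perm (Fin D.nroots)} :
    π ∈ Φ.WKFin K ↔ π ∈ Φ.WK {i | i ∈ K} := by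
  simp [WKFin]

/-- The stabiliser of the coweight. -/
theorem mem_WK_of_orbVec {K : List (Fin D.rank)} {k : Fin D.rank} :
    ∀ {π : Equiv.Perm (Fin D.nroots)}, π ∈ Φ.WK {i | i ∈ K} → Φ.orbVec π k = Cert.unit k →
      π ∈ Φ.WK {i | i ∈ K ∧ i ≠ k} := by
  intro π
  induction h : Φ.inv π using Nat.strong_induction_on generalizing π with
  | _ m ih =>
    intro hπ hv
    by_cases h1 : π = 1
    · rw [h1]; exact one_mem _
    have hW := Φ.WK_le_WL _ hπ
    obtain ⟨i, hi⟩ : ∃ i, ¬ Φ.toTables.Pos (π⁻¹ (Φ.p i)) := by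
      by_contra! hall
      exact h1 (Φ.eq_one_of_pos_inv hW hall)
    have hget : ∀ j, Φ.V (π⁻¹ (Φ.p j)) k = if j = k then 1 else 0 := fun j => by
      have := congrArg (fun c => Cert.get c j) hv
      simpa [orbVec, Cert.unit, Cert.get_ofFn] using this
    have hik : i ≠ k := by
      rintro rfl
      have := Φ.V_nonpos _ hi i
      rw [hget i, if_pos rfl] at this
      omega
    have hiK : i ∈ K := by
      by_contra hiK
      have := Φ.V_nonpos _ hi i
      rw [Φ.map_p_of_mem_WK (inv_mem hπ) (Φ.p i) (j := i) hiK, Φ.V_p, if_pos rfl] at this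
      omega
    have hm : Φ.reflPerm i ∈ Φ.WK {i | i ∈ K ∧ i ≠ k} := Φ.reflPerm_mem_WK ⟨hiK, hik⟩
    have hlt : Φ.inv (Φ.reflPerm i * π) < m := by
      have := Φ.inv_refl_mul_of_neg hW i hi
      omega
    have hrec := ih _ hlt rfl (mul_mem (Φ.reflPerm_mem_WK (K := {i | i ∈ K}) hiK) hπ) (by
      rw [Φ.orbVec_refl_mul hW, hv]
      refine congrArg List.ofFn (funext fun j => ?_)
      simp [Cert.unit, Cert.get_ofFn, hik])
    have := mul_mem hm hrec
    rwa [← mul_assoc, Φ.reflPerm_mul_self', one_mul] at this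

theorem orbVec_of_mem_WK {K : List (Fin D.rank)} {k : Fin D.rank} {π : Equiv.Perm (Fin D.nroots)}
    (hπ : π ∈ Φ.WK {i | i ∈ K ∧ i ≠ k}) : Φ.orbVec π k = Cert.unit k := by
  refine congrArg List.ofFn (funext fun j => ?_)
  rw [Φ.map_p_of_mem_WK (inv_mem hπ) (Φ.p j) (j := k) (fun h => h.2 rfl), Φ.V_p]

theorem WK_filter (K : List (Fin D.rank)) (k : Fin D.rank) :
    Φ.WK {i | i ∈ K.filter fun i => decide (i ≠ k)} = Φ.WK {i | i ∈ K ∧ i ≠ k} := by
  congr 1; ext i; simp

/-- One level: the sum over `W_K` is the orbit polynomial times the sum over the stabiliser. -/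
theorem sum_WKFin_level {M : Fin D.rank → Fin D.rank → ℤ} (hM : ∀ a b, Φ.A a (Φ.p b) = M a b)
    {K : List (Fin D.rank)} {k : Fin D.rank} {L : Cert.Orbit}
    (h : Cert.levelOK M K k L = true) (q : ℕ) :
    ∑ π ∈ Φ.WKFin K, q ^ Φ.inv π =
      Cert.evalP q (Cert.levelP L) *
        ∑ π ∈ Φ.WKFin (K.filter fun i => decide (i ≠ k)), q ^ Φ.inv π := by
  classical
  have hM' : (fun a b => Φ.A a (Φ.p b)) = M := funext fun a => funext fun b => hM a b
  simp only [Cert.levelOK, Bool.and_eq_true, List.all_eq_true, decide_eq_true_eq,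
    List.contains_iff_mem, Bool.or_eq_true, beq_iff_eq, List.any_eq_true] at h
  obtain ⟨⟨hunit, hnd⟩, hall⟩ := h
  have hlen : ∀ e ∈ L, e.1.length = D.rank := fun e he => (hall e he).1.1
  have hstep : ∀ e ∈ L, ∀ i ∈ K, Cert.get e.1 i < 0 →
      0 < e.2 ∧ (Cert.step M i e.1, e.2 - 1) ∈ L := fun e he i hi hneg => by
    have := (hall e he).1.2 i hi
    rw [if_pos hneg] at this
    simpa [Bool.and_eq_true, List.contains_iff_mem] using this
  have hclosed : ∀ e ∈ L, ∀ i ∈ K, Cert.step M i e.1 ∈ L.map Prod.fst := fun e he i hi => by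
    by_cases hneg : Cert.get e.1 i < 0
    · exact List.mem_map.2 ⟨_, (hstep e he i hi hneg).2, rfl⟩
    · have := (hall e he).1.2 i hi
      rw [if_neg hneg] at this
      simpa [List.contains_iff_mem] using this
  have hmem : ∀ π ∈ Φ.WKFin K, Φ.orbVec π k ∈ L.map Prod.fst := by
    intro π hπ
    rw [Φ.mem_WKFin] at hπ
    induction hπ using Subgroup.closure_induction_left with
    | one => rw [Φ.orbVec_one]; exact List.mem_map.2 ⟨_, hunit, rfl⟩
    | mul_left x hx y hy ih =>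
      obtain ⟨i, hi, rfl⟩ := hx
      obtain ⟨e, he, he'⟩ := List.mem_map.1 ih
      rw [Φ.orbVec_refl_mul (Φ.WK_le_WL _ hy), hM', ← he']
      exact hclosed e he i hi
    | inv_mul_cancel x hx y hy ih =>
      obtain ⟨i, hi, rfl⟩ := hx
      obtain ⟨e, he, he'⟩ := List.mem_map.1 ih
      rw [Φ.reflPerm_inv', Φ.orbVec_refl_mul (Φ.WK_le_WL _ hy), hM', ← he']
      exact hclosed e he i hi
  set S : List ℤ → ℕ := fun c => ∑ π ∈ (Φ.WKFin K).filter (fun π => Φ.orbVec π k = c), q ^ Φ.inv π with hS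
  set J := K.filter fun i => decide (i ≠ k) with hJ
  have hbase : S (Cert.unit k) = ∑ π ∈ Φ.WKFin J, q ^ Φ.inv π := by
    refine Finset.sum_congr (Finset.ext fun π => ?_) fun _ _ => rfl
    rw [Finset.mem_filter, Φ.mem_WKFin, Φ.mem_WKFin, hJ, Φ.WK_filter]
    exact ⟨fun ⟨a, b⟩ => Φ.mem_WK_of_orbVec a b,
      fun a => ⟨Φ.WK_mono (fun i hi => hi.1) a, Φ.orbVec_of_mem_WK a⟩⟩
  have hfib : ∀ d, ∀ e ∈ L, e.2 = d → S e.1 = q ^ d * S (Cert.unit k) := by
    intro d
    induction d using Nat.strong_induction_on with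
    | _ d ih =>
      intro e he hd
      rcases (hall e he).2 with hu | ⟨i, hi, hneg⟩
      · obtain rfl : e = (Cert.unit k, 0) := List.inj_on_of_nodup_map hnd he hunit hu
        simp at hd
        simp [← hd]
      · obtain ⟨hpos, hnext⟩ := hstep e he i hi hneg
        have hrec := ih (e.2 - 1) (by omega) _ hnext rfl
        have hbij : S e.1 = q * S (Cert.step M i e.1) := by
          simp only [hS]
          rw [Finset.mul_sum]
          refine Finset.sum_nbij' (fun π => Φ.reflPerm i * π) (fun π => Φ.reflPerm i * π) ?_ ?_ ?_ ?_ ?_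
          · intro π hπ
            simp only [Finset.mem_coe, Finset.mem_filter, Φ.mem_WKFin] at hπ ⊢
            exact ⟨mul_mem (Φ.reflPerm_mem_WK (K := {i | i ∈ K}) hi) hπ.1, by
              rw [Φ.orbVec_refl_mul (Φ.WK_le_WL _ hπ.1), hM', hπ.2]⟩
          · intro π hπ
            simp only [Finset.mem_coe, Finset.mem_filter, Φ.mem_WKFin] at hπ ⊢
            refine ⟨mul_mem (Φ.reflPerm_mem_WK (K := {i | i ∈ K}) hi) hπ.1, ?_⟩
            rw [Φ.orbVec_refl_mul (Φ.WK_le_WL _ hπ.1), hM', hπ.2]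
            exact Cert.step_step (by rw [← hM, Φ.A_pp]) (hlen e he)
          · intro π _; show Φ.reflPerm i * (Φ.reflPerm i * π) = π
            rw [← mul_assoc, Φ.reflPerm_mul_self', one_mul]
          · intro π _; show Φ.reflPerm i * (Φ.reflPerm i * π) = π
            rw [← mul_assoc, Φ.reflPerm_mul_self', one_mul]
          · intro π hπ
            simp only [Finset.mem_filter, Φ.mem_WKFin] at hπ
            rw [Φ.inv_refl_of_orbVec_neg (Φ.WK_le_WL _ hπ.1) (by rw [hπ.2]; exact hneg), pow_succ,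
              mul_comm]
        rw [hbij, hrec, ← mul_assoc, ← pow_succ', ← hd, Nat.sub_add_cancel hpos]
  rw [← Finset.sum_fiberwise_of_maps_to (g := fun π => Φ.orbVec π k) (t := (L.map Prod.fst).toFinset)
    (fun π hπ => List.mem_toFinset.2 (hmem π hπ)), List.sum_toFinset _ hnd, List.map_map,
    Cert.evalP_levelP, ← List.sum_map_mul_right, ← hbase]
  exact congrArg List.sum (List.map_congr_left fun e he => hfib e.2 e he rfl)

theorem sum_WKFin_nil (q : ℕ) : ∑ π ∈ Φ.WKFin ([] : List (Fin D.rank)), q ^ Φ.inv π = 1 := by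
  have : Φ.WKFin ([] : List (Fin D.rank)) = {1} := by
    ext π
    simp [Φ.mem_WKFin, WK, simpleRefl]
  simp [this, Φ.inv_one]

theorem sum_WKFin_chain {M : Fin D.rank → Fin D.rank → ℤ} (hM : ∀ a b, Φ.A a (Φ.p b) = M a b) :
    ∀ (C : List (Fin D.rank × Cert.Orbit)) (K : List (Fin D.rank)),
      Cert.chainOK M K C = true → ∀ q : ℕ,
      ∑ π ∈ Φ.WKFin K, q ^ Φ.inv π = Cert.evalP q (Cert.chainP C)
  | [], K, h, q => by
    obtain rfl : K = [] := List.isEmpty_iff.1 h
    simp [Φ.sum_WKFin_nil, Cert.chainP, Cert.evalP]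
  | (k, L) :: rest, K, h, q => by
    simp only [Cert.chainOK, Bool.and_eq_true] at h
    rw [Φ.sum_WKFin_level hM h.1.2, sum_WKFin_chain hM rest _ h.2 q, Cert.chainP, Cert.evalP_mulP]

/-- The Poincaré polynomial. -/
theorem sum_WFin {M : Fin D.rank → Fin D.rank → ℤ}
    (hM : ∀ a b : Fin D.rank, D.cartan a.val (D.simple b.val) = M a b)
    {C : List (Fin D.rank × Cert.Orbit)} {degs : List ℕ}
    (hC : Cert.chainOK M (List.finRange D.rank) C = true)
    (hP : Cert.eqP (Cert.chainP C) (Cert.degP degs) = true) (q : ℕ) :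
    ∑ π ∈ Φ.WFin, q ^ Φ.inv π = Cert.evalP q (Cert.degP degs) := by
  have hM' : ∀ a b, Φ.A a (Φ.p b) = M a b := fun a b => by
    rw [← hM, Φ.simple_val, Φ.cartan_val]
  rw [← Cert.evalP_eqP q _ _ hP, ← Φ.sum_WKFin_chain hM' C _ hC q]
  refine Finset.sum_congr (Finset.ext fun π => ?_) fun _ _ => rfl
  rw [Φ.mem_WFin, Φ.mem_WKFin, WL]
  rw [show ({i | i ∈ List.finRange D.rank} : Set (Fin D.rank)) = Set.univ by ext; simp]

theorem card_WL {M : Fin D.rank → Fin D.rank → ℤ}
    (hM : ∀ a b : Fin D.rank, D.cartan a.val (D.simple b.val) = M a b)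
    {C : List (Fin D.rank × Cert.Orbit)} {degs : List ℕ}
    (hC : Cert.chainOK M (List.finRange D.rank) C = true)
    (hP : Cert.eqP (Cert.chainP C) (Cert.degP degs) = true) :
    Nat.card Φ.WL = Cert.evalP 1 (Cert.degP degs) := by
  rw [← Φ.sum_WFin hM hC hP 1]
  simp only [one_pow, Finset.sum_const, smul_eq_mul, mul_one]
  rw [← Nat.card_eq_finsetCard]
  exact Nat.card_congr (Equiv.subtypeEquivRight fun π => Φ.mem_WFin.symm)

end Chev

end CfsgLib.Chev
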