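/-
The order of the diagonal subgroup from a Smith normal form of the Cartan matrix, and group orders.
-/
import Cfsg.Agent.Lib.Chev.Bruhat
import Cfsg.Agent.Lib.Chev.PoincareCert
import Cfsg.Agent.Lib.Chev.Poincare
import Mathlib.GroupTheory.SpecificGroups.Cyclic

namespace CfsgLib.Chev

open Cfsg.Lie Matrix

set_option linter.dupNamespace false

variable {l : ℕ} {A : Type*} [CommGroup A]

/-- An integer matrix acting on tuples of elements of an abelian group. -/
def expM (X : Matrix (Fin l) (Fin l) ℤ) : (Fin l → A) →* (Fin l → A) where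
  toFun c j := ∏ k, c k ^ X j k
  map_one' := by funext j; simp
  map_mul' a b := by funext j; simp [mul_zpow, Finset.prod_mul_distrib]

theorem expM_apply (X : Matrix (Fin l) (Fin l) ℤ) (c : Fin l → A) (j : Fin l) :
    expM X c j = ∏ k, c k ^ X j k := rfl

theorem expM_mul (X Y : Matrix (Fin l) (Fin l) ℤ) (c : Fin l → A) :
    expM (X * Y) c = expM X (expM Y c) := by
  funext j
  simp only [expM_apply, Matrix.mul_apply, ← Finset.prod_zpow, ← _root_.zpow_mul]
  rw [Finset.prod_comm]
  refine Finset.prod_congr rfl fun m _ => ?_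
  induction (Finset.univ : Finset (Fin l)) using Finset.induction_on with
  | empty => simp
  | insert k s hk ih =>
    rw [Finset.prod_insert hk, Finset.sum_insert hk, _root_.zpow_add, ih, mul_comm (X j k)]

theorem expM_one (c : Fin l → A) : expM 1 c = c := by
  funext j
  rw [expM_apply, Finset.prod_eq_single j]
  · simp
  · intro k _ hk; simp [Matrix.one_apply_ne (Ne.symm hk)]
  · simp

theorem expM_diagonal (d : Fin l → ℕ) (c : Fin l → A) (j : Fin l) :
    expM (Matrix.diagonal fun k => (d k : ℤ)) c j = c j ^ d j := by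
  rw [expM_apply, Finset.prod_eq_single j]
  · simp
  · intro k _ hk; simp [Matrix.diagonal_apply_ne _ (Ne.symm hk)]
  · simp

theorem card_ker_expM [Finite A] [IsCyclic A] (T U Ui V Vi : Matrix (Fin l) (Fin l) ℤ) (d : Fin l → ℕ)
    (hU : Ui * U = 1) (hV : V * Vi = 1)
    (hT : U * T * V = Matrix.diagonal fun k => (d k : ℤ)) :
    Nat.card (expM (A := A) T).ker = ∏ k, Nat.gcd (Nat.card A) (d k) := by
  have hV' : Vi * V = 1 := mul_eq_one_comm.1 hV
  have hTV : T * V = Ui * Matrix.diagonal fun k => (d k : ℤ) := by
    rw [← hT, ← Matrix.mul_assoc, ← Matrix.mul_assoc, hU, Matrix.one_mul]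
  have hT' : U * T = (Matrix.diagonal fun k => (d k : ℤ)) * Vi := by
    rw [← hT, Matrix.mul_assoc, hV, Matrix.mul_one]
  calc Nat.card (expM (A := A) T).ker
      = Nat.card (∀ k : Fin l, (powMonoidHom (d k) : A →* A).ker) := Nat.card_congr
        { toFun := fun x k => ⟨expM Vi x.1 k, by
            have h : expM (U * T) x.1 = 1 := by
              rw [expM_mul, show expM T x.1 = 1 from x.2, map_one]
            rw [hT', expM_mul] at h
            have := congrFun h k
            rw [expM_diagonal] at this
            exact this⟩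
          invFun := fun y => ⟨expM V fun k => (y k : A), by
            have h : expM (Matrix.diagonal fun k => (d k : ℤ)) (fun k => (y k : A)) = 1 := by
              funext k
              rw [expM_diagonal]
              exact (y k).2
            show expM T (expM V _) = 1
            rw [← expM_mul, hTV, expM_mul, h, map_one]⟩
          left_inv := fun x => Subtype.ext (by
            show expM V (fun k => expM Vi x.1 k) = x.1
            rw [← expM_mul, hV, expM_one])
          right_inv := fun y => funext fun k => Subtype.ext (by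
            show expM Vi (expM V _) k = _
            rw [← expM_mul, hV', expM_one]) }
    _ = ∏ k, Nat.gcd (Nat.card A) (d k) := by
        rw [Nat.card_pi]
        exact Finset.prod_congr rfl fun k _ => IsCyclic.card_powMonoidHom_ker A (d k)

namespace Chev

variable {D : ChevalleyDatum} (Φ : Chev D) {F : Type*} [Field F]

include Φ in
theorem card_H [Finite F] (T U Ui V Vi : Matrix (Fin D.rank) (Fin D.rank) ℤ) (d : Fin D.rank → ℕ)
    (hM : ∀ a b : Fin D.rank, D.cartan a.val (D.simple b.val) = T b a)
    (hU : Ui * U = 1) (hV : V * Vi = 1)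
    (hT : U * T * V = Matrix.diagonal fun k => (d k : ℤ)) :
    (∏ k, Nat.gcd (Nat.card F - 1) (d k)) * Nat.card (D.diagonalSubgroup F) =
      (Nat.card F - 1) ^ D.rank := by
  classical
  have hco : Φ.coHom F = expM T := by
    refine MonoidHom.ext fun c => funext fun j => ?_
    show ∏ k, c k ^ Φ.A k (Φ.p j) = ∏ k, c k ^ T j k
    refine Finset.prod_congr rfl fun k _ => ?_
    rw [← hM, Φ.simple_val, Φ.cartan_val]
  have : Fintype F := Fintype.ofFinite F
  have hu : Nat.card Fˣ = Nat.card F - 1 := Nat.card_units F
  have hk := card_ker_expM (A := Fˣ) T U Ui V Vi d hU hV hT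
  rw [hu] at hk
  rw [Φ.diagonalSubgroup_eq, hco, MonoidHom.range_comp,
    Subgroup.card_map_of_injective Φ.torus_injective, ← hk, show Nat.card (expM (A := Fˣ) T).range = (expM (A := Fˣ) T).ker.index from (Subgroup.index_ker _).symm,
    Subgroup.card_mul_index]
  rw [Nat.card_fun, hu, Nat.card_fin]

/-- The order of the group. -/
theorem order_formula [Finite F] {g : ℕ} {degs : List ℕ} (hl : degs.length = D.rank)
    (hH : g * Nat.card (D.diagonalSubgroup F) = (Nat.card F - 1) ^ D.rank)
    (hP : ∀ x : ℕ, ∑ π ∈ Φ.WFin, x ^ Φ.inv π = Cert.evalP x (Cert.degP degs)) :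
    g * Nat.card (D.group F) =
      Nat.card F ^ (D.nroots / 2) * (degs.map fun e => Nat.card F ^ e - 1).prod := by
  obtain ⟨m, hm⟩ : ∃ m, Nat.card F = m + 1 := ⟨Nat.card F - 1, by
    have : 0 < Nat.card F := Nat.card_pos
    omega⟩
  rw [Φ.card_group, hP]
  rw [hm, Nat.add_sub_cancel] at hH
  rw [hm, ← Cert.evalP_degP m degs, hl, ← hH]
  ring

end Chev

end CfsgLib.Chev
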