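/-
Fixed points of field automorphisms of Chevalley groups with unimodular Cartan matrix.
-/
import Cfsg.Agent.Lib.Chev.TorusOrder
import Cfsg.Prelude.Def_ChevAutomorphisms
import Mathlib.FieldTheory.Fixed
import Mathlib.Algebra.Field.Shrink
import Mathlib.Algebra.Ring.Shrink
import Mathlib.Algebra.Ring.Action.Subobjects

namespace CfsgLib.Chev

open Cfsg.Lie Matrix

set_option linter.dupNamespace false
set_option linter.unusedSectionVars false

variable {D : ChevalleyDatum}

namespace Chev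

variable (Φ : Chev D) {K F : Type*} [Field K] [Field F]

theorem map_root_xg (f : K →+* F) (r : Fin D.nroots) (t : K) :
    Matrix.GeneralLinearGroup.map f (Φ.toAlg.xg r t) = Φ.toAlg.xg r (f t) :=
  Units.ext (Φ.toSys.X_map f r t)

theorem map_nw (f : K →+* F) (r : Fin D.nroots) (t : Kˣ) :
    Matrix.GeneralLinearGroup.map f (Φ.nw r t) = Φ.nw r (Units.map f.toMonoidHom t) := by
  simp only [nw, map_mul, map_root_xg]
  simp

include Φ in
theorem map_mem_group (f : K →+* F) {g : GL D.Idx K} (hg : g ∈ D.group K) :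
    Matrix.GeneralLinearGroup.map f g ∈ D.group F := by
  have : D.group K ≤ (D.group F).comap (Matrix.GeneralLinearGroup.map f) := by
    rw [Φ.toAlg.group_eq, Subgroup.closure_le]
    rintro _ ⟨r, t, rfl⟩
    show _ ∈ D.group F
    rw [map_root_xg]
    exact Φ.toAlg.xg_mem_group r _
  exact this hg

theorem map_mem_US (f : K →+* F) {S : Fin D.nroots → Prop} {g : GL D.Idx K} (hg : g ∈ Φ.US K S) :
    Matrix.GeneralLinearGroup.map f g ∈ Φ.US F S := by
  have : Φ.US K S ≤ (Φ.US F S).comap (Matrix.GeneralLinearGroup.map f) := by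
    rw [US, Subgroup.closure_le]
    rintro _ ⟨r, t, hr, rfl⟩
    show _ ∈ Φ.US F S
    rw [map_root_xg]
    exact Φ.xg_mem_US hr _
  exact this hg

theorem map_torus (f : K →+* F) (c : Fin D.rank → Kˣ) :
    Matrix.GeneralLinearGroup.map f (Φ.toAlg.torus c) =
      Φ.toAlg.torus (fun i => Units.map f.toMonoidHom (c i)) := by
  refine Units.ext ?_
  show (Φ.toSys.torusMat c).map f = Φ.toSys.torusMat _
  rw [Sys.torusMat, Sys.torusMat, Matrix.diagonal_map (map_zero f)]
  congr 1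
  funext x
  rcases x with i | r
  · simp [Sys.chiIdx]
  · simp only [Sys.chiIdx, Sum.elim_inr, Sys.chi]
    have hh : ∀ u : Kˣ, f (u : K) = ((Units.map f.toMonoidHom u : Fˣ) : F) := fun _ => rfl
    rw [hh, map_prod]
    simp only [map_zpow]

include Φ in
theorem map_mem_diagonal (f : K →+* F) {g : GL D.Idx K} (hg : g ∈ D.diagonalSubgroup K) :
    Matrix.GeneralLinearGroup.map f g ∈ D.diagonalSubgroup F := by
  rw [Φ.diagonalSubgroup_eq] at hg ⊢
  obtain ⟨c, rfl⟩ := hg
  refine ⟨fun i => Units.map f.toMonoidHom (c i), ?_⟩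
  rw [MonoidHom.comp_apply, MonoidHom.comp_apply, map_torus]
  congr 1
  funext j
  simp only [coHom, MonoidHom.coe_mk, OneHom.coe_mk, map_prod, map_zpow]

theorem map_prodL (f : K →+* F) (L : List (Fin D.nroots)) (t : Fin D.nroots → K) :
    Matrix.GeneralLinearGroup.map f (Φ.prodL L t) = Φ.prodL L (fun r => f (t r)) := by
  simp only [prodL, map_list_prod, List.map_map]
  congr 1
  exact List.map_congr_left fun r _ => Φ.map_root_xg f r (t r)

/-- A preimage of a Weyl element with entries in the small field. -/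
theorem exists_preimage_map (f : K →+* F) {π : Equiv.Perm (Fin D.nroots)} (hπ : π ∈ Φ.WL) :
    ∃ g ∈ D.monomialSubgroup K, Matrix.GeneralLinearGroup.map f g ∈ D.monomialSubgroup F ∧
      Φ.Mono (Matrix.GeneralLinearGroup.map f g) π := by
  induction hπ using Subgroup.closure_induction with
  | mem x hx =>
    obtain ⟨i, -, rfl⟩ := hx
    refine ⟨Φ.nw (Φ.p i) 1, Φ.nw_mem_N _ _, ?_⟩
    rw [map_nw, map_one]
    exact ⟨Φ.nw_mem_N _ _, Φ.nw_one_mono i⟩
  | one => exact ⟨1, one_mem _, by rw [map_one]; exact ⟨one_mem _, Mono.one Φ⟩⟩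
  | mul x y _ _ hx hy =>
    obtain ⟨g, hg, a', a⟩ := hx
    obtain ⟨h, hh, b', b⟩ := hy
    exact ⟨g * h, mul_mem hg hh, by rw [map_mul]; exact ⟨mul_mem a' b', Mono.mul Φ a b⟩⟩
  | inv x _ hx =>
    obtain ⟨g, hg, a', a⟩ := hx
    exact ⟨g⁻¹, inv_mem hg, by rw [map_inv]; exact ⟨inv_mem a', Φ.mono_inv a' a⟩⟩

variable (σ : F ≃+* F) (f : K →+* F) (hf : ∀ x : F, σ x = x ↔ x ∈ Set.range f)

include hf in
theorem exists_of_fixed_US {S : Fin D.nroots → Prop} (hpos : ∀ r, S r → Φ.toTables.Pos r)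
    (hcl : Φ.Closed S) {u : GL D.Idx F} (hu : u ∈ Φ.US F S)
    (hfix : Matrix.GeneralLinearGroup.map σ.toRingHom u = u) :
    ∃ v ∈ D.group K, Matrix.GeneralLinearGroup.map f v = u := by
  classical
  obtain ⟨t, rfl⟩ := (Φ.mem_US_iff hpos hcl).1 hu
  rw [map_prodL] at hfix
  have h := Φ.prodL_injective (pairwise_rootList S) (fun r hr => hpos r (mem_rootList.1 hr)) hfix
  choose g hg using fun r : {r // r ∈ rootList S} => (hf (t r.1)).1 (h r.1 r.2)
  refine ⟨Φ.prodL (rootList S) (fun r => if hr : r ∈ rootList S then g ⟨r, hr⟩ else 0), ?_, ?_⟩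
  · refine Subgroup.list_prod_mem _ fun x hx => ?_
    obtain ⟨r, -, rfl⟩ := List.mem_map.1 hx
    exact Φ.toAlg.xg_mem_group r _
  · rw [map_prodL, prodL, prodL]
    congr 1
    exact List.map_congr_left fun r hr => by simp only [dif_pos hr]; rw [hg]

include hf in
theorem exists_of_fixed_H (hsurj : Function.Surjective (Φ.coHom K)) {h : GL D.Idx F}
    (hh : h ∈ D.diagonalSubgroup F) (hfix : Matrix.GeneralLinearGroup.map σ.toRingHom h = h) :
    ∃ v ∈ D.group K, Matrix.GeneralLinearGroup.map f v = h := by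
  obtain ⟨c, rfl⟩ := Φ.exists_torus_of_mem_H hh
  rw [map_torus] at hfix
  have hc := congrFun (Φ.torus_injective hfix)
  have hex : ∀ i, ∃ a : Kˣ, Units.map f.toMonoidHom a = c i := fun i => by
    obtain ⟨a, ha⟩ := (hf (c i)).1 (congrArg Units.val (hc i))
    have ha0 : a ≠ 0 := fun e => (c i).ne_zero (by rw [← ha, e, map_zero])
    exact ⟨Units.mk0 a ha0, Units.ext ha⟩
  choose a ha using hex
  obtain ⟨d, hd⟩ := hsurj a
  refine ⟨Φ.toAlg.torus a, Φ.N_le_group (H_le_N ?_), ?_⟩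
  · rw [Φ.diagonalSubgroup_eq]
    exact ⟨d, by rw [MonoidHom.comp_apply, hd]⟩
  · rw [map_torus]
    congr 1
    exact funext ha

include hf in
/-- A fixed element comes from the small field. -/
theorem exists_of_fixed (hsurj : Function.Surjective (Φ.coHom K)) {g : GL D.Idx F} (hg : g ∈ D.group F)
    (hfix : Matrix.GeneralLinearGroup.map σ.toRingHom g = g) :
    ∃ v ∈ D.group K, Matrix.GeneralLinearGroup.map f v = g := by
  classical
  have hσf : σ.toRingHom.comp f = f := RingHom.ext fun a => (hf (f a)).2 ⟨a, rfl⟩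
  obtain ⟨b, hb, n, hn, π, hW, hm, u, hu, rfl⟩ := Φ.exists_normal_form hg
  obtain ⟨g0, hg0, hn0, hm0⟩ := Φ.exists_preimage_map f hW
  set n0 := Matrix.GeneralLinearGroup.map f g0 with hn0def
  have hH := Φ.inv_mul_mem_H hn0 hn hm0 hm
  set b' := b * (n0 * (n0⁻¹ * n) * n0⁻¹) with hb'def
  have hb' : b' ∈ D.borelSubgroup F := mul_mem hb (H_le_B (Φ.H_conj_mem hn0 hH))
  have e : b * n * u = b' * n0 * u := by rw [hb'def]; group
  rw [e] at hfix ⊢
  have hn0fix : Matrix.GeneralLinearGroup.map σ.toRingHom n0 = n0 := by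
    conv_rhs => rw [hn0def, ← hσf, Matrix.GeneralLinearGroup.map_comp]
    rfl
  obtain ⟨u1, hu1, h1, hh1, hb1⟩ := Φ.mem_B_iff.1 hb'
  have hsu1 : Matrix.GeneralLinearGroup.map σ.toRingHom u1 ∈ D.posUnipotent F := by
    rw [Φ.posUnipotent_eq_US] at hu1 ⊢
    exact Φ.map_mem_US _ hu1
  have hsh1 := Φ.map_mem_diagonal σ.toRingHom hh1
  rw [map_mul, map_mul, hn0fix] at hfix
  have hsb : Matrix.GeneralLinearGroup.map σ.toRingHom b' ∈ D.borelSubgroup F := by
    rw [hb1, map_mul]
    exact mul_mem (U_le_B hsu1) (H_le_B hsh1)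
  obtain ⟨hbfix, hufix⟩ := Φ.normal_form_unique hm0 hsb hb' (Φ.map_mem_US _ hu) hu hfix
  rw [hb1, map_mul] at hbfix
  have h2 : u1⁻¹ * Matrix.GeneralLinearGroup.map σ.toRingHom u1 =
      h1 * (Matrix.GeneralLinearGroup.map σ.toRingHom h1)⁻¹ := by
    rw [inv_mul_eq_iff_eq_mul, ← mul_assoc, eq_mul_inv_iff_mul_eq]
    exact hbfix
  have h3 := Φ.eq_one_of_mem_U_of_mem_N (mul_mem (inv_mem hu1) hsu1)
    (h2 ▸ H_le_N (mul_mem hh1 (inv_mem hsh1)))
  have hu1fix : Matrix.GeneralLinearGroup.map σ.toRingHom u1 = u1 := (inv_mul_eq_one.1 h3).symm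
  rw [hu1fix] at hbfix
  have hh1fix := mul_left_cancel hbfix
  rw [Φ.posUnipotent_eq_US] at hu1
  obtain ⟨v1, hv1, rfl⟩ := Φ.exists_of_fixed_US σ f hf (fun _ h => h) Φ.closed_pos hu1 hu1fix
  obtain ⟨v2, hv2, rfl⟩ := Φ.exists_of_fixed_H σ f hf hsurj hh1 hh1fix
  obtain ⟨v3, hv3, rfl⟩ := Φ.exists_of_fixed_US σ f hf (fun _ h => h.1) (Φ.closed_pos_neg hW) hu hufix
  exact ⟨v1 * v2 * g0 * v3, mul_mem (mul_mem (mul_mem hv1 hv2) (Φ.N_le_group hg0)) hv3, by
    rw [hb1, hn0def, map_mul, map_mul, map_mul]⟩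

include Φ in
theorem fieldAut_apply {φ : MulAut ↥(D.group F)} {τ : F ≃+* F}
    (hφ : ∀ (g : ↥(D.group F)) (r : ℕ) (t : F), r < D.nroots →
      ((g : GL D.Idx F) : Matrix D.Idx D.Idx F) = D.x F r t →
        ((φ g : GL D.Idx F) : Matrix D.Idx D.Idx F) = D.x F r (τ t)) (g : ↥(D.group F)) :
    (φ g : GL D.Idx F) = Matrix.GeneralLinearGroup.map τ.toRingHom g := by
  obtain ⟨g, hg⟩ := g
  have key : ∀ x ∈ Subgroup.closure {g : GL D.Idx F | ∃ r t, Φ.toAlg.xg r t = g}, ∃ hx : x ∈ D.group F,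
      (φ ⟨x, hx⟩ : GL D.Idx F) = Matrix.GeneralLinearGroup.map τ.toRingHom x := by
    intro x hx
    induction hx using Subgroup.closure_induction with
    | mem y hy =>
      obtain ⟨r, t, rfl⟩ := hy
      refine ⟨Φ.toAlg.xg_mem_group r t, ?_⟩
      rw [map_root_xg]
      apply Units.ext
      rw [hφ ⟨_, Φ.toAlg.xg_mem_group r t⟩ r.val t r.isLt (Φ.toAlg.x_val r t).symm]
      exact Φ.toAlg.x_val r (τ t)
    | one => exact ⟨one_mem _, by rw [map_one]; exact congrArg Subtype.val (map_one φ)⟩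
    | mul y z _ _ hy hz =>
      obtain ⟨hy', ey⟩ := hy
      obtain ⟨hz', ez⟩ := hz
      exact ⟨mul_mem hy' hz', by
        rw [map_mul, ← ey, ← ez]; exact congrArg Subtype.val (map_mul φ ⟨y, hy'⟩ ⟨z, hz'⟩)⟩
    | inv y _ hy =>
      obtain ⟨hy', ey⟩ := hy
      exact ⟨inv_mem hy', by rw [map_inv, ← ey]; exact congrArg Subtype.val (map_inv φ ⟨y, hy'⟩)⟩
  obtain ⟨_, h⟩ := key g (by rw [← Φ.toAlg.group_eq]; exact hg)
  exact h

include Φ in
theorem coHom_surjective (T Ti : Matrix (Fin D.rank) (Fin D.rank) ℤ)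
    (hM : ∀ a b : Fin D.rank, D.cartan a.val (D.simple b.val) = T b a) (hT : T * Ti = 1) (K : Type*)
    [Field K] : Function.Surjective (Φ.coHom K) := by
  intro c
  refine ⟨expM Ti c, ?_⟩
  have hco : Φ.coHom K = expM T := by
    refine MonoidHom.ext fun c => funext fun j => ?_
    show ∏ k, c k ^ Φ.A k (Φ.p j) = ∏ k, c k ^ T j k
    refine Finset.prod_congr rfl fun k _ => ?_
    rw [← hM, Φ.simple_val, Φ.cartan_val]
  rw [hco, ← expM_mul, hT, expM_one]

include Φ in
/-- The fixed points of a field automorphism of prime order. -/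
theorem field_fixed_iso [Fintype F] (hrank : 0 < D.rank)
    (hsurj : ∀ (K : Type) [Field K] [Finite K], (K →+* F) → Function.Surjective (Φ.coHom K))
    (φ : MulAut ↥(D.group F)) (hφ : D.IsFieldAut φ) (r : ℕ) (hr : r.Prime) (ho : orderOf φ = r) :
    ∃ (F₀ : Type) (_ : Field F₀) (_ : Fintype F₀), Fintype.card F = Fintype.card F₀ ^ r ∧
      Nonempty (↥((MulEquiv.toMonoidHom φ).eqLocus (MonoidHom.id ↥(D.group F))) ≃* ↥(D.group F₀)) := by
  classical
  obtain ⟨τ, hτ⟩ := hφ
  have hval := Φ.fieldAut_apply hτ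
  let s : RingAut F := τ
  have hpow : ∀ (k : ℕ) (g : ↥(D.group F)), ((φ ^ k) g : GL D.Idx F) =
      Matrix.GeneralLinearGroup.map ((s ^ k : RingAut F) : F ≃+* F).toRingHom g := by
    intro k
    induction k with
    | zero =>
      intro g
      rw [pow_zero, pow_zero]
      exact (Units.ext (Matrix.ext fun i j => rfl))
    | succ k ih =>
      intro g
      rw [pow_succ, pow_succ, MulAut.mul_apply, ih, hval]
      exact (Units.ext (Matrix.ext fun i j => rfl))
  have hs : orderOf s = r := by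
    have := Fact.mk hr
    refine orderOf_eq_prime ?_ ?_
    · refine RingEquiv.ext fun t => ?_
      have h := hpow r ⟨_, Φ.toAlg.xg_mem_group (Φ.p ⟨0, hrank⟩) t⟩
      rw [← ho, pow_orderOf_eq_one, MulAut.one_apply] at h
      rw [map_root_xg] at h
      rw [ho] at h
      exact (Φ.toAlg.xg_injective _ h).symm
    · intro e
      refine hr.one_lt.ne' (ho.symm.trans (orderOf_eq_one_iff.2 (MulEquiv.ext fun g => Subtype.ext ?_)))
      rw [hval, show τ = (1 : RingAut F) from e]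
      exact (Units.ext (Matrix.ext fun i j => rfl))
  let K := FixedPoints.subfield (Subgroup.zpowers s) F
  have : Finite K := Finite.of_injective _ Subtype.val_injective
  let F₀ := Shrink.{0} K
  let e : F₀ ≃+* K := Shrink.ringEquiv.{0} K
  have : Finite F₀ := Finite.of_equiv K e.toEquiv.symm
  letI : Fintype F₀ := Fintype.ofFinite F₀
  let f : F₀ →+* F := (algebraMap K F).comp e.toRingHom
  have hf : ∀ x : F, τ x = x ↔ x ∈ Set.range f := by
    intro x
    constructor
    · intro hx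
      have hxK : x ∈ K := by
        rintro ⟨g, n, rfl⟩
        have hst : s ∈ MulAction.stabilizer (RingAut F) x := hx
        exact zpow_mem hst n
      exact ⟨e.symm ⟨x, hxK⟩, by show (algebraMap K F) (e (e.symm ⟨x, hxK⟩)) = x; rw [e.apply_symm_apply]; rfl⟩
    · rintro ⟨a, rfl⟩
      exact (e a).2 ⟨s, Subgroup.mem_zpowers s⟩
  have : Finite (RingAut F) := Finite.of_injective _ DFunLike.coe_injective
  let : Fintype (Subgroup.zpowers s) := Fintype.ofFinite _
  refine ⟨F₀, inferInstance, inferInstance, ?_, ⟨(MulEquiv.ofBijective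
    (((Matrix.GeneralLinearGroup.map f).comp (D.group F₀).subtype).codRestrict (D.group F)
      (fun g => Φ.map_mem_group f g.2) |>.codRestrict _ fun g => ?_) ⟨?_, ?_⟩).symm⟩⟩
  · rw [Fintype.card_eq_nat_card, Fintype.card_eq_nat_card, Nat.card_congr e.toEquiv,
      Module.natCard_eq_pow_finrank (K := K) (V := F), FixedPoints.finrank_eq_card (Subgroup.zpowers s) F,
      ← Nat.card_eq_fintype_card, Nat.card_zpowers, hs]
  · apply Subtype.ext
    show (φ _ : GL D.Idx F) = _
    rw [hval]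
    exact Units.ext (Matrix.ext fun i j => (hf _).2 ⟨_, rfl⟩)
  · intro a b h
    have h' : Matrix.GeneralLinearGroup.map f (a : GL D.Idx F₀) = Matrix.GeneralLinearGroup.map f b :=
      congrArg Subtype.val (congrArg Subtype.val h)
    exact Subtype.ext (Units.ext (Matrix.map_injective f.injective (congrArg Units.val h')))
  · rintro ⟨g, hg⟩
    have hg' : Matrix.GeneralLinearGroup.map τ.toRingHom (g : GL D.Idx F) = g := by
      rw [← hval]; exact congrArg Subtype.val hg
    obtain ⟨v, hv, hvg⟩ := Φ.exists_of_fixed τ f hf (hsurj F₀ f) g.2 hg'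
    exact ⟨⟨v, hv⟩, Subtype.ext (Subtype.ext hvg)⟩

end Chev

end CfsgLib.Chev
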