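/-
The Weyl group as the group of permutations of the roots generated by the fundamental reflections,
and the root subsets attached to sets of fundamental roots.
-/
import Cfsg.Agent.Lib.Chev.HN

namespace CfsgLib.Chev

open Cfsg.Lie Matrix

set_option linter.dupNamespace false
set_option linter.unusedSimpArgs false

variable {D : ChevalleyDatum}

namespace Chev

variable (Φ : Chev D) {F : Type*} [Field F]

/-- The Weyl group acting on the roots. -/
def W : Subgroup (Equiv.Perm (Fin D.nroots)) := Subgroup.closure (Set.range Φ.reflPerm)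

theorem reflPerm_mem_W (i : Fin D.rank) : Φ.reflPerm i ∈ Φ.W :=
  Subgroup.subset_closure ⟨i, rfl⟩

theorem reflPerm_mul_self (i : Fin D.rank) : Φ.reflPerm i * Φ.reflPerm i = 1 :=
  Equiv.ext fun s => Φ.refl_refl i s

theorem reflPerm_inv (i : Fin D.rank) : (Φ.reflPerm i)⁻¹ = Φ.reflPerm i :=
  inv_eq_of_mul_eq_one_right (Φ.reflPerm_mul_self i)

theorem reflPerm_apply (i : Fin D.rank) (s : Fin D.nroots) : Φ.reflPerm i s = Φ.refl i s := rfl

theorem W_induction {Q : Equiv.Perm (Fin D.nroots) → Prop} (h1 : Q 1)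
    (hs : ∀ i π, π ∈ Φ.W → Q π → Q (Φ.reflPerm i * π)) {π : Equiv.Perm (Fin D.nroots)}
    (hπ : π ∈ Φ.W) : Q π := by
  induction hπ using Subgroup.closure_induction_left with
  | one => exact h1
  | mul_left x hx y hy ih => obtain ⟨i, rfl⟩ := hx; exact hs i y hy ih
  | inv_mul_cancel x hx y hy ih =>
    obtain ⟨i, rfl⟩ := hx
    rw [Φ.reflPerm_inv]; exact hs i y hy ih

theorem W_rev {π : Equiv.Perm (Fin D.nroots)} (hπ : π ∈ Φ.W) (s : Fin D.nroots) :
    π s.rev = (π s).rev := by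
  refine Φ.W_induction (Q := fun π => ∀ s : Fin D.nroots, π s.rev = (π s).rev) (fun _ => rfl)
    (fun i π _ ih s => ?_) hπ s
  simp only [Equiv.Perm.mul_apply, Φ.reflPerm_apply, ih, Φ.refl_rev]

/-- Elements of the Weyl group act linearly on the coefficient vectors. -/
theorem W_lin {π : Equiv.Perm (Fin D.nroots)} (hπ : π ∈ Φ.W) (s : Fin D.nroots) (j : Fin D.rank) :
    Φ.V (π s) j = ∑ k, Φ.V s k * Φ.V (π (Φ.p k)) j := by
  refine Φ.W_induction (Q := fun π => ∀ s j, Φ.V (π s) j = ∑ k, Φ.V s k * Φ.V (π (Φ.p k)) j)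
    ?_ ?_ hπ s j
  · intro s j
    simp only [Equiv.Perm.coe_one, id, Φ.V_p, mul_ite, mul_one, mul_zero, Finset.sum_ite_eq',
      Finset.mem_univ, if_true]
  · intro i π _ ih s j
    simp only [Equiv.Perm.mul_apply, Φ.reflPerm_apply, Φ.V_refl, mul_sub, Finset.sum_sub_distrib]
    rw [← ih]
    congr 1
    by_cases hj : j = i
    · subst hj
      simp only [if_pos]
      rw [Φ.A_lin j (π s)]
      simp only [Φ.A_lin j (π (Φ.p _)), Finset.mul_sum]
      rw [Finset.sum_comm]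
      refine Finset.sum_congr rfl fun l _ => ?_
      rw [ih, Finset.sum_mul]
      exact Finset.sum_congr rfl fun k _ => by ring
    · simp [hj]

theorem W_eq_one_of_fix {π : Equiv.Perm (Fin D.nroots)} (hπ : π ∈ Φ.W)
    (h : ∀ i, π (Φ.p i) = Φ.p i) : π = 1 := by
  refine Equiv.ext fun s => Φ.toSys.V_inj fun j => ?_
  rw [Φ.W_lin hπ]
  simp [h, Φ.V_p]

theorem exists_monoW {g : GL D.Idx F} (hg : g ∈ D.monomialSubgroup F) :
    ∃ π, π ∈ Φ.W ∧ Φ.Mono g π ∧ Φ.Mono g⁻¹ π⁻¹ := by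
  obtain ⟨π, h1, h2⟩ := Φ.exists_mono hg
  refine ⟨π, ?_, h1, h2⟩
  rw [Φ.monomialSubgroup_eq, ← Subgroup.closure_eq (D.diagonalSubgroup F), ← Subgroup.closure_union] at hg
  suffices H : ∃ σ, σ ∈ Φ.W ∧ Φ.Mono g σ by
    obtain ⟨σ, hσ, hgσ⟩ := H
    rwa [Mono.unique Φ h1 hgσ]
  clear h1 h2 π
  induction hg using Subgroup.closure_induction_left with
  | one => exact ⟨1, one_mem _, Mono.one Φ⟩
  | mul_left x hx y _ ih =>
    obtain ⟨σ, hσ, hm⟩ := ih
    rcases hx with hx | ⟨i, rfl⟩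
    · obtain ⟨c, rfl⟩ := Φ.exists_torus_of_mem_H hx
      exact ⟨1 * σ, by simpa using hσ, Mono.mul Φ (Φ.mono_torus c) hm⟩
    · exact ⟨_, mul_mem (Φ.reflPerm_mem_W i) hσ, Mono.mul Φ (Φ.nw_one_mono i) hm⟩
  | inv_mul_cancel x hx y _ ih =>
    obtain ⟨σ, hσ, hm⟩ := ih
    rcases hx with hx | ⟨i, rfl⟩
    · obtain ⟨c, rfl⟩ := Φ.exists_torus_of_mem_H hx
      rw [← map_inv]
      exact ⟨1 * σ, by simpa using hσ, Mono.mul Φ (Φ.mono_torus c⁻¹) hm⟩
    · rw [Φ.nw_one_inv, Φ.hw_p]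
      exact ⟨1 * Φ.reflPerm i * σ, by simpa using mul_mem (Φ.reflPerm_mem_W i) hσ,
        Mono.mul Φ (Mono.mul Φ (Φ.mono_torus _) (Φ.nw_one_mono i)) hm⟩

theorem exists_N_of_W {π : Equiv.Perm (Fin D.nroots)} (hπ : π ∈ Φ.W) :
    ∃ g ∈ D.monomialSubgroup F, Φ.Mono g π := by
  refine Φ.W_induction (Q := fun π => ∃ g ∈ D.monomialSubgroup F, Φ.Mono g π) ?_ ?_ hπ
  · exact ⟨1, one_mem _, Mono.one Φ⟩
  · intro i π _ ih
    obtain ⟨g, hg, hm⟩ := ih
    exact ⟨_, mul_mem (Φ.nw_mem_N (Φ.p i) 1) hg, Mono.mul Φ (Φ.nw_one_mono i) hm⟩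

/-! ### Root subsets -/

/-- The roots involving a fundamental root outside `J` positively. -/
def Out (J : Set (Fin D.rank)) (r : Fin D.nroots) : Prop := ∃ j, j ∉ J ∧ 0 < Φ.V r j

/-- The roots with all coefficients outside `J` zero. -/
def Sub (J : Set (Fin D.rank)) (r : Fin D.nroots) : Prop := ∀ j, j ∉ J → Φ.V r j = 0

theorem Out.pos {J : Set (Fin D.rank)} {r : Fin D.nroots} (h : Φ.Out J r) : Φ.toTables.Pos r := by
  obtain ⟨j, -, hj⟩ := h
  by_contra hn
  have := Φ.V_nonpos r hn j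
  omega

theorem out_iff_pos_and_not_sub {J : Set (Fin D.rank)} {r : Fin D.nroots} :
    Φ.Out J r ↔ Φ.toTables.Pos r ∧ ¬ Φ.Sub J r := by
  constructor
  · intro h
    obtain ⟨j, hj, hpos⟩ := h
    exact ⟨Out.pos Φ ⟨j, hj, hpos⟩, fun hs => by have := hs j hj; omega⟩
  · rintro ⟨hp, hs⟩
    simp only [Sub, not_forall] at hs
    obtain ⟨j, hj, hne⟩ := hs
    exact ⟨j, hj, lt_of_le_of_ne (Φ.V_nonneg r hp j) (Ne.symm hne)⟩

theorem out_singleton_iff {i : Fin D.rank} {r : Fin D.nroots} :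
    Φ.Out {i} r ↔ Φ.toTables.Pos r ∧ r ≠ Φ.p i := by
  constructor
  · intro h
    refine ⟨Out.pos Φ h, fun e => ?_⟩
    obtain ⟨j, hj, hpos⟩ := h
    rw [e, Φ.V_p, if_neg (fun e' => hj (by simp [e']))] at hpos
    omega
  · rintro ⟨hp, hne⟩
    obtain ⟨j, hj, hpos⟩ := Φ.V_supp r hp i hne
    exact ⟨j, by simpa using hj, hpos⟩

theorem closed_out (J : Set (Fin D.rank)) : Φ.Closed (Φ.Out J) := by
  rintro r s ⟨j, hj, hr⟩ hs hN
  refine ⟨j, hj, ?_⟩
  rw [Φ.V_add r s hN]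
  have := Φ.V_nonneg s (Out.pos Φ hs) j
  omega

theorem out_empty_iff {r : Fin D.nroots} : Φ.Out ∅ r ↔ Φ.toTables.Pos r := by
  refine ⟨fun h => Out.pos Φ h, fun h => ?_⟩
  rw [Φ.out_iff_pos_and_not_sub]
  refine ⟨h, fun hs => ?_⟩
  have := Φ.code_pos h
  have h0 : Φ.toTables.code r = 0 := Finset.sum_eq_zero fun i _ => by rw [hs i (by simp)]; simp
  omega

theorem sub_refl {J : Set (Fin D.rank)} {i : Fin D.rank} (hi : i ∈ J) {r : Fin D.nroots} :
    Φ.Sub J (Φ.refl i r) ↔ Φ.Sub J r := by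
  refine forall_congr' fun j => imp_congr_right fun hj => ?_
  rw [Φ.V_refl, if_neg (fun e : j = i => hj (by rw [e]; exact hi)), sub_zero]

theorem out_refl {J : Set (Fin D.rank)} {i : Fin D.rank} (hi : i ∈ J) {r : Fin D.nroots} :
    Φ.Out J (Φ.refl i r) ↔ Φ.Out J r := by
  refine exists_congr fun j => and_congr_right fun hj => ?_
  rw [Φ.V_refl, if_neg (fun e : j = i => hj (by rw [e]; exact hi)), sub_zero]

theorem sub_rev {J : Set (Fin D.rank)} {r : Fin D.nroots} : Φ.Sub J r.rev ↔ Φ.Sub J r := by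
  refine forall_congr' fun j => imp_congr_right fun _ => ?_
  rw [Φ.V_neg r j, neg_eq_zero]

theorem sub_p {J : Set (Fin D.rank)} {i : Fin D.rank} : Φ.Sub J (Φ.p i) ↔ i ∈ J := by
  constructor
  · intro h
    by_contra hi
    simpa [Φ.V_p] using h i hi
  · intro hi j hj
    rw [Φ.V_p, if_neg (fun e => hj (by rw [← e]; exact hi))]

theorem A_p_nonpos {i j : Fin D.rank} (h : j ≠ i) : Φ.A i (Φ.p j) ≤ 0 := by
  have hpj : Φ.p j ≠ Φ.p i := fun e => by
    have := congrArg (fun r => Φ.V r i) e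
    simp [Φ.V_p, h] at this
  have hpos := (Φ.refl_pos (i := i) (Φ.p_pos j) hpj).1
  have := Φ.V_nonneg _ hpos i
  rw [Φ.V_refl, if_pos rfl, Φ.V_p, if_neg h] at this
  omega

/-- A coefficient of the coroot vanishes exactly when that of the root does. -/
theorem C_eq_zero_iff (r : Fin D.nroots) (k : Fin D.rank) : Φ.C r k = 0 ↔ Φ.V r k = 0 := by
  have key : ∀ m : ℕ, ∀ r : Fin D.nroots, r.val = m → Φ.toTables.Pos r →
      (Φ.C r k = 0 ↔ Φ.V r k = 0) := by
    intro m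
    induction m using Nat.strong_induction_on with
    | _ m ih =>
      intro r hm hr
      obtain ⟨i, hiC, hiA⟩ : ∃ i, 0 < Φ.C r i ∧ 0 < Φ.A i r := by
        by_contra hn
        push Not at hn
        have h := Φ.pair_self r
        have : ∑ i, Φ.C r i * Φ.A i r ≤ 0 := Finset.sum_nonpos fun i _ => by
          rcases (Φ.C_nonneg hr i).eq_or_lt with e | e
          · simp [← e]
          · exact mul_nonpos_of_nonneg_of_nonpos e.le (hn i e)
        omega
      by_cases hri : r = Φ.p i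
      · subst hri; rw [Φ.C_p, Φ.V_p]
      · have hIH := ih _ (hm ▸ Φ.refl_lt hiA) _ rfl (Φ.refl_pos hr hri).1
        rw [Φ.C_refl, Φ.V_refl] at hIH
        by_cases hk : k = i
        · subst hk
          have hV : 0 < Φ.V r k := by
            by_contra hle
            have h0 : Φ.V r k = 0 := le_antisymm (not_lt.mp hle) (Φ.V_nonneg r hr k)
            have : Φ.A k r ≤ 0 := by
              rw [Φ.A_lin k r]
              refine Finset.sum_nonpos fun j _ => ?_
              by_cases hj : j = k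
              · subst hj; simp [h0]
              · exact mul_nonpos_of_nonneg_of_nonpos (Φ.V_nonneg r hr j) (Φ.A_p_nonpos hj)
            omega
          constructor <;> intro h <;> omega
        · rwa [if_neg hk, if_neg hk, sub_zero, sub_zero] at hIH
  by_cases hr : Φ.toTables.Pos r
  · exact key _ r rfl hr
  · have := key _ r.rev rfl ((Φ.pos_rev_iff r).mpr hr)
    rwa [Φ.C_neg r, Φ.V_neg r, neg_eq_zero, neg_eq_zero] at this

end Chev

end CfsgLib.Chev
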