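/-
The (B,N)-pair of a Chevalley group.
-/
import Cfsg.Agent.Lib.Chev.WPerm
import Cfsg.Agent.Lib.BN.Basic

namespace CfsgLib.Chev

open Cfsg.Lie Matrix

set_option linter.dupNamespace false
set_option linter.unusedSimpArgs false

variable {D : ChevalleyDatum}

namespace Chev

variable (Φ : Chev D) {F : Type*} [Field F]

theorem conj_mem_of_gen {S : Fin D.nroots → Prop} {K : Subgroup (GL D.Idx F)} {g : GL D.Idx F}
    (h : ∀ r t, S r → g * Φ.toAlg.xg r t * g⁻¹ ∈ K) {u : GL D.Idx F} (hu : u ∈ Φ.US F S) :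
    g * u * g⁻¹ ∈ K := by
  have : Φ.US F S ≤ K.comap (MulAut.conj g).toMonoidHom := by
    rw [US, Subgroup.closure_le]
    rintro _ ⟨r, t, hr, rfl⟩
    exact h r t hr
  exact this hu

/-- A root element of `Φ_J` normalises the subgroup of the roots outside `J`. -/
theorem xg_mem_normalizer_out {J : Set (Fin D.rank)} {r : Fin D.nroots} (hr : Φ.Sub J r) (t : F) :
    Φ.toAlg.xg r t ∈ Subgroup.normalizer (Φ.US F (Φ.Out J) : Set (GL D.Idx F)) := by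
  have key : ∀ (c : F) (u : GL D.Idx F), u ∈ Φ.US F (Φ.Out J) →
      Φ.toAlg.xg r c * u * (Φ.toAlg.xg r c)⁻¹ ∈ Φ.US F (Φ.Out J) := by
    intro c u hu
    refine Φ.conj_mem_of_gen (fun s v hs => ?_) hu
    obtain ⟨j, hj, hsj⟩ := hs
    have hrj := hr j hj
    have h1 : s ≠ r := fun e => by rw [e, hrj] at hsj; omega
    have h2 : s ≠ r.rev := fun e => by rw [e, Φ.V_neg r, hrj] at hsj; omega
    have hsp : Φ.toTables.Pos s := Out.pos Φ ⟨j, hj, hsj⟩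
    have := Φ.conj_xg_mem h1 h2 (S := Φ.Out J) ⟨j, hj, hsj⟩ (fun d hd => Φ.commTerms_mem
      (fun hN => ⟨j, hj, by rw [Φ.V_add r s hN, hrj]; omega⟩)
      (fun x ⟨k, hk, hxk⟩ hN => ⟨k, hk, by rw [Φ.V_add r x hN, hr k hk]; omega⟩)
      (fun x ⟨k, hk, hxk⟩ hN => ⟨k, hk, by
        rw [Φ.V_add s x hN]; have := Φ.V_nonneg s hsp k; omega⟩) hd) (-c) v
    rwa [← Φ.toAlg.xg_inv, inv_inv] at this
  rw [Subgroup.mem_normalizer_iff]
  refine fun u => ⟨key t u, fun h => ?_⟩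
  have := key (-t) _ h
  rw [← Φ.toAlg.xg_inv] at this
  simpa [mul_assoc] using this

theorem nw_one_mem_normalizer_out {J : Set (Fin D.rank)} {i : Fin D.rank} (hi : i ∈ J) :
    Φ.nw (Φ.p i) (1 : Fˣ) ∈ Subgroup.normalizer (Φ.US F (Φ.Out J) : Set (GL D.Idx F)) := by
  set n := Φ.nw (Φ.p i) (1 : Fˣ) with hn
  have key : ∀ u ∈ Φ.US F (Φ.Out J), n * u * n⁻¹ ∈ Φ.US F (Φ.Out J) := fun u hu =>
    Φ.conj_mem_of_gen (fun r t hr => by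
      rw [hn, Φ.nw_conj_xg, mul_inv_cancel_right]
      exact Φ.xg_mem_US ((Φ.out_refl hi).mpr hr) _) hu
  have hsq : n * n ∈ Subgroup.normalizer (Φ.US F (Φ.Out J) : Set (GL D.Idx F)) := by
    rw [hn, Φ.nw_one_sq, ← Φ.hw_p]
    exact Φ.H_le_normalizer_US _ (Φ.hw_mem_H _ _)
  rw [Subgroup.mem_normalizer_iff]
  refine fun u => ⟨key u, fun h => ?_⟩
  have h1 := key _ h
  have h2 := (Subgroup.mem_normalizer_iff.mp hsq u).mpr (by simpa [mul_assoc] using h1)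
  exact h2

/-- Products of the subgroup outside `J` with a subgroup normalising it. -/
theorem mem_U_iff_out {i : Fin D.rank} {g : GL D.Idx F} :
    g ∈ D.posUnipotent F ↔ ∃ u ∈ Φ.US F (Φ.Out {i}), ∃ t, g = u * Φ.toAlg.xg (Φ.p i) t := by
  constructor
  · intro hg
    rw [Φ.posUnipotent_eq_US] at hg
    have hle : D.rootSubgroup F (Φ.p i).val ≤
        Subgroup.normalizer (Φ.US F (Φ.Out {i}) : Set (GL D.Idx F)) := by
      intro x hx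
      obtain ⟨t, rfl⟩ := (Φ.toAlg.mem_rootSubgroup (F := F) (r := Φ.p i)).mp hx
      exact Φ.xg_mem_normalizer_out (J := {i}) ((Φ.sub_p (J := {i}) (i := i)).mpr (Set.mem_singleton i)) t
    have hU : Φ.US F Φ.toTables.Pos ≤ Φ.US F (Φ.Out {i}) ⊔ D.rootSubgroup F (Φ.p i).val := by
      rw [US, Subgroup.closure_le]
      rintro _ ⟨r, t, hr, rfl⟩
      by_cases h : r = Φ.p i
      · subst h; exact Subgroup.mem_sup_right ((Φ.toAlg.mem_rootSubgroup (F := F) (r := Φ.p i)).mpr ⟨t, rfl⟩)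
      · exact Subgroup.mem_sup_left (Φ.xg_mem_US (Φ.out_singleton_iff.mpr ⟨hr, h⟩) t)
    have h2 : g ∈ ((Φ.US F (Φ.Out {i}) ⊔ D.rootSubgroup F (Φ.p i).val : Subgroup (GL D.Idx F)) :
        Set (GL D.Idx F)) := hU hg
    rw [Subgroup.coe_mul_of_right_le_normalizer_left _ _ hle] at h2
    obtain ⟨u, hu, x, hx, e⟩ := Set.mem_mul.mp h2
    obtain ⟨t, rfl⟩ := (Φ.toAlg.mem_rootSubgroup (F := F) (r := Φ.p i)).mp hx
    exact ⟨u, hu, t, e.symm⟩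
  · rintro ⟨u, hu, t, rfl⟩
    rw [Φ.posUnipotent_eq_US]
    exact mul_mem (Φ.US_mono (fun r hr => Out.pos Φ hr) hu) (Φ.xg_mem_US (Φ.p_pos i) t)

theorem Mono.conj {g : GL D.Idx F} {π : Equiv.Perm (Fin D.nroots)} (h : Φ.Mono g π)
    (r : Fin D.nroots) (t : F) : ∃ c, g * Φ.toAlg.xg r t * g⁻¹ = Φ.toAlg.xg (π r) c := by
  obtain ⟨a, -, h1, -⟩ := h.1 r
  exact ⟨_, h1 t⟩

theorem xg_mem_B {r : Fin D.nroots} (hr : Φ.toTables.Pos r) (t : F) :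
    Φ.toAlg.xg r t ∈ D.borelSubgroup F := by
  refine Subgroup.mem_sup_left ?_
  rw [Φ.posUnipotent_eq_US]; exact Φ.xg_mem_US hr t

/-- A negative fundamental root element is `x_p(1/u) h_p(-1/u) n_p x_p(1/u)`. -/
theorem xg_rev_eq (i : Fin D.rank) (u : Fˣ) :
    Φ.toAlg.xg (Φ.p i).rev (u : F) = Φ.toAlg.xg (Φ.p i) (u : F)⁻¹ * Φ.hw (Φ.p i) (-u⁻¹) *
      Φ.nw (Φ.p i) 1 * Φ.toAlg.xg (Φ.p i) (u : F)⁻¹ := by
  rw [mul_assoc _ (Φ.hw (Φ.p i) (-u⁻¹)), ← Φ.nw_eq_hw_mul, nw]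
  have e1 : ((-u⁻¹ : Fˣ) : F) = -(u : F)⁻¹ := by simp
  have e2 : -(((-u⁻¹ : Fˣ) : F))⁻¹ = (u : F) := by simp [inv_neg]
  rw [e2, e1, Φ.toAlg.xg_neg]
  group

/-- The double coset condition. -/
theorem nw_mul_mem_cells (i : Fin D.rank) {n b : GL D.Idx F} (hn : n ∈ D.monomialSubgroup F)
    (hb : b ∈ D.borelSubgroup F) :
    (∃ a ∈ D.borelSubgroup F, ∃ c ∈ D.borelSubgroup F,
        Φ.nw (Φ.p i) 1 * b * n = a * (Φ.nw (Φ.p i) 1 * n) * c) ∨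
      ∃ a ∈ D.borelSubgroup F, ∃ c ∈ D.borelSubgroup F, Φ.nw (Φ.p i) 1 * b * n = a * n * c := by
  obtain ⟨π, hπ, -, hm'⟩ := Φ.exists_monoW hn
  set s := Φ.nw (Φ.p i) (1 : Fˣ) with hs
  obtain ⟨u, hu, h, hh, rfl⟩ := Φ.mem_B_iff.mp hb
  obtain ⟨u', hu', t, rfl⟩ := (Φ.mem_U_iff_out (i := i)).mp hu
  have hu'' : s * u' * s⁻¹ ∈ D.borelSubgroup F := by
    refine Subgroup.mem_sup_left ?_
    rw [Φ.posUnipotent_eq_US]
    exact Φ.US_mono (fun r hr => Out.pos Φ hr)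
      ((Subgroup.mem_normalizer_iff.mp (Φ.nw_one_mem_normalizer_out (J := {i}) (by simp)) u').mp hu')
  have hh' : n⁻¹ * h * n ∈ D.borelSubgroup F :=
    Subgroup.mem_sup_right
      ((Subgroup.mem_normalizer_iff'.mp (Φ.N_le_normalizer_H hn) (n⁻¹ * h)).mpr (by simpa using hh))
  have e : s * (u' * Φ.toAlg.xg (Φ.p i) t * h) * n =
      (s * u' * s⁻¹) * (s * Φ.toAlg.xg (Φ.p i) t * n) * (n⁻¹ * h * n) := by group
  obtain ⟨c, hc⟩ := Mono.conj Φ hm' (Φ.p i) t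
  rw [inv_inv] at hc
  by_cases hpos : Φ.toTables.Pos (π⁻¹ (Φ.p i))
  · left
    refine ⟨_, hu'', (n⁻¹ * Φ.toAlg.xg (Φ.p i) t * n) * (n⁻¹ * h * n),
      mul_mem (by rw [hc]; exact Φ.xg_mem_B hpos _) hh', ?_⟩
    rw [e]; group
  by_cases ht : t = 0
  · left
    refine ⟨_, hu'', _, hh', ?_⟩
    rw [e, ht, Φ.toAlg.xg_zero]; group
  right
  have hη : (Φ.eta i (Φ.p i) : F) ≠ 0 := by
    rcases Φ.eta_unit i (Φ.p i) with e' | e' <;> simp [e']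
  set v : Fˣ := Units.mk0 _ (mul_ne_zero hη ht) with hv
  have e2 : s * Φ.toAlg.xg (Φ.p i) t = Φ.toAlg.xg (Φ.p i).rev (v : F) * s := by
    rw [hs, Φ.nw_conj_xg, Φ.refl_p, hv, Units.val_mk0]
  rw [Φ.xg_rev_eq, ← hs] at e2
  obtain ⟨c', hc'⟩ := Mono.conj Φ (Φ.exists_monoW (inv_mem (Φ.nw_mem_N (Φ.p i) (1 : Fˣ)))
    |>.choose_spec.2.1) (Φ.p i) (v : F)⁻¹
  have hσ : (Φ.exists_monoW (F := F) (inv_mem (Φ.nw_mem_N (Φ.p i) (1 : Fˣ)))).choose = Φ.reflPerm i := by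
    refine Mono.unique Φ (Φ.exists_monoW (inv_mem (Φ.nw_mem_N (Φ.p i) (1 : Fˣ)))).choose_spec.2.1 ?_
    rw [Φ.nw_one_inv, Φ.hw_p]
    exact one_mul (Φ.reflPerm i) ▸ Mono.mul Φ (Φ.mono_torus _) (Φ.nw_one_mono i)
  rw [hσ, inv_inv, ← hs, Φ.reflPerm_apply, Φ.refl_p] at hc'
  obtain ⟨c'', hc''⟩ := Mono.conj Φ hm' (Φ.p i).rev c'
  rw [inv_inv] at hc''
  have hneg : Φ.toTables.Pos (π⁻¹ (Φ.p i).rev) := by
    rw [Φ.W_rev (inv_mem hπ), Φ.pos_rev_iff]; exact hpos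
  refine ⟨(s * u' * s⁻¹) * (Φ.toAlg.xg (Φ.p i) (v : F)⁻¹ * Φ.hw (Φ.p i) (-v⁻¹) * (s * s)),
    mul_mem hu'' (mul_mem (mul_mem (Φ.xg_mem_B (Φ.p_pos i) _) (Subgroup.mem_sup_right (Φ.hw_mem_H _ _)))
      (Subgroup.mem_sup_right (by rw [hs, Φ.nw_one_sq, ← Φ.hw_p]; exact Φ.hw_mem_H _ _))),
    (n⁻¹ * (s⁻¹ * Φ.toAlg.xg (Φ.p i) (v : F)⁻¹ * s) * n) * (n⁻¹ * h * n),
    mul_mem (by rw [hc', hc'']; exact Φ.xg_mem_B hneg _) hh', ?_⟩
  rw [e, e2]; group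

theorem nw_one_injective {i j : Fin D.rank}
    (h : (Φ.nw (Φ.p i) (1 : Fˣ))⁻¹ * Φ.nw (Φ.p j) 1 ∈ D.borelSubgroup F) : i = j := by
  have hH : (Φ.nw (Φ.p i) (1 : Fˣ))⁻¹ * Φ.nw (Φ.p j) 1 ∈ D.diagonalSubgroup F := by
    rw [← Φ.B_inf_N]
    exact ⟨h, Subgroup.mul_mem _ (Subgroup.inv_mem _ (Φ.nw_mem_N _ _)) (Φ.nw_mem_N _ _)⟩
  obtain ⟨c, hc⟩ := Φ.exists_torus_of_mem_H hH
  rw [inv_mul_eq_iff_eq_mul] at hc
  have h1 := Φ.nw_one_mono (F := F) j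
  rw [hc] at h1
  have h2 := Mono.unique Φ h1 (Mono.mul Φ (Φ.nw_one_mono i) (Φ.mono_torus c))
  rw [mul_one] at h2
  by_contra hne
  have hp : Φ.p i ≠ Φ.p j := fun e => by
    have := congrArg (fun r => Φ.V r i) e
    simp [Φ.V_p, Ne.symm hne] at this
  have h3 := (Φ.refl_pos (i := j) (Φ.p_pos i) hp).1
  have h4 : Φ.refl j (Φ.p i) = (Φ.p i).rev := by
    have := congrArg (fun π : Equiv.Perm _ => π (Φ.p i)) h2
    simpa [Φ.reflPerm_apply, Φ.refl_p] using this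
  rw [h4, Φ.pos_rev_iff] at h3
  exact h3 (Φ.p_pos i)

theorem nw_conj_B_ne (i : Fin D.rank) : ∃ b ∈ D.borelSubgroup F,
    Φ.nw (Φ.p i) (1 : Fˣ) * b * Φ.nw (Φ.p i) 1 ∉ D.borelSubgroup F := by
  refine ⟨_, Φ.xg_mem_B (Φ.p_pos i) 1, fun h => ?_⟩
  rw [Φ.nw_conj_xg, Φ.refl_p, mul_assoc, Φ.nw_one_sq, ← Φ.hw_p] at h
  have h' : Φ.toAlg.xg (Φ.p i).rev ((Φ.eta i (Φ.p i) : F) * 1) ∈ D.borelSubgroup F ⊓ D.negUnipotent F := by
    refine ⟨(Subgroup.mul_mem_cancel_right _ (Subgroup.mem_sup_right (Φ.hw_mem_H _ _))).mp h, ?_⟩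
    rw [Φ.negUnipotent_eq_US]
    exact Φ.xg_mem_US (by rw [Φ.pos_rev_iff]; simpa using Φ.p_pos i) _
  rw [Φ.B_inf_V, Subgroup.mem_bot, Φ.toAlg.xg_eq_one_iff, mul_one] at h'
  rcases Φ.eta_unit i (Φ.p i) with e' | e' <;> simp [e'] at h'

variable (F) in
/-- The (B,N)-pair of the Chevalley group. -/
noncomputable def bnPair : Cfsg.BNPair ↥(D.group F) where
  B := (D.borelSubgroup F).subgroupOf (D.group F)
  N := (D.monomialSubgroup F).subgroupOf (D.group F)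
  S := Set.range fun i => (⟨Φ.nw (Φ.p i) 1, Φ.nw_mem_group _ _⟩ : D.group F)
  sup_eq_top := by
    rw [← Subgroup.subgroupOf_sup Φ.B_le_group Φ.N_le_group, Φ.B_sup_N, Subgroup.subgroupOf_self]
  conj_mem := by
    rintro n hn t ⟨h1, h2⟩
    have h : (t : GL D.Idx F) ∈ D.diagonalSubgroup F := by rw [← Φ.B_inf_N]; exact ⟨h1, h2⟩
    exact Subgroup.mem_sup_right ((Subgroup.mem_normalizer_iff.mp (Φ.N_le_normalizer_H hn) _).mp h)
  subset := by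
    rintro _ ⟨i, rfl⟩
    exact Φ.nw_mem_N _ _
  sq_mem := by
    rintro _ ⟨i, rfl⟩
    show Φ.nw (Φ.p i) (1 : Fˣ) * Φ.nw (Φ.p i) 1 ∈ D.borelSubgroup F
    rw [Φ.nw_one_sq, ← Φ.hw_p]
    exact Subgroup.mem_sup_right (Φ.hw_mem_H _ _)
  inj := by
    rintro _ ⟨i, rfl⟩ _ ⟨j, rfl⟩ h
    rw [Φ.nw_one_injective (F := F) (i := i) (j := j) h]
  closure_sup := by
    refine Subgroup.map_injective (D.group F).subtype_injective ?_
    rw [Subgroup.map_sup, MonoidHom.map_closure, Subgroup.map_inf _ _ _ (D.group F).subtype_injective,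
      Subgroup.subgroupOf_map_subtype, Subgroup.subgroupOf_map_subtype, inf_eq_left.mpr Φ.B_le_group,
      inf_eq_left.mpr Φ.N_le_group, Φ.B_inf_N, sup_comm, ← Set.range_comp, Φ.monomialSubgroup_eq]
    congr 2
    ext g
    exact ⟨fun ⟨i, h⟩ => ⟨i, h.symm⟩, fun ⟨i, h⟩ => ⟨i, h.symm⟩⟩
  mul_mem_union := by
    rintro _ ⟨i, rfl⟩ n hn b hb
    rcases Φ.nw_mul_mem_cells i (n := (n : GL D.Idx F)) (b := (b : GL D.Idx F)) hn hb with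
      ⟨a, ha, c, hc, e⟩ | ⟨a, ha, c, hc, e⟩
    · exact Or.inl (DoubleCoset.mem_doubleCoset.mpr
        ⟨⟨a, Φ.B_le_group ha⟩, ha, ⟨c, Φ.B_le_group hc⟩, hc, Subtype.ext e⟩)
    · exact Or.inr (DoubleCoset.mem_doubleCoset.mpr
        ⟨⟨a, Φ.B_le_group ha⟩, ha, ⟨c, Φ.B_le_group hc⟩, hc, Subtype.ext e⟩)
  conj_ne := by
    rintro _ ⟨i, rfl⟩ h
    obtain ⟨b, hb, hn⟩ := Φ.nw_conj_B_ne (F := F) i
    refine hn ?_
    have h' := (Set.ext_iff.mp h _).mp ⟨⟨b, Φ.B_le_group hb⟩, hb, rfl⟩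
    exact h'

include Φ in
theorem bnPair_B_inf_N :
    (Φ.bnPair F).B ⊓ (Φ.bnPair F).N = (D.diagonalSubgroup F).subgroupOf (D.group F) := by
  rw [← Φ.B_inf_N]; rfl

/-- The image of a subset of fundamental roots. -/
def simpleSet (F : Type*) [Field F] (J : Set (Fin D.rank)) : Set ↥(D.group F) :=
  (fun i => (⟨Φ.nw (Φ.p i) 1, Φ.nw_mem_group _ _⟩ : D.group F)) '' J

theorem simpleSet_subset (J : Set (Fin D.rank)) : Φ.simpleSet F J ⊆ (Φ.bnPair F).S :=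
  Set.image_subset_range _ _

theorem parabolicSubgroup_eq (J : Set ℕ) : D.parabolicSubgroup F J =
    D.borelSubgroup F ⊔
      Subgroup.closure ((fun i : Fin D.rank => Φ.nw (Φ.p i) (1 : Fˣ)) '' {i | i.val ∈ J}) := by
  rw [ChevalleyDatum.parabolicSubgroup]
  congr 2
  ext g
  constructor
  · rintro ⟨j, hj, hlt, hg⟩
    refine ⟨⟨j, hlt⟩, hj, Units.ext ?_⟩
    rw [hg, Φ.nw_val, Units.val_one, ← Φ.simple_val]
  · rintro ⟨i, hi, rfl⟩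
    exact ⟨i.val, hi, i.isLt, by rw [Φ.simple_val, Φ.nw_val, Units.val_one]⟩

theorem map_parabolic (J : Set ℕ) : ((Φ.bnPair F).parabolic (Φ.simpleSet F {i | i.val ∈ J})).map
    (D.group F).subtype = D.parabolicSubgroup F J := by
  rw [Φ.parabolicSubgroup_eq, Cfsg.BNPair.parabolic, Subgroup.map_sup, MonoidHom.map_closure,
    simpleSet, ← Set.image_comp]
  congr 1
  exact (Subgroup.subgroupOf_map_subtype _ _).trans (inf_eq_left.mpr Φ.B_le_group)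

theorem mem_parabolicSubgroup {J : Set ℕ} {g : GL D.Idx F} :
    g ∈ D.parabolicSubgroup F J ↔
      ∃ hg : g ∈ D.group F, (⟨g, hg⟩ : D.group F) ∈ (Φ.bnPair F).parabolic (Φ.simpleSet F {i | i.val ∈ J}) := by
  rw [← Φ.map_parabolic]
  constructor
  · rintro ⟨x, hx, rfl⟩; exact ⟨x.2, hx⟩
  · rintro ⟨hg, hx⟩; exact ⟨_, hx, rfl⟩

end Chev

end CfsgLib.Chev
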