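/-
The longest element of the Weyl group, the splitting of U along an element of the Weyl group
and the Bruhat normal form.
-/
import Cfsg.Agent.Lib.Chev.BNP

namespace CfsgLib.Chev

open Cfsg.Lie Matrix

set_option linter.dupNamespace false
set_option linter.unusedSimpArgs false

variable {D : ChevalleyDatum}

namespace Chev

variable (Φ : Chev D) {F : Type*} [Field F]

theorem code_W_add {π : Equiv.Perm (Fin D.nroots)} (hπ : π ∈ Φ.W) {r s : Fin D.nroots}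
    (h : Φ.N r s ≠ 0) :
    Φ.toTables.code (π (Φ.S r s)) = Φ.toTables.code (π r) + Φ.toTables.code (π s) := by
  simp only [Tables.code, ← Finset.sum_add_distrib, ← add_mul]
  refine Finset.sum_congr rfl fun j _ => ?_
  rw [Φ.W_lin hπ (Φ.S r s), Φ.W_lin hπ r, Φ.W_lin hπ s, ← Finset.sum_add_distrib]
  congr 1
  exact Finset.sum_congr rfl fun k _ => by rw [Φ.V_add r s h]; ring

/-- A monomial element keeping the positive roots positive is diagonal. -/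
theorem mem_H_of_pos {n : GL D.Idx F} {π : Equiv.Perm (Fin D.nroots)}
    (hn : n ∈ D.monomialSubgroup F) (hm : Φ.Mono n π)
    (h : ∀ r, Φ.toTables.Pos r → Φ.toTables.Pos (π r)) : n ∈ D.diagonalSubgroup F := by
  have hconj : ∀ b ∈ D.borelSubgroup F, n * b * n⁻¹ ∈ D.borelSubgroup F := by
    intro b hb
    obtain ⟨u, hu, x, hx, rfl⟩ := Φ.mem_B_iff.mp hb
    rw [Φ.posUnipotent_eq_US] at hu
    rw [show n * (u * x) * n⁻¹ = (n * u * n⁻¹) * (n * x * n⁻¹) by group]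
    refine mul_mem (Φ.conj_mem_of_gen (fun r t hr => ?_) hu) (Subgroup.mem_sup_right
      ((Subgroup.mem_normalizer_iff.mp (Φ.N_le_normalizer_H hn) x).mp hx))
    obtain ⟨c, hc⟩ := Mono.conj Φ hm r t
    rw [hc]; exact Φ.xg_mem_B (h r hr) c
  have hmem := CfsgLib.BN.mem_parabolic_of_conj (Φ.bnPair F) (J := ∅)
    (n := ⟨⟨n, Φ.N_le_group hn⟩, hn⟩) (fun b hb => Subgroup.mem_sup_left (hconj b.1 hb))
  rw [Cfsg.BNPair.parabolic, Subgroup.closure_empty, sup_bot_eq] at hmem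
  rw [← Φ.B_inf_N]
  exact ⟨hmem, hn⟩

theorem mem_H_iff_mono_one {n : GL D.Idx F} (hn : n ∈ D.monomialSubgroup F) :
    n ∈ D.diagonalSubgroup F ↔ Φ.Mono n 1 := by
  refine ⟨fun h => ?_, fun h => Φ.mem_H_of_pos hn h fun r hr => hr⟩
  obtain ⟨c, rfl⟩ := Φ.exists_torus_of_mem_H h
  exact Φ.mono_torus c

include Φ in
theorem W_eq_one_of_pos {π : Equiv.Perm (Fin D.nroots)} (hπ : π ∈ Φ.W)
    (h : ∀ r, Φ.toTables.Pos r → Φ.toTables.Pos (π r)) : π = 1 := by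
  obtain ⟨n, hn, hm⟩ := Φ.exists_N_of_W (F := ℚ) hπ
  exact Mono.unique Φ hm ((Φ.mem_H_iff_mono_one hn).mp (Φ.mem_H_of_pos hn hm h))

/-- The longest element: it exchanges positive and negative roots. -/
theorem exists_longest : ∃ π ∈ Φ.W, ∀ r, Φ.toTables.Pos (π r) ↔ ¬ Φ.toTables.Pos r := by
  classical
  let f : Equiv.Perm (Fin D.nroots) → Finset (Fin D.nroots) := fun π =>
    Finset.univ.filter fun r => Φ.toTables.Pos r ∧ ¬ Φ.toTables.Pos (π r)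
  obtain ⟨π, hπ, hmax⟩ := (Finset.univ.filter fun π => π ∈ Φ.W).exists_max_image (fun π => (f π).card)
    ⟨1, by simp [one_mem]⟩
  simp only [Finset.mem_filter, Finset.mem_univ, true_and] at hπ hmax
  have hf : ∀ σ r, r ∈ f σ ↔ Φ.toTables.Pos r ∧ ¬ Φ.toTables.Pos (σ r) := fun σ r => by simp [f]
  have hneg : ∀ i, ¬ Φ.toTables.Pos (π (Φ.p i)) := by
    intro i hp
    have h1 := hmax (π * Φ.reflPerm i) (mul_mem hπ (Φ.reflPerm_mem_W i))
    have hsub : insert (Φ.p i) ((f π).image (Φ.refl i)) ⊆ f (π * Φ.reflPerm i) := by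
      intro r hr
      simp only [Finset.mem_insert, Finset.mem_image, hf, Equiv.Perm.mul_apply, Φ.reflPerm_apply] at hr ⊢
      rcases hr with rfl | ⟨s, ⟨hs, hs'⟩, rfl⟩
      · refine ⟨Φ.p_pos i, ?_⟩
        rw [Φ.refl_p, Φ.W_rev hπ, Φ.pos_rev_iff]
        exact not_not_intro hp
      · have hne : s ≠ Φ.p i := fun e => hs' (e ▸ hp)
        exact ⟨(Φ.refl_pos hs hne).1, by rwa [Φ.refl_refl]⟩
    have hni : Φ.p i ∉ (f π).image (Φ.refl i) := by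
      simp only [Finset.mem_image, hf, not_exists, not_and]
      intro s hs e
      have := congrArg (Φ.refl i) e
      rw [Φ.refl_refl, Φ.refl_p] at this
      have h3 := hs.1
      rw [this, Φ.pos_rev_iff] at h3
      exact h3 (Φ.p_pos i)
    have h2 := Finset.card_le_card hsub
    rw [Finset.card_insert_of_notMem hni,
      Finset.card_image_of_injective _ (Function.LeftInverse.injective (Φ.refl_refl i))] at h2
    omega
  have key : ∀ r, Φ.toTables.Pos r → ¬ Φ.toTables.Pos (π r) := by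
    intro r hr hpr
    have h0 : ∀ j, Φ.V (π r) j = 0 := by
      intro j
      refine le_antisymm ?_ (Φ.V_nonneg _ hpr j)
      rw [Φ.W_lin hπ]
      exact Finset.sum_nonpos fun k _ =>
        mul_nonpos_of_nonneg_of_nonpos (Φ.V_nonneg r hr k) (Φ.V_nonpos _ (hneg k) j)
    have := Φ.code_pos hpr
    have : Φ.toTables.code (π r) = 0 := Finset.sum_eq_zero fun j _ => by rw [h0]; simp
    omega
  refine ⟨π, hπ, fun r => ⟨fun h hr => key r hr h, fun h => ?_⟩⟩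
  have := key r.rev ((Φ.pos_rev_iff r).mpr h)
  rwa [Φ.W_rev hπ, Φ.pos_rev_iff, not_not] at this

theorem map_US_le {S T : Fin D.nroots → Prop} {n : GL D.Idx F} {π : Equiv.Perm (Fin D.nroots)}
    (hm : Φ.Mono n π) (h : ∀ r, S r → T (π r)) :
    ∀ u ∈ Φ.US F S, n * u * n⁻¹ ∈ Φ.US F T := fun u hu =>
  Φ.conj_mem_of_gen (fun r t hr => by
    obtain ⟨c, hc⟩ := Mono.conj Φ hm r t
    rw [hc]; exact Φ.xg_mem_US (h r hr) c) hu

include Φ in
theorem exists_conj_U_eq_V : ∃ n ∈ D.monomialSubgroup F,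
    (D.posUnipotent F).map (MulAut.conj n).toMonoidHom = D.negUnipotent F := by
  obtain ⟨π, hπ, hw⟩ := Φ.exists_longest
  obtain ⟨n, hn, hm⟩ := Φ.exists_N_of_W (F := F) hπ
  obtain ⟨σ, -, h1, h2⟩ := Φ.exists_monoW hn
  obtain rfl := Mono.unique Φ h1 hm
  refine ⟨n, hn, ?_⟩
  rw [Φ.posUnipotent_eq_US, Φ.negUnipotent_eq_US]
  refine le_antisymm ?_ fun v hv => ?_
  · rintro _ ⟨u, hu, rfl⟩
    exact Φ.map_US_le hm (fun r hr => fun h => ((hw r).mp h) hr) u hu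
  · refine ⟨n⁻¹ * v * n, ?_, by simp [mul_assoc]⟩
    have := Φ.map_US_le h2 (T := Φ.toTables.Pos) (fun r (hr : ¬ Φ.toTables.Pos r) => ?_) v hv
    · simpa using this
    · by_contra hc
      have := (hw (σ⁻¹ r)).mpr hc
      rw [← Equiv.Perm.mul_apply, mul_inv_cancel] at this
      exact hr this

include Φ in
theorem normalCore_B : ((D.borelSubgroup F).subgroupOf (D.group F)).normalCore = ⊥ := by
  obtain ⟨n, hn, hmap⟩ := Φ.exists_conj_U_eq_V (F := F)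
  have hH : ∀ g : D.group F, g ∈ ((D.borelSubgroup F).subgroupOf (D.group F)).normalCore →
      (g : GL D.Idx F) ∈ D.diagonalSubgroup F := by
    intro g hg
    have h1 : (g : GL D.Idx F) ∈ D.borelSubgroup F := Subgroup.normalCore_le ((D.borelSubgroup F).subgroupOf (D.group F)) hg
    have h2 := hg ⟨n⁻¹, inv_mem (Φ.N_le_group hn)⟩
    simp only [Subgroup.mem_subgroupOf, Subgroup.coe_mul, InvMemClass.coe_inv, inv_inv] at h2
    obtain ⟨u, hu, h, hh, e⟩ := Φ.mem_B_iff.mp h2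
    have : (g : GL D.Idx F) = (n * u * n⁻¹) * (n * h * n⁻¹) := by
      rw [show (g : GL D.Idx F) = n * (u * h) * n⁻¹ by rw [← e]; group]; group
    rw [← Φ.B_inf_VH]
    refine ⟨h1, this ▸ mul_mem (Subgroup.mem_sup_left ?_) (Subgroup.mem_sup_right ?_)⟩
    · rw [← hmap]; exact ⟨u, hu, rfl⟩
    · exact (Subgroup.mem_normalizer_iff.mp (Φ.N_le_normalizer_H hn) h).mp hh
  rw [Subgroup.eq_bot_iff_forall]
  intro g hg
  obtain ⟨c, hc⟩ := Φ.exists_torus_of_mem_H (hH g hg)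
  have hc1 : c = 1 := by
    funext i
    set x : D.group F := ⟨Φ.toAlg.xg (Φ.p i) 1, Φ.toAlg.xg_mem_group _ _⟩
    have h1 := hH _ (Subgroup.mul_mem _ hg
      ((Subgroup.normalCore_normal _).conj_mem _ (Subgroup.inv_mem _ hg) x))
    have e : (g : GL D.Idx F) * (Φ.toAlg.xg (Φ.p i) 1 * (g : GL D.Idx F)⁻¹ * (Φ.toAlg.xg (Φ.p i) 1)⁻¹) =
        Φ.toAlg.xg (Φ.p i) ((c i : F) + -1) := by
      rw [hc, ← mul_assoc, ← mul_assoc, Φ.toAlg.torus_xg, Φ.toSys.chi_simple, mul_one, mul_inv_cancel_right,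
        ← Φ.toAlg.xg_neg, ← Φ.toAlg.xg_add]
    simp only [Subgroup.coe_mul, InvMemClass.coe_inv, x, e] at h1
    have h2 := Φ.eq_one_of_mem_U_of_mem_N (by rw [Φ.posUnipotent_eq_US]; exact Φ.xg_mem_US (Φ.p_pos i) _)
      (H_le_N h1)
    rw [Φ.toAlg.xg_eq_one_iff, ← sub_eq_add_neg, sub_eq_zero] at h2
    exact Units.ext h2
  exact Subtype.ext (by rw [hc, hc1, map_one]; rfl)

/-! ### Splitting and normal form -/

theorem conj_tail {S : Fin D.nroots → Prop} {a : Fin D.nroots} (ha : Φ.toTables.Pos a)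
    (hgt : ∀ r, S r → Φ.toTables.code a < Φ.toTables.code r)
    (hcl : Φ.Closed fun r => r = a ∨ S r) {u : GL D.Idx F} (hu : u ∈ Φ.US F S) (c : F) :
    Φ.toAlg.xg a c * u * (Φ.toAlg.xg a c)⁻¹ ∈ Φ.US F S := by
  refine Φ.conj_mem_of_gen (fun s v hs => ?_) hu
  have hca := Φ.code_pos ha
  have hsa := hgt s hs
  have hcl' : ∀ x y, (x = a ∨ S x) → (y = a ∨ S y) → Φ.N x y ≠ 0 →
      Φ.toTables.code a < Φ.toTables.code (Φ.S x y) ∧ S (Φ.S x y) := by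
    intro x y hx hy hN
    have hge : ∀ z, (z = a ∨ S z) → Φ.toTables.code a ≤ Φ.toTables.code z := fun z hz =>
      hz.elim (fun e => by rw [e]) (fun h => (hgt z h).le)
    have hlt : Φ.toTables.code a < Φ.toTables.code (Φ.S x y) := by
      rw [Φ.toSys.code_add hN]; have := hge x hx; have := hge y hy; omega
    exact ⟨hlt, (hcl x y hx hy hN).resolve_left fun e => by rw [e] at hlt; omega⟩
  have := Φ.conj_xg_mem (S := S) (r := a) (s := s) (fun e => by rw [e] at hsa; omega)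
    (fun e => by rw [e, Φ.toSys.code_neg] at hsa; omega) hs (fun d hd => Φ.commTerms_mem
      (fun hN => (hcl' a s (Or.inl rfl) (Or.inr hs) hN).2)
      (fun x hx hN => (hcl' a x (Or.inl rfl) (Or.inr hx) hN).2)
      (fun x hx hN => (hcl' s x (Or.inr hs) (Or.inr hx) hN).2) hd) (-c) v
  rwa [← Φ.toAlg.xg_inv, inv_inv] at this

theorem exists_splitList {A : Fin D.nroots → Prop} : ∀ {L : List (Fin D.nroots)}, L.Pairwise (· < ·) →
    (∀ r ∈ L, Φ.toTables.Pos r) → Φ.Closed (fun r => r ∈ L) →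
    ∀ {g : GL D.Idx F}, g ∈ Φ.US F (fun r => r ∈ L) →
      ∃ P ∈ Φ.US F (fun r => r ∈ L ∧ A r), ∃ M ∈ Φ.US F (fun r => r ∈ L ∧ ¬ A r), g = P * M := by
  classical
  intro L
  induction L with
  | nil =>
    intro hs hp hc g hg
    obtain ⟨t, rfl⟩ := Φ.exists_prodL hs hp hc hg
    exact ⟨1, one_mem _, 1, one_mem _, by simp [prodL]⟩
  | cons a L ih =>
    intro hs hp hc g hg
    obtain ⟨t, rfl⟩ := Φ.exists_prodL hs hp hc hg
    rw [List.pairwise_cons] at hs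
    have hlt : ∀ x ∈ L, Φ.toTables.code a < Φ.toTables.code x := fun x hx => Φ.code_strictMono (hs.1 x hx)
    have hca := Φ.code_pos (hp a List.mem_cons_self)
    have hcl : Φ.Closed (fun r => r ∈ L) := by
      intro r s hr hs' hN
      refine (List.mem_cons.mp (hc r s (List.mem_cons_of_mem _ hr) (List.mem_cons_of_mem _ hs') hN)).resolve_left
        fun e => ?_
      have := Φ.toSys.code_add hN
      rw [e] at this
      have := hlt r hr
      have := Φ.code_pos (hp s (List.mem_cons_of_mem _ hs'))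
      omega
    have hp' : ∀ r ∈ L, Φ.toTables.Pos r := fun r hr => hp r (List.mem_cons_of_mem _ hr)
    obtain ⟨P, hP, M, hM, e⟩ := ih hs.2 hp' hcl (Φ.prodL_mem_US L t)
    have hg' : Φ.prodL (a :: L) t = Φ.toAlg.xg a (t a) * (P * M) := by
      rw [← e]; simp [prodL]
    have up : ∀ (Q : Fin D.nroots → Prop), ∀ x ∈ Φ.US F (fun r => r ∈ L ∧ Q r),
        x ∈ Φ.US F (fun r => r ∈ a :: L ∧ Q r) := fun Q x hx =>
      Φ.US_mono (F := F) (S := fun r => r ∈ L ∧ Q r) (fun r hr => ⟨List.mem_cons_of_mem _ hr.1, hr.2⟩) hx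
    by_cases hA : A a
    · refine ⟨Φ.toAlg.xg a (t a) * P, mul_mem (Φ.xg_mem_US (S := fun r => r ∈ a :: L ∧ A r)
        ⟨List.mem_cons_self, hA⟩ _) (up A P hP), M, up _ M hM, ?_⟩
      rw [hg', mul_assoc]
    · have hc1 : Φ.toAlg.xg a (t a) * P * (Φ.toAlg.xg a (t a))⁻¹ ∈ Φ.US F (fun r => r ∈ L) :=
        Φ.conj_tail (hp a List.mem_cons_self) hlt (by simpa [List.mem_cons] using hc)
          (Φ.US_mono (F := F) (S := fun r => r ∈ L ∧ A r) (fun r hr => hr.1) hP) (t a)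
      obtain ⟨P', hP', M', hM', e'⟩ := ih hs.2 hp' hcl hc1
      refine ⟨P', up A P' hP', M' * Φ.toAlg.xg a (t a) * M,
        mul_mem (mul_mem (up _ M' hM') (Φ.xg_mem_US (S := fun r => r ∈ a :: L ∧ ¬ A r)
          ⟨List.mem_cons_self, hA⟩ _)) (up _ M hM), ?_⟩
      rw [hg', show P' * (M' * Φ.toAlg.xg a (t a) * M) = (P' * M') * Φ.toAlg.xg a (t a) * M by group, ← e']
      group

/-- The roots made negative by `π`. -/
def Inv (π : Equiv.Perm (Fin D.nroots)) (r : Fin D.nroots) : Prop :=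
  Φ.toTables.Pos r ∧ ¬ Φ.toTables.Pos (π r)

theorem closed_inv {π : Equiv.Perm (Fin D.nroots)} (hπ : π ∈ Φ.W) : Φ.Closed (Φ.Inv π) := by
  intro r s hr hs hN
  refine ⟨Φ.closed_pos r s hr.1 hs.1 hN, ?_⟩
  have h1 : ¬ 0 < Φ.toTables.code (π r) := fun h => hr.2 ((Φ.code_pos_iff _).mp h)
  have h2 : ¬ 0 < Φ.toTables.code (π s) := fun h => hs.2 ((Φ.code_pos_iff _).mp h)
  rw [← Φ.code_pos_iff, Φ.code_W_add hπ hN]
  omega

theorem exists_split_inv (π : Equiv.Perm (Fin D.nroots)) {g : GL D.Idx F}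
    (hg : g ∈ D.posUnipotent F) :
    ∃ P ∈ Φ.US F (fun r => Φ.toTables.Pos r ∧ Φ.toTables.Pos (π r)), ∃ M ∈ Φ.US F (Φ.Inv π),
      g = P * M := by
  classical
  rw [Φ.posUnipotent_eq_US, ← Φ.US_rootList] at hg
  obtain ⟨P, hP, M, hM, e⟩ := Φ.exists_splitList (A := fun r => Φ.toTables.Pos (π r))
    (pairwise_rootList _) (fun r hr => mem_rootList.mp hr)
    (fun r s hr hs hN => mem_rootList.mpr (Φ.closed_pos r s (mem_rootList.mp hr) (mem_rootList.mp hs) hN)) hg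
  exact ⟨P, Φ.US_mono (F := F) (S := fun r => r ∈ rootList Φ.toTables.Pos ∧ Φ.toTables.Pos (π r))
      (fun r hr => ⟨mem_rootList.mp hr.1, hr.2⟩) hP, M,
    Φ.US_mono (F := F) (S := fun r => r ∈ rootList Φ.toTables.Pos ∧ ¬ Φ.toTables.Pos (π r))
      (fun r hr => ⟨mem_rootList.mp hr.1, hr.2⟩) hM, e⟩

theorem exists_nf {g : GL D.Idx F} (hg : g ∈ D.group F) :
    ∃ b ∈ D.borelSubgroup F, ∃ n ∈ D.monomialSubgroup F, ∃ π, π ∈ Φ.W ∧ Φ.Mono n π ∧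
      ∃ u ∈ Φ.US F (Φ.Inv π), g = b * n * u := by
  obtain ⟨q, hq⟩ := CfsgLib.BN.bruhat (Φ.bnPair F) ⟨g, hg⟩
  obtain ⟨⟨⟨n, hn'⟩, hn⟩, -, ⟨a, ha'⟩, ha, ⟨b, hb'⟩, hb, e⟩ := hq
  have e' : g = a * n * b := congrArg Subtype.val e
  have hn1 : n ∈ D.monomialSubgroup F := hn
  have ha1 : a ∈ D.borelSubgroup F := ha
  obtain ⟨π, hπ, hm, -⟩ := Φ.exists_monoW hn1
  obtain ⟨u, hu, h, hh, rfl⟩ := Φ.mem_B_iff.mp (show b ∈ D.borelSubgroup F from hb)
  obtain ⟨P, hP, M, hM, rfl⟩ := Φ.exists_split_inv π hu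
  refine ⟨a * (n * P * n⁻¹) * (n * h * n⁻¹), ?_, n, hn1, π, hπ, hm, h⁻¹ * M * h, ?_, ?_⟩
  · refine mul_mem (mul_mem ha1 (Subgroup.mem_sup_left ?_)) (Subgroup.mem_sup_right
      ((Subgroup.mem_normalizer_iff.mp (Φ.N_le_normalizer_H hn1) h).mp hh))
    rw [Φ.posUnipotent_eq_US]
    exact Φ.map_US_le hm (fun r hr => hr.2) P hP
  · exact (Subgroup.mem_normalizer_iff'.mp (Φ.H_le_normalizer_US _ hh) (h⁻¹ * M)).mpr (by simpa using hM)
  · rw [e']; group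

include Φ in
theorem cls_eq_of_normal_form {n n' b b' u u' : GL D.Idx F} (hn : n ∈ D.monomialSubgroup F)
    (hn' : n' ∈ D.monomialSubgroup F) (hb : b ∈ D.borelSubgroup F) (hb' : b' ∈ D.borelSubgroup F)
    (hu : u ∈ D.borelSubgroup F) (hu' : u' ∈ D.borelSubgroup F)
    (e : b * n * u = b' * n' * u') : n⁻¹ * n' ∈ D.diagonalSubgroup F := by
  let N₁ : (Φ.bnPair F).N := ⟨⟨n, Φ.N_le_group hn⟩, hn⟩
  let N₂ : (Φ.bnPair F).N := ⟨⟨n', Φ.N_le_group hn'⟩, hn'⟩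
  have h1 : (⟨b * n * u, mul_mem (mul_mem (Φ.B_le_group hb) (Φ.N_le_group hn)) (Φ.B_le_group hu)⟩ : D.group F) ∈
      CfsgLib.BN.cell (Φ.bnPair F) (CfsgLib.BN.cls _ N₁) :=
    (CfsgLib.BN.mem_cell_cls _).mpr ⟨⟨b, Φ.B_le_group hb⟩, hb, ⟨u, Φ.B_le_group hu⟩, hu, rfl⟩
  have h2 : (⟨b * n * u, mul_mem (mul_mem (Φ.B_le_group hb) (Φ.N_le_group hn)) (Φ.B_le_group hu)⟩ : D.group F) ∈
      CfsgLib.BN.cell (Φ.bnPair F) (CfsgLib.BN.cls _ N₂) :=
    (CfsgLib.BN.mem_cell_cls _).mpr ⟨⟨b', Φ.B_le_group hb'⟩, hb', ⟨u', Φ.B_le_group hu'⟩, hu', Subtype.ext e⟩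
  have h3 := (CfsgLib.BN.cls_eq_iff _).mp (CfsgLib.BN.cell_unique _ h1 h2)
  rw [← Φ.B_inf_N]
  exact ⟨h3, Subgroup.mul_mem _ (Subgroup.inv_mem _ hn) hn'⟩

theorem nf_unique {n b b' u u' : GL D.Idx F} {π : Equiv.Perm (Fin D.nroots)}
    (hm : Φ.Mono n π) (hb : b ∈ D.borelSubgroup F) (hb' : b' ∈ D.borelSubgroup F)
    (hu : u ∈ Φ.US F (Φ.Inv π)) (hu' : u' ∈ Φ.US F (Φ.Inv π))
    (e : b * n * u = b' * n * u') : b = b' ∧ u = u' := by
  have hv : n * (u * u'⁻¹) * n⁻¹ ∈ D.negUnipotent F := by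
    rw [Φ.negUnipotent_eq_US]
    exact Φ.map_US_le hm (T := fun r => ¬ Φ.toTables.Pos r) (fun r hr => hr.2) _
      (Subgroup.mul_mem _ hu (Subgroup.inv_mem _ hu'))
  have e2 : n * (u * u'⁻¹) * n⁻¹ = b⁻¹ * b' := by
    rw [show u = (b * n)⁻¹ * (b' * n * u') by rw [← e]; group]; group
  have h1 : b⁻¹ * b' ∈ D.borelSubgroup F ⊓ D.negUnipotent F :=
    ⟨Subgroup.mul_mem _ (Subgroup.inv_mem _ hb) hb', e2 ▸ hv⟩
  rw [Φ.B_inf_V, Subgroup.mem_bot] at h1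
  have hbb : b = b' := inv_mul_eq_one.mp h1
  subst hbb
  exact ⟨rfl, mul_left_cancel e⟩

theorem inv_le_B (π : Equiv.Perm (Fin D.nroots)) : Φ.US F (Φ.Inv π) ≤ D.borelSubgroup F := by
  refine le_trans (Φ.US_mono (T := Φ.toTables.Pos) fun r hr => hr.1) ?_
  rw [← Φ.posUnipotent_eq_US]
  exact le_sup_left

theorem root_conj_le_V_iff {n : GL D.Idx F} {π : Equiv.Perm (Fin D.nroots)} (hm : Φ.Mono n π)
    (r : Fin D.nroots) :
    (D.rootSubgroup F r.val).map (MulAut.conj n).toMonoidHom ≤ D.negUnipotent F ↔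
      ¬ Φ.toTables.Pos (π r) := by
  constructor
  · intro h hp
    obtain ⟨a, ha, h1, -⟩ := hm.1 r
    have h2 : n * Φ.toAlg.xg r 1 * n⁻¹ ∈ D.negUnipotent F :=
      h ⟨_, (Φ.toAlg.mem_rootSubgroup (F := F) (r := r)).mpr ⟨1, rfl⟩, rfl⟩
    rw [h1 1] at h2
    have h3 : Φ.toAlg.xg (π r) (a * 1) ∈ D.borelSubgroup F ⊓ D.negUnipotent F := ⟨Φ.xg_mem_B hp _, h2⟩
    rw [Φ.B_inf_V, Subgroup.mem_bot, Φ.toAlg.xg_eq_one_iff, mul_one] at h3
    exact ha h3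
  · rintro hp _ ⟨x, hx, rfl⟩
    obtain ⟨t, rfl⟩ := (Φ.toAlg.mem_rootSubgroup (F := F) (r := r)).mp hx
    obtain ⟨c, hc⟩ := Mono.conj Φ hm r t
    rw [Φ.negUnipotent_eq_US]
    show n * Φ.toAlg.xg r t * n⁻¹ ∈ _
    rw [hc]; exact Φ.xg_mem_US (S := fun r => ¬ Φ.toTables.Pos r) hp c

theorem closure_negated_eq {n : GL D.Idx F} {π : Equiv.Perm (Fin D.nroots)} (hm : Φ.Mono n π) :
    Subgroup.closure {x : GL D.Idx F | ∃ (r : ℕ) (t : F), D.IsPosRoot r ∧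
      (D.rootSubgroup F r).map (MulAut.conj n).toMonoidHom ≤ D.negUnipotent F ∧
      (x : Matrix D.Idx D.Idx F) = D.x F r t} = Φ.US F (Φ.Inv π) := by
  rw [US]
  congr 1
  ext g
  constructor
  · rintro ⟨r, t, hr, hle, hg⟩
    exact ⟨⟨r, hr.1⟩, t, ⟨(Φ.posRoot_iff ⟨r, hr.1⟩).mp hr, (Φ.root_conj_le_V_iff hm ⟨r, hr.1⟩).mp hle⟩,
      (Φ.toAlg.eq_xg_iff (r := ⟨r, hr.1⟩).mp hg).symm⟩
  · rintro ⟨r, t, hr, rfl⟩
    exact ⟨r.val, t, (Φ.posRoot_iff r).mpr hr.1, (Φ.root_conj_le_V_iff hm r).mpr hr.2,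
      Φ.toAlg.eq_xg_iff.mpr rfl⟩

include Φ in
/-- Two elements of `H` conjugate in `G` are conjugate in `N`. -/
theorem conj_in_N {h₁ h₂ g : GL D.Idx F} (h1 : h₁ ∈ D.diagonalSubgroup F)
    (h2 : h₂ ∈ D.diagonalSubgroup F) (hg : g ∈ D.group F) (hc : g * h₁ * g⁻¹ = h₂) :
    ∃ n ∈ D.monomialSubgroup F, n * h₁ * n⁻¹ = h₂ := by
  obtain ⟨b, hb, n, hn, π, -, hm, u, hu, rfl⟩ := Φ.exists_nf hg
  refine ⟨n, hn, ?_⟩
  have hy : n * h₁ * n⁻¹ ∈ D.diagonalSubgroup F :=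
    (Subgroup.mem_normalizer_iff.mp (Φ.N_le_normalizer_H hn) h₁).mp h1
  have hu1 : h₁⁻¹ * u * h₁ ∈ Φ.US F (Φ.Inv π) :=
    (Subgroup.mem_normalizer_iff'.mp (Φ.H_le_normalizer_US _ h1) (h₁⁻¹ * u)).mpr (by simpa using hu)
  have e : (b * (n * h₁ * n⁻¹)) * n * (h₁⁻¹ * u * h₁) = (h₂ * b) * n * u := by
    rw [← hc]; group
  obtain ⟨e1, -⟩ := Φ.nf_unique hm (Subgroup.mul_mem _ hb (Subgroup.mem_sup_right hy))
    (Subgroup.mul_mem _ (Subgroup.mem_sup_right h2) hb) hu1 hu e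
  obtain ⟨u0, hu0, h0, hh0, rfl⟩ := Φ.mem_B_iff.mp hb
  set y := n * h₁ * n⁻¹
  have c1 : Commute h0 y := Φ.H_comm hh0 hy
  have hcom : h₂⁻¹ * u0⁻¹ * h₂ * u0 ∈ D.posUnipotent F := by
    refine Subgroup.mul_mem _ ?_ hu0
    exact (Subgroup.mem_normalizer_iff'.mp (Φ.H_le_normalizer_U h2) (h₂⁻¹ * u0⁻¹)).mpr
      (by simpa using Subgroup.inv_mem _ hu0)
  have e3 : h₂⁻¹ * u0⁻¹ * h₂ * u0 = h₂⁻¹ * y := by
    have e4 : u0 * y = h₂ * u0 := by
      refine mul_right_cancel (b := h0) ?_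
      rw [mul_assoc u0 y, ← c1.eq, ← mul_assoc, e1, mul_assoc]
    rw [show h₂⁻¹ * u0⁻¹ * h₂ * u0 = h₂⁻¹ * u0⁻¹ * (h₂ * u0) by group, ← e4]; group
  have := Φ.eq_one_of_mem_U_of_mem_N hcom
    (e3 ▸ H_le_N (Subgroup.mul_mem _ (Subgroup.inv_mem _ h2) hy))
  rw [e3, inv_mul_eq_one] at this
  exact this.symm

end Chev

end CfsgLib.Chev
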