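/-
Translation between words of the datum and products in the group.
-/
import Cfsg.Agent.Lib.Chev.HN

namespace CfsgLib.Chev

open Cfsg.Lie Matrix

set_option linter.dupNamespace false

variable {D : ChevalleyDatum}

namespace Chev

variable (Φ : Chev D) {F : Type*} [Field F]

include Φ in
theorem posRoots_eq : D.posRoots = (rootList Φ.toTables.Pos).map Fin.val := by
  rw [ChevalleyDatum.posRoots, rootList, ← List.map_coe_finRange_eq_range, List.filter_map]
  congr 1
  refine List.filter_congr fun r _ => ?_
  have h := Φ.posRoot_iff r
  simp only [Function.comp, decide_eq_decide]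
  exact h

theorem wordMat_map_val (L : List (Fin D.nroots)) (t : ℕ → F) :
    D.wordMat F ((L.map Fin.val).map fun r => (r, t r)) =
      (Φ.prodL L fun r => t r.val : Matrix D.Idx D.Idx F) := by
  induction L with
  | nil => simp [ChevalleyDatum.wordMat, prodL]
  | cons a L ih =>
    simp only [List.map_cons, Alg.wordMat_cons, ih, prodL, List.prod_cons, Units.val_mul, Φ.toAlg.x_val]

theorem wordMat_hWords (L : List (Fin D.rank)) (c : ℕ → F) (hc : ∀ k : Fin D.rank, c k.val ≠ 0) :
    D.wordMat F ((L.map Fin.val).flatMap fun i => D.hWord (D.simple i) (c i)) =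
      ((L.map fun k => Φ.hw (Φ.p k) (Units.mk0 _ (hc k))).prod : GL D.Idx F) := by
  induction L with
  | nil => simp [ChevalleyDatum.wordMat]
  | cons a L ih =>
    simp only [List.map_cons, List.flatMap_cons, ChevalleyDatum.wordMat, List.map_append,
      List.prod_append, List.prod_cons, Units.val_mul] at ih ⊢
    rw [ih, Φ.hw_val, Φ.simple_val, Units.val_mk0]
    rfl

end Chev

end CfsgLib.Chev
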