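/-
Kernel and centre of the presented group for the seven tabulated types.
-/
import Cfsg.Agent.Lib.Chev.Steinberg
import Cfsg.Agent.Lib.Chev.Inst

namespace CfsgLib.Chev

open Cfsg.Lie

set_option maxRecDepth 100000
set_option linter.dupNamespace false

/-- Each node has a neighbour, on the tables of the datum. -/
def adjCheck (D : ChevalleyDatum) : Bool :=
  (List.range D.rank).all fun i => (List.range D.rank).any fun j =>
    !(Nat.beq j i) && decide (D.cartan j (D.simple i) ≠ 0)

theorem adjG2 : adjCheck Cfsg.Lie.chevG2 = true := by decide +kernel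
theorem adjB2 : adjCheck Cfsg.Lie.chevB2 = true := by decide +kernel
theorem adjD4 : adjCheck Cfsg.Lie.chevD4 = true := by decide +kernel
theorem adjF4 : adjCheck Cfsg.Lie.chevF4 = true := by decide +kernel
theorem adjE6 : adjCheck Cfsg.Lie.chevE6 = true := by decide +kernel
theorem adjE7 : adjCheck Cfsg.Lie.chevE7 = true := by decide +kernel
theorem adjE8 : adjCheck Cfsg.Lie.chevE8 = true := by decide +kernel

theorem Chev.adj_of_check {D : ChevalleyDatum} (Φ : Chev D) (h : adjCheck D = true) : Φ.Adj := by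
  intro i
  simp only [adjCheck, List.all_eq_true, List.any_eq_true, List.mem_range, Bool.and_eq_true,
    Bool.not_eq_true', decide_eq_true_eq] at h
  obtain ⟨j, hj, hji, hA⟩ := h i.val i.isLt
  refine ⟨⟨j, hj⟩, fun e => by simp [← e] at hji, ?_⟩
  rw [Φ.simple_val i, Φ.cartan_val ⟨j, hj⟩ (Φ.p i)] at hA
  exact hA

theorem exists_adj {D : ChevalleyDatum}
    (hD : D ∈ [Cfsg.Lie.chevG2, Cfsg.Lie.chevB2, Cfsg.Lie.chevD4, Cfsg.Lie.chevF4, Cfsg.Lie.chevE6,
      Cfsg.Lie.chevE7, Cfsg.Lie.chevE8]) : ∃ Φ : Chev D, Φ.Adj := by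
  simp only [List.mem_cons, List.not_mem_nil, or_false] at hD
  rcases hD with rfl | rfl | rfl | rfl | rfl | rfl | rfl
  exacts [⟨chevG2, chevG2.adj_of_check adjG2⟩, ⟨chevB2, chevB2.adj_of_check adjB2⟩,
    ⟨chevD4, chevD4.adj_of_check adjD4⟩, ⟨chevF4, chevF4.adj_of_check adjF4⟩,
    ⟨chevE6, chevE6.adj_of_check adjE6⟩, ⟨chevE7, chevE7.adj_of_check adjE7⟩,
    ⟨chevE8, chevE8.adj_of_check adjE8⟩]

namespace Chev

variable {D : ChevalleyDatum} (Φ : Chev D) {F : Type*} [Field F]

theorem eq_proj (θ : D.SteinbergGroup F →* GL D.Idx F)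
    (h : ∀ r t, θ (Φ.gx r t) = Φ.toAlg.xg r t) : θ = Φ.proj F := by
  refine MonoidHom.ext fun g => ?_
  refine Φ.gen_induction (Q := fun g => θ g = Φ.proj F g) (by simp) (fun r t y hy => ?_) g
  rw [map_mul, map_mul, h, Φ.proj_gx, hy]

theorem mk_stH (i : Fin D.rank) (t : Fˣ) :
    PresentedGroup.mk (D.steinbergRels F) (D.stH (D.simple i.val) (t : F)) = Φ.gh (Φ.p i) t := by
  have hn : D.neg (Φ.p i).val = (Φ.p i).rev.val := Φ.negIdx_eq _
  simp only [ChevalleyDatum.stH, ChevalleyDatum.hWord, ChevalleyDatum.nWord, ChevalleyDatum.stWord,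
    Φ.simple_val, hn, List.cons_append, List.nil_append, List.map_cons, List.map_nil, List.prod_cons,
    List.prod_nil, mul_one, map_mul, gh, gn, gx, ChevalleyDatum.stGen, Units.val_neg, Units.val_one, mul_assoc]

/-- The homomorphism from tuples onto the diagonal subgroup of the presented group. -/
theorem mem_gH_form {g : D.SteinbergGroup F} (hadj : Φ.Adj) (hg : g ∈ Φ.gH F) :
    ∃ c : Fin D.rank → Fˣ, g = ((List.finRange D.rank).map fun k => Φ.gh (Φ.p k) (c k)).prod := by
  have hmul : ∀ (r : Fin D.nroots) (a b : Fˣ), Φ.gh r a * Φ.gh r b = Φ.gh r (a * b) := by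
    intro r a b
    have h : PresentedGroup.mk (D.steinbergRels F)
        (D.stH r.val (a : F) * D.stH r.val (b : F) * (D.stH r.val ((a : F) * b))⁻¹) = 1 :=
      PresentedGroup.one_of_mem (Or.inr ⟨r.val, a, b, r.isLt, a.ne_zero, b.ne_zero, rfl⟩)
    rw [map_mul, map_mul, map_inv, mul_inv_eq_one] at h
    have e : ∀ c : Fˣ, PresentedGroup.mk (D.steinbergRels F) (D.stH r.val (c : F)) = Φ.gh r c := by
      intro c
      have hn : D.neg r.val = r.rev.val := Φ.negIdx_eq _
      simp only [ChevalleyDatum.stH, ChevalleyDatum.hWord, ChevalleyDatum.nWord, ChevalleyDatum.stWord,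
        hn, List.cons_append, List.nil_append, List.map_cons, List.map_nil, List.prod_cons,
        List.prod_nil, mul_one, map_mul, gh, gn, gx, ChevalleyDatum.stGen, Units.val_neg, Units.val_one, mul_assoc]
    rw [← e, ← e, ← e, Units.val_mul]
    exact h
  have hone : ∀ r : Fin D.nroots, Φ.gh r (1 : Fˣ) = 1 := fun r =>
    mul_left_cancel (a := Φ.gh r 1) (by rw [hmul, one_mul, mul_one])
  have hcomm : ∀ i j (a b : Fˣ), Commute (Φ.gh (Φ.p i) a) (Φ.gh (Φ.p j) b) := by
    intro i j a b
    set h := Φ.gh (Φ.p i) a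
    have hh : Φ.Nice h := Φ.nice_of_gN hadj (Φ.gH_le_gN (Φ.gh_mem_gH i a))
    have hp : Φ.proj F h = Φ.toAlg.torus (Φ.coChar (Φ.p i) a) := by rw [Φ.proj_gh, Φ.hw_eq]
    set c : Fˣ := Φ.toSys.chi (Φ.coChar (Φ.p i) a) (Φ.p j)
    have e : ∀ t : Fˣ, h * Φ.gn (Φ.p j) t * h⁻¹ = Φ.gn (Φ.p j) (c * t) := by
      intro t
      refine Nice.conj_gn Φ hh ?_ ?_
      · rw [hp, Φ.toAlg.torus_xg, mul_inv_cancel_right, Units.val_mul]
      · rw [hp, Φ.toAlg.torus_xg, mul_inv_cancel_right, Φ.toSys.chi_neg]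
        congr 1
        simp [c, Units.val_inv_eq_inv_val, mul_comm]
    have hgn : ∀ t : Fˣ, Φ.gn (Φ.p j) t = Φ.gh (Φ.p j) t * Φ.gn (Φ.p j) 1 := Φ.gn_p_eq j
    show h * Φ.gh (Φ.p j) b = Φ.gh (Φ.p j) b * h
    rw [← mul_inv_eq_iff_eq_mul]
    rw [show h * Φ.gh (Φ.p j) b * h⁻¹ = (h * Φ.gn (Φ.p j) b * h⁻¹) * (h * Φ.gn (Φ.p j) (-1) * h⁻¹) by
      rw [gh]; group, e, e, mul_neg, mul_one, Φ.gn_neg, hgn, hgn c, _root_.mul_inv_rev, ← mul_assoc,
      mul_inv_cancel_right, mul_inv_eq_iff_eq_mul, hmul, mul_comm b c]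
  induction hg using Subgroup.closure_induction with
  | mem x hx =>
    obtain ⟨i, t, rfl⟩ := hx
    refine ⟨Function.update 1 i t, ?_⟩
    have key : ∀ L : List (Fin D.rank), L.Nodup →
        (L.map fun k => Φ.gh (Φ.p k) (Function.update (1 : Fin D.rank → Fˣ) i t k)).prod =
          if i ∈ L then Φ.gh (Φ.p i) t else 1 := by
      intro L
      induction L with
      | nil => simp
      | cons a L ih =>
        intro hnd
        rw [List.nodup_cons] at hnd
        rw [List.map_cons, List.prod_cons, ih hnd.2]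
        by_cases ha : a = i
        · subst ha; rw [Function.update_self, if_neg hnd.1, mul_one, if_pos List.mem_cons_self]
        · rw [Function.update_of_ne ha, Pi.one_apply, hone, one_mul]
          simp [Ne.symm ha]
    rw [key _ (List.nodup_finRange _), if_pos (List.mem_finRange i)]
  | one =>
    refine ⟨1, (List.prod_eq_one fun x hx => ?_).symm⟩
    obtain ⟨k, _, rfl⟩ := List.mem_map.mp hx
    exact hone _
  | mul x y _ _ hx hy =>
    obtain ⟨a, rfl⟩ := hx
    obtain ⟨b, rfl⟩ := hy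
    refine ⟨a * b, ?_⟩
    induction List.finRange D.rank with
    | nil => simp
    | cons k L ih =>
      simp only [List.map_cons, List.prod_cons, Pi.mul_apply] at ih ⊢
      rw [← hmul, ← ih]
      have hc : Commute (L.map fun k => Φ.gh (Φ.p k) (a k)).prod (Φ.gh (Φ.p k) (b k)) :=
        Commute.list_prod_left _ _ fun x hx => by
          obtain ⟨l, _, rfl⟩ := List.mem_map.mp hx
          exact hcomm l k _ _
      rw [mul_assoc, ← mul_assoc (List.prod _), hc.eq]
      simp only [mul_assoc]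
  | inv x _ hx =>
    obtain ⟨a, rfl⟩ := hx
    refine ⟨a⁻¹, ?_⟩
    rw [inv_eq_iff_mul_eq_one]
    induction List.finRange D.rank with
    | nil => simp
    | cons k L ih =>
      simp only [List.map_cons, List.prod_cons]
      have hc : Commute (L.map fun k => Φ.gh (Φ.p k) (a k)).prod (Φ.gh (Φ.p k) (a⁻¹ k)) :=
        Commute.list_prod_left _ _ fun x hx => by
          obtain ⟨l, _, rfl⟩ := List.mem_map.mp hx
          exact hcomm l k _ _
      rw [mul_assoc, ← mul_assoc (List.prod _) (Φ.gh _ _), hc.eq, mul_assoc, ih, mul_one, hmul,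
        Pi.inv_apply, mul_inv_cancel, hone]

/-- An integer left inverse of the Cartan matrix makes the presented group centreless. -/
theorem center_eq_bot (hadj : Φ.Adj) (B : Fin D.rank → Fin D.rank → ℤ)
    (hB : ∀ k i, ∑ j, Φ.A k (Φ.p j) * B j i = if k = i then 1 else 0) :
    Subgroup.center (D.SteinbergGroup F) = ⊥ := by
  rw [← Φ.ker_proj_eq_center hadj, Subgroup.eq_bot_iff_forall]
  intro g hg
  obtain ⟨c, rfl⟩ := Φ.mem_gH_form hadj (Φ.ker_le_gH hadj hg)
  rw [MonoidHom.mem_ker, map_list_prod, List.map_map] at hg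
  have hT : Φ.toAlg.torus (Φ.coHom F c) = 1 := by
    rw [Φ.coHom_mem, ← hg]
    congr 1
    exact List.map_congr_left fun k _ => (Φ.proj_gh _ _).symm
  have hc : Φ.coHom F c = 1 := Φ.torus_injective (by rw [hT, map_one])
  have hone : ∀ i, c i = 1 := by
    intro i
    have hp : ∀ (S : Finset (Fin D.rank)) (x : Fˣ) (K : Fin D.rank → ℤ),
        ∏ j ∈ S, x ^ K j = x ^ ∑ j ∈ S, K j := by
      intro S x K
      induction S using Finset.induction_on with
      | empty => simp
      | insert j S hj ih => rw [Finset.prod_insert hj, Finset.sum_insert hj, ih, _root_.zpow_add]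
    have h1 : ∏ j, (Φ.coHom F c j) ^ B j i = 1 := by simp [hc]
    have h2 : ∏ j, (Φ.coHom F c j) ^ B j i = ∏ k, c k ^ (∑ j, Φ.A k (Φ.p j) * B j i) := by
      simp only [coHom, MonoidHom.coe_mk, OneHom.coe_mk, ← Finset.prod_zpow, ← _root_.zpow_mul]
      rw [Finset.prod_comm]
      exact Finset.prod_congr rfl fun k _ => hp _ _ _
    rw [h1] at h2
    simp only [hB] at h2
    rw [Finset.prod_eq_single i (fun k _ hk => by simp [hk]) (by simp), if_pos rfl, zpow_one] at h2
    exact h2.symm
  refine List.prod_eq_one fun x hx => ?_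
  obtain ⟨k, _, rfl⟩ := List.mem_map.mp hx
  rw [hone]
  have := Φ.proj_gh (F := F) (Φ.p k) 1
  simp [gh, Φ.gn_neg]

end Chev

/-- The matrix is an inverse of the Cartan matrix of the datum. -/
def invCheck (D : ChevalleyDatum) (B : List (List ℤ)) : Bool :=
  (List.range D.rank).all fun k => (List.range D.rank).all fun i =>
    decide (((List.range D.rank).map fun j => D.cartan k (D.simple j) * (B.getD j []).getD i 0).sum =
      if k = i then 1 else 0)

theorem Chev.center_bot_of_check {D : ChevalleyDatum} (Φ : Chev D) {F : Type*} [Field F]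
    {B : List (List ℤ)} (h1 : adjCheck D = true) (h2 : invCheck D B = true) :
    Subgroup.center (D.SteinbergGroup F) = ⊥ := by
  refine Φ.center_eq_bot (Φ.adj_of_check h1) (fun j i => (B.getD j.val []).getD i.val 0) fun k i => ?_
  simp only [invCheck, List.all_eq_true, List.mem_range, decide_eq_true_eq] at h2
  have h := h2 k.val k.isLt i.val i.isLt
  rw [show (if k = i then (1 : ℤ) else 0) = if k.val = i.val then 1 else 0 by simp [Fin.ext_iff], ← h,
    ← List.map_coe_finRange_eq_range, List.map_map, ← Fin.sum_univ_def]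
  exact Finset.sum_congr rfl fun j _ => by
    simp only [Function.comp_apply, Φ.simple_val j, Φ.cartan_val k (Φ.p j)]

end CfsgLib.Chev
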