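/-
Endomorphisms of Chevalley groups given by a permutation of the roots, exponents and signs.
-/
import Cfsg.Agent.Lib.Chev.SteinbergData

namespace CfsgLib.Chev

open Cfsg.Lie Matrix

set_option linter.dupNamespace false
set_option linter.unusedSimpArgs false

/-- The data `r ↦ (ρ r, λ r, ε r)` of a map `x_r(t) ↦ x_{ρ r}(ε_r t ^ λ_r)`. -/
structure MorData where
  rho : List ℕ
  lam : List ℕ
  eps : List ℤ

namespace MorData

variable (M : MorData)

/-- The image root. -/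
def ρ (r : ℕ) : ℕ := M.rho.getD r 0
/-- The exponent. -/
def l (r : ℕ) : ℕ := M.lam.getD r 0
/-- The sign. -/
def e (r : ℕ) : ℤ := M.eps.getD r 0

/-- Normal form of an integer in characteristic `p`. -/
def norm (p : ℕ) (c : ℤ) : ℤ := if p = 0 then c else c % (p : ℤ)

/-- The image of the commutator word of a pair. -/
def img (D : ChevalleyDatum) (p : ℕ) (r s : ℕ) : List (ℕ × ℤ × ℕ × ℕ) :=
  (D.commTerms r s).filterMap fun c =>
    if norm p c.2.1 = 0 then none
    else some (M.ρ c.1, norm p (M.e c.1 * c.2.1), c.2.2.1 * M.l c.1, c.2.2.2 * M.l c.1)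

/-- The commutator word of the image pair. -/
def tgt (D : ChevalleyDatum) (p : ℕ) (r s : ℕ) : List (ℕ × ℤ × ℕ × ℕ) :=
  (D.commTerms (M.ρ r) (M.ρ s)).filterMap fun c =>
    if norm p c.2.1 = 0 then none
    else some (c.1, norm p (c.2.1 * M.e r ^ c.2.2.1 * M.e s ^ c.2.2.2), c.2.2.1 * M.l r, c.2.2.2 * M.l s)

/-- Remove `a`, moving it to the front past terms commuting with it. -/
def pull (D : ChevalleyDatum) (a : ℕ × ℤ × ℕ × ℕ) :
    List (ℕ × ℤ × ℕ × ℕ) → Option (List (ℕ × ℤ × ℕ × ℕ))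
  | [] => none
  | b :: L =>
    if a = b then some L
    else if Nat.blt a.1 D.nroots && Nat.blt b.1 D.nroots && !(Nat.beq b.1 (D.neg a.1)) &&
        (D.chainEntry a.1 b.1).isEmpty then
      (pull D a L).map (b :: ·)
    else none

/-- Equality up to commuting terms. -/
def reorder (D : ChevalleyDatum) : List (ℕ × ℤ × ℕ × ℕ) → List (ℕ × ℤ × ℕ × ℕ) → Bool
  | [], M => M.isEmpty
  | a :: L, M => match pull D a M with
    | some M' => reorder D L M'
    | none => false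

/-- The check of all conditions. -/
def check (D : ChevalleyDatum) (p : ℕ) : Bool :=
  (List.range D.nroots).all fun r =>
    Nat.blt (M.ρ r) D.nroots && (Nat.beq (M.l r) 1 || (Nat.beq (M.l r) p && !(Nat.beq p 0))) &&
    (M.e r == 1 || M.e r == -1) &&
    Nat.beq (M.ρ (D.neg r)) (D.neg (M.ρ r)) && Nat.beq (M.l (D.neg r)) (M.l r) && (M.e (D.neg r) == M.e r) &&
    ((List.range D.nroots).any fun s => Nat.beq (M.ρ s) r) &&
    (List.range D.nroots).all fun s =>
      Nat.beq s r || Nat.beq s (D.neg r) ||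
        (!(Nat.beq (M.ρ s) (M.ρ r)) && !(Nat.beq (M.ρ s) (D.neg (M.ρ r))) &&
          reorder D (M.img D p r s) (M.tgt D p r s))

end MorData

variable {D : ChevalleyDatum}

namespace Chev

variable (Φ : Chev D) {F : Type*} [Field F]

/-- The value of a list of terms. -/
def tval (t u : F) (L : List (ℕ × ℤ × ℕ × ℕ)) : GL D.Idx F :=
  (L.map fun c => if h : c.1 < D.nroots then
    Φ.toAlg.xg ⟨c.1, h⟩ ((c.2.1 : F) * (-t) ^ c.2.2.1 * u ^ c.2.2.2) else 1).prod

theorem tval_val (t u : F) (L : List (ℕ × ℤ × ℕ × ℕ)) :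
    (Φ.tval t u L : Matrix D.Idx D.Idx F) = Φ.toSys.termProd F L t u := by
  induction L with
  | nil => simp [tval, Sys.termProd]
  | cons c L ih =>
    simp only [tval, Sys.termProd, List.map_cons, List.prod_cons, Units.val_mul] at ih ⊢
    rw [ih]
    congr 1
    by_cases h : c.1 < D.nroots <;> simp [Sys.XN, h]

theorem tval_pull (t u : F) {a : ℕ × ℤ × ℕ × ℕ} : ∀ {L L' : List (ℕ × ℤ × ℕ × ℕ)},
    MorData.pull D a L = some L' → Φ.tval t u L = Φ.tval t u (a :: L') := by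
  intro L
  induction L with
  | nil => intro L' h; simp [MorData.pull] at h
  | cons b L ih =>
    intro L' h
    rw [MorData.pull] at h
    split_ifs at h with h1 h2
    · obtain rfl : L = L' := by simpa using h
      rw [h1]
    · obtain ⟨L'', hL, rfl⟩ := Option.map_eq_some_iff.mp h
      simp only [Bool.and_eq_true, Nat.blt_eq, Bool.not_eq_true', List.isEmpty_iff] at h2
      obtain ⟨⟨⟨ha, hb⟩, hneg⟩, hempty⟩ := h2
      have hN : Φ.N ⟨a.1, ha⟩ ⟨b.1, hb⟩ = 0 := by
        by_contra hne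
        rw [show D.chainEntry a.1 b.1 = _ from Φ.toSys.chainEntry_eq ⟨a.1, ha⟩ ⟨b.1, hb⟩] at hempty
        rw [Tables.entry, if_neg (by rw [Φ.toSys.ch_one_snd]; exact hne)] at hempty
        simp at hempty
      have hne : (⟨b.1, hb⟩ : Fin D.nroots) ≠ (⟨a.1, ha⟩ : Fin D.nroots).rev := fun e => by
        have : b.1 = D.neg a.1 := (congrArg Fin.val e).trans (Φ.negIdx_eq ⟨a.1, ha⟩).symm
        simp [this] at hneg
      have e := ih hL
      simp only [tval, List.map_cons, List.prod_cons, dif_pos ha, dif_pos hb] at e ⊢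
      rw [e, ← mul_assoc, ← mul_assoc, (Φ.toAlg.xg_commute hne hN _ _).eq]

theorem tval_reorder (t u : F) : ∀ {L L' : List (ℕ × ℤ × ℕ × ℕ)},
    MorData.reorder D L L' = true → Φ.tval t u L = Φ.tval t u L' := by
  intro L
  induction L with
  | nil => intro L' h; simp only [MorData.reorder, List.isEmpty_iff] at h; rw [h]
  | cons a L ih =>
    intro L' h
    rw [MorData.reorder] at h
    split at h
    · rename_i M' hM
      rw [Φ.tval_pull t u hM]
      simp only [tval, List.map_cons, List.prod_cons] at ih ⊢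
      rw [ih h]
    · simp at h

/-- The conditions on the field for the data. -/
structure MorOK (F : Type*) [Field F] (p : ℕ) : Prop where
  cast_norm : ∀ c : ℤ, ((MorData.norm p c : ℤ) : F) = (c : F)
  add_pow : p ≠ 0 → ∀ a b : F, (a + b) ^ p = a ^ p + b ^ p
  neg_pow : p ≠ 0 → ∀ a : F, (-a) ^ p = -(a ^ p)
  int_pow : p ≠ 0 → ∀ c : ℤ, (c : F) ^ p = (c : F)
  surj : p ≠ 0 → ∀ x : F, ∃ y : F, y ^ p = x

theorem morOK_zero (F : Type*) [Field F] : MorOK F 0 :=
  ⟨fun c => by simp [MorData.norm], fun h => absurd rfl h, fun h => absurd rfl h, fun h => absurd rfl h,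
    fun h => absurd rfl h⟩

theorem morOK_prime (F : Type*) [Field F] (p : ℕ) [Fact p.Prime] [CharP F p]
    (hperf : ∀ x : F, ∃ y : F, y ^ p = x) : MorOK F p where
  cast_norm c := by
    rw [MorData.norm, if_neg (Fact.out : p.Prime).ne_zero]
    conv_rhs => rw [← Int.emod_add_mul_ediv c (p : ℤ)]
    simp
  add_pow _ a b := add_pow_char a b p
  neg_pow _ a := by rw [← frobenius_def, map_neg, frobenius_def]
  int_pow _ c := by rw [← frobenius_def, map_intCast]
  surj _ := hperf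

section

variable {p : ℕ} {M : MorData}

theorem check_root (hM : M.check D p = true) {r : ℕ} (hr : r < D.nroots) :
    M.ρ r < D.nroots ∧ (M.l r = 1 ∨ (M.l r = p ∧ p ≠ 0)) ∧ (M.e r = 1 ∨ M.e r = -1) ∧
      M.ρ (D.neg r) = D.neg (M.ρ r) ∧ M.l (D.neg r) = M.l r ∧ M.e (D.neg r) = M.e r ∧
      (∃ s, s < D.nroots ∧ M.ρ s = r) ∧
      ∀ s < D.nroots, s ≠ r → s ≠ D.neg r → M.ρ s ≠ M.ρ r ∧ M.ρ s ≠ D.neg (M.ρ r) ∧
        MorData.reorder D (M.img D p r s) (M.tgt D p r s) = true := by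
  simp only [MorData.check, List.all_eq_true, List.any_eq_true, List.mem_range, Bool.and_eq_true,
    Bool.or_eq_true, Nat.blt_eq, Nat.beq_eq, Bool.not_eq_true', beq_iff_eq] at hM
  obtain ⟨⟨⟨⟨⟨⟨⟨h1, h2⟩, h3⟩, h4⟩, h5⟩, h6⟩, ⟨s, hs, h7⟩⟩, h8⟩ := hM r hr
  refine ⟨h1, ?_, h3, h4, h5, h6, ⟨s, hs, h7⟩, fun s hs hsr hsn => ?_⟩
  · rcases h2 with h | ⟨ha, hb⟩
    · exact Or.inl h
    · exact Or.inr ⟨ha, fun e => by simp [e] at hb⟩
  · rcases h8 s hs with h | h
    · exact absurd h (by tauto)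
    · obtain ⟨⟨ha, hb⟩, hc⟩ := h
      exact ⟨fun e => by simp [e] at ha, fun e => by simp [e] at hb, hc⟩

theorem lam_facts (hF : MorOK F p) (hM : M.check D p = true) {r : ℕ} (hr : r < D.nroots) :
    (∀ a b : F, (a + b) ^ M.l r = a ^ M.l r + b ^ M.l r) ∧ (∀ a : F, (-a) ^ M.l r = -(a ^ M.l r)) ∧
      (∀ c : ℤ, (c : F) ^ M.l r = (c : F)) ∧ (∀ x : F, ∃ y : F, y ^ M.l r = x) ∧ M.l r ≠ 0 := by
  rcases (check_root hM hr).2.1 with h | ⟨h, hp⟩ <;> rw [h]
  · exact ⟨fun a b => by simp, fun a => by simp, fun c => by simp, fun x => ⟨x, pow_one x⟩, one_ne_zero⟩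
  · exact ⟨hF.add_pow hp, hF.neg_pow hp, hF.int_pow hp, hF.surj hp, hp⟩

variable (M) in
/-- The image of a generator. -/
def morGen (x : Fin D.nroots × F) : GL D.Idx F :=
  if h : M.ρ x.1.val < D.nroots then Φ.toAlg.xg ⟨M.ρ x.1.val, h⟩ ((M.e x.1.val : F) * x.2 ^ M.l x.1.val)
  else 1

theorem morGen_eq (hM : M.check D p = true) (r : Fin D.nroots) (t : F) :
    Φ.morGen M (r, t) = Φ.toAlg.xg ⟨M.ρ r.val, (check_root hM r.isLt).1⟩ ((M.e r.val : F) * t ^ M.l r.val) := by
  rw [morGen, dif_pos (check_root hM r.isLt).1]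

theorem morGen_word (hF : MorOK F p) (hM : M.check D p = true) (r s : ℕ) (t u : F)
    (L : List (ℕ × ℤ × ℕ × ℕ)) (hL : ∀ c ∈ L, c.1 < D.nroots) :
    FreeGroup.lift (Φ.morGen M) (D.stWord (L.map fun c => (c.1, (c.2.1 : F) * (-t) ^ c.2.2.1 * u ^ c.2.2.2))) =
      Φ.tval t u (L.filterMap fun c =>
        if MorData.norm p c.2.1 = 0 then none
        else some (M.ρ c.1, MorData.norm p (M.e c.1 * c.2.1), c.2.2.1 * M.l c.1, c.2.2.2 * M.l c.1)) := by
  induction L with
  | nil => simp [ChevalleyDatum.stWord, tval]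
  | cons c L ih =>
    have hc := hL c List.mem_cons_self
    obtain ⟨-, -, hint, -, hl0⟩ := lam_facts (F := F) hF hM hc
    have hlt := (check_root hM hc).1
    have ih' := ih fun d hd => hL d (List.mem_cons_of_mem _ hd)
    simp only [ChevalleyDatum.stWord, List.map_cons, List.prod_cons, map_mul] at ih' ⊢
    rw [ih', show FreeGroup.lift (Φ.morGen M) (D.stX c.1 ((c.2.1 : F) * (-t) ^ c.2.2.1 * u ^ c.2.2.2)) =
      Φ.toAlg.xg ⟨M.ρ c.1, hlt⟩ ((M.e c.1 : F) * ((c.2.1 : F) * (-t) ^ c.2.2.1 * u ^ c.2.2.2) ^ M.l c.1) by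
      rw [ChevalleyDatum.stX, dif_pos hc, FreeGroup.lift_apply_of, Φ.morGen_eq hM]]
    by_cases h0 : MorData.norm p c.2.1 = 0
    · have : (c.2.1 : F) = 0 := by rw [← hF.cast_norm, h0, Int.cast_zero]
      rw [List.filterMap_cons_none (by simp [h0]), this]
      simp [hl0]
    · rw [List.filterMap_cons_some (by simp [h0]; rfl)]
      simp only [tval, List.map_cons, List.prod_cons, dif_pos hlt]
      congr 2
      rw [hF.cast_norm, Int.cast_mul, mul_pow, mul_pow, hint, ← pow_mul, ← pow_mul]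
      ring

theorem tval_tgt (hF : MorOK F p) (r s : ℕ) (t u : F)
    (L : List (ℕ × ℤ × ℕ × ℕ)) (hneg : (-t) ^ M.l r = -(t ^ M.l r)) :
    Φ.tval ((M.e r : F) * t ^ M.l r) ((M.e s : F) * u ^ M.l s) L =
      Φ.tval t u (L.filterMap fun c =>
        if MorData.norm p c.2.1 = 0 then none
        else some (c.1, MorData.norm p (c.2.1 * M.e r ^ c.2.2.1 * M.e s ^ c.2.2.2),
          c.2.2.1 * M.l r, c.2.2.2 * M.l s)) := by
  induction L with
  | nil => simp [tval]
  | cons c L ih =>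
    by_cases h0 : MorData.norm p c.2.1 = 0
    · have : (c.2.1 : F) = 0 := by rw [← hF.cast_norm, h0, Int.cast_zero]
      rw [List.filterMap_cons_none (by simp [h0]), ← ih]
      simp only [tval, List.map_cons, List.prod_cons, this, zero_mul, Alg.xg_zero, dite_eq_ite, ite_self]
      by_cases h : c.1 < D.nroots <;> simp [h]
    · rw [List.filterMap_cons_some (by simp [h0]; rfl)]
      simp only [tval, List.map_cons, List.prod_cons] at ih ⊢
      rw [ih]
      congr 1
      by_cases h : c.1 < D.nroots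
      · rw [dif_pos h, dif_pos h]
        congr 1
        rw [hF.cast_norm, Nat.mul_comm (c.2.2.1) (M.l r),
          pow_mul (-t), hneg, Nat.mul_comm (c.2.2.2) (M.l s), pow_mul u]
        push_cast
        rw [show -((M.e r : F) * t ^ M.l r) = (M.e r : F) * -(t ^ M.l r) by ring, mul_pow, mul_pow]
        ring
      · rw [dif_neg h, dif_neg h]

theorem rels_mor (hF : MorOK F p) (hM : M.check D p = true) :
    ∀ w ∈ D.steinbergRels F, FreeGroup.lift (Φ.morGen M) w = 1 := by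
  set f := FreeGroup.lift (Φ.morGen (F := F) M)
  have hX : ∀ (r : Fin D.nroots) (t : F), f (D.stX r.val t) =
      Φ.toAlg.xg ⟨M.ρ r.val, (check_root hM r.isLt).1⟩ ((M.e r.val : F) * t ^ M.l r.val) := fun r t => by
    simp only [f, ChevalleyDatum.stX, dif_pos r.isLt, FreeGroup.lift_apply_of]
    exact Φ.morGen_eq hM r t
  rintro w ((⟨r, a, b, hr, rfl⟩ | ⟨r, s, t, u, hr, hs, h1, h2, rfl⟩) | ⟨r, a, b, hr, ha, hb, rfl⟩)
  · rw [map_mul, map_mul, map_inv, mul_inv_eq_one, hX ⟨r, hr⟩, hX ⟨r, hr⟩, hX ⟨r, hr⟩,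
      (lam_facts hF hM hr).1, mul_add, Φ.toAlg.xg_add]
  · obtain ⟨hr', -, -, -, -, -, -, hpair⟩ := check_root hM hr
    obtain ⟨hne1, hne2, hre⟩ := hpair s hs h1 h2
    rw [map_mul, map_inv, mul_inv_eq_one]
    simp only [map_mul, map_inv, hX ⟨r, hr⟩, hX ⟨s, hs⟩]
    have hlist : ∀ c ∈ D.commTerms r s, c.1 < D.nroots := by
      intro c hc
      obtain ⟨h, -⟩ := Φ.commTerms_mem (r := ⟨r, hr⟩) (s := ⟨s, hs⟩) (Q := fun _ => True)
        (fun _ => trivial) (fun _ _ _ => trivial) (fun _ _ _ => trivial) hc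
      exact h
    have e1 : f (D.stWord (D.commWord F r s t u)) = Φ.tval t u (M.img D p r s) :=
      Φ.morGen_word hF hM r s t u _ hlist
    rw [e1, Φ.tval_reorder t u hre, mul_assoc, mul_assoc, inv_mul_eq_iff_eq_mul, inv_mul_eq_iff_eq_mul,
      ← mul_assoc]
    refine Units.ext ?_
    have e2 : Φ.tval t u (M.tgt D p r s) =
        Φ.tval ((M.e r : F) * t ^ M.l r) ((M.e s : F) * u ^ M.l s) (D.commTerms (M.ρ r) (M.ρ s)) :=
      (Φ.tval_tgt hF r s t u _ ((lam_facts hF hM hr).2.1 t)).symm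
    rw [e2, Units.val_mul, Units.val_mul, Units.val_mul, Φ.tval_val, Alg.xg_val, Alg.xg_val]
    exact Φ.commutator_formula (r := ⟨M.ρ r, hr'⟩) (s := ⟨M.ρ s, (check_root hM hs).1⟩)
      (fun e => hne1 (congrArg Fin.val e))
      (fun e => hne2 ((congrArg Fin.val e).trans (Φ.negIdx_eq ⟨M.ρ r, hr'⟩).symm)) _ _
  · obtain ⟨hr', -, he, hρn, hln, hen, -, -⟩ := check_root hM hr
    obtain ⟨-, hneg, -, -, hl0⟩ := lam_facts (F := F) hF hM hr
    set r' : Fin D.nroots := ⟨M.ρ r, hr'⟩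
    have hnlt : D.neg r < D.nroots := by
      rw [show D.neg r = (⟨r, hr⟩ : Fin D.nroots).rev.val from Φ.negIdx_eq ⟨r, hr⟩]; exact Fin.isLt _
    set ε : Fˣ := if M.e r = 1 then 1 else -1
    have hε : (ε : F) = (M.e r : F) := by rcases he with h | h <;> simp [ε, h]
    have hεε : ε * ε = 1 := by rcases he with h | h <;> simp [ε, h]
    have hN : ∀ t : Fˣ, f (D.stN r (t : F)) = Φ.nw r' (ε * t ^ M.l r) := by
      intro t
      simp only [ChevalleyDatum.stN, ChevalleyDatum.nWord, ChevalleyDatum.stWord, List.map_cons, List.map_nil,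
        List.prod_cons, List.prod_nil, mul_one, map_mul, hX ⟨r, hr⟩, hX ⟨D.neg r, hnlt⟩, hln, hen]
      have e1 : (⟨M.ρ (D.neg r), (check_root hM hnlt).1⟩ : Fin D.nroots) = r'.rev :=
        Fin.ext (hρn.trans (Φ.negIdx_eq r'))
      rw [e1, nw, Units.val_mul, Units.val_pow_eq_pow_val, hε, ← mul_assoc]
      congr 2
      rw [hneg, inv_pow, _root_.mul_inv_rev, ← hε, ← Units.val_inv_eq_inv_val ε,
        show ε⁻¹ = ε from inv_eq_of_mul_eq_one_right hεε]
      congr 1
      ring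
    have hH : ∀ t : Fˣ, f (D.stH r (t : F)) = Φ.hw r' (t ^ M.l r) := by
      intro t
      have : D.stH r (t : F) = D.stN r (t : F) * D.stN r ((-1 : Fˣ) : F) := by
        simp [ChevalleyDatum.stH, ChevalleyDatum.hWord, ChevalleyDatum.stN, ChevalleyDatum.stWord]
      have hm1 : ((-1 : Fˣ)) ^ M.l r = -1 := Units.ext (by simpa using hneg 1)
      rw [this, map_mul, hN, hN, hm1, mul_neg, mul_one, Φ.nw_eq_hw_mul r' (ε * t ^ M.l r), Φ.nw_neg,
        Φ.nw_eq_hw_mul r' ε, _root_.mul_inv_rev, ← mul_assoc, mul_inv_cancel_right, mul_comm ε,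
        Φ.hw_mul, mul_inv_cancel_right]
    rw [map_mul, map_mul, map_inv, mul_inv_eq_one, ← Units.val_mk0 ha, ← Units.val_mk0 hb, hH, hH,
      ← Units.val_mul, hH, mul_pow, Φ.hw_mul]

/-- The endomorphism of the Chevalley group. -/
theorem exists_mor (hadj : Φ.Adj) (hF : MorOK F p) (hM : M.check D p = true) :
    ∃ α : ↥(D.group F) →* ↥(D.group F), Function.Surjective α ∧
      ∀ (r : Fin D.nroots) (t : F) (g : ↥(D.group F)), (g : GL D.Idx F) = Φ.toAlg.xg r t →
        (α g : GL D.Idx F) =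
          Φ.toAlg.xg ⟨M.ρ r.val, (check_root hM r.isLt).1⟩ ((M.e r.val : F) * t ^ M.l r.val) := by
  set θ : D.SteinbergGroup F →* ↥(D.group F) := (Φ.proj F).codRestrict (D.group F) Φ.proj_mem_group
  have hθ : Function.Surjective θ := by
    rintro ⟨g, hg⟩
    have hle : D.group F ≤ (Φ.proj F).range := by
      rw [Φ.toAlg.group_eq, Subgroup.closure_le]
      rintro _ ⟨r, t, rfl⟩
      exact ⟨_, Φ.proj_gx r t⟩
    obtain ⟨y, hy⟩ := hle hg
    exact ⟨y, Subtype.ext hy⟩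
  set β : D.SteinbergGroup F →* GL D.Idx F := PresentedGroup.toGroup (Φ.rels_mor hF hM)
  have hβ : ∀ r t, β (Φ.gx r t) =
      Φ.toAlg.xg ⟨M.ρ r.val, (check_root hM r.isLt).1⟩ ((M.e r.val : F) * t ^ M.l r.val) := by
    intro r t
    rw [← Φ.morGen_eq hM r t, gx, ChevalleyDatum.stGen, ChevalleyDatum.stX, dif_pos r.isLt]
    exact PresentedGroup.toGroup.of _
  have hβG : ∀ g, β g ∈ D.group F :=
    Φ.gen_induction (Q := fun g => β g ∈ D.group F) (by simp)
      (fun r t y hy => by rw [map_mul, hβ]; exact mul_mem (Φ.toAlg.xg_mem_group _ _) hy)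
  set β' : D.SteinbergGroup F →* ↥(D.group F) := β.codRestrict (D.group F) hβG
  have hβs : Function.Surjective β' := by
    have hle : D.group F ≤ β.range := by
      rw [Φ.toAlg.group_eq, Subgroup.closure_le]
      rintro _ ⟨r, t, rfl⟩
      obtain ⟨s, hs, hρ⟩ := (check_root hM r.isLt).2.2.2.2.2.2.1
      obtain ⟨y, hy⟩ := (lam_facts hF hM hs).2.2.2.1 ((M.e s : F)⁻¹ * t)
      refine ⟨Φ.gx ⟨s, hs⟩ y, ?_⟩
      rw [hβ]
      have he : (M.e s : F) ≠ 0 := by rcases (check_root hM hs).2.2.1 with h | h <;> simp [h]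
      simp only [hρ, hy, mul_inv_cancel_left₀ he]
    rintro ⟨g, hg⟩
    obtain ⟨y, hy⟩ := hle hg
    exact ⟨y, Subtype.ext hy⟩
  have hker : θ.ker ≤ β'.ker := by
    intro g hg
    rw [MonoidHom.ker_codRestrict, Φ.ker_proj_eq_center hadj] at hg
    refine Subtype.ext (Φ.center_group _ (hβG g) fun x hx => ?_)
    obtain ⟨y, hy⟩ := hβs ⟨x, hx⟩
    have hy' : β y = x := congrArg Subtype.val hy
    show β g * x = x * β g
    rw [← hy', ← map_mul, ← map_mul, Subgroup.mem_center_iff.mp hg y]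
  refine ⟨θ.liftOfSurjective hθ ⟨β', hker⟩, fun g => ?_, fun r t g hg => ?_⟩
  · obtain ⟨y, rfl⟩ := hβs g
    exact ⟨θ y, MonoidHom.liftOfRightInverse_comp_apply _ _ _ ⟨β', hker⟩ y⟩
  · have hg' : g = θ (Φ.gx r t) := Subtype.ext (hg.trans (Φ.proj_gx r t).symm)
    have he : θ.liftOfSurjective hθ ⟨β', hker⟩ (θ (Φ.gx r t)) = β' (Φ.gx r t) :=
      MonoidHom.liftOfRightInverse_comp_apply _ _ _ ⟨β', hker⟩ _
    rw [hg', he]
    exact hβ r t

/-- The endomorphism is bijective for simple or finite groups, and is then an automorphism. -/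
theorem exists_mor_equiv (hadj : Φ.Adj) (hF : MorOK F p) (hM : M.check D p = true)
    (hS : IsSimpleGroup ↥(D.group F) ∨ Finite ↥(D.group F)) :
    ∃ α : ↥(D.group F) ≃* ↥(D.group F), ∀ (r : ℕ) (hr : r < D.nroots) (t : F) (g : ↥(D.group F)),
      ((g : GL D.Idx F) : Matrix D.Idx D.Idx F) = D.x F r t →
        ((α g : GL D.Idx F) : Matrix D.Idx D.Idx F) = D.x F (M.ρ r) ((M.e r : F) * t ^ M.l r) := by
  obtain ⟨α, hs, hα⟩ := Φ.exists_mor hadj hF hM
  have hinj : Function.Injective α := by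
    rcases hS with hS | hS
    · rw [← MonoidHom.ker_eq_bot_iff]
      refine (IsSimpleGroup.eq_bot_or_eq_top_of_normal α.ker inferInstance).resolve_right fun h => ?_
      obtain ⟨x, hx⟩ := exists_ne (1 : ↥(D.group F))
      obtain ⟨y, rfl⟩ := hs x
      exact hx (MonoidHom.mem_ker.mp (h ▸ Subgroup.mem_top y))
    · exact Finite.injective_iff_surjective.mpr hs
  refine ⟨MulEquiv.ofBijective α ⟨hinj, hs⟩, fun r hr t g hg => ?_⟩
  rw [Φ.toAlg.x_val' (check_root hM hr).1]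
  exact congrArg Units.val (hα ⟨r, hr⟩ t g ((Φ.toAlg.eq_xg_iff (r := ⟨r, hr⟩)).mp hg))

end

end Chev

end CfsgLib.Chev
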