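/-
Tables of the graph automorphisms and exceptional graph automorphisms.
-/
import Cfsg.Agent.Lib.Chev.Morph
import Cfsg.Agent.Lib.Chev.Inst

namespace CfsgLib.Chev

set_option maxRecDepth 100000

/-- The map of type E6. -/
def morE6 : MorData := ⟨[0, 1, 2, 5, 16, 3, 6, 17, 8, 19, 22, 11, 26, 30, 33, 35, 4, 7, 18, 9, 20, 23, 10, 21, 24, 25, 12, 27, 31, 34, 13, 28, 32, 14, 29, 15, 56, 42, 57, 39, 43, 58, 37, 40, 44, 59, 46, 47, 50, 61, 48, 51, 62, 53, 64, 67, 36, 38, 41, 45, 60, 49, 52, 63, 54, 65, 68, 55, 66, 69, 70, 71], [1, 1, 1, 1, 1, 1, 1, 1, 1, 1, 1, 1, 1, 1, 1, 1, 1, 1, 1, 1, 1, 1, 1, 1, 1, 1, 1, 1, 1, 1, 1, 1, 1, 1, 1, 1, 1, 1, 1, 1, 1, 1, 1, 1, 1, 1, 1, 1, 1, 1, 1, 1, 1, 1, 1, 1, 1, 1, 1, 1, 1, 1, 1, 1, 1, 1, 1, 1, 1, 1, 1, 1], [1, 1, 1, 1, -1, 1, 1, -1, 1,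 -1, -1, 1, -1, 1, -1, 1, -1, -1, 1, -1, 1, 1, -1, 1, 1, 1, -1, 1, -1, 1, 1, -1, 1, -1, 1, 1, 1, 1, -1, 1, -1, 1, 1, -1, 1, -1, 1, 1, 1, -1, 1, 1, -1, 1, -1, -1, 1, -1, 1, -1, 1, -1, -1, 1, -1, 1, 1, -1, 1, 1, 1, 1]⟩

theorem checkMorE6 : morE6.check Cfsg.Lie.chevE6 0 = true := by decide +kernel

/-- The map of type D4. -/
def morD4a : MorData := ⟨[0, 1, 6, 2, 7, 10, 3, 8, 4, 9, 11, 5, 18, 12, 14, 19, 15, 20, 13, 16, 21, 17, 22, 23], [1, 1, 1, 1, 1, 1, 1, 1, 1, 1, 1, 1, 1, 1, 1, 1, 1, 1, 1, 1, 1, 1, 1, 1], [1, 1, -1, 1, -1, 1, -1, 1, -1, 1, 1, 1, 1, 1, 1, -1, 1, -1, 1, -1, 1, -1, 1, 1]⟩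

theorem checkMorD4a : morD4a.check Cfsg.Lie.chevD4 0 = true := by decide +kernel

/-- The map of type D4. -/
def morD4b : MorData := ⟨[0, 1, 3, 6, 8, 11, 2, 4, 7, 9, 5, 10, 13, 18, 14, 16, 19, 21, 12, 15, 17, 20, 22, 23], [1, 1, 1, 1, 1, 1, 1, 1, 1, 1, 1, 1, 1, 1, 1, 1, 1, 1, 1, 1, 1, 1, 1, 1], [1, 1, 1, -1, -1, 1, -1, -1, 1, 1, 1, 1, 1, 1, 1, 1, -1, -1, 1, -1, -1, 1, 1, 1]⟩

theorem checkMorD4b : morD4b.check Cfsg.Lie.chevD4 0 = true := by decide +kernel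

/-- The map of type B2. -/
def morB2 : MorData := ⟨[1, 0, 3, 2, 5, 4, 7, 6], [1, 2, 2, 1, 1, 2, 2, 1], [1, 1, 1, 1, 1, 1, 1, 1]⟩

theorem checkMorB2 : morB2.check Cfsg.Lie.chevB2 2 = true := by decide +kernel

/-- The map of type F4. -/
def morF4 : MorData := ⟨[3, 7, 8, 0, 9, 11, 18, 1, 2, 4, 15, 5, 16, 21, 23, 10, 12, 19, 6, 17, 22, 13, 20, 14, 33, 27, 34, 25, 30, 41, 28, 35, 37, 24, 26, 31, 42, 32, 43, 45, 46, 29, 36, 38, 47, 39, 40, 44], [1, 1, 1, 2, 1, 1, 1, 2, 2, 2, 2, 2, 2, 2, 2, 1, 1, 1, 2, 2, 2, 1, 1, 1, 1, 1, 1, 2, 2, 2, 1, 1, 1, 2, 2, 2, 2, 2, 2, 2, 2, 1, 1, 1, 2, 1, 1, 1], [1, 1, 1, 1, 1, 1, 1, 1, 1, 1, 1, 1, 1, 1, 1, 1, 1, 1, 1, 1, 1, 1, 1, 1, 1, 1, 1, 1, 1, 1, 1, 1, 1, 1, 1, 1, 1, 1, 1, 1, 1, 1, 1, 1, 1, 1, 1, 1]⟩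

theorem checkMorF4 : morF4.check Cfsg.Lie.chevF4 2 = true := by decide +kernel

/-- The map of type G2. -/
def morG2 : MorData := ⟨[2, 3, 0, 1, 5, 4, 7, 6, 10, 11, 8, 9], [1, 1, 3, 3, 3, 1, 1, 3, 3, 3, 1, 1], [1, 1, 1, 1, 1, 1, 1, 1, 1, 1, 1, 1]⟩

theorem checkMorG2 : morG2.check Cfsg.Lie.chevG2 3 = true := by decide +kernel

end CfsgLib.Chev
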