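/-
Perfectness and simplicity of the Chevalley groups.
-/
import Cfsg.Agent.Lib.Chev.BNP
import Cfsg.Agent.S0319

namespace CfsgLib.Chev

open Cfsg.Lie Matrix
open scoped commutatorElement

set_option linter.dupNamespace false
set_option linter.unusedSimpArgs false

variable {D : ChevalleyDatum}

/-- The commutator word of the pair is a single root element with coefficient allowed by `allow`. -/
def isSingle (D : ChevalleyDatum) (allow : ℤ → Bool) (k : ℕ) (p : ℕ × ℕ) : Bool :=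
  Nat.blt p.1 D.nroots && Nat.blt p.2 D.nroots && !(Nat.beq p.2 p.1) && !(Nat.beq p.2 (D.neg p.1)) &&
    match D.commTerms p.1 p.2 with
    | [(k', c, 1, 1)] => Nat.beq k' k && allow c
    | _ => false

/-- The commutator word of the pair leads with the root `k`; the other terms are covered by single pairs. -/
def isWitness (D : ChevalleyDatum) (allow : ℤ → Bool) (k : ℕ) (w : (ℕ × ℕ) × List (ℕ × ℕ)) : Bool :=
  Nat.blt w.1.1 D.nroots && Nat.blt w.1.2 D.nroots && !(Nat.beq w.1.2 w.1.1) &&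
    !(Nat.beq w.1.2 (D.neg w.1.1)) &&
    match D.commTerms w.1.1 w.1.2 with
    | (k', c, 1, 1) :: rest => Nat.beq k' k && allow c &&
        rest.all fun e => w.2.any fun q => isSingle D allow e.1 q
    | _ => false

/-- A witness for each fundamental root. -/
def allWitness (D : ChevalleyDatum) (allow : ℤ → Bool) (W : List ((ℕ × ℕ) × List (ℕ × ℕ))) : Bool :=
  (List.range D.rank).all fun i => W.any fun w => isWitness D allow (D.simple i) w

/-- The fundamental roots after the first in the list are joined to earlier ones, and all occur. -/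
def isTree (D : ChevalleyDatum) : List ℕ → Bool
  | [] => false
  | [_] => true
  | a :: b :: L => ((b :: L).any fun j => decide (D.cartan a (D.simple j) ≠ 0)) && isTree D (b :: L)

/-- The list covers all fundamental roots and is a tree. -/
def isConn (D : ChevalleyDatum) (L : List ℕ) : Bool :=
  isTree D L && (List.range D.rank).all (fun i => L.contains i) && L.all fun i => Nat.blt i D.rank

namespace Chev

variable (Φ : Chev D) {F : Type*} [Field F]

section

variable (K : Subgroup (GL D.Idx F))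

theorem good_of_terms {L : List (ℕ × ℤ × ℕ × ℕ)}
    (hL : ∀ e ∈ L, ∀ h : e.1 < D.nroots, ∀ v : F, Φ.toAlg.xg ⟨e.1, h⟩ v ∈ K) (t u : F) :
    ∃ W ∈ K, (W : Matrix D.Idx D.Idx F) = Φ.toSys.termProd F L t u := by
  induction L with
  | nil => exact ⟨1, K.one_mem, by simp [Sys.termProd]⟩
  | cons c L ih =>
    obtain ⟨W, hW, hv⟩ := ih fun e he => hL e (List.mem_cons_of_mem _ he)
    by_cases h : c.1 < D.nroots
    · refine ⟨Φ.toAlg.xg ⟨c.1, h⟩ ((c.2.1 : F) * (-t) ^ c.2.2.1 * u ^ c.2.2.2) * W,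
        K.mul_mem (hL c List.mem_cons_self h _) hW, ?_⟩
      rw [Units.val_mul, hv]
      simp [Sys.termProd, Sys.XN, h]
    · exact ⟨W, hW, by rw [hv]; simp [Sys.termProd, Sys.XN, h]⟩

variable (hK : ∀ g ∈ D.group F, ∀ h ∈ D.group F, g⁻¹ * h⁻¹ * g * h ∈ K)

include hK in
theorem good_of_pair {r s : Fin D.nroots} (h1 : s ≠ r) (h2 : s ≠ r.rev) {k : ℕ} {c : ℤ}
    {rest : List (ℕ × ℤ × ℕ × ℕ)} (he : D.commTerms r.val s.val = (k, c, 1, 1) :: rest)
    (hc : (c : F) ≠ 0)
    (hrest : ∀ e ∈ rest, ∀ h : e.1 < D.nroots, ∀ v : F, Φ.toAlg.xg ⟨e.1, h⟩ v ∈ K)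
    (hk : k < D.nroots) (v : F) : Φ.toAlg.xg ⟨k, hk⟩ v ∈ K := by
  obtain ⟨W, hW, hv⟩ := Φ.good_of_terms K hrest (-(v / c)) 1
  set t : F := -(v / c)
  have hval : (c : F) * (-t) ^ 1 * 1 ^ 1 = v := by
    simp only [t, neg_neg, pow_one, mul_one]; field_simp
  have hform : (Φ.toAlg.xg s (1 : F))⁻¹ * (Φ.toAlg.xg r t)⁻¹ * Φ.toAlg.xg s 1 * Φ.toAlg.xg r t =
      Φ.toAlg.xg ⟨k, hk⟩ v * W := by
    rw [mul_assoc, mul_assoc, inv_mul_eq_iff_eq_mul, inv_mul_eq_iff_eq_mul]
    refine Units.ext ?_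
    simp only [Units.val_mul, Alg.xg_val, hv]
    rw [Φ.commutator_formula h1 h2 t 1, he, mul_assoc]
    simp only [Sys.termProd, List.map_cons, List.prod_cons, Sys.XN, dif_pos hk]
    rw [← hval]
  have := hK _ (Φ.toAlg.xg_mem_group s (1 : F)) _ (Φ.toAlg.xg_mem_group r t)
  rw [hform] at this
  exact (K.mul_mem_cancel_right hW).mp this

include hK in
theorem good_of_single {allow : ℤ → Bool} (hallow : ∀ c, allow c = true → (c : F) ≠ 0) {k : ℕ}
    {p : ℕ × ℕ} (h : isSingle D allow k p = true) (hk : k < D.nroots) (v : F) :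
    Φ.toAlg.xg ⟨k, hk⟩ v ∈ K := by
  simp only [isSingle, Bool.and_eq_true, Nat.blt_eq, Bool.not_eq_true', Nat.beq_eq] at h
  obtain ⟨⟨⟨⟨h1, h2⟩, h3⟩, h4⟩, h5⟩ := h
  have e1 : (⟨p.2, h2⟩ : Fin D.nroots) ≠ ⟨p.1, h1⟩ := fun e => by simp [Fin.ext_iff] at e; simp [e] at h3
  have e2 : (⟨p.2, h2⟩ : Fin D.nroots) ≠ (⟨p.1, h1⟩ : Fin D.nroots).rev := fun e => by
    have : p.2 = D.neg p.1 := (congrArg Fin.val e).trans (Φ.negIdx_eq ⟨p.1, h1⟩).symm
    simp [this] at h4
  split at h5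
  · rename_i k' c heq
    simp only [Bool.and_eq_true, Nat.beq_eq] at h5
    obtain ⟨rfl, hc⟩ := h5
    exact Φ.good_of_pair K hK (r := ⟨p.1, h1⟩) (s := ⟨p.2, h2⟩) e1 e2 heq (hallow c hc) (by simp) hk v
  · simp at h5

include hK in
theorem good_of_witness {allow : ℤ → Bool} (hallow : ∀ c, allow c = true → (c : F) ≠ 0) {k : ℕ}
    {w : (ℕ × ℕ) × List (ℕ × ℕ)} (h : isWitness D allow k w = true) (hk : k < D.nroots) (v : F) :
    Φ.toAlg.xg ⟨k, hk⟩ v ∈ K := by
  simp only [isWitness, Bool.and_eq_true, Nat.blt_eq, Bool.not_eq_true', Nat.beq_eq] at h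
  obtain ⟨⟨⟨⟨h1, h2⟩, h3⟩, h4⟩, h5⟩ := h
  have e1 : (⟨w.1.2, h2⟩ : Fin D.nroots) ≠ ⟨w.1.1, h1⟩ := fun e => by simp [Fin.ext_iff] at e; simp [e] at h3
  have e2 : (⟨w.1.2, h2⟩ : Fin D.nroots) ≠ (⟨w.1.1, h1⟩ : Fin D.nroots).rev := fun e => by
    have : w.1.2 = D.neg w.1.1 := (congrArg Fin.val e).trans (Φ.negIdx_eq ⟨w.1.1, h1⟩).symm
    simp [this] at h4
  split at h5
  · rename_i k' c rest heq
    simp only [Bool.and_eq_true, Nat.beq_eq, List.all_eq_true, List.any_eq_true] at h5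
    obtain ⟨⟨rfl, hc⟩, hrest⟩ := h5
    refine Φ.good_of_pair K hK (r := ⟨w.1.1, h1⟩) (s := ⟨w.1.2, h2⟩) e1 e2 heq (hallow c hc) ?_ hk v
    intro e he h v'
    obtain ⟨q, _, hq⟩ := hrest e he
    exact Φ.good_of_single K hK hallow hq h v'
  · simp at h5

end

/-- The subgroup of commutators in the general linear group. -/
theorem map_commutator_group (G : Subgroup (GL D.Idx F)) :
    (commutator ↥G).map G.subtype = ⁅G, G⁆ := by
  rw [commutator_def, Subgroup.map_commutator, ← MonoidHom.range_eq_map, Subgroup.range_subtype]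

include Φ in
/-- Perfectness, given witnesses for the case that all non-zero squares are one. -/
theorem group_perfect {allow : ℤ → Bool} {W : List ((ℕ × ℕ) × List (ℕ × ℕ))}
    (hW : allWitness D allow W = true)
    (hallow : (∀ a : F, a ≠ 0 → a ^ 2 = 1) → ∀ c, allow c = true → (c : F) ≠ 0) :
    commutator ↥(D.group F) = ⊤ := by
  refine Subgroup.map_injective (D.group F).subtype_injective ?_
  rw [map_commutator_group, ← MonoidHom.range_eq_map, Subgroup.range_subtype]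
  refine le_antisymm ((Subgroup.commutator_le).mpr fun g hg h hh => ?_) ?_
  · rw [commutatorElement_def]
    exact mul_mem (mul_mem (mul_mem hg hh) (inv_mem hg)) (inv_mem hh)
  set K : Subgroup (GL D.Idx F) := ⁅D.group F, D.group F⁆ with hKdef
  have hK : ∀ g ∈ D.group F, ∀ h ∈ D.group F, g⁻¹ * h⁻¹ * g * h ∈ K := by
    intro g hg h hh
    have := Subgroup.commutator_mem_commutator (inv_mem hg) (inv_mem hh)
    rwa [commutatorElement_def, inv_inv, inv_inv] at this
  have hnorm : ∀ g ∈ D.group F, ∀ x ∈ K, g * x * g⁻¹ ∈ K := by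
    intro g hg x hx
    have hle : K ≤ K.comap (MulAut.conj g).toMonoidHom := by
      refine (Subgroup.commutator_le).mpr fun a ha b hb => ?_
      show g * ⁅a, b⁆ * g⁻¹ ∈ K
      rw [show g * ⁅a, b⁆ * g⁻¹ = ⁅g * a * g⁻¹, g * b * g⁻¹⁆ by
        simp only [commutatorElement_def]; group]
      exact Subgroup.commutator_mem_commutator (mul_mem (mul_mem hg ha) (inv_mem hg))
        (mul_mem (mul_mem hg hb) (inv_mem hg))
    exact hle hx
  have good : ∀ r : Fin D.nroots, ∀ v : F, Φ.toAlg.xg r v ∈ K := by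
    intro r
    by_cases ha : ∃ a : F, a ≠ 0 ∧ a ^ 2 ≠ 1
    · obtain ⟨a, ha0, ha2⟩ := ha
      intro v
      set t := Units.mk0 a ha0
      have hne : a ^ 2 - 1 ≠ 0 := sub_ne_zero.mpr ha2
      have e : Φ.hw r t * Φ.toAlg.xg r (v / (a ^ 2 - 1)) * (Φ.hw r t)⁻¹ *
          (Φ.toAlg.xg r (v / (a ^ 2 - 1)))⁻¹ = Φ.toAlg.xg r v := by
        rw [Φ.hw_eq, Φ.toAlg.torus_xg, mul_inv_cancel_right, Φ.chi_coChar, Φ.pair_self,
          ← Φ.toAlg.xg_neg, ← Φ.toAlg.xg_add]
        congr 1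
        rw [show (2 : ℤ) = ((2 : ℕ) : ℤ) from rfl, zpow_natCast, Units.val_pow_eq_pow_val, Units.val_mk0]
        field_simp
        ring
      rw [← e, ← commutatorElement_def]
      exact Subgroup.commutator_mem_commutator
        (Φ.B_le_group (Subgroup.mem_sup_right (Φ.hw_mem_H r t))) (Φ.toAlg.xg_mem_group _ _)
    · push Not at ha
      induction r using Φ.root_induction with
      | hp i =>
        intro v
        simp only [allWitness, List.all_eq_true, List.any_eq_true, List.mem_range] at hW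
        obtain ⟨w, _, hw⟩ := hW i.val i.isLt
        rw [Φ.simple_val] at hw
        exact Φ.good_of_witness K hK (hallow ha) hw (Φ.p i).isLt v
      | hstep i r ih =>
        intro v
        have hsq : (Φ.eta i r : F) * (Φ.eta i r : F) = 1 := by
          rcases Φ.eta_unit i r with e | e <;> simp [e]
        have e : Φ.toAlg.xg (Φ.refl i r) v = Φ.nw (Φ.p i) 1 *
            Φ.toAlg.xg r ((Φ.eta i r : F) * v) * (Φ.nw (Φ.p i) 1)⁻¹ := by
          rw [Φ.nw_conj_xg, ← mul_assoc, hsq, one_mul, mul_inv_cancel_right]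
        rw [e]
        exact hnorm _ (Φ.nw_mem_group _ _) _ (ih _)
  rw [Φ.toAlg.group_eq, Subgroup.closure_le]
  rintro _ ⟨r, t, rfl⟩
  exact good r t

theorem A_ne_zero_of_conn {L : List ℕ} (hL : isConn D L = true) (J : Set (Fin D.rank))
    (hne : J.Nonempty) (hne' : Jᶜ.Nonempty) : ∃ i ∈ J, ∃ j ∉ J, Φ.A i (Φ.p j) ≠ 0 ∨ Φ.A j (Φ.p i) ≠ 0 := by
  simp only [isConn, Bool.and_eq_true, List.all_eq_true, List.mem_range, List.contains_iff_mem,
    Nat.blt_eq] at hL
  obtain ⟨⟨htree, hall⟩, hlt⟩ := hL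
  by_contra hcon
  push Not at hcon
  have key : ∀ M : List ℕ, isTree D M = true → (∀ a ∈ M, a < D.rank) →
      (∀ a : Fin D.rank, a.val ∈ M → a ∈ J) ∨ (∀ a : Fin D.rank, a.val ∈ M → a ∉ J) := by
    intro M
    induction M with
    | nil => intro h; simp [isTree] at h
    | cons a M ih =>
      intro h hlt'
      rcases M with _ | ⟨b, M⟩
      · by_cases hm : (⟨a, hlt' a List.mem_cons_self⟩ : Fin D.rank) ∈ J
        · left; intro x hx; rw [List.mem_singleton] at hx
          rwa [show x = ⟨a, hlt' a List.mem_cons_self⟩ from Fin.ext hx]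
        · right; intro x hx; rw [List.mem_singleton] at hx
          rwa [show x = ⟨a, hlt' a List.mem_cons_self⟩ from Fin.ext hx]
      · simp only [isTree, Bool.and_eq_true, List.any_eq_true, decide_eq_true_eq] at h
        obtain ⟨⟨j, hjM, hA⟩, ht⟩ := h
        have ha := hlt' a List.mem_cons_self
        have hj := hlt' j (List.mem_cons_of_mem _ hjM)
        rw [Φ.simple_val ⟨j, hj⟩, Φ.cartan_val ⟨a, ha⟩ (Φ.p ⟨j, hj⟩)] at hA
        rcases ih ht (fun x hx => hlt' x (List.mem_cons_of_mem _ hx)) with h' | h'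
        · left
          intro x hx
          rcases List.mem_cons.mp hx with e | e
          · rw [show x = ⟨a, ha⟩ from Fin.ext e]
            by_contra hx'
            exact hA ((hcon ⟨j, hj⟩ (h' _ hjM) ⟨a, ha⟩ hx').2)
          · exact h' x e
        · right
          intro x hx
          rcases List.mem_cons.mp hx with e | e
          · rw [show x = ⟨a, ha⟩ from Fin.ext e]
            intro hx'
            exact hA ((hcon ⟨a, ha⟩ hx' ⟨j, hj⟩ (h' _ hjM)).1)
          · exact h' x e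
  obtain ⟨i, hi⟩ := hne
  obtain ⟨j, hj⟩ := hne'
  rcases key L htree hlt with h | h
  · exact hj (h j (hall j.val j.isLt))
  · exact h i (hall i.val i.isLt) hi

theorem bnPair_irreducible {L : List ℕ} (hL : isConn D L = true) : (Φ.bnPair F).Irreducible := by
  intro J hJ hne hne'
  set J' : Set (Fin D.rank) := {i | (⟨Φ.nw (Φ.p i) 1, Φ.nw_mem_group _ _⟩ : D.group F) ∈ J} with hJ'
  obtain ⟨x, hx⟩ := hne
  obtain ⟨i0, rfl⟩ := hJ hx
  obtain ⟨_, ⟨j0, rfl⟩, hj0⟩ := hne'
  obtain ⟨i, hi, j, hj, hA⟩ := Φ.A_ne_zero_of_conn hL J' ⟨i0, hx⟩ ⟨j0, hj0⟩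
  refine ⟨_, hi, _, ⟨⟨j, rfl⟩, hj⟩, fun hB => ?_⟩
  have hij : i ≠ j := fun e => hj (e ▸ hi)
  set a := Φ.nw (Φ.p i) (1 : Fˣ)
  set b := Φ.nw (Φ.p j) (1 : Fˣ)
  have hN : a * b * a⁻¹ * b⁻¹ ∈ D.monomialSubgroup F :=
    mul_mem (mul_mem (mul_mem (Φ.nw_mem_N _ _) (Φ.nw_mem_N _ _)) (inv_mem (Φ.nw_mem_N _ _)))
      (inv_mem (Φ.nw_mem_N _ _))
  have hH : a * b * a⁻¹ * b⁻¹ ∈ D.diagonalSubgroup F := by
    rw [← Φ.B_inf_N]; exact ⟨hB, hN⟩
  obtain ⟨c, hc⟩ := Φ.exists_torus_of_mem_H hH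
  have h1 : a * b = Φ.toAlg.torus c * (b * a) := by rw [← hc]; group
  have m1 := Mono.mul Φ (Φ.nw_one_mono (F := F) i) (Φ.nw_one_mono j)
  have m2 := Mono.mul Φ (Φ.mono_torus c) (Mono.mul Φ (Φ.nw_one_mono j) (Φ.nw_one_mono i))
  rw [← h1] at m2
  have hperm := Mono.unique Φ m1 m2
  rw [one_mul] at hperm
  have comm : ∀ p q : Fin D.rank, p ≠ q → Φ.reflPerm p * Φ.reflPerm q = Φ.reflPerm q * Φ.reflPerm p →
      Φ.A p (Φ.p q) = 0 := by
    intro p q hpq h
    have e := congrArg (fun π : Equiv.Perm _ => Φ.V (π (Φ.p q)) p) h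
    simp only [Equiv.Perm.mul_apply, Φ.reflPerm_apply] at e
    rw [Φ.refl_p, Φ.refl_rev, Φ.V_neg (Φ.refl p (Φ.p q)), Φ.V_refl, if_pos rfl, Φ.V_refl,
      if_neg hpq, sub_zero, Φ.V_refl, if_pos rfl, Φ.V_p, if_neg (Ne.symm hpq)] at e
    omega
  rcases hA with hA | hA
  · exact hA (comm i j hij hperm)
  · exact hA (comm j i (Ne.symm hij) hperm.symm)

include Φ in
theorem borel_solvable : Group.IsSolvable ↥(Φ.bnPair F).B := by
  have hle : D.posUnipotent F ≤ raiseSubgroup (fun x => 1 * Φ.toSys.codeIdx x) 1 zero_le_one := by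
    rw [Φ.posUnipotent_eq_US]; exact Φ.US_pos_le_raise
  haveI hnil := isNilpotent_of_le_raiseSubgroup _ hle
  set U' := (D.posUnipotent F).subgroupOf (D.borelSubgroup F) with hU'
  have hUB : D.posUnipotent F ≤ D.borelSubgroup F := le_sup_left
  haveI : U'.Normal := (Subgroup.normal_subgroupOf_iff_le_normalizer hUB).mpr
    (sup_le Subgroup.le_normalizer Φ.H_le_normalizer_U)
  haveI : Group.IsSolvable ↥U' :=
    solvable_of_solvable_injective (f := (Subgroup.subgroupOfEquivOfLe (le_sup_left :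
      D.posUnipotent F ≤ D.borelSubgroup F)).toMonoidHom) (MulEquiv.injective _)
  haveI : Group.IsSolvable (↥(D.borelSubgroup F) ⧸ U') := by
    haveI : Group.IsSolvable ↥(D.diagonalSubgroup F) :=
      Group.isSolvable_of_comm fun a b => Subtype.ext (Φ.H_comm a.2 b.2).eq
    refine solvable_of_surjective (f := (QuotientGroup.mk' U').comp
      (Subgroup.inclusion (le_sup_right : D.diagonalSubgroup F ≤ D.borelSubgroup F))) ?_
    · intro x
      obtain ⟨⟨g, hg⟩, rfl⟩ := QuotientGroup.mk'_surjective U' x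
      obtain ⟨u, hu, h, hh, rfl⟩ := Φ.mem_B_iff.mp hg
      refine ⟨⟨h, hh⟩, QuotientGroup.eq.mpr ?_⟩
      show h⁻¹ * (u * h) ∈ D.posUnipotent F
      exact (Subgroup.mem_normalizer_iff'.mp (Φ.H_le_normalizer_U hh) (h⁻¹ * u)).mpr (by simpa using hu) |>
        fun e => by simpa [mul_assoc] using e
  haveI : Group.IsSolvable ↥(D.borelSubgroup F) :=
    solvable_of_ker_le_range U'.subtype (QuotientGroup.mk' U') (by simp)
  exact solvable_of_solvable_injective (f := (Subgroup.subgroupOfEquivOfLe Φ.B_le_group).toMonoidHom)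
    (MulEquiv.injective _)

theorem xg_not_comm (i : Fin D.rank) :
    ¬ Commute (Φ.toAlg.xg (Φ.p i) (1 : F)) (Φ.toAlg.xg (Φ.p i).rev (-1 : F)) := by
  intro h
  have hc : Commute (Φ.nw (Φ.p i) (1 : Fˣ)) (Φ.toAlg.xg (Φ.p i) 1) := by
    have : Φ.nw (Φ.p i) (1 : Fˣ) =
        Φ.toAlg.xg (Φ.p i) 1 * Φ.toAlg.xg (Φ.p i).rev (-1) * Φ.toAlg.xg (Φ.p i) 1 := by simp [nw]
    rw [this]
    exact ((Commute.refl _).mul_left h.symm).mul_left (Commute.refl _)
  have e := Φ.nw_conj_xg (F := F) i (Φ.p i) 1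
  rw [hc.eq, Φ.refl_p] at e
  exact Φ.toSys.rev_ne (Φ.p i) (Φ.root_eq_of_xg_eq one_ne_zero (mul_right_cancel e)).symm

include Φ in
theorem group_simple {L : List ℕ} (hL : isConn D L = true) (i0 : Fin D.rank)
    (hperf : commutator ↥(D.group F) = ⊤) (hcore : (Φ.bnPair F).B.normalCore = ⊥) :
    IsSimpleGroup ↥(D.group F) ∧ ¬ IsMulCommutative ↥(D.group F) := by
  have hnc : ¬ IsMulCommutative ↥(D.group F) := by
    intro h
    refine Φ.xg_not_comm (F := F) i0 ?_
    exact congrArg Subtype.val (h.is_comm.comm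
      ⟨_, Φ.toAlg.xg_mem_group (Φ.p i0) (1 : F)⟩ ⟨_, Φ.toAlg.xg_mem_group (Φ.p i0).rev (-1 : F)⟩)
  haveI : Nontrivial ↥(D.group F) := by
    by_contra hn
    rw [not_nontrivial_iff_subsingleton] at hn
    exact hnc ⟨⟨fun a b => Subsingleton.elim _ _⟩⟩
  exact ⟨Cfsg.Agent.S0319.result (Φ.bnPair F) (Φ.bnPair_irreducible hL) Φ.borel_solvable hperf hcore, hnc⟩

end Chev

end CfsgLib.Chev
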