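/-
Perfectness and simplicity for the seven tabulated types.
-/
import Cfsg.Agent.Lib.Chev.Perfect
import Cfsg.Agent.Lib.Chev.Longest
import Cfsg.Agent.Lib.Chev.Inst

namespace CfsgLib.Chev

open Cfsg.Lie

set_option maxRecDepth 100000

/-- Coefficients that are units in every field. -/
def allowOne (c : ℤ) : Bool := Nat.beq c.natAbs 1

/-- Coefficients that are units in every field of odd characteristic. -/
def allowTwo (c : ℤ) : Bool := Nat.beq c.natAbs 1 || Nat.beq c.natAbs 2

theorem allowOne_ne {F : Type*} [Field F] {c : ℤ} (h : allowOne c = true) : (c : F) ≠ 0 := by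
  simp only [allowOne, Nat.beq_eq] at h
  rcases Int.natAbs_eq c with e | e <;> rw [e, h] <;> simp

theorem allowTwo_ne {F : Type*} [Field F] (h2 : (2 : F) ≠ 0) {c : ℤ} (h : allowTwo c = true) :
    (c : F) ≠ 0 := by
  simp only [allowTwo, Bool.or_eq_true, Nat.beq_eq] at h
  rcases h with h | h <;> rcases Int.natAbs_eq c with e | e <;> rw [e, h] <;> simp [h2]

theorem two_ne_zero_of_sq {F : Type*} [Field F] (h : ∃ a : F, a ≠ 0 ∧ a ≠ 1)
    (hsq : ∀ a : F, a ≠ 0 → a ^ 2 = 1) : (2 : F) ≠ 0 := by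
  obtain ⟨a, h0, h1⟩ := h
  intro h2
  rcases sq_eq_one_iff.mp (hsq a h0) with e | e
  · exact h1 e
  · exact h1 (by rw [e, neg_eq_iff_add_eq_zero, one_add_one_eq_two, h2])

theorem witG2 : allWitness Cfsg.Lie.chevG2 allowTwo [((3, 9), [(0, 10), (5, 11)]), ((1, 11), [])] = true := by
  decide +kernel

theorem witB2 : allWitness Cfsg.Lie.chevB2 allowTwo [((1, 7), [(1, 5)]), ((2, 6), [])] = true := by
  decide +kernel

theorem witD4 : allWitness Cfsg.Lie.chevD4 allowOne
    [((6, 22), []), ((1, 23), []), ((3, 22), []), ((2, 22), [])] = true := by decide +kernel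

theorem witF4 : allWitness Cfsg.Lie.chevF4 allowOne
    [((7, 44), []), ((8, 40), []), ((2, 46), []), ((1, 47), [])] = true := by decide +kernel

theorem witE6 : allWitness Cfsg.Lie.chevE6 allowOne
    [((16, 66), []), ((1, 71), []), ((5, 69), []), ((2, 70), []), ((3, 69), []), ((4, 68), [])] = true := by
  decide +kernel

theorem witE7 : allWitness Cfsg.Lie.chevE7 allowOne
    [((1, 125), []), ((7, 122), []), ((2, 124), []), ((3, 123), []), ((4, 122), []), ((5, 121), []),
      ((6, 120), [])] = true := by decide +kernel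

theorem witE8 : allWitness Cfsg.Lie.chevE8 allowOne
    [((14, 233), []), ((7, 234), []), ((6, 234), []), ((5, 235), []), ((4, 236), []), ((3, 237), []),
      ((2, 238), []), ((1, 239), [])] = true := by decide +kernel

theorem connG2 : isConn Cfsg.Lie.chevG2 [1, 0] = true := by decide +kernel
theorem connB2 : isConn Cfsg.Lie.chevB2 [1, 0] = true := by decide +kernel
theorem connD4 : isConn Cfsg.Lie.chevD4 [3, 2, 1, 0] = true := by decide +kernel
theorem connF4 : isConn Cfsg.Lie.chevF4 [3, 2, 1, 0] = true := by decide +kernel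
theorem connE6 : isConn Cfsg.Lie.chevE6 [5, 4, 1, 3, 2, 0] = true := by decide +kernel
theorem connE7 : isConn Cfsg.Lie.chevE7 [6, 5, 4, 1, 3, 2, 0] = true := by decide +kernel
theorem connE8 : isConn Cfsg.Lie.chevE8 [7, 6, 5, 4, 1, 3, 2, 0] = true := by decide +kernel

theorem perfect_of_mem {F : Type*} [Field F] {D : ChevalleyDatum}
    (hD : D ∈ [Cfsg.Lie.chevG2, Cfsg.Lie.chevB2, Cfsg.Lie.chevD4, Cfsg.Lie.chevF4, Cfsg.Lie.chevE6,
      Cfsg.Lie.chevE7, Cfsg.Lie.chevE8])
    (h2 : D = Cfsg.Lie.chevG2 ∨ D = Cfsg.Lie.chevB2 → ∃ a : F, a ≠ 0 ∧ a ≠ 1) :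
    commutator ↥(D.group F) = ⊤ := by
  simp only [List.mem_cons, List.not_mem_nil, or_false] at hD
  rcases hD with rfl | rfl | rfl | rfl | rfl | rfl | rfl
  · exact chevG2.group_perfect witG2 fun hsq c hc => allowTwo_ne (two_ne_zero_of_sq (h2 (Or.inl rfl)) hsq) hc
  · exact chevB2.group_perfect witB2 fun hsq c hc => allowTwo_ne (two_ne_zero_of_sq (h2 (Or.inr rfl)) hsq) hc
  · exact chevD4.group_perfect witD4 fun _ c hc => allowOne_ne hc
  · exact chevF4.group_perfect witF4 fun _ c hc => allowOne_ne hc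
  · exact chevE6.group_perfect witE6 fun _ c hc => allowOne_ne hc
  · exact chevE7.group_perfect witE7 fun _ c hc => allowOne_ne hc
  · exact chevE8.group_perfect witE8 fun _ c hc => allowOne_ne hc

theorem simple_of_conn {F : Type*} [Field F] {D : ChevalleyDatum} (Φ : Chev D) {L : List ℕ}
    (hL : isConn D L = true) (i0 : Fin D.rank) (hperf : commutator ↥(D.group F) = ⊤) :
    IsSimpleGroup ↥(D.group F) ∧ ¬ IsMulCommutative ↥(D.group F) :=
  Φ.group_simple hL i0 hperf Φ.normalCore_B

end CfsgLib.Chev
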