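/-
Orbit certificate for the Poincaré polynomial of the Weyl group of type F4.
-/
import Cfsg.Agent.Lib.Chev.PoincareCert
import Cfsg.Prelude.Def_ChevF4
import Cfsg.Prelude.Def_ChevStructure

namespace CfsgLib.Chev.Cert

open Cfsg.Lie

set_option maxRecDepth 100000

/-- The Cartan matrix. -/
def cmF4 (i j : Fin 4) : ℤ :=
  ([[2, -1, 0, 0], [-1, 2, -2, 0], [0, -1, 2, -1], [0, 0, -1, 2]].getD i.val []).getD j.val 0

/-- An orbit. -/
def orbF4_0 : Orbit :=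
  [([1, 0, 0, 0], 0),
   ([-1, 1, 0, 0], 1),
   ([0, -1, 2, 0], 2),
   ([0, 1, -2, 2], 3),
   ([0, 1, 0, -2], 4),
   ([1, -1, 0, 2], 4),
   ([-1, 0, 0, 2], 5),
   ([1, -1, 2, -2], 5),
   ([-1, 0, 2, -2], 6),
   ([1, 1, -2, 0], 6),
   ([-1, 2, -2, 0], 7),
   ([2, -1, 0, 0], 7),
   ([-2, 1, 0, 0], 8),
   ([1, -2, 2, 0], 8),
   ([-1, -1, 2, 0], 9),
   ([1, 0, -2, 2], 9),
   ([-1, 1, -2, 2], 10),
   ([1, 0, 0, -2], 10),
   ([-1, 1, 0, -2], 11),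
   ([0, -1, 0, 2], 11),
   ([0, -1, 2, -2], 12),
   ([0, 1, -2, 0], 13),
   ([1, -1, 0, 0], 14),
   ([-1, 0, 0, 0], 15)]

/-- An orbit. -/
def orbF4_1 : Orbit :=
  [([0, 0, 0, 1], 0),
   ([0, 0, 1, -1], 1),
   ([0, 1, -1, 0], 2),
   ([1, -1, 1, 0], 3),
   ([1, 0, -1, 1], 4),
   ([1, 0, 0, -1], 5)]

/-- An orbit. -/
def orbF4_2 : Orbit :=
  [([0, 1, 0, 0], 0),
   ([1, -1, 2, 0], 1),
   ([1, 1, -2, 2], 2),
   ([2, -1, 0, 2], 3)]

/-- An orbit. -/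
def orbF4_3 : Orbit :=
  [([0, 0, 1, 0], 0),
   ([0, 1, -1, 1], 1)]

/-- The chain. -/
def chainF4 : List (Fin 4 × Orbit) :=
  [(0, orbF4_0), (3, orbF4_1), (1, orbF4_2), (2, orbF4_3)]

theorem cartanF4 : ∀ a b : Fin 4,
    chevF4.cartan a.val (chevF4.simple b.val) = cmF4 a b := by
  decide +kernel

theorem chainF4_ok : chainOK cmF4 (List.finRange 4) chainF4 = true := by
  decide +kernel

theorem chainF4_deg : eqP (chainP chainF4) (degP [2, 6, 8, 12]) = true := by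
  decide +kernel

end CfsgLib.Chev.Cert
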