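/-
The orders of the Chevalley groups of type F4.
-/
import Cfsg.Agent.Lib.Chev.TorusOrder
import Cfsg.Agent.Lib.Chev.OrbitF4
import Cfsg.Agent.Lib.Chev.Inst

namespace CfsgLib.Chev

open Cfsg.Lie Matrix

set_option maxRecDepth 100000

theorem sumWF4 (Φ : Chev Cfsg.Lie.chevF4) (x : ℕ) :
    ∑ π ∈ Φ.WFin, x ^ Φ.inv π = Cert.evalP x (Cert.degP [2, 6, 8, 12]) :=
  Φ.sum_WFin (M := Cert.cmF4) Cert.cartanF4 Cert.chainF4_ok Cert.chainF4_deg x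

theorem cardWF4 (Φ : Chev Cfsg.Lie.chevF4) : Nat.card Φ.WL = 1152 :=
  (Φ.card_WL (M := Cert.cmF4) Cert.cartanF4 Cert.chainF4_ok Cert.chainF4_deg).trans (by decide +kernel)

theorem cardHF4 (Φ : Chev Cfsg.Lie.chevF4) (F : Type*) [Field F] [Finite F] :
    (∏ k : Fin 4, Nat.gcd (Nat.card F - 1) ([1, 1, 1, 1].getD k.val 0)) *
        Nat.card (Cfsg.Lie.chevF4.diagonalSubgroup F) = (Nat.card F - 1) ^ 4 :=
  Φ.card_H (!![2, -1, 0, 0; -1, 2, -1, 0; 0, -2, 2, -1; 0, 0, -1, 2] : Matrix (Fin 4) (Fin 4) ℤ)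
    (!![-1, 0, 0, 0; -2, -1, 0, 0; -2, -2, -1, 0; 2, 3, 2, 1] : Matrix (Fin 4) (Fin 4) ℤ) (!![-1, 0, 0, 0; 2, -1, 0, 0; -2, 2, -1, 0; 0, -1, 2, 1] : Matrix (Fin 4) (Fin 4) ℤ)
    (!![0, 0, 0, 1; 1, 0, 0, 2; 0, 1, 0, 3; 0, 0, 1, 2] : Matrix (Fin 4) (Fin 4) ℤ) (!![-2, 1, 0, 0; -3, 0, 1, 0; -2, 0, 0, 1; 1, 0, 0, 0] : Matrix (Fin 4) (Fin 4) ℤ)
    (fun k : Fin 4 => [1, 1, 1, 1].getD k.val 0)
    (show ∀ a b : Fin 4, Cfsg.Lie.chevF4.cartan a.val (Cfsg.Lie.chevF4.simple b.val) =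
      (!![2, -1, 0, 0; -1, 2, -1, 0; 0, -2, 2, -1; 0, 0, -1, 2] : Matrix (Fin 4) (Fin 4) ℤ) b a by decide +kernel)
    (by decide +kernel) (by decide +kernel) (by decide +kernel)

end CfsgLib.Chev
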