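/-
The Weyl group of the roots is the Coxeter group of its matrix of orders, and is N modulo H.
-/
import Cfsg.Agent.Lib.Chev.BNPairChev
import Cfsg.Agent.Lib.Chev.Bruhat
import Cfsg.Agent.Lib.BN.Coxeter

namespace CfsgLib.Chev

open Cfsg.Lie Matrix

set_option linter.dupNamespace false
set_option linter.unusedSectionVars false

/-- Iteration of a map of roots. -/
def orbIter {α : Type*} (f : α → α) : ℕ → α → α
  | 0, s => s
  | k + 1, s => f (orbIter f k s)

theorem pow_apply_eq_orbIter {α : Type*} (π : Equiv.Perm α) :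
    ∀ (k : ℕ) (s : α), (π ^ k) s = orbIter (π : α → α) k s
  | 0, s => rfl
  | k + 1, s => by
    rw [pow_succ', Equiv.Perm.mul_apply, pow_apply_eq_orbIter π k s]; rfl

theorem orderOf_perm_eq {α : Type*} {π : Equiv.Perm α} {m : ℕ} (hm : 0 < m)
    (h1 : ∀ s, orbIter (π : α → α) m s = s)
    (h2 : ∀ k < m, 0 < k → ∃ s, orbIter (π : α → α) k s ≠ s) : orderOf π = m := by
  rw [orderOf_eq_iff hm]
  refine ⟨Equiv.ext fun s => by rw [pow_apply_eq_orbIter, h1]; rfl, fun k hk hk0 e => ?_⟩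
  obtain ⟨s, hs⟩ := h2 k hk hk0
  exact hs (by rw [← pow_apply_eq_orbIter, e]; rfl)

variable {D : ChevalleyDatum}

namespace Chev

variable (Φ : Chev D) {F : Type*} [Field F]

/-- The permutation of a monomial element. -/
noncomputable def permN (F : Type*) [Field F] : D.monomialSubgroup F →* Φ.WL where
  toFun g := ⟨(Φ.exists_mono_W g.2).choose, (Φ.exists_mono_W g.2).choose_spec.1⟩
  map_one' := Subtype.ext (Mono.unique Φ (Φ.exists_mono_W (one_mem _)).choose_spec.2.1 (Mono.one Φ))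
  map_mul' a b := Subtype.ext (Mono.unique Φ (Φ.exists_mono_W (mul_mem a.2 b.2)).choose_spec.2.1
    (Mono.mul Φ (Φ.exists_mono_W a.2).choose_spec.2.1 (Φ.exists_mono_W b.2).choose_spec.2.1))

theorem permN_eq {g : D.monomialSubgroup F} {π : Equiv.Perm (Fin D.nroots)} (h : Φ.Mono (g : GL D.Idx F) π) :
    (Φ.permN F g : Equiv.Perm (Fin D.nroots)) = π :=
  Mono.unique Φ (Φ.exists_mono_W g.2).choose_spec.2.1 h

theorem permN_surjective : Function.Surjective (Φ.permN F) := by
  rintro ⟨π, hπ⟩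
  obtain ⟨g, hg, hm⟩ := Φ.exists_preimage F hπ
  exact ⟨⟨g, hg⟩, Subtype.ext (Φ.permN_eq (g := ⟨g, hg⟩) hm)⟩

theorem permN_ker : (Φ.permN F).ker = (D.diagonalSubgroup F).subgroupOf (D.monomialSubgroup F) := by
  ext g
  rw [MonoidHom.mem_ker, Subgroup.mem_subgroupOf]
  constructor
  · intro h
    refine Φ.mem_H_of_mono_one g.2 ?_
    have := (Φ.exists_mono_W g.2).choose_spec.2.1
    rwa [show (Φ.exists_mono_W g.2).choose = 1 from congrArg Subtype.val h] at this
  · intro h
    obtain ⟨c, hc⟩ := Φ.exists_torus_of_mem_H h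
    exact Subtype.ext (Φ.permN_eq (hc ▸ Φ.mono_torus c))

theorem permN_nw (i : Fin D.rank) (g : D.monomialSubgroup F) (hg : (g : GL D.Idx F) = Φ.nw (Φ.p i) 1) :
    (Φ.permN F g : Equiv.Perm (Fin D.nroots)) = Φ.reflPerm i :=
  Φ.permN_eq (hg ▸ Φ.nw_one_mono i)

/-- The fundamental generators of the (B,N)-pair. -/
noncomputable def genS (F : Type*) [Field F] (i : Fin D.rank) : (Φ.bnP F).S :=
  ⟨⟨Φ.nw (Φ.p i) 1, Φ.nw_mem_group _ _⟩, i, rfl⟩

theorem genS_surjective : Function.Surjective (Φ.genS F) := by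
  rintro ⟨⟨g, hg⟩, i, hi⟩
  exact ⟨i, Subtype.ext (Subtype.ext hi.symm)⟩

theorem genS_injective : Function.Injective (Φ.genS F) := fun i j h =>
  Φ.eq_of_nw_inv_mul_mem (F := F) (by
    have h' : Φ.nw (Φ.p i) (1 : Fˣ) = Φ.nw (Φ.p j) 1 :=
      congrArg (fun s : (Φ.bnP F).S => ((s.1 : ↥(D.group F)) : GL D.Idx F)) h
    rw [h', inv_mul_cancel]
    exact one_mem _)

/-- The permutation of an element of the Weyl group of the (B,N)-pair. -/
noncomputable def weylPerm (F : Type*) [Field F] : CfsgLib.BN.Weyl (Φ.bnP F) →* Φ.WL :=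
  QuotientGroup.lift _
    ((Φ.permN F).comp
      { toFun := fun n => ⟨((n : ↥(D.group F)) : GL D.Idx F), n.2⟩
        map_one' := rfl
        map_mul' := fun _ _ => rfl }) (by
      intro n hn
      rw [MonoidHom.mem_ker, MonoidHom.comp_apply]
      have hH : (((n : ↥(D.group F)) : GL D.Idx F)) ∈ D.diagonalSubgroup F := by
        rw [← Φ.B_inf_N]; exact ⟨hn.1, hn.2⟩
      obtain ⟨c, hc⟩ := Φ.exists_torus_of_mem_H hH
      have hm : Φ.Mono ((n : ↥(D.group F)) : GL D.Idx F) 1 := by rw [hc]; exact Φ.mono_torus c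
      exact Subtype.ext (Φ.permN_eq hm))

theorem weylPerm_injective : Function.Injective (Φ.weylPerm F) := by
  refine (injective_iff_map_eq_one _).2 fun q hq => ?_
  obtain ⟨n, rfl⟩ := CfsgLib.BN.cls_surjective (Φ.bnP F) q
  rw [CfsgLib.BN.cls_eq_one_iff]
  have hk : (⟨((n : ↥(D.group F)) : GL D.Idx F), n.2⟩ : D.monomialSubgroup F) ∈ (Φ.permN F).ker := hq
  rw [Φ.permN_ker, Subgroup.mem_subgroupOf] at hk
  exact H_le_B hk

theorem weylPerm_σ (i : Fin D.rank) :
    (Φ.weylPerm F (CfsgLib.BN.σ (Φ.bnP F) (Φ.genS F i)) : Equiv.Perm (Fin D.nroots)) = Φ.reflPerm i :=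
  Φ.permN_nw i _ rfl

/-- The Weyl group of the roots as a Coxeter group. -/
theorem exists_coxeter_iso {CM : CoxeterMatrix (Fin D.rank)}
    (hord : ∀ i j, orderOf (Φ.reflPerm i * Φ.reflPerm j) = CM i j) :
    ∃ e : CM.Group ≃* Φ.WL, ∀ i, (e (CM.simple i) : Equiv.Perm (Fin D.nroots)) = Φ.reflPerm i := by
  let f : Fin D.rank → Φ.WL := fun i => ⟨Φ.reflPerm i, Φ.reflPerm_mem_WL i⟩
  have hf : CM.IsLiftable f := fun i j => Subtype.ext (by
    show (Φ.reflPerm i * Φ.reflPerm j) ^ CM i j = 1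
    rw [← hord]; exact pow_orderOf_eq_one _)
  let φ : CM.Group →* Φ.WL := CM.toCoxeterSystem.lift ⟨f, hf⟩
  have hφ : ∀ i, φ (CM.simple i) = f i := fun i => by
    rw [← CoxeterMatrix.toCoxeterSystem_simple]
    exact CoxeterSystem.lift_apply_simple _ _ _
  let P := Φ.bnP ℚ
  let ι : Fin D.rank ≃ P.S := Equiv.ofBijective (Φ.genS ℚ) ⟨Φ.genS_injective, Φ.genS_surjective⟩
  have hι : ∀ i j, CfsgLib.BN.coxMatrix P (ι i) (ι j) = CM i j := fun i j => by
    show orderOf (CfsgLib.BN.σ P (Φ.genS ℚ i) * CfsgLib.BN.σ P (Φ.genS ℚ j)) = CM i j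
    rw [← orderOf_injective (Φ.weylPerm ℚ) Φ.weylPerm_injective, ← Subgroup.orderOf_coe, map_mul,
      Subgroup.coe_mul, Φ.weylPerm_σ, Φ.weylPerm_σ, hord]
  let g : P.S → CM.Group := fun s => CM.simple (ι.symm s)
  have hg : (CfsgLib.BN.coxMatrix P).IsLiftable g := fun s t => by
    obtain ⟨i, rfl⟩ := ι.surjective s
    obtain ⟨j, rfl⟩ := ι.surjective t
    rw [hι]
    simp only [g, Equiv.symm_apply_apply]
    have := CM.toCoxeterSystem.simple_mul_simple_pow i j
    simpa [CoxeterMatrix.toCoxeterSystem_simple] using this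
  let ψ : (CfsgLib.BN.coxMatrix P).Group →* CM.Group :=
    (CfsgLib.BN.coxMatrix P).toCoxeterSystem.lift ⟨g, hg⟩
  have hψ : ∀ i, ψ ((CfsgLib.BN.coxMatrix P).simple (ι i)) = CM.simple i := fun i => by
    rw [← CoxeterMatrix.toCoxeterSystem_simple]
    exact (CoxeterSystem.lift_apply_simple _ hg _).trans (congrArg CM.simple (ι.symm_apply_apply i))
  have hinj : Function.Injective φ := by
    refine (injective_iff_map_eq_one _).2 fun x hx => ?_
    obtain ⟨ω, rfl⟩ := CM.toCoxeterSystem.wordProd_surjective x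
    set y := ((ω.map ι).map (CfsgLib.BN.coxMatrix P).simple).prod with hy
    have hy1 : y = 1 := by
      refine (CfsgLib.BN.toWeyl_bijective P).1 (Φ.weylPerm_injective ?_)
      rw [map_one, map_one, ← hx, hy]
      apply Subtype.ext
      simp only [CoxeterSystem.wordProd, CoxeterMatrix.toCoxeterSystem_simple, map_list_prod,
        List.map_map]
      have : ∀ l : List (Fin D.rank),
          ((l.map (Φ.weylPerm ℚ ∘ CfsgLib.BN.toWeyl P ∘ (CfsgLib.BN.coxMatrix P).simple ∘ ι)).prod :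
            Equiv.Perm (Fin D.nroots)) = ((l.map (φ ∘ CM.simple)).prod : Φ.WL) := by
        intro l
        induction l with
        | nil => rfl
        | cons a l ih =>
          simp only [List.map_cons, List.prod_cons, Subgroup.coe_mul, Function.comp_apply, hφ,
            CfsgLib.BN.toWeyl_simple]
          rw [show ι a = Φ.genS ℚ a from rfl, Φ.weylPerm_σ]
          congr 1
      exact this ω
    have := congrArg ψ hy1
    rw [hy, map_one, map_list_prod, List.map_map, List.map_map] at this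
    rw [← this, CoxeterSystem.wordProd]
    congr 1
    exact List.map_congr_left fun a _ => by
      simp only [Function.comp_apply, hψ, CoxeterMatrix.toCoxeterSystem_simple]
  have hsurj : Function.Surjective φ := by
    rintro ⟨π, hπ⟩
    suffices ∃ x, (φ x : Equiv.Perm (Fin D.nroots)) = π from
      this.imp fun x hx => Subtype.ext hx
    induction hπ using Subgroup.closure_induction with
    | mem y hy => obtain ⟨i, -, rfl⟩ := hy; exact ⟨CM.simple i, by rw [hφ]⟩
    | one => exact ⟨1, by simp⟩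
    | mul a b _ _ ha hb =>
      obtain ⟨x, rfl⟩ := ha; obtain ⟨y, rfl⟩ := hb
      exact ⟨x * y, by simp⟩
    | inv a _ ha => obtain ⟨x, rfl⟩ := ha; exact ⟨x⁻¹, by simp⟩
  exact ⟨MulEquiv.ofBijective φ ⟨hinj, hsurj⟩, fun i => congrArg Subtype.val (hφ i)⟩

end Chev

end CfsgLib.Chev
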