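/-
The Weyl group of type E6 as a Coxeter group.
-/
import Cfsg.Agent.Lib.Chev.CoxeterIso
import Cfsg.Agent.Lib.Chev.Inst
import Cfsg.Prelude.Def_ChevStructure

namespace CfsgLib.Chev

open Cfsg.Lie

set_option maxRecDepth 100000

/-- The Coxeter matrix, indexed by the fundamental roots. -/
def coxE6 : CoxeterMatrix (Fin Cfsg.Lie.chevE6.rank) := CoxeterMatrix.E₆

theorem coxOrdE6 (i j : Fin Cfsg.Lie.chevE6.rank) :
    orderOf (chevE6.reflPerm i * chevE6.reflPerm j) = coxE6 i j := by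
  have key : ∀ p : Fin Cfsg.Lie.chevE6.rank × Fin Cfsg.Lie.chevE6.rank, 0 < coxE6 p.1 p.2 ∧
      (∀ s, orbIter (fun s => chevE6.refl p.1 (chevE6.refl p.2 s)) (coxE6 p.1 p.2) s = s) ∧
      ∀ k < coxE6 p.1 p.2, 0 < k →
        ∃ s, orbIter (fun s => chevE6.refl p.1 (chevE6.refl p.2 s)) k s ≠ s := by
    decide +kernel
  exact orderOf_perm_eq (key (i, j)).1 (key (i, j)).2.1 (key (i, j)).2.2

theorem coxIsoE6 :
    ∃ e : (CoxeterMatrix.E₆).Group ≃* chevE6.WL, ∀ i,
      (e ((CoxeterMatrix.E₆).simple i) : Equiv.Perm (Fin Cfsg.Lie.chevE6.nroots)) = chevE6.reflPerm i :=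
  chevE6.exists_coxeter_iso (CM := coxE6) coxOrdE6

theorem coxEltE6 : orderOf ((List.finRange Cfsg.Lie.chevE6.rank).map chevE6.reflPerm).prod = 12 := by
  have key : (∀ s, orbIter (fun s => (List.finRange Cfsg.Lie.chevE6.rank).foldr (fun i x => chevE6.refl i x) s) 12 s = s) ∧
      ∀ k < 12, 0 < k →
        ∃ s, orbIter (fun s => (List.finRange Cfsg.Lie.chevE6.rank).foldr (fun i x => chevE6.refl i x) s) k s ≠ s := by
    decide +kernel
  refine orderOf_perm_eq (by norm_num) ?_ ?_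
  all_goals
    rw [show (((List.finRange Cfsg.Lie.chevE6.rank).map chevE6.reflPerm).prod : Fin Cfsg.Lie.chevE6.nroots → Fin Cfsg.Lie.chevE6.nroots) =
      (fun s => (List.finRange Cfsg.Lie.chevE6.rank).foldr (fun i x => chevE6.refl i x) s) from rfl]
  exacts [key.1, key.2]

end CfsgLib.Chev
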