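/-
The Weyl group of type F4 as a Coxeter group.
-/
import Cfsg.Agent.Lib.Chev.CoxeterIso
import Cfsg.Agent.Lib.Chev.Inst
import Cfsg.Prelude.Def_ChevStructure

namespace CfsgLib.Chev

open Cfsg.Lie

set_option maxRecDepth 100000

/-- The Coxeter matrix, indexed by the fundamental roots. -/
def coxF4 : CoxeterMatrix (Fin Cfsg.Lie.chevF4.rank) := CoxeterMatrix.F₄

theorem coxOrdF4 (i j : Fin Cfsg.Lie.chevF4.rank) :
    orderOf (chevF4.reflPerm i * chevF4.reflPerm j) = coxF4 i j := by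
  have key : ∀ p : Fin Cfsg.Lie.chevF4.rank × Fin Cfsg.Lie.chevF4.rank, 0 < coxF4 p.1 p.2 ∧
      (∀ s, orbIter (fun s => chevF4.refl p.1 (chevF4.refl p.2 s)) (coxF4 p.1 p.2) s = s) ∧
      ∀ k < coxF4 p.1 p.2, 0 < k →
        ∃ s, orbIter (fun s => chevF4.refl p.1 (chevF4.refl p.2 s)) k s ≠ s := by
    decide +kernel
  exact orderOf_perm_eq (key (i, j)).1 (key (i, j)).2.1 (key (i, j)).2.2

theorem coxIsoF4 :
    ∃ e : (CoxeterMatrix.F₄).Group ≃* chevF4.WL, ∀ i,
      (e ((CoxeterMatrix.F₄).simple i) : Equiv.Perm (Fin Cfsg.Lie.chevF4.nroots)) = chevF4.reflPerm i :=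
  chevF4.exists_coxeter_iso (CM := coxF4) coxOrdF4

theorem coxEltF4 : orderOf ((List.finRange Cfsg.Lie.chevF4.rank).map chevF4.reflPerm).prod = 12 := by
  have key : (∀ s, orbIter (fun s => (List.finRange Cfsg.Lie.chevF4.rank).foldr (fun i x => chevF4.refl i x) s) 12 s = s) ∧
      ∀ k < 12, 0 < k →
        ∃ s, orbIter (fun s => (List.finRange Cfsg.Lie.chevF4.rank).foldr (fun i x => chevF4.refl i x) s) k s ≠ s := by
    decide +kernel
  refine orderOf_perm_eq (by norm_num) ?_ ?_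
  all_goals
    rw [show (((List.finRange Cfsg.Lie.chevF4.rank).map chevF4.reflPerm).prod : Fin Cfsg.Lie.chevF4.nroots → Fin Cfsg.Lie.chevF4.nroots) =
      (fun s => (List.finRange Cfsg.Lie.chevF4.rank).foldr (fun i x => chevF4.refl i x) s) from rfl]
  exacts [key.1, key.2]

end CfsgLib.Chev
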