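/-
Homomorphisms from SL₂ given by a pair of root subgroups; the rank one subgroups of a Chevalley group.
-/
import Cfsg.Agent.Lib.Chev.HN
import Mathlib.LinearAlgebra.Matrix.SpecialLinearGroup

namespace CfsgLib.Chev

open Cfsg.Lie Matrix

set_option linter.dupNamespace false
set_option linter.unusedSimpArgs false

/-- The rules satisfied by a pair of root subgroups in rank one. -/
structure RankOne (F : Type*) [Field F] (G : Type*) [Group G] where
  x : F → G
  y : F → G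
  n : Fˣ → G
  h : Fˣ → G
  x_add : ∀ a b, x (a + b) = x a * x b
  n_def : ∀ t : Fˣ, n t = x (t : F) * y (-(t : F)⁻¹) * x (t : F)
  n_eq : ∀ t, n t = h t * n 1
  h_mul : ∀ a b, h (a * b) = h a * h b
  h_x : ∀ (t : Fˣ) (u : F), h t * x u = x ((t : F) ^ 2 * u) * h t
  n_h : ∀ t, n 1 * h t = h t⁻¹ * n 1
  n_sq : n 1 * n 1 = h (-1)
  n_x : ∀ u, n 1 * x u = y (-u) * n 1

namespace RankOne

variable {F : Type*} [Field F] {G : Type*} [Group G] (R : RankOne F G)

theorem x_zero : R.x 0 = 1 := by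
  have := R.x_add 0 0
  rw [add_zero] at this
  exact mul_left_cancel (this.symm.trans (mul_one _).symm)

theorem x_neg (a : F) : R.x (-a) = (R.x a)⁻¹ :=
  eq_inv_of_mul_eq_one_left (by rw [← R.x_add, neg_add_cancel, R.x_zero])

theorem h_one : R.h 1 = 1 := by
  have := R.h_mul 1 1
  rw [one_mul] at this
  exact mul_left_cancel (this.symm.trans (mul_one _).symm)

open Classical in
/-- The map given on Bruhat normal forms. -/
noncomputable def f (g : SpecialLinearGroup (Fin 2) F) : G :=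
  if hc : g.1 1 0 = 0 then
    R.h (Units.mk0 (g.1 0 0) (by
      intro ha
      have := g.2
      rw [Matrix.det_fin_two, ha, hc] at this
      simp at this)) * R.x (g.1 0 1 / g.1 0 0)
  else R.x (g.1 0 0 / g.1 1 0) * R.n (Units.mk0 (-(g.1 1 0)⁻¹) (neg_ne_zero.mpr (inv_ne_zero hc))) *
    R.x (g.1 1 1 / g.1 1 0)

theorem f_of_zero {g : SpecialLinearGroup (Fin 2) F} (hc : g.1 1 0 = 0) (a : Fˣ) (ha : g.1 0 0 = a) :
    R.f g = R.h a * R.x (g.1 0 1 / a) := by
  rw [f, dif_pos hc]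
  congr 2
  · exact Units.ext ha
  · rw [ha]

theorem f_of_ne {g : SpecialLinearGroup (Fin 2) F} (hc : g.1 1 0 ≠ 0) (t : Fˣ)
    (ht : (t : F) = -(g.1 1 0)⁻¹) :
    R.f g = R.x (g.1 0 0 / g.1 1 0) * R.n t * R.x (g.1 1 1 / g.1 1 0) := by
  rw [f, dif_neg hc]
  congr 3
  exact Units.ext ht.symm

/-- The upper unitriangular matrices. -/
def u (t : F) : SpecialLinearGroup (Fin 2) F := ⟨!![1, t; 0, 1], by simp [Matrix.det_fin_two]⟩

/-- The lower unitriangular matrices. -/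
def l (t : F) : SpecialLinearGroup (Fin 2) F := ⟨!![1, 0; t, 1], by simp [Matrix.det_fin_two]⟩

/-- The Weyl element. -/
def w : SpecialLinearGroup (Fin 2) F := ⟨!![0, 1; -1, 0], by simp [Matrix.det_fin_two]⟩

theorem val_mul (a b : SpecialLinearGroup (Fin 2) F) : (a * b).1 = a.1 * b.1 := rfl

theorem f_one : R.f 1 = 1 := by
  rw [R.f_of_zero (by simp) 1 (by simp)]
  simp [R.h_one, R.x_zero]

theorem u_mul_apply (b : F) (g : SpecialLinearGroup (Fin 2) F) :
    (u b * g).1 0 0 = g.1 0 0 + b * g.1 1 0 ∧ (u b * g).1 0 1 = g.1 0 1 + b * g.1 1 1 ∧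
    (u b * g).1 1 0 = g.1 1 0 ∧ (u b * g).1 1 1 = g.1 1 1 := by
  simp only [val_mul]
  simp [u, Matrix.mul_apply, Fin.sum_univ_two]

theorem w_mul_apply (g : SpecialLinearGroup (Fin 2) F) :
    (w * g).1 0 0 = g.1 1 0 ∧ (w * g).1 0 1 = g.1 1 1 ∧
    (w * g).1 1 0 = -g.1 0 0 ∧ (w * g).1 1 1 = -g.1 0 1 := by
  simp only [val_mul]
  simp [w, Matrix.mul_apply, Fin.sum_univ_two]

theorem f_u_mul (b : F) (g : SpecialLinearGroup (Fin 2) F) : R.f (u b * g) = R.x b * R.f g := by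
  obtain ⟨e00, e01, e10, e11⟩ := u_mul_apply b g
  have hdet := g.2
  rw [Matrix.det_fin_two] at hdet
  by_cases hc : g.1 1 0 = 0
  · rw [hc, mul_zero, sub_zero] at hdet
    have ha : g.1 0 0 ≠ 0 := left_ne_zero_of_mul_eq_one hdet
    rw [R.f_of_zero (by rw [e10, hc]) (Units.mk0 _ ha) (by rw [e00, hc, mul_zero, add_zero]; rfl),
      R.f_of_zero hc (Units.mk0 _ ha) rfl, ← mul_assoc,
      show R.x b * R.h (Units.mk0 _ ha) = R.h (Units.mk0 _ ha) * R.x (b / g.1 0 0 ^ 2) by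
        rw [R.h_x]; congr 2; rw [Units.val_mk0]; field_simp,
      mul_assoc, ← R.x_add, e01]
    congr 2
    rw [Units.val_mk0, pow_two]
    field_simp
    linear_combination b * hdet
  · rw [R.f_of_ne (by rw [e10]; exact hc) (Units.mk0 _ (neg_ne_zero.mpr (inv_ne_zero hc))) (by rw [e10]; rfl),
      R.f_of_ne hc (Units.mk0 _ (neg_ne_zero.mpr (inv_ne_zero hc))) rfl,
      ← mul_assoc (R.x b), ← mul_assoc (R.x b), ← R.x_add, e00, e10, e11]
    congr 3
    field_simp
    ring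

theorem f_w_mul (g : SpecialLinearGroup (Fin 2) F) : R.f (w * g) = R.n 1 * R.f g := by
  obtain ⟨e00, e01, e10, e11⟩ := w_mul_apply g
  have hdet := g.2
  rw [Matrix.det_fin_two] at hdet
  have hn1 : ∀ t : Fˣ, R.n 1 * R.n t = R.h (-t⁻¹) := fun t => by
    rw [R.n_eq t, ← mul_assoc, R.n_h, mul_assoc, R.n_sq, ← R.h_mul, mul_neg, mul_one]
  by_cases hc : g.1 1 0 = 0
  · rw [hc, mul_zero, sub_zero] at hdet
    have ha : g.1 0 0 ≠ 0 := left_ne_zero_of_mul_eq_one hdet
    rw [R.f_of_ne (by rw [e10]; exact neg_ne_zero.mpr ha) (Units.mk0 _ ha)⁻¹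
        (by simp [e10, inv_neg, neg_neg]),
      R.f_of_zero hc (Units.mk0 _ ha) rfl, ← mul_assoc (R.n 1), R.n_h, ← R.n_eq,
      e00, hc, zero_div, R.x_zero, one_mul, e10, e11, neg_div_neg_eq]
    rfl
  · by_cases ha : g.1 0 0 = 0
    · rw [R.f_of_zero (by rw [e10, ha, neg_zero]) (Units.mk0 _ hc) (by rw [e00]; rfl),
        R.f_of_ne hc (-(Units.mk0 _ hc)⁻¹) (by simp), ha, zero_div, R.x_zero, one_mul, ← mul_assoc, hn1,
        e01, Units.val_mk0]
      congr 2
      apply Units.ext; simp [inv_neg]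
    · rw [R.f_of_ne (by rw [e10]; exact neg_ne_zero.mpr ha) (Units.mk0 _ ha)⁻¹
          (by simp [e10, inv_neg, neg_neg]),
        R.f_of_ne hc (-(Units.mk0 _ hc)⁻¹) (by simp), e00, e10, e11]
      set a := Units.mk0 _ ha with hadef
      set c := Units.mk0 _ hc with hcdef
      have hA : g.1 0 0 = (a : F) := rfl
      have hC : g.1 1 0 = (c : F) := rfl
      rw [hA, hC, ← mul_assoc (R.n 1) (_ * _), ← mul_assoc (R.n 1), R.n_x, mul_assoc (R.y _) (R.n 1), hn1,
        neg_div_neg_eq, show (-(-c⁻¹)⁻¹ : Fˣ) = c by simp]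
      have hy : R.y (-((a : F) / c)) = R.x (-((c : F) / a)) * R.n (c * a⁻¹) * R.x (-((c : F) / a)) := by
        rw [R.n_def, R.x_neg, Units.val_mul, Units.val_inv_eq_inv_val, show (c : F) * (a : F)⁻¹ = (c : F) / a from (div_eq_mul_inv _ _).symm, inv_div]
        group
      rw [hy, mul_assoc (R.x _ * R.n _) (R.x _) (R.h c),
        show R.x (-((c : F) / a)) * R.h c = R.h c * R.x (-((c : F) / a) / (c : F) ^ 2) by
          rw [R.h_x]; congr 2; field_simp,
        ← mul_assoc (R.x _ * R.n _), mul_assoc _ (R.x _) (R.x _), ← R.x_add,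
        mul_assoc (R.x _) (R.n _) (R.h c), R.n_eq (c * a⁻¹), mul_assoc (R.h _) (R.n 1) (R.h c), R.n_h, ← mul_assoc (R.h _),
        ← R.h_mul, ← R.n_eq, div_neg]
      congr 1
      · congr 2
        rw [mul_assoc, mul_comm a⁻¹, ← mul_assoc, mul_inv_cancel, one_mul]
      · congr 1
        rw [hA, hC] at hdet
        field_simp
        linear_combination (-1 : F) * hdet

theorem closure_u_w : Subgroup.closure (Set.range u ∪ {w}) =
    (⊤ : Subgroup (SpecialLinearGroup (Fin 2) F)) := by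
  set K := Subgroup.closure (Set.range (u (F := F)) ∪ {w}) with hK
  have hu : ∀ t, u t ∈ K := fun t => Subgroup.subset_closure (Or.inl ⟨t, rfl⟩)
  have hw : w ∈ K := Subgroup.subset_closure (Or.inr rfl)
  have main : ∀ g : SpecialLinearGroup (Fin 2) F, g.1 1 0 ≠ 0 → g ∈ K := by
    intro g hc
    have hdet := g.2
    rw [Matrix.det_fin_two] at hdet
    have hl : w * u (-g.1 1 0) * w⁻¹ = l (g.1 1 0) := by
      rw [mul_inv_eq_iff_eq_mul]
      refine Subtype.ext ?_
      simp only [val_mul]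
      ext i j
      fin_cases i <;> fin_cases j <;>
        simp [u, l, w, Matrix.mul_apply, Fin.sum_univ_two]
    have : g = u ((g.1 0 0 - 1) / g.1 1 0) * l (g.1 1 0) * u ((g.1 1 1 - 1) / g.1 1 0) := by
      refine Subtype.ext ?_
      simp only [val_mul]
      ext i j
      fin_cases i <;> fin_cases j <;>
        simp [u, l, Matrix.mul_apply, Fin.sum_univ_two]
      · field_simp; ring
      · field_simp; linear_combination (-1 : F) * hdet
      · field_simp; ring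
    rw [this, ← hl]
    exact mul_mem (mul_mem (hu _) (mul_mem (mul_mem hw (hu _)) (inv_mem hw))) (hu _)
  rw [eq_top_iff]
  intro g _
  by_cases hc : g.1 1 0 = 0
  · have hdet := g.2
    rw [Matrix.det_fin_two, hc, mul_zero, sub_zero] at hdet
    have := main (w * g) (by rw [(w_mul_apply g).2.2.1]; exact neg_ne_zero.mpr (left_ne_zero_of_mul_eq_one hdet))
    exact (K.mul_mem_cancel_left hw).mp this
  · exact main g hc

/-- The homomorphism from SL₂. -/
noncomputable def hom : SpecialLinearGroup (Fin 2) F →* G :=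
  MonoidHom.mk' R.f fun a b => by
    have ha : a ∈ Subgroup.closure (Set.range u ∪ {w}) := by rw [closure_u_w]; trivial
    induction ha using Subgroup.closure_induction generalizing b with
    | mem g hg =>
      rcases hg with ⟨t, rfl⟩ | rfl
      · have := R.f_u_mul t 1
        rw [mul_one, R.f_one, mul_one] at this
        rw [R.f_u_mul, this]
      · have := R.f_w_mul 1
        rw [mul_one, R.f_one, mul_one] at this
        rw [R.f_w_mul, this]
    | one => rw [one_mul, R.f_one, one_mul]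
    | mul p q _ _ hp hq => rw [mul_assoc, hp, hq, hp, mul_assoc]
    | inv p _ hp =>
      have h1 := hp p⁻¹
      rw [mul_inv_cancel, R.f_one] at h1
      have h2 := hp (p⁻¹ * b)
      rw [mul_inv_cancel_left] at h2
      rw [eq_inv_of_mul_eq_one_right h1.symm, h2, inv_mul_cancel_left]

theorem hom_u (t : F) : R.hom (u t) = R.x t := by
  show R.f (u t) = _
  have := R.f_u_mul t 1
  rwa [mul_one, R.f_one, mul_one] at this

theorem hom_l (t : F) : R.hom (l t) = R.y t := by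
  show R.f (l t) = _
  by_cases ht : t = 0
  · subst ht
    rw [show (l 0 : SpecialLinearGroup (Fin 2) F) = 1 from Subtype.ext (by simp [l, Matrix.one_fin_two]), R.f_one]
    have := R.n_x 0
    rw [R.x_zero, mul_one, neg_zero] at this
    exact (mul_eq_right.mp this.symm).symm
  · rw [R.f_of_ne (g := l t) (by simpa [l] using ht) (-(Units.mk0 t ht)⁻¹) (by simp [l]),
      R.n_def, show (l t).1 0 0 / (l t).1 1 0 = t⁻¹ by simp [l],
      show (l t).1 1 1 / (l t).1 1 0 = t⁻¹ by simp [l]]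
    have e : ((-(Units.mk0 t ht)⁻¹ : Fˣ) : F) = -t⁻¹ := by simp
    rw [e, inv_neg, inv_inv, neg_neg, R.x_neg]
    group

theorem range_hom : R.hom.range = Subgroup.closure (Set.range R.x ∪ Set.range R.y) := by
  refine le_antisymm ?_ ((Subgroup.closure_le _).mpr ?_)
  · rw [MonoidHom.range_eq_map, ← closure_u_w, MonoidHom.map_closure, Subgroup.closure_le]
    rintro _ ⟨g, ⟨t, rfl⟩ | rfl, rfl⟩
    · rw [R.hom_u]; exact Subgroup.subset_closure (Or.inl ⟨t, rfl⟩)
    · rw [show (w : SpecialLinearGroup (Fin 2) F) = u 1 * l (-1) * u 1 from Subtype.ext (by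
        simp only [val_mul]
        ext i j; fin_cases i <;> fin_cases j <;>
          simp [u, l, w, Matrix.mul_apply, Fin.sum_univ_two]),
        map_mul, map_mul, R.hom_u, R.hom_l]
      exact mul_mem (mul_mem (Subgroup.subset_closure (Or.inl ⟨_, rfl⟩))
        (Subgroup.subset_closure (Or.inr ⟨_, rfl⟩))) (Subgroup.subset_closure (Or.inl ⟨_, rfl⟩))
  · rintro _ (⟨t, rfl⟩ | ⟨t, rfl⟩)
    · exact ⟨_, R.hom_u t⟩
    · exact ⟨_, R.hom_l t⟩

end RankOne

variable {D : ChevalleyDatum}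

namespace Chev

variable (Φ : Chev D) {F : Type*} [Field F]

theorem hw_xg (r : Fin D.nroots) (t : Fˣ) (u : F) :
    Φ.hw r t * Φ.toAlg.xg r u = Φ.toAlg.xg r ((t : F) ^ 2 * u) * Φ.hw r t := by
  rw [Φ.hw_eq, Φ.toAlg.torus_xg, Φ.chi_coChar, Φ.pair_self]
  rw [show (2 : ℤ) = ((2 : ℕ) : ℤ) from rfl, zpow_natCast, Units.val_pow_eq_pow_val]

theorem hw_one (r : Fin D.nroots) : Φ.hw r (1 : Fˣ) = 1 := by
  have := Φ.hw_mul r (1 : Fˣ) 1
  rw [one_mul] at this
  exact mul_left_cancel (this.symm.trans (mul_one _).symm)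

theorem nw_hw (r : Fin D.nroots) (t : Fˣ) : Φ.nw r 1 * Φ.hw r t = Φ.hw r t⁻¹ * Φ.nw r 1 := by
  have key : ∀ s : Fˣ, Φ.hw r (-1) * Φ.nw r 1 * Φ.hw r s⁻¹ = Φ.hw r (-s) * Φ.nw r 1 := by
    intro s
    rw [← Φ.nw_eq_hw_mul, ← Φ.nw_eq_hw_mul, Φ.nw_neg, Φ.nw_neg, Φ.nw_eq_hw_mul r s, _root_.mul_inv_rev]
    congr 1
    exact (inv_eq_of_mul_eq_one_right (by rw [← Φ.hw_mul, mul_inv_cancel, Φ.hw_one])).symm
  have h := key t⁻¹
  rw [inv_inv, mul_assoc] at h
  rw [← mul_left_cancel_iff (a := Φ.hw r (-1)), h, ← mul_assoc, ← Φ.hw_mul, neg_one_mul]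

theorem nw_sq (r : Fin D.nroots) : Φ.nw r (1 : Fˣ) * Φ.nw r 1 = Φ.hw r (-1) := by
  have h1 : Φ.hw r (-1 : Fˣ) * (Φ.nw r 1 * Φ.nw r 1) = 1 := by
    rw [← mul_assoc, ← Φ.nw_eq_hw_mul, Φ.nw_neg, inv_mul_cancel]
  have h2 : Φ.hw r (-1 : Fˣ) * Φ.hw r (-1) = 1 := by rw [← Φ.hw_mul, neg_mul_neg, one_mul, Φ.hw_one]
  exact mul_left_cancel (h1.trans h2.symm)

/-- `n_r(1) x_r(u) n_r(1)⁻¹ = x_{-r}(-u)`. -/
theorem nw_xg_self (r : Fin D.nroots) : ∀ u : F,
    Φ.nw r 1 * Φ.toAlg.xg r u = Φ.toAlg.xg r.rev (-u) * Φ.nw r 1 := by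
  induction r using Φ.root_induction with
  | hp i =>
    intro u
    rw [Φ.nw_conj_xg, Φ.refl_p, (Φ.eta_p i).1]
    push_cast
    rw [neg_one_mul]
  | hstep i r ih =>
    intro u
    set N := Φ.nw (Φ.p i) (1 : Fˣ)
    set e := Φ.etaU F i r with he
    have hee : (e : F) * e = 1 := by
      rcases Φ.eta_unit i r with h | h <;> simp [he, etaU, h]
    have hN : ∀ v, N * Φ.toAlg.xg r v = Φ.toAlg.xg (Φ.refl i r) ((e : F) * v) * N := fun v => by
      rw [Φ.nw_conj_xg, Φ.etaU_val]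
    have hN' : ∀ v, N * Φ.toAlg.xg r.rev v = Φ.toAlg.xg (Φ.refl i r).rev ((e : F) * v) * N := fun v => by
      rw [Φ.nw_conj_xg, Φ.refl_rev, ← Φ.etaU_val, Φ.etaU_rev]
    have hn : N * Φ.nw r 1 = Φ.nw (Φ.refl i r) e * N := by
      rw [Φ.nw_conj_nw, mul_one]
    have key : ∀ v, Φ.nw (Φ.refl i r) e * Φ.toAlg.xg (Φ.refl i r) v =
        Φ.toAlg.xg (Φ.refl i r).rev (-v) * Φ.nw (Φ.refl i r) e := by
      intro v
      refine mul_right_cancel (b := N) ?_
      have e1 : Φ.toAlg.xg (Φ.refl i r) v * N = N * Φ.toAlg.xg r ((e : F) * v) := by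
        rw [hN, ← mul_assoc, hee, one_mul]
      rw [mul_assoc, e1, ← mul_assoc, ← hn, mul_assoc, ih, ← mul_assoc, hN', mul_assoc, hn, mul_assoc,
        mul_neg, ← mul_assoc (e : F), hee, one_mul]
    rcases (show e = 1 ∨ e = -1 by rw [he]; unfold etaU; split_ifs <;> simp) with h | h
    · rw [h] at key; exact key u
    · rw [h, Φ.nw_eq_hw_mul] at key
      refine mul_left_cancel (a := Φ.hw (Φ.refl i r) (-1)) ?_
      rw [← mul_assoc, key, ← mul_assoc, ← mul_assoc]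
      congr 1
      have hc : Φ.hw (Φ.refl i r) (-1 : Fˣ) * Φ.toAlg.xg (Φ.refl i r).rev (-u) =
          Φ.toAlg.xg (Φ.refl i r).rev (-u) * Φ.hw (Φ.refl i r) (-1) := by
        rw [Φ.hw_eq, Φ.toAlg.torus_xg, Φ.toSys.chi_neg, Φ.chi_coChar, Φ.pair_self]
        simp [zpow_two]
      rw [hc]

/-- The rank one data of a root. -/
noncomputable def rankOne (F : Type*) [Field F] (r : Fin D.nroots) : RankOne F (GL D.Idx F) where
  x := Φ.toAlg.xg r
  y := Φ.toAlg.xg r.rev
  n := Φ.nw r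
  h := Φ.hw r
  x_add := Φ.toAlg.xg_add r
  n_def _ := rfl
  n_eq := Φ.nw_eq_hw_mul r
  h_mul := Φ.hw_mul r
  h_x := Φ.hw_xg r
  n_h := Φ.nw_hw r
  n_sq := Φ.nw_sq r
  n_x := Φ.nw_xg_self r

end Chev

end CfsgLib.Chev
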