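/-
The group presented by the relators (R1), (R2) alone: lifting of the Weyl group action, Bruhat form, kernel.
-/
import Cfsg.Agent.Lib.Chev.Steinberg
import Cfsg.Agent.Lib.Chev.Words
import Cfsg.Prelude.Def_SteinbergCover

namespace CfsgLib.Chev

open Cfsg.Lie Matrix

set_option linter.dupNamespace false
set_option linter.unusedSimpArgs false

variable {D : ChevalleyDatum}

namespace Chev

variable (Φ : Chev D) {F : Type*} [Field F]

/-- The generator of the presented group. -/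
def cgx (_Φ : Chev D) (r : Fin D.nroots) (t : F) : D.SteinbergCover F := D.scGen F r.val t

/-- The element `n̄_r(t)`. -/
def cgn (r : Fin D.nroots) (t : Fˣ) : D.SteinbergCover F :=
  Φ.cgx r (t : F) * Φ.cgx r.rev (-(t : F)⁻¹) * Φ.cgx r (t : F)

/-- The element `h̄_r(t)`. -/
def cgh (r : Fin D.nroots) (t : Fˣ) : D.SteinbergCover F := Φ.cgn r t * Φ.cgn r (-1)

theorem cgx_add (r : Fin D.nroots) (a b : F) : Φ.cgx r (a + b) = Φ.cgx r a * Φ.cgx r b := by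
  have h : PresentedGroup.mk (D.steinbergRelsAB F)
      (D.stX r.val a * D.stX r.val b * (D.stX r.val (a + b))⁻¹) = 1 :=
    PresentedGroup.one_of_mem (Or.inl ⟨r.val, a, b, r.isLt, rfl⟩)
  rw [map_mul, map_mul, map_inv, mul_inv_eq_one] at h
  exact h.symm

theorem cgx_zero (r : Fin D.nroots) : Φ.cgx r (0 : F) = 1 := by
  have := Φ.cgx_add r (0 : F) 0
  rw [add_zero] at this
  exact mul_left_cancel (this.symm.trans (mul_one _).symm)

theorem cgx_neg (r : Fin D.nroots) (t : F) : Φ.cgx r (-t) = (Φ.cgx r t)⁻¹ :=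
  eq_inv_of_mul_eq_one_left (by rw [← Φ.cgx_add, neg_add_cancel, Φ.cgx_zero])

/-- The subgroup of the presented group attached to a set of roots. -/
def cgUS (F : Type*) [Field F] (S : Fin D.nroots → Prop) : Subgroup (D.SteinbergCover F) :=
  Subgroup.closure {g | ∃ r t, S r ∧ Φ.cgx r t = g}

theorem cgx_mem_gUS {S : Fin D.nroots → Prop} {r : Fin D.nroots} (h : S r) (t : F) :
    Φ.cgx r t ∈ Φ.cgUS F S :=
  Subgroup.subset_closure ⟨r, t, h, rfl⟩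

theorem cgUS_mono {S T : Fin D.nroots → Prop} (h : ∀ r, S r → T r) : Φ.cgUS F S ≤ Φ.cgUS F T :=
  Subgroup.closure_mono fun _ ⟨r, t, hr, e⟩ => ⟨r, t, h r hr, e⟩

theorem cgen_induction {Q : D.SteinbergCover F → Prop} (h1 : Q 1)
    (hx : ∀ r t y, Q y → Q (Φ.cgx r t * y)) : ∀ g, Q g := by
  intro g
  have hg : g ∈ Subgroup.closure (Set.range (PresentedGroup.of (rels := D.steinbergRelsAB F))) := by
    rw [PresentedGroup.closure_range_of]; trivial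
  have key : ∀ p : Fin D.nroots × F, PresentedGroup.of p = Φ.cgx p.1 p.2 := by
    rintro ⟨r, t⟩
    simp only [cgx, ChevalleyDatum.scGen, ChevalleyDatum.stX, dif_pos r.isLt]
    rfl
  induction hg using Subgroup.closure_induction_left with
  | one => exact h1
  | mul_left x hx' y _ ih =>
    obtain ⟨p, rfl⟩ := hx'
    rw [key]; exact hx _ _ _ ih
  | inv_mul_cancel x hx' y _ ih =>
    obtain ⟨p, rfl⟩ := hx'
    rw [key, ← Φ.cgx_neg]; exact hx _ _ _ ih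

theorem cgword_mem {S : Fin D.nroots → Prop} (w : List (ℕ × F))
    (h : ∀ p ∈ w, ∃ hp : p.1 < D.nroots, S ⟨p.1, hp⟩) :
    PresentedGroup.mk (D.steinbergRelsAB F) (D.stWord w) ∈ Φ.cgUS F S := by
  rw [ChevalleyDatum.stWord, map_list_prod, List.map_map]
  refine Subgroup.list_prod_mem _ fun g hg => ?_
  obtain ⟨p, hp, rfl⟩ := List.mem_map.mp hg
  obtain ⟨hlt, hS⟩ := h p hp
  exact Φ.cgx_mem_gUS hS p.2

theorem cgx_conj {S : Fin D.nroots → Prop} {r s : Fin D.nroots} (hrs : s ≠ r) (hneg : s ≠ r.rev)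
    (hs : S s) (hS : ∀ c ∈ D.commTerms r.val s.val, ∃ h : c.1 < D.nroots, S ⟨c.1, h⟩) (t u : F) :
    Φ.cgx r t * Φ.cgx s u * (Φ.cgx r t)⁻¹ ∈ Φ.cgUS F S := by
  have key : ∀ c : F, (Φ.cgx r c)⁻¹ * Φ.cgx s u * Φ.cgx r c ∈ Φ.cgUS F S := by
    intro c
    have h : PresentedGroup.mk (D.steinbergRelsAB F)
        ((D.stX s.val u)⁻¹ * (D.stX r.val c)⁻¹ * D.stX s.val u * D.stX r.val c *
          (D.stWord (D.commWord F r.val s.val c u))⁻¹) = 1 :=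
      PresentedGroup.one_of_mem (Or.inr ⟨r.val, s.val, c, u, r.isLt, s.isLt,
        fun e => hrs (Fin.ext e), fun e => hneg (Fin.ext (e.trans (Φ.negIdx_eq r))), rfl⟩)
    rw [map_mul, map_inv, mul_inv_eq_one] at h
    have hW : PresentedGroup.mk (D.steinbergRelsAB F) (D.stWord (D.commWord F r.val s.val c u)) ∈
        Φ.cgUS F S := Φ.cgword_mem _ fun p hp => by
      simp only [ChevalleyDatum.commWord, List.mem_map] at hp
      obtain ⟨d, hd, rfl⟩ := hp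
      exact hS d hd
    rw [← h] at hW
    simp only [map_mul, map_inv] at hW
    have := Subgroup.mul_mem _ (Φ.cgx_mem_gUS (F := F) hs u) hW
    convert this using 1
    simp only [cgx, ChevalleyDatum.scGen]
    group
  have := key (-t)
  rwa [Φ.cgx_neg, inv_inv] at this

theorem cgUS_conj {S T : Fin D.nroots → Prop} {g : D.SteinbergCover F}
    (h : ∀ r t, S r → g * Φ.cgx r t * g⁻¹ ∈ Φ.cgUS F T) :
    ∀ y ∈ Φ.cgUS F S, g * y * g⁻¹ ∈ Φ.cgUS F T := by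
  have : Φ.cgUS F S ≤ (Φ.cgUS F T).comap (MulAut.conj g).toMonoidHom := by
    rw [cgUS, Subgroup.closure_le]
    rintro _ ⟨r, t, hr, rfl⟩
    exact h r t hr
  exact fun y hy => this hy

/-! ### The projection -/

theorem crels_lift : ∀ w ∈ D.steinbergRelsAB F,
    FreeGroup.lift (fun p : Fin D.nroots × F => Φ.toAlg.xg p.1 p.2) w = 1 := by
  set f := FreeGroup.lift (fun p : Fin D.nroots × F => Φ.toAlg.xg p.1 p.2)
  have hX : ∀ (r : Fin D.nroots) (t : F), f (D.stX r.val t) = Φ.toAlg.xg r t := fun r t => by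
    simp [f, ChevalleyDatum.stX]
  rintro w (⟨r, a, b, hr, rfl⟩ | ⟨r, s, t, u, hr, hs, h1, h2, rfl⟩)
  · rw [map_mul, map_mul, map_inv, mul_inv_eq_one, hX ⟨r, hr⟩, hX ⟨r, hr⟩, hX ⟨r, hr⟩, Φ.toAlg.xg_add]
  · rw [map_mul, map_inv, mul_inv_eq_one]
    simp only [map_mul, map_inv, hX ⟨r, hr⟩, hX ⟨s, hs⟩]
    rw [mul_assoc, mul_assoc, inv_mul_eq_iff_eq_mul, inv_mul_eq_iff_eq_mul, ← mul_assoc]
    refine Units.ext ?_
    rw [Units.val_mul, Units.val_mul, Units.val_mul, Φ.stWord_lift]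
    simp only [Alg.xg_val]
    rw [Φ.commutator_formula (r := ⟨r, hr⟩) (s := ⟨s, hs⟩) (fun e => h1 (congrArg Fin.val e))
      (fun e => h2 ((congrArg Fin.val e).trans (Φ.negIdx_eq ⟨r, hr⟩).symm)) t u]
    congr 1
    simp only [ChevalleyDatum.commWord]
    generalize D.commTerms r s = L
    induction L with
    | nil => simp [Sys.termProd, ChevalleyDatum.wordMat]
    | cons c L ih =>
      simp only [Sys.termProd, List.map_cons, List.prod_cons] at ih ⊢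
      rw [ih, Alg.wordMat_cons, Φ.toSys.x_eq_XN]

variable (F) in
/-- The projection onto the Chevalley group. -/
noncomputable def cproj : D.SteinbergCover F →* GL D.Idx F :=
  PresentedGroup.toGroup (f := fun p : Fin D.nroots × F => Φ.toAlg.xg p.1 p.2) Φ.crels_lift

theorem cproj_gx (r : Fin D.nroots) (t : F) : Φ.cproj F (Φ.cgx r t) = Φ.toAlg.xg r t := by
  rw [cproj, cgx, ChevalleyDatum.scGen, ChevalleyDatum.stX, dif_pos r.isLt]
  exact PresentedGroup.toGroup.of _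

theorem cproj_gn (r : Fin D.nroots) (t : Fˣ) : Φ.cproj F (Φ.cgn r t) = Φ.nw r t := by
  simp only [cgn, map_mul, Φ.cproj_gx, nw]

theorem cproj_gh (r : Fin D.nroots) (t : Fˣ) : Φ.cproj F (Φ.cgh r t) = Φ.hw r t := by
  simp only [cgh, map_mul, Φ.cproj_gn, hw]

theorem cproj_mem_US {S : Fin D.nroots → Prop} {g : D.SteinbergCover F} (h : g ∈ Φ.cgUS F S) :
    Φ.cproj F g ∈ Φ.US F S := by
  have : Φ.cgUS F S ≤ (Φ.US F S).comap (Φ.cproj F) := by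
    rw [cgUS, Subgroup.closure_le]
    rintro _ ⟨r, t, hr, rfl⟩
    rw [SetLike.mem_coe, Subgroup.mem_comap, Φ.cproj_gx]
    exact Φ.xg_mem_US hr t
  exact this h

theorem cproj_mem_group (g : D.SteinbergCover F) : Φ.cproj F g ∈ D.group F :=
  Φ.cgen_induction (Q := fun g => Φ.cproj F g ∈ D.group F) (by simp)
    (fun r t y hy => by rw [map_mul, Φ.cproj_gx]; exact mul_mem (Φ.toAlg.xg_mem_group r t) hy) g

/-! ### Injectivity on unipotent subgroups -/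

theorem cgUS_inj {π : Equiv.Perm (Fin D.nroots)} (hπ : π ∈ Φ.W) {S : Fin D.nroots → Prop}
    (hcl : Φ.Closed S) (hpos : ∀ r, S r → Φ.toTables.Pos (π r)) :
    ∀ g ∈ Φ.cgUS F S, Φ.cproj F g = 1 → g = 1 := by
  classical
  induction hn : (Finset.univ.filter S).card using Nat.strong_induction_on generalizing S with
  | _ k ih =>
    by_cases hne : ∃ r, S r
    swap
    · intro g hg _
      have : Φ.cgUS F S = ⊥ := by
        rw [eq_bot_iff, cgUS, Subgroup.closure_le]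
        rintro _ ⟨r, t, hr, _⟩
        exact absurd ⟨r, hr⟩ hne
      rwa [this, Subgroup.mem_bot] at hg
    obtain ⟨a, ha, hmin⟩ := (Finset.univ.filter S).exists_min_image (fun r => Φ.toTables.code (π r))
      (by obtain ⟨r, hr⟩ := hne; exact ⟨r, by simpa using hr⟩)
    simp only [Finset.mem_filter, Finset.mem_univ, true_and] at ha hmin
    set S' : Fin D.nroots → Prop := fun r => S r ∧ r ≠ a with hS'
    have hge : ∀ r, S r → Φ.toTables.code (π a) ≤ Φ.toTables.code (π r) := hmin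
    have hgt : ∀ r, S' r → Φ.toTables.code (π a) < Φ.toTables.code (π r) := fun r hr =>
      lt_of_le_of_ne (hge r hr.1) fun e => hr.2 (π.injective (Φ.code_strictMono.injective e)).symm
    have hca := Φ.code_pos (hpos a ha)
    have hsum : ∀ x y, S x → S y → Φ.N x y ≠ 0 → S' (Φ.S x y) := fun x y hx hy hN => by
      refine ⟨hcl x y hx hy hN, fun e => ?_⟩
      have := Φ.code_W_add hπ hN
      rw [e] at this
      have := hge x hx; have := hge y hy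
      omega
    have hcl' : Φ.Closed S' := fun x y hx hy hN => hsum x y hx.1 hy.1 hN
    have hnorm : ∀ c, ∀ y ∈ Φ.cgUS F S', Φ.cgx a c * y * (Φ.cgx a c)⁻¹ ∈ Φ.cgUS F S' := fun c =>
      Φ.cgUS_conj fun s v hs => by
        refine Φ.cgx_conj hs.2 (fun e => ?_) hs (fun d hd => Φ.commTerms_mem
          (fun hN => hsum a s ha hs.1 hN) (fun x hx hN => hsum a x ha hx.1 hN)
          (fun x hx hN => hsum s x hs.1 hx.1 hN) hd) c v
        have h1 := hgt s hs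
        rw [e, Φ.W_rev hπ, Φ.toSys.code_neg] at h1
        omega
    have hdec : ∀ g ∈ Φ.cgUS F S, ∃ c, ∃ y ∈ Φ.cgUS F S', g = Φ.cgx a c * y := by
      intro g hg
      induction hg using Subgroup.closure_induction_left with
      | one => exact ⟨0, 1, one_mem _, by rw [Φ.cgx_zero, one_mul]⟩
      | mul_left x hx y _ ih' =>
        obtain ⟨r, t, hr, rfl⟩ := hx
        obtain ⟨c, y', hy', rfl⟩ := ih'
        by_cases hra : r = a
        · subst hra; exact ⟨t + c, y', hy', by rw [Φ.cgx_add, mul_assoc]⟩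
        · have hz : (Φ.cgx a c)⁻¹ * Φ.cgx r t * Φ.cgx a c ∈ Φ.cgUS F S' := by
            have := hnorm (-c) _ (Φ.cgx_mem_gUS (show S' r from ⟨hr, hra⟩) t)
            rwa [Φ.cgx_neg, inv_inv] at this
          exact ⟨c, _, mul_mem hz hy', by group⟩
      | inv_mul_cancel x hx y _ ih' =>
        obtain ⟨r, t, hr, rfl⟩ := hx
        obtain ⟨c, y', hy', rfl⟩ := ih'
        by_cases hra : r = a
        · subst hra; exact ⟨-t + c, y', hy', by rw [Φ.cgx_add, Φ.cgx_neg, mul_assoc]⟩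
        · have hz : (Φ.cgx a c)⁻¹ * (Φ.cgx r t)⁻¹ * Φ.cgx a c ∈ Φ.cgUS F S' := by
            have := hnorm (-c) _ (inv_mem (Φ.cgx_mem_gUS (show S' r from ⟨hr, hra⟩) t))
            rwa [Φ.cgx_neg, inv_inv] at this
          exact ⟨c, _, mul_mem hz hy', by group⟩
    intro g hg h1
    obtain ⟨c, y, hy, rfl⟩ := hdec g hg
    rw [map_mul, Φ.cproj_gx] at h1
    obtain ⟨n, hn', hm⟩ := Φ.exists_N_of_W (F := F) hπ
    have hc : c = 0 := by
      obtain ⟨k', hk', hconj, -⟩ := hm.1 a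
      have hmem : Φ.toAlg.xg (π a) (k' * c) ∈ Φ.US F (fun x => Φ.toTables.code (π a) + 1 ≤ 1 * Φ.toTables.code x) := by
        rw [← hconj, eq_inv_of_mul_eq_one_left h1]
        refine Φ.map_US_le hm (S := S') (fun r hr => ?_) _ (inv_mem (Φ.cproj_mem_US hy))
        have := hgt r hr; omega
      have h0 := Φ.eq_zero_of_xg_mem (b := Φ.toTables.code (π a) + 1) (by omega) (hpos a ha) (by omega)
        (Φ.US_le_raise 1 _ (by omega) (fun x hx => hx) hmem)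
      exact (mul_eq_zero.mp h0).resolve_left hk'
    rw [hc, Φ.toAlg.xg_zero, one_mul] at h1
    have hy1 : y = 1 := by
      refine ih _ ?_ hcl' (fun r hr => hpos r hr.1) rfl y hy h1
      rw [← hn]
      refine Finset.card_lt_card ⟨fun r hr => ?_, fun h => ?_⟩
      · simp only [Finset.mem_filter, Finset.mem_univ, true_and] at hr ⊢; exact hr.1
      · have := h (show a ∈ Finset.univ.filter S by simpa using ha)
        simp [hS'] at this
    rw [hc, hy1, Φ.cgx_zero, one_mul]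

/-- An element of the unipotent subgroup of an oriented set is determined by its image. -/
theorem ceq_gx_of_proj {π : Equiv.Perm (Fin D.nroots)} (hπ : π ∈ Φ.W) {g : D.SteinbergCover F}
    (hg : g ∈ Φ.cgUS F fun x => Φ.toTables.Pos (π x)) {s : Fin D.nroots} {u : F}
    (h : Φ.cproj F g = Φ.toAlg.xg s u) : g = Φ.cgx s u := by
  set T : Fin D.nroots → Prop := fun x => Φ.toTables.Pos (π x)
  have hcl : Φ.Closed T := fun x y hx hy hN => by
    show Φ.toTables.Pos _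
    rw [← Φ.code_pos_iff, Φ.code_W_add hπ hN]
    have := Φ.code_pos hx; have := Φ.code_pos hy; omega
  have hgx : Φ.cgx s u ∈ Φ.cgUS F T := by
    by_cases hu : u = 0
    · rw [hu, Φ.cgx_zero]; exact one_mem _
    refine Φ.cgx_mem_gUS (S := T) ?_ u
    by_contra hs
    obtain ⟨n, hn, hm⟩ := Φ.exists_N_of_W (F := F) hπ
    obtain ⟨k, hk, hconj, -⟩ := hm.1 s
    have h2 : Φ.toAlg.xg (π s) (k * u) ∈ D.borelSubgroup F ⊓ D.negUnipotent F := by
      refine ⟨?_, ?_⟩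
      · rw [← hconj, ← h]
        refine Subgroup.mem_sup_left ?_
        rw [Φ.posUnipotent_eq_US]
        exact Φ.map_US_le hm (fun r hr => hr) _ (Φ.cproj_mem_US hg)
      · rw [Φ.negUnipotent_eq_US]; exact Φ.xg_mem_US (S := fun r => ¬ Φ.toTables.Pos r) hs _
    rw [Φ.B_inf_V, Subgroup.mem_bot, Φ.toAlg.xg_eq_one_iff] at h2
    exact mul_ne_zero hk hu h2
  have := Φ.cgUS_inj hπ hcl (fun r hr => hr) _ (mul_mem hg (inv_mem hgx))
    (by rw [map_mul, map_inv, Φ.cproj_gx, h, mul_inv_cancel])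
  exact mul_inv_eq_one.mp this

/-! ### The subgroups of a pair of opposite roots -/

/-- The subgroup generated by the root subgroups of `±r`. -/
def cgPair (F : Type*) [Field F] (r : Fin D.nroots) : Subgroup (D.SteinbergCover F) :=
  Φ.cgUS F fun x => x = r ∨ x = r.rev

/-- Conjugates of root elements by the subgroup of `±r` are determined by their images. -/
theorem clift_conj {r s : Fin D.nroots} (h1 : s ≠ r) (h2 : s ≠ r.rev) {g : D.SteinbergCover F}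
    (hg : g ∈ Φ.cgPair F r) {u : F} {s' : Fin D.nroots} {u' : F}
    (h : Φ.cproj F g * Φ.toAlg.xg s u * (Φ.cproj F g)⁻¹ = Φ.toAlg.xg s' u') :
    g * Φ.cgx s u * g⁻¹ = Φ.cgx s' u' := by
  obtain ⟨π, hπ, i, hi⟩ := Φ.exists_to_simple r
  obtain ⟨w, hw, hlong⟩ := Φ.exists_longest
  obtain ⟨σ, hσ, hor, hsS⟩ : ∃ σ : ℤ, (σ = 1 ∨ σ = -1) ∧
      (∃ π' ∈ Φ.W, ∀ x, (∃ j, j ≠ i ∧ 0 < σ * Φ.V (π x) j) → Φ.toTables.Pos (π' x)) ∧
      ∃ j, j ≠ i ∧ 0 < σ * Φ.V (π s) j := by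
    have hs1 : π s ≠ Φ.p i := fun e => h1 (π.injective (e.trans hi.symm))
    have hs2 : π s ≠ (Φ.p i).rev := fun e => h2 (π.injective (by rw [Φ.W_rev hπ, hi, e]))
    by_cases hp : Φ.toTables.Pos (π s)
    · refine ⟨1, Or.inl rfl, ⟨π, hπ, fun x ⟨j, _, hx⟩ => ?_⟩, ?_⟩
      · by_contra hn; have := Φ.V_nonpos _ hn j; omega
      · obtain ⟨j, hj, hv⟩ := Φ.V_supp _ hp i hs1
        exact ⟨j, hj, by omega⟩
    · refine ⟨-1, Or.inr rfl, ⟨w * π, mul_mem hw hπ, fun x ⟨j, _, hx⟩ => ?_⟩, ?_⟩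
      · rw [Equiv.Perm.mul_apply, hlong]
        intro hp'; have := Φ.V_nonneg _ hp' j; omega
      · have hp' := (Φ.pos_rev_iff _).mpr hp
        obtain ⟨j, hj, hv⟩ := Φ.V_supp _ hp' i (fun e => hs2 (by rw [← e, Fin.rev_rev]))
        rw [Φ.V_neg (π s)] at hv
        exact ⟨j, hj, by omega⟩
  set S : Fin D.nroots → Prop := fun x => ∃ j, j ≠ i ∧ 0 < σ * Φ.V (π x) j with hS
  have hVadd : ∀ x y, Φ.N x y ≠ 0 → ∀ j, Φ.V (π (Φ.S x y)) j = Φ.V (π x) j + Φ.V (π y) j := by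
    intro x y hN j
    rw [Φ.W_lin hπ (Φ.S x y), Φ.W_lin hπ x, Φ.W_lin hπ y, ← Finset.sum_add_distrib]
    exact Finset.sum_congr rfl fun k _ => by rw [Φ.V_add x y hN]; ring
  have hsign : ∀ x, S x → ∀ j, 0 ≤ σ * Φ.V (π x) j := by
    rintro x ⟨k, _, hk⟩ j
    by_cases hp : Φ.toTables.Pos (π x)
    · have := Φ.V_nonneg _ hp j; have := Φ.V_nonneg _ hp k
      rcases hσ with rfl | rfl <;> omega
    · have := Φ.V_nonpos _ hp j; have := Φ.V_nonpos _ hp k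
      rcases hσ with rfl | rfl <;> omega
  have hzero : ∀ x, (x = r ∨ x = r.rev) → ∀ j, j ≠ i → Φ.V (π x) j = 0 := by
    rintro x (rfl | rfl) j hj
    · rw [hi, Φ.V_p, if_neg (Ne.symm hj)]
    · rw [Φ.W_rev hπ, hi, Φ.V_neg (Φ.p i), Φ.V_p, if_neg (Ne.symm hj), neg_zero]
  have key : ∀ a, (a = r ∨ a = r.rev) → ∀ c : F, ∀ y ∈ Φ.cgUS F S,
      Φ.cgx a c * y * (Φ.cgx a c)⁻¹ ∈ Φ.cgUS F S := by
    intro a ha c
    refine Φ.cgUS_conj fun x v hx => ?_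
    obtain ⟨j, hj, hxj⟩ := hx
    have ha0 := hzero a ha j hj
    refine Φ.cgx_conj (fun e => ?_) (fun e => ?_) (S := S) ⟨j, hj, hxj⟩ (fun d hd => Φ.commTerms_mem
      (fun hN => ⟨j, hj, by rw [hVadd _ _ hN, ha0]; simpa using hxj⟩)
      (fun y hy hN => by
        obtain ⟨k, hk, hyk⟩ := hy
        exact ⟨k, hk, by rw [hVadd _ _ hN, hzero a ha k hk]; simpa using hyk⟩)
      (fun y hy hN => by
        obtain ⟨k, hk, hyk⟩ := hy
        refine ⟨k, hk, ?_⟩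
        have := hsign x ⟨j, hj, hxj⟩ k
        rw [hVadd _ _ hN, mul_add]; omega) hd) c v
    · rw [e, ha0, mul_zero] at hxj; omega
    · rw [e, Φ.W_rev hπ, Φ.V_neg (π a), ha0, neg_zero, mul_zero] at hxj; omega
  have hnorm : ∀ g ∈ Φ.cgPair F r, ∀ y ∈ Φ.cgUS F S, g * y * g⁻¹ ∈ Φ.cgUS F S := by
    intro g hg
    induction hg using Subgroup.closure_induction_left with
    | one => intro y hy; simpa using hy
    | mul_left x hx z _ ih =>
      obtain ⟨a, c, ha, rfl⟩ := hx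
      intro y hy
      rw [show Φ.cgx a c * z * y * (Φ.cgx a c * z)⁻¹ = Φ.cgx a c * (z * y * z⁻¹) * (Φ.cgx a c)⁻¹ by group]
      exact key a ha c _ (ih y hy)
    | inv_mul_cancel x hx z _ ih =>
      obtain ⟨a, c, ha, rfl⟩ := hx
      intro y hy
      rw [← Φ.cgx_neg,
        show Φ.cgx a (-c) * z * y * (Φ.cgx a (-c) * z)⁻¹ = Φ.cgx a (-c) * (z * y * z⁻¹) * (Φ.cgx a (-c))⁻¹ by group]
      exact key a ha (-c) _ (ih y hy)
  · obtain ⟨π', hπ', hpos⟩ := hor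
    refine Φ.ceq_gx_of_proj hπ' (Φ.cgUS_mono hpos (hnorm g hg _ (Φ.cgx_mem_gUS (S := S) hsS u))) ?_
    rw [map_mul, map_mul, map_inv, Φ.cproj_gx, h]

/-! ### Elements acting monomially -/

/-- An element of the presented group permuting root elements exactly as its image does. -/
def cNice (g : D.SteinbergCover F) : Prop :=
  (∃ σ, σ ∈ Φ.W ∧ Φ.Mono (Φ.cproj F g) σ) ∧
    ∀ s u s' u', Φ.cproj F g * Φ.toAlg.xg s u * (Φ.cproj F g)⁻¹ = Φ.toAlg.xg s' u' →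
      g * Φ.cgx s u * g⁻¹ = Φ.cgx s' u'

theorem cNice.conj {g : D.SteinbergCover F} (hg : Φ.cNice g) {σ : Equiv.Perm (Fin D.nroots)}
    (hσ : Φ.Mono (Φ.cproj F g) σ) (s : Fin D.nroots) (u : F) :
    ∃ c, g * Φ.cgx s u * g⁻¹ = Φ.cgx (σ s) c := by
  obtain ⟨c, hc⟩ := Mono.conj Φ hσ s u
  exact ⟨c, hg.2 _ _ _ _ hc⟩

theorem cNice.mul {g h : D.SteinbergCover F} (hg : Φ.cNice g) (hh : Φ.cNice h) : Φ.cNice (g * h) := by
  obtain ⟨σ, hσ, hm⟩ := hg.1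
  obtain ⟨τ, hτ, hn⟩ := hh.1
  refine ⟨⟨σ * τ, mul_mem hσ hτ, by rw [map_mul]; exact Mono.mul Φ hm hn⟩, fun s u s' u' e => ?_⟩
  obtain ⟨c, hc⟩ := Mono.conj Φ hn s u
  rw [show g * h * Φ.cgx s u * (g * h)⁻¹ = g * (h * Φ.cgx s u * h⁻¹) * g⁻¹ by group, hh.2 _ _ _ _ hc]
  refine hg.2 _ _ _ _ ?_
  rw [← hc, ← e, map_mul]; group

theorem cNice.one : Φ.cNice (1 : D.SteinbergCover F) := by
  refine ⟨⟨1, one_mem _, by rw [map_one]; exact Mono.one Φ⟩, fun s u s' u' e => ?_⟩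
  rw [map_one, one_mul, inv_one, mul_one] at e
  rw [one_mul, inv_one, mul_one]
  have h0 : Φ.toAlg.xg s u = Φ.toAlg.xg s' u' := e
  by_cases hu : u = 0
  · rw [hu, Φ.toAlg.xg_zero] at h0
    rw [hu, (Φ.toAlg.xg_eq_one_iff).mp h0.symm, Φ.cgx_zero, Φ.cgx_zero]
  · obtain rfl := Φ.root_eq_of_xg_eq hu h0
    rw [Φ.toAlg.xg_injective s h0]

theorem cgn_mem_gPair (r : Fin D.nroots) (t : Fˣ) : Φ.cgn r t ∈ Φ.cgPair F r :=
  mul_mem (mul_mem (Φ.cgx_mem_gUS (Or.inl rfl) _) (Φ.cgx_mem_gUS (Or.inr rfl) _)) (Φ.cgx_mem_gUS (Or.inl rfl) _)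

theorem cgn_neg (r : Fin D.nroots) (t : Fˣ) : Φ.cgn r (-t) = (Φ.cgn r t)⁻¹ := by
  simp only [cgn, Units.val_neg, inv_neg, neg_neg, Φ.cgx_neg]
  group

theorem cnice_gn (hadj : Φ.Adj) (r : Fin D.nroots) (t : Fˣ) : Φ.cNice (Φ.cgn r t) := by
  obtain ⟨σ, hσ, hm, -⟩ := Φ.exists_monoW (Φ.nw_mem_N (F := F) r t)
  refine ⟨⟨σ, hσ, by rwa [Φ.cproj_gn]⟩, fun s u s' u' e => ?_⟩
  by_cases hs : s ≠ r ∧ s ≠ r.rev
  · exact Φ.clift_conj hs.1 hs.2 (Φ.cgn_mem_gPair r t) e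
  -- express the root as the image of a third one
  obtain ⟨π, hπ, i, hi⟩ := Φ.exists_to_simple r
  obtain ⟨j, hji, hA⟩ := hadj i
  obtain ⟨n, hn, hnπ⟩ := Φ.exists_N_of_W (F := F) hπ
  obtain ⟨π', -, hm1, hm2⟩ := Φ.exists_monoW hn
  obtain rfl := Mono.unique Φ hm1 hnπ
  set q := π'⁻¹ (Φ.p j) with hq
  have hqq : π'⁻¹ (Φ.p j).rev = q.rev := Φ.W_rev (inv_mem hπ) _
  obtain ⟨c1, hc1⟩ := Mono.conj Φ hm2 (Φ.p j) (1 : F)
  obtain ⟨c2, hc2⟩ := Mono.conj Φ hm2 (Φ.p j).rev (-1 : F)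
  rw [inv_inv] at hc1 hc2
  set g := Φ.cgx q c1 * Φ.cgx q.rev c2 * Φ.cgx q c1 with hgdef
  have hg : g ∈ Φ.cgPair F q :=
    mul_mem (mul_mem (Φ.cgx_mem_gUS (Or.inl rfl) _) (Φ.cgx_mem_gUS (Or.inr rfl) _)) (Φ.cgx_mem_gUS (Or.inl rfl) _)
  have hpg : Φ.cproj F g = n⁻¹ * Φ.nw (Φ.p j) 1 * n := by
    simp only [hgdef, map_mul, Φ.cproj_gx]
    rw [hq] at hqq ⊢
    rw [← hc1, ← hqq, ← hc2]
    simp only [nw, Units.val_one, inv_one]
    group
  set π := π'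
  set τ := π⁻¹ * Φ.reflPerm j * π with hτ
  have hτW : τ ∈ Φ.W := mul_mem (mul_mem (inv_mem hπ) (Φ.reflPerm_mem_W j)) hπ
  have hmτ : Φ.Mono (Φ.cproj F g) τ := by
    rw [hpg]; exact Mono.mul Φ (Mono.mul Φ hm2 (Φ.nw_one_mono j)) hnπ
  set r' := τ s with hr'
  have hsi : π s = Φ.p i ∨ π s = (Φ.p i).rev := by
    by_cases e1 : s = r
    · exact Or.inl (by rw [e1, hi])
    · refine Or.inr ?_
      rw [show s = r.rev by tauto, Φ.W_rev hπ, hi]
  have hV : Φ.V (π r') j ≠ 0 ∧ Φ.V (π r') i ≠ 0 := by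
    have e : π r' = Φ.refl j (π s) := by simp [hr', hτ, Φ.reflPerm_apply]
    rw [e, Φ.V_refl, Φ.V_refl, if_pos rfl, if_neg (Ne.symm hji)]
    rcases hsi with h | h <;> rw [h]
    · simp [Φ.V_p, Ne.symm hji, hA]
    · simp [Φ.V_neg (Φ.p i), Φ.toSys.A_neg, Φ.V_p, Ne.symm hji, hA]
  have hne1 : r' ≠ r := fun e => hV.1 (by rw [e, hi, Φ.V_p, if_neg (Ne.symm hji)])
  have hne2 : r' ≠ r.rev := fun e => hV.1 (by
    rw [e, Φ.W_rev hπ, hi, Φ.V_neg (Φ.p i), Φ.V_p, if_neg (Ne.symm hji), neg_zero])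
  have hqj : π q = Φ.p j := by simp [hq]
  have hne3 : r' ≠ q := fun e => hV.2 (by rw [e, hqj, Φ.V_p, if_neg hji])
  have hne4 : r' ≠ q.rev := fun e => hV.2 (by
    rw [e, Φ.W_rev hπ, hqj, Φ.V_neg (Φ.p j), Φ.V_p, if_neg hji, neg_zero])
  have hne5 : q ≠ r ∧ q ≠ r.rev := by
    have hpij : Φ.p j ≠ Φ.p i ∧ Φ.p j ≠ (Φ.p i).rev := by
      refine ⟨fun e => ?_, fun e => ?_⟩
      · have := congrArg (fun x => Φ.V x j) e
        simp [Φ.V_p, Ne.symm hji] at this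
      · have := Φ.p_pos j
        rw [e, Φ.pos_rev_iff] at this
        exact this (Φ.p_pos i)
    exact ⟨fun e' => hpij.1 (by rw [← hqj, e', hi]),
      fun e' => hpij.2 (by rw [← hqj, e', Φ.W_rev hπ, hi])⟩
  obtain ⟨v, hv⟩ := Mono.conj Φ hmτ s u
  have hv' : Φ.cproj F g⁻¹ * Φ.toAlg.xg r' v * (Φ.cproj F g⁻¹)⁻¹ = Φ.toAlg.xg s u := by
    rw [map_inv, inv_inv, hr', ← hv]; group
  have hsu := Φ.clift_conj hne3 hne4 (inv_mem hg) hv'
  rw [inv_inv] at hsu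
  -- conjugate the three factors
  have hexact : ∀ a b, a ≠ r → a ≠ r.rev → ∃ c, Φ.cgn r t * Φ.cgx a b * (Φ.cgn r t)⁻¹ = Φ.cgx (σ a) c := by
    intro a b h1 h2
    obtain ⟨c, hc⟩ := Mono.conj Φ hm a b
    exact ⟨c, Φ.clift_conj h1 h2 (Φ.cgn_mem_gPair r t) (by rw [Φ.cproj_gn, hc])⟩
  have hq1 : q.rev ≠ r ∧ q.rev ≠ r.rev :=
    ⟨fun e => hne5.2 (by rw [← e, Fin.rev_rev]), fun e => hne5.1 (Fin.rev_injective e)⟩
  obtain ⟨d1, hd1⟩ := hexact q c1 hne5.1 hne5.2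
  obtain ⟨d2, hd2⟩ := hexact q.rev c2 hq1.1 hq1.2
  obtain ⟨d3, hd3⟩ := hexact r' v hne1 hne2
  rw [Φ.W_rev hσ] at hd2
  have hg' : Φ.cgn r t * g * (Φ.cgn r t)⁻¹ ∈ Φ.cgPair F (σ q) := by
    rw [hgdef, show Φ.cgn r t * (Φ.cgx q c1 * Φ.cgx q.rev c2 * Φ.cgx q c1) * (Φ.cgn r t)⁻¹ =
      (Φ.cgn r t * Φ.cgx q c1 * (Φ.cgn r t)⁻¹) * (Φ.cgn r t * Φ.cgx q.rev c2 * (Φ.cgn r t)⁻¹) *
      (Φ.cgn r t * Φ.cgx q c1 * (Φ.cgn r t)⁻¹) by group, hd1, hd2]
    exact mul_mem (mul_mem (Φ.cgx_mem_gUS (Or.inl rfl) _) (Φ.cgx_mem_gUS (Or.inr rfl) _)) (Φ.cgx_mem_gUS (Or.inl rfl) _)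
  set g' := Φ.cgn r t * g * (Φ.cgn r t)⁻¹ with hg'def
  have key := Φ.clift_conj (r := σ q) (s := σ r') (fun e => hne3 (σ.injective e))
    (fun e => hne4 (σ.injective (by rw [Φ.W_rev hσ]; exact e))) (inv_mem hg') (u := d3) (s' := s') (u' := u') (by
    rw [← Φ.cproj_gx, ← hd3, ← e, ← hv', hg'def]
    simp only [map_mul, map_inv, Φ.cproj_gx, inv_inv, Φ.cproj_gn]
    group)
  rw [← key, ← hsu, ← hd3, hg'def]
  group

theorem cnice_gx_neg_one {g : D.SteinbergCover F} (hg : Φ.cNice g) (h1 : Φ.cproj F g = 1) :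
    g ∈ Subgroup.center (D.SteinbergCover F) := by
  rw [Subgroup.mem_center_iff]
  intro y
  refine Φ.cgen_induction (Q := fun y => y * g = g * y) (by simp) (fun r t y hy => ?_) y
  have h := hg.2 r t r t (by rw [h1]; simp)
  rw [mul_inv_eq_iff_eq_mul] at h
  rw [mul_assoc, hy, ← mul_assoc, ← h, mul_assoc]

/-! ### The monomial subgroup and the Bruhat form -/

/-- The subgroup generated by the elements `n̄_r(t)`. -/
def cgN (F : Type*) [Field F] : Subgroup (D.SteinbergCover F) :=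
  Subgroup.closure {g | ∃ r t, Φ.cgn r t = g}

theorem cnice_of_gN (hadj : Φ.Adj) {g : D.SteinbergCover F} (hg : g ∈ Φ.cgN F) : Φ.cNice g := by
  induction hg using Subgroup.closure_induction_left with
  | one => exact cNice.one Φ
  | mul_left x hx y _ ih =>
    obtain ⟨r, t, rfl⟩ := hx
    exact cNice.mul Φ (Φ.cnice_gn hadj r t) ih
  | inv_mul_cancel x hx y _ ih =>
    obtain ⟨r, t, rfl⟩ := hx
    rw [← Φ.cgn_neg]
    exact cNice.mul Φ (Φ.cnice_gn hadj r _) ih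

theorem cproj_gN {g : D.SteinbergCover F} (hg : g ∈ Φ.cgN F) : Φ.cproj F g ∈ D.monomialSubgroup F := by
  induction hg using Subgroup.closure_induction with
  | mem x hx => obtain ⟨r, t, rfl⟩ := hx; rw [Φ.cproj_gn]; exact Φ.nw_mem_N r t
  | one => simp
  | mul x y _ _ hx hy => rw [map_mul]; exact mul_mem hx hy
  | inv x _ hx => rw [map_inv]; exact inv_mem hx

theorem cgU_split (i : Fin D.rank) {g : D.SteinbergCover F} (hg : g ∈ Φ.cgUS F Φ.toTables.Pos) :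
    ∃ u ∈ Φ.cgUS F (Φ.Out {i}), ∃ t, g = u * Φ.cgx (Φ.p i) t := by
  have hn : ∀ c : F, ∀ y ∈ Φ.cgUS F (Φ.Out {i}), Φ.cgx (Φ.p i) c * y * (Φ.cgx (Φ.p i) c)⁻¹ ∈ Φ.cgUS F (Φ.Out {i}) :=
    fun c => Φ.cgUS_conj fun s v hs => by
      obtain ⟨j, hj, hsj⟩ := hs
      have hj' : j ≠ i := by simpa using hj
      have hp0 : Φ.V (Φ.p i) j = 0 := by rw [Φ.V_p, if_neg (Ne.symm hj')]
      have hsp : Φ.toTables.Pos s := Out.pos Φ ⟨j, hj, hsj⟩
      refine Φ.cgx_conj (fun e => ?_) (fun e => ?_) (S := Φ.Out {i}) ⟨j, hj, hsj⟩ (fun d hd => Φ.commTerms_mem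
        (fun hN => ⟨j, hj, by rw [Φ.V_add _ _ hN, hp0]; omega⟩)
        (fun x ⟨k, hk, hxk⟩ hN => ⟨k, hk, by
          rw [Φ.V_add _ _ hN]; have := Φ.V_nonneg _ (Φ.p_pos i) k; omega⟩)
        (fun x ⟨k, hk, hxk⟩ hN => ⟨k, hk, by
          rw [Φ.V_add _ _ hN]; have := Φ.V_nonneg s hsp k; omega⟩) hd) c v
      · rw [e, hp0] at hsj; omega
      · rw [e, Φ.V_neg (Φ.p i), hp0] at hsj; omega
  induction hg using Subgroup.closure_induction_right with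
  | one => exact ⟨1, one_mem _, 0, by rw [Φ.cgx_zero, one_mul]⟩
  | mul_right y _ x hx ih =>
    obtain ⟨r, c, hr, rfl⟩ := hx
    obtain ⟨u, hu, t, rfl⟩ := ih
    by_cases h : r = Φ.p i
    · subst h; exact ⟨u, hu, t + c, by rw [Φ.cgx_add, mul_assoc]⟩
    · exact ⟨u * (Φ.cgx (Φ.p i) t * Φ.cgx r c * (Φ.cgx (Φ.p i) t)⁻¹),
        mul_mem hu (hn t _ (Φ.cgx_mem_gUS (Φ.out_singleton_iff.mpr ⟨hr, h⟩) c)), t, by group⟩
  | mul_inv_cancel y _ x hx ih =>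
    obtain ⟨r, c, hr, rfl⟩ := hx
    obtain ⟨u, hu, t, rfl⟩ := ih
    rw [← Φ.cgx_neg]
    by_cases h : r = Φ.p i
    · subst h; exact ⟨u, hu, t + -c, by rw [Φ.cgx_add, mul_assoc]⟩
    · exact ⟨u * (Φ.cgx (Φ.p i) t * Φ.cgx r (-c) * (Φ.cgx (Φ.p i) t)⁻¹),
        mul_mem hu (hn t _ (Φ.cgx_mem_gUS (Φ.out_singleton_iff.mpr ⟨hr, h⟩) _)), t, by group⟩

/-- The Bruhat form. -/
def cBig (g : D.SteinbergCover F) : Prop :=
  ∃ u ∈ Φ.cgUS F Φ.toTables.Pos, ∃ n ∈ Φ.cgN F, ∃ u' ∈ Φ.cgUS F Φ.toTables.Pos, g = u * n * u'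

theorem cgn_mul_big (hadj : Φ.Adj) (i : Fin D.rank) (τ : Fˣ) {g : D.SteinbergCover F} (hg : Φ.cBig g) :
    Φ.cBig (Φ.cgn (Φ.p i) τ * g) := by
  obtain ⟨u, hu, n, hn, u2, hu2, rfl⟩ := hg
  obtain ⟨u', hu', t, rfl⟩ := Φ.cgU_split i hu
  set s := Φ.cgn (Φ.p i) τ with hs
  have hsN : s ∈ Φ.cgN F := Subgroup.subset_closure ⟨_, _, rfl⟩
  have hNs := Φ.cnice_gn hadj (Φ.p i) τ
  have hMs : Φ.Mono (Φ.cproj F s) (Φ.reflPerm i) := by rw [hs, Φ.cproj_gn]; exact Φ.mono_nw_p i τ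
  have hsu : s * u' * s⁻¹ ∈ Φ.cgUS F Φ.toTables.Pos := Φ.cgUS_conj (fun r c hr => by
    obtain ⟨d, hd⟩ := cNice.conj Φ hNs hMs r c
    rw [hd]
    exact Φ.cgx_mem_gUS (Out.pos Φ ((Φ.out_refl (J := {i}) rfl).mpr hr)) d) u' hu'
  obtain ⟨⟨π, hπ, hm⟩, -⟩ := Φ.cnice_of_gN hadj hn
  have hni := Φ.cnice_of_gN hadj (inv_mem hn)
  obtain ⟨π', hπ', hm'⟩ := hni.1
  have e : s * (u' * Φ.cgx (Φ.p i) t * n * u2) = (s * u' * s⁻¹) * (s * Φ.cgx (Φ.p i) t * n) * u2 := by group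
  by_cases hpos : Φ.toTables.Pos (π' (Φ.p i))
  · obtain ⟨c, hc⟩ := cNice.conj Φ hni hm' (Φ.p i) t
    refine ⟨_, hsu, s * n, mul_mem hsN hn, n⁻¹ * Φ.cgx (Φ.p i) t * (n⁻¹)⁻¹ * u2,
      mul_mem (by rw [hc]; exact Φ.cgx_mem_gUS hpos c) hu2, ?_⟩
    rw [e]; group
  by_cases ht : t = 0
  · refine ⟨_, hsu, s * n, mul_mem hsN hn, u2, hu2, ?_⟩
    rw [e, ht, Φ.cgx_zero]; group
  obtain ⟨v, hv⟩ := cNice.conj Φ hNs hMs (Φ.p i) t
  rw [Φ.reflPerm_apply, Φ.refl_p] at hv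
  have hv0 : v ≠ 0 := by
    intro h0
    rw [h0, Φ.cgx_zero, conj_eq_one_iff] at hv
    have := congrArg (Φ.cproj F) hv
    rw [Φ.cproj_gx, map_one, Φ.toAlg.xg_eq_one_iff] at this
    exact ht this
  set w : Fˣ := -(Units.mk0 v hv0)⁻¹
  have hy : Φ.cgx (Φ.p i).rev v = Φ.cgx (Φ.p i) v⁻¹ * Φ.cgn (Φ.p i) w * Φ.cgx (Φ.p i) v⁻¹ := by
    have e1 : (w : F) = -v⁻¹ := by simp [w]
    rw [cgn, e1, inv_neg, inv_inv, neg_neg, Φ.cgx_neg]
    group
  have hnsN : (s * n) ∈ Φ.cgN F := mul_mem hsN hn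
  have hnsi := Φ.cnice_of_gN hadj (inv_mem hnsN)
  have hm'' : Φ.Mono (Φ.cproj F (s * n)⁻¹) (π' * Φ.reflPerm i) := by
    have hs' : Φ.Mono (Φ.cproj F s⁻¹) (Φ.reflPerm i) := by
      rw [hs, ← Φ.cgn_neg, Φ.cproj_gn]; exact Φ.mono_nw_p i _
    rw [_root_.mul_inv_rev, map_mul]
    exact Mono.mul Φ hm' hs'
  obtain ⟨c, hc⟩ := cNice.conj Φ hnsi hm'' (Φ.p i) v⁻¹
  have hneg : Φ.toTables.Pos ((π' * Φ.reflPerm i) (Φ.p i)) := by
    rw [Equiv.Perm.mul_apply, Φ.reflPerm_apply, Φ.refl_p, Φ.W_rev hπ', Φ.pos_rev_iff]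
    exact hpos
  refine ⟨(s * u' * s⁻¹) * Φ.cgx (Φ.p i) v⁻¹, mul_mem hsu (Φ.cgx_mem_gUS (Φ.p_pos i) _),
    Φ.cgn (Φ.p i) w * (s * n), mul_mem (Subgroup.subset_closure ⟨_, _, rfl⟩) hnsN,
    ((s * n)⁻¹ * Φ.cgx (Φ.p i) v⁻¹ * ((s * n)⁻¹)⁻¹) * u2,
    mul_mem (by rw [hc]; exact Φ.cgx_mem_gUS hneg c) hu2, ?_⟩
  rw [e, show s * Φ.cgx (Φ.p i) t = (s * Φ.cgx (Φ.p i) t * s⁻¹) * s by group, hv, hy]
  group

theorem cbig_all (hadj : Φ.Adj) : ∀ g : D.SteinbergCover F, Φ.cBig g := by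
  have key : ∀ r : Fin D.nroots, ∀ (t : F) (y : D.SteinbergCover F), Φ.cBig y → Φ.cBig (Φ.cgx r t * y) := by
    intro r
    induction r using Φ.root_induction with
    | hp i =>
      rintro t _ ⟨u, hu, n, hn, u', hu', rfl⟩
      exact ⟨Φ.cgx (Φ.p i) t * u, mul_mem (Φ.cgx_mem_gUS (Φ.p_pos i) t) hu, n, hn, u', hu', by group⟩
    | hstep i r ih =>
      intro t y hy
      have hN := Φ.cnice_gn (F := F) hadj (Φ.p i) 1
      have hM : Φ.Mono (Φ.cproj F (Φ.cgn (Φ.p i) (1 : Fˣ))) (Φ.reflPerm i) := by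
        rw [Φ.cproj_gn]; exact Φ.mono_nw_p i 1
      obtain ⟨a, ha, h1, -⟩ := hM.1 r
      have e := hN.2 r (t / a) (Φ.refl i r) t (by rw [h1, mul_div_cancel₀ _ ha]; rfl)
      have : Φ.cgx (Φ.refl i r) t * y =
          Φ.cgn (Φ.p i) 1 * (Φ.cgx r (t / a) * (Φ.cgn (Φ.p i) (-1) * y)) := by
        rw [← e, Φ.cgn_neg]; group
      rw [this]
      exact Φ.cgn_mul_big hadj i 1 (ih _ _ (Φ.cgn_mul_big hadj i _ hy))
  exact Φ.cgen_induction (Q := Φ.cBig) ⟨1, one_mem _, 1, one_mem _, 1, one_mem _, by simp⟩ key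

theorem cker_proj (hadj : Φ.Adj) {g : D.SteinbergCover F} (hg : Φ.cproj F g = 1) :
    g ∈ Subgroup.center (D.SteinbergCover F) ∧ g ∈ Φ.cgN F := by
  obtain ⟨u, hu, n, hn, u', hu', rfl⟩ := Φ.cbig_all hadj g
  rw [map_mul, map_mul] at hg
  have hn1 : Φ.cproj F n = 1 := by
    refine Φ.eq_one_of_mem_U_of_mem_N ?_ (Φ.cproj_gN hn)
    rw [Φ.posUnipotent_eq_US,
      show Φ.cproj F n = (Φ.cproj F u)⁻¹ * (Φ.cproj F u * Φ.cproj F n * Φ.cproj F u') * (Φ.cproj F u')⁻¹ by group, hg,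
      mul_one]
    exact mul_mem (inv_mem (Φ.cproj_mem_US hu)) (inv_mem (Φ.cproj_mem_US hu'))
  have hc := Φ.cnice_gx_neg_one (Φ.cnice_of_gN hadj hn) hn1
  have huu : u * u' = 1 := by
    refine Φ.cgUS_inj (one_mem _) Φ.closed_pos (fun r hr => hr) _ (mul_mem hu hu') ?_
    rwa [hn1, mul_one, ← map_mul] at hg
  have : u * n * u' = n := by
    rw [(Subgroup.mem_center_iff.mp hc u), mul_assoc, huu, mul_one]
  rw [this]
  exact ⟨hc, hn⟩

theorem cker_proj_eq_center (hadj : Φ.Adj) : (Φ.cproj F).ker = Subgroup.center (D.SteinbergCover F) := by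
  refine le_antisymm (fun g hg => (Φ.cker_proj hadj hg).1) fun g hg => ?_
  refine Φ.center_group _ (Φ.cproj_mem_group g) ?_
  intro x hx
  have hx' : x ∈ (Φ.cproj F).range := by
    rw [Φ.toAlg.group_eq] at hx
    refine (Subgroup.closure_le _).mpr ?_ hx
    rintro _ ⟨r, t, rfl⟩
    exact ⟨_, Φ.cproj_gx r t⟩
  obtain ⟨y, rfl⟩ := hx'
  rw [← map_mul, ← map_mul, Subgroup.mem_center_iff.mp hg y]

/-! ### The diagonal subgroup of the presented group -/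

end Chev

end CfsgLib.Chev
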