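/-
Over a finite field the relators (R1), (R2) imply (R3).
-/
import Cfsg.Agent.Lib.Chev.SteinbergCover
import Cfsg.Agent.Lib.Chev.SteinbergData
import Cfsg.Agent.Lib.Chev.SL2Hom
import Cfsg.Agent.Lib.SL2Steinberg

namespace CfsgLib.Chev

open Cfsg.Lie Matrix

set_option linter.dupNamespace false

variable {D : ChevalleyDatum}

namespace Chev

variable (Φ : Chev D) {F : Type*} [Field F]

theorem nw_xg_val (r : Fin D.nroots) (t : Fˣ) (v : F) :
    Φ.nw r t * Φ.toAlg.xg r v * (Φ.nw r t)⁻¹ = Φ.toAlg.xg r.rev (-((t : F)⁻¹ ^ 2 * v)) := by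
  set R := Φ.rankOne F r
  have e : (RankOne.u (t : F) * RankOne.l (-(t : F)⁻¹) * RankOne.u (t : F)) * RankOne.u v =
      RankOne.l (-((t : F)⁻¹ ^ 2 * v)) * (RankOne.u (t : F) * RankOne.l (-(t : F)⁻¹) * RankOne.u (t : F)) := by
    refine Subtype.ext ?_
    simp only [RankOne.val_mul]
    ext i j
    fin_cases i <;> fin_cases j <;>
      simp [RankOne.u, RankOne.l, Matrix.mul_apply, Fin.sum_univ_two] <;> field_simp <;> ring
  have h := congrArg R.hom e
  simp only [map_mul, R.hom_u, R.hom_l] at h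
  rw [mul_inv_eq_iff_eq_mul]
  exact h

theorem cRels (hadj : Φ.Adj) (r : Fin D.nroots) :
    CfsgLib.SL2St.Rels (fun t : F => Φ.cgx r t) (fun t : F => Φ.cgx r.rev t) := by
  have key : ∀ (s : Fin D.nroots) (t u : F), t ≠ 0 →
      CfsgLib.SL2St.W (fun t : F => Φ.cgx s t) (fun t : F => Φ.cgx s.rev t) t * Φ.cgx s u *
        (CfsgLib.SL2St.W (fun t : F => Φ.cgx s t) (fun t : F => Φ.cgx s.rev t) t)⁻¹ =
      Φ.cgx s.rev (-(t⁻¹ ^ 2 * u)) := by
    intro s t u ht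
    refine (Φ.cnice_gn hadj s (Units.mk0 t ht)).2 _ _ _ _ ?_
    rw [Φ.cproj_gn]
    exact Φ.nw_xg_val s (Units.mk0 t ht) u
  refine ⟨Φ.cgx_add r, Φ.cgx_add r.rev, key r, fun t u ht => ?_⟩
  have h := key r.rev t u ht
  rwa [Fin.rev_rev] at h

theorem cgh_mul [Finite F] (hadj : Φ.Adj) (r : Fin D.nroots) (a b : F) (ha : a ≠ 0) (hb : b ≠ 0) :
    Φ.cgh r (Units.mk0 a ha) * Φ.cgh r (Units.mk0 b hb) = Φ.cgh r (Units.mk0 (a * b) (mul_ne_zero ha hb)) :=
  ((Φ.cRels hadj r).H_mul ha hb).symm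

theorem mk_hWord (r : Fin D.nroots) (a : F) (ha : a ≠ 0) :
    PresentedGroup.mk (D.steinbergRelsAB F) (D.stH r.val a) = Φ.cgh r (Units.mk0 a ha) := by
  simp [ChevalleyDatum.stH, ChevalleyDatum.stWord, ChevalleyDatum.hWord, ChevalleyDatum.nWord,
    cgh, cgn, cgx, ChevalleyDatum.scGen, mul_assoc,
    show D.neg r.val = D.nroots - (r.val + 1) from (Φ.negIdx_eq r).trans (Fin.val_rev r)]

/-- The two presented groups agree over a finite field. -/
theorem cover_equiv [Finite F] (hadj : Φ.Adj) :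
    ∃ e : D.SteinbergCover F ≃* D.SteinbergGroup F, ∀ (r : ℕ) (t : F), e (D.scGen F r t) = D.stGen F r t := by
  have hle : Subgroup.normalClosure (D.steinbergRelsAB F) = Subgroup.normalClosure (D.steinbergRels F) := by
    refine le_antisymm (Subgroup.normalClosure_mono fun w hw => Or.inl hw) (Subgroup.normalClosure_le_normal ?_)
    rintro w (hw | ⟨r, a, b, hr, ha, hb, rfl⟩)
    · exact Subgroup.subset_normalClosure hw
    · refine PresentedGroup.mk_eq_one_iff.mp ?_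
      rw [map_mul, map_mul, map_inv, mul_inv_eq_one, Φ.mk_hWord ⟨r, hr⟩ a ha, Φ.mk_hWord ⟨r, hr⟩ b hb,
        Φ.mk_hWord ⟨r, hr⟩ (a * b) (mul_ne_zero ha hb)]
      exact Φ.cgh_mul hadj ⟨r, hr⟩ a b ha hb
  exact ⟨QuotientGroup.quotientMulEquivOfEq hle, fun r t => rfl⟩

end Chev

end CfsgLib.Chev
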