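/-
The fundamental root elements and their negatives generate.
-/
import Cfsg.Agent.Lib.Chev.Inst
import Cfsg.Agent.Lib.Chev.HN

namespace CfsgLib.Chev

open Cfsg.Lie Matrix

variable {D : ChevalleyDatum}

namespace Chev

variable (Φ : Chev D) {F : Type*} [Field F]

theorem group_le_of_fundamental {M : Subgroup (GL D.Idx F)}
    (h : ∀ (i : Fin D.rank) (t : F), Φ.toAlg.xg (Φ.p i) t ∈ M ∧ Φ.toAlg.xg (Φ.p i).rev t ∈ M) :
    D.group F ≤ M := by
  have hn : ∀ i : Fin D.rank, Φ.nw (Φ.p i) (1 : Fˣ) ∈ M := fun i =>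
    mul_mem (mul_mem (h i _).1 (h i _).2) (h i _).1
  have hall : ∀ (r : Fin D.nroots) (t : F), Φ.toAlg.xg r t ∈ M := by
    intro r
    induction r using Φ.root_induction with
    | hp i => exact fun t => (h i t).1
    | hstep i r ih =>
      intro t
      have hc : (Φ.eta i r : F) * (Φ.eta i r : F) = 1 := by
        rcases Φ.eta_unit i r with e | e <;> simp [e]
      have := Φ.nw_conj_xg i r ((Φ.eta i r : F) * t)
      rw [← mul_assoc, hc, one_mul] at this
      rw [show Φ.toAlg.xg (Φ.refl i r) t =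
        Φ.nw (Φ.p i) 1 * Φ.toAlg.xg r ((Φ.eta i r : F) * t) * (Φ.nw (Φ.p i) 1)⁻¹ by
          rw [this, mul_inv_cancel_right]]
      exact mul_mem (mul_mem (hn i) (ih _)) (inv_mem (hn i))
  refine (Subgroup.closure_le _).mpr ?_
  rintro g ⟨r, t, hg⟩
  have : g = Φ.toAlg.xg r t := (Φ.toAlg.eq_xg_iff (r := r)).mp (by
    rw [hg, ChevalleyDatum.x, dif_pos r.isLt])
  rw [this]
  exact hall r t

include Φ in
/-- Two homomorphisms agreeing on the fundamental root elements and their negatives agree. -/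
theorem hom_ext {H : Type*} [Group H] (φ ψ : ↥(D.group F) →* H)
    (h : ∀ (i : Fin D.rank) (t : F) (g : ↥(D.group F)),
      ((g : GL D.Idx F) : Matrix D.Idx D.Idx F) = D.x F (D.simple i) t ∨
        ((g : GL D.Idx F) : Matrix D.Idx D.Idx F) = D.x F (D.neg (D.simple i)) t → φ g = ψ g) :
    φ = ψ := by
  refine MonoidHom.ext fun g => ?_
  have hle : D.group F ≤ (φ.eqLocus ψ).map (D.group F).subtype := by
    refine Φ.group_le_of_fundamental fun i t => ⟨?_, ?_⟩
    · refine ⟨⟨Φ.toAlg.xg (Φ.p i) t, Φ.toAlg.xg_mem_group _ _⟩, h i t _ (Or.inl ?_), rfl⟩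
      rw [Φ.simple_val i, Φ.toAlg.x_val]
    · refine ⟨⟨Φ.toAlg.xg (Φ.p i).rev t, Φ.toAlg.xg_mem_group _ _⟩, h i t _ (Or.inr ?_), rfl⟩
      rw [Φ.simple_val i, show D.neg (Φ.p i).val = (Φ.p i).rev.val from Φ.negIdx_eq _, Φ.toAlg.x_val]
  obtain ⟨k, hk, e⟩ := hle g.2
  rw [show g = k from Subtype.ext e.symm]
  exact hk

end Chev

end CfsgLib.Chev
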