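/-
Centres and generators of the Weyl groups.
-/
import Cfsg.Agent.Lib.Chev.CoxeterIso
import Cfsg.Agent.Lib.Chev.Longest

namespace CfsgLib.Chev

open Cfsg.Lie Matrix

set_option linter.dupNamespace false

variable {D : ChevalleyDatum}

namespace Chev

variable (Φ : Chev D)

theorem mem_W_of_mem_WL {π : Equiv.Perm (Fin D.nroots)} (h : π ∈ Φ.WL) : π ∈ Φ.W := by
  simpa [Chev.WL, Chev.WK, Chev.simpleRefl, Chev.W, Set.image_univ] using h

theorem eq_one_of_pos {π : Equiv.Perm (Fin D.nroots)} (hπ : π ∈ Φ.WL)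
    (h : ∀ r, Φ.toTables.Pos r → Φ.toTables.Pos (π r)) : π = 1 :=
  Φ.W_eq_one_of_pos (Φ.mem_W_of_mem_WL hπ) h

/-- A reflection is moved to a reflection. -/
theorem conj_reflPerm {π : Equiv.Perm (Fin D.nroots)} (hπ : π ∈ Φ.WL) {i j : Fin D.rank}
    (h : π (Φ.p i) = Φ.p j) : π * Φ.reflPerm i * π⁻¹ = Φ.reflPerm j := by
  have hmem : π * Φ.reflPerm i * π⁻¹ * Φ.reflPerm j ∈ Φ.WL :=
    mul_mem (mul_mem (mul_mem hπ (Φ.reflPerm_mem_WL i)) (inv_mem hπ)) (Φ.reflPerm_mem_WL j)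
  have hinv : π⁻¹ (Φ.p j) = Φ.p i := by
    rw [← h]; exact π.symm_apply_apply _
  have hp : (π * Φ.reflPerm i * π⁻¹ * Φ.reflPerm j) (Φ.p j) = Φ.p j := by
    show π (Φ.refl i (π⁻¹ (Φ.refl j (Φ.p j)))) = Φ.p j
    rw [Φ.refl_p, Φ.map_rev (inv_mem hπ), hinv, Φ.refl_p_rev, h]
  have hV : ∀ r, ∃ c : ℤ, ∀ k, Φ.V ((π * Φ.reflPerm i * π⁻¹ * Φ.reflPerm j) r) k =
      Φ.V r k + if k = j then c else 0 := by
    intro r
    set y := π⁻¹ (Φ.refl j r) with hy
    refine ⟨-Φ.A j r - Φ.A i y, fun k => ?_⟩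
    show Φ.V (π (Φ.refl i y)) k = _
    have hπy : π y = Φ.refl j r := π.apply_symm_apply _
    have e1 : Φ.V (π (Φ.refl i y)) k = Φ.V (π y) k - Φ.A i y * Φ.V (π (Φ.p i)) k := by
      rw [Φ.V_map hπ (Φ.refl i y), Φ.V_map hπ y]
      simp only [Φ.V_refl, sub_mul, Finset.sum_sub_distrib, ite_mul, zero_mul, Finset.sum_ite_eq',
        Finset.mem_univ, if_true]
    rw [e1, hπy, Φ.V_refl, h, Φ.V_p]
    by_cases hk : k = j
    · subst hk; simp; ring
    · simp [hk, Ne.symm hk]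
  have hone : π * Φ.reflPerm i * π⁻¹ * Φ.reflPerm j = 1 := by
    refine Φ.eq_one_of_pos hmem fun r hr => ?_
    by_cases hrj : r = Φ.p j
    · rw [hrj, hp]; exact Φ.p_pos j
    obtain ⟨k, hkj, hk⟩ := Φ.V_supp r hr j hrj
    obtain ⟨c, hc⟩ := hV r
    by_contra hn
    have := Φ.V_nonpos _ hn k
    rw [hc k, if_neg hkj, add_zero] at this
    omega
  rw [mul_eq_one_iff_eq_inv] at hone
  rw [hone, Φ.reflPerm_inv']

/-- The sign change of the root system. -/
def negPerm (_Φ : Chev D) : Equiv.Perm (Fin D.nroots) := Fin.revPerm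

theorem negPerm_commute {π : Equiv.Perm (Fin D.nroots)} (hπ : π ∈ Φ.WL) :
    π * Φ.negPerm = Φ.negPerm * π :=
  Equiv.ext fun r => Φ.map_rev hπ r

/-- The non-zero Cartan integers connect the fundamental roots. -/
def Connected : Prop :=
  ∀ S : Fin D.rank → Bool, (∀ i j, i ≠ j → Φ.A i (Φ.p j) ≠ 0 → S i = S j) → ∀ i j, S i = S j

theorem central_cases (hc : Φ.Connected) {z : Equiv.Perm (Fin D.nroots)} (hz : z ∈ Φ.WL)
    (hcomm : ∀ i, z * Φ.reflPerm i = Φ.reflPerm i * z) : z = 1 ∨ z = Φ.negPerm := by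
  classical
  have hpm : ∀ i, z (Φ.p i) = Φ.p i ∨ z (Φ.p i) = (Φ.p i).rev := by
    intro i
    set r := z (Φ.p i) with hr
    have h1 : Φ.refl i r = r.rev := by
      have := DFunLike.congr_fun (hcomm i) (Φ.p i)
      simp only [Equiv.Perm.mul_apply] at this
      show (Φ.reflPerm i) (z (Φ.p i)) = _
      rw [← this, show Φ.reflPerm i (Φ.p i) = (Φ.p i).rev from Φ.refl_p i, Φ.map_rev hz, ← hr]
    have h2 : ∀ k, k ≠ i → Φ.V r k = 0 := fun k hk => by
      have := congrArg (fun s => Φ.V s k) h1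
      simp only [Φ.V_refl, if_neg hk, sub_zero, Φ.V_neg] at this
      omega
    by_cases hpos : Φ.toTables.Pos r
    · left
      by_contra hne
      obtain ⟨k, hk, hk'⟩ := Φ.V_supp r hpos i hne
      rw [h2 k hk] at hk'; omega
    · right
      by_contra hne
      obtain ⟨k, hk, hk'⟩ := Φ.V_supp r.rev ((Φ.pos_rev_iff r).mpr hpos) i (fun e => hne (by rw [← e, Fin.rev_rev]))
      rw [Φ.V_neg, h2 k hk] at hk'; omega
  have hne : ∀ i, Φ.p i ≠ (Φ.p i).rev := fun i => Ne.symm (Φ.toSys.rev_ne _)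
  set S : Fin D.rank → Bool := fun i => decide (z (Φ.p i) = Φ.p i) with hS
  have hV : ∀ i k, Φ.V (z (Φ.p i)) k = (if S i then 1 else -1) * (if i = k then 1 else 0) := by
    intro i k
    rcases hpm i with e | e
    · simp [hS, e, Φ.V_p]
    · simp [hS, e, Φ.V_neg, Φ.V_p, Ne.symm (hne i)]
      split_ifs <;> simp
  have hadj : ∀ i j, i ≠ j → Φ.A i (Φ.p j) ≠ 0 → S i = S j := by
    intro i j hij hA
    have h1 := DFunLike.congr_fun (hcomm i) (Φ.p j)
    simp only [Equiv.Perm.mul_apply] at h1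
    have h2 := congrArg (fun s => Φ.V s i) h1
    change Φ.V (z (Φ.refl i (Φ.p j))) i = Φ.V (Φ.refl i (z (Φ.p j))) i at h2
    rw [Φ.V_map hz (Φ.refl i (Φ.p j))] at h2
    simp only [Φ.V_refl, hV, Φ.V_p, sub_mul, Finset.sum_sub_distrib, ite_mul, one_mul, zero_mul,
      mul_ite, mul_one, mul_zero, Finset.sum_ite_eq', Finset.mem_univ, if_true, if_neg (Ne.symm hij)] at h2
    have h3 : Φ.A i (z (Φ.p j)) = (if S j then 1 else -1) * Φ.A i (Φ.p j) := by
      rcases hpm j with e | e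
      · simp [hS, e]
      · simp [hS, e, Ne.symm (hne j), Φ.toSys.A_neg]
    rw [h3] at h2
    revert h2
    cases S i <;> cases S j <;> simp <;> omega
  have hall := hc S hadj
  by_cases hex : ∃ i, S i = false
  · obtain ⟨i₀, hi₀⟩ := hex
    refine Or.inr (Equiv.ext fun r => ?_)
    show z r = r.rev
    refine Φ.toSys.V_inj fun k => ?_
    rw [Φ.V_map hz, Φ.V_neg]
    simp [hV, fun i => (hall i i₀).trans hi₀]
  · push Not at hex
    refine Or.inl (Equiv.ext fun r => ?_)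
    show z r = r
    refine Φ.toSys.V_inj fun k => ?_
    rw [Φ.V_map hz]
    simp [hV, fun i => Bool.eq_true_of_not_eq_false (hex i)]

/-- The Coxeter element on the roots. -/
def coxMap (r : Fin D.nroots) : Fin D.nroots :=
  (List.finRange D.rank).foldr (fun i x => Φ.refl i x) r

/-- The Coxeter element. -/
def coxPerm : Equiv.Perm (Fin D.nroots) := ((List.finRange D.rank).map Φ.reflPerm).prod

theorem prod_reflPerm_apply (l : List (Fin D.rank)) (r : Fin D.nroots) :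
    (l.map Φ.reflPerm).prod r = l.foldr (fun i x => Φ.refl i x) r := by
  induction l with
  | nil => rfl
  | cons a l ih => simp only [List.map_cons, List.prod_cons, Equiv.Perm.mul_apply, List.foldr_cons, ih]; rfl

theorem coxPerm_apply (r : Fin D.nroots) : Φ.coxPerm r = Φ.coxMap r := Φ.prod_reflPerm_apply _ r

theorem coxPerm_mem : Φ.coxPerm ∈ Φ.WL := by
  refine Subgroup.list_prod_mem _ fun x hx => ?_
  obtain ⟨i, -, rfl⟩ := List.mem_map.mp hx
  exact Φ.reflPerm_mem_WL i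

/-- A word in the Coxeter element and chosen reflections, on the roots. -/
def wordMap (w : List (Option (Fin D.rank))) (r : Fin D.nroots) : Fin D.nroots :=
  w.foldr (fun o x => o.elim (Φ.coxMap x) fun i => Φ.refl i x) r

theorem reflPerm_mem_closure {T : Finset (Fin D.rank)} {j : Fin D.rank}
    (h : ∃ (w : List (Option (Fin D.rank))) (t : Fin D.rank), (∀ i, some i ∈ w → i ∈ T) ∧ t ∈ T ∧
      Φ.wordMap w (Φ.p t) = Φ.p j) :
    Φ.reflPerm j ∈ Subgroup.closure ({Φ.coxPerm} ∪ Φ.reflPerm '' (T : Set (Fin D.rank))) := by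
  obtain ⟨w, t, hw, ht, e⟩ := h
  set K := Subgroup.closure ({Φ.coxPerm} ∪ Φ.reflPerm '' (T : Set (Fin D.rank)))
  obtain ⟨π, hπK, hπW, hπ⟩ : ∃ π, π ∈ K ∧ π ∈ Φ.WL ∧ ∀ r, π r = Φ.wordMap w r := by
    clear e
    induction w with
    | nil => exact ⟨1, one_mem _, one_mem _, fun r => rfl⟩
    | cons o w ih =>
      obtain ⟨π, h1, h2, h3⟩ := ih fun i hi => hw i (List.mem_cons_of_mem _ hi)
      cases o with
      | none =>
        refine ⟨Φ.coxPerm * π, mul_mem (Subgroup.subset_closure (Or.inl rfl)) h1,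
          mul_mem Φ.coxPerm_mem h2, fun r => ?_⟩
        rw [Equiv.Perm.mul_apply, h3, Φ.coxPerm_apply]; rfl
      | some i =>
        refine ⟨Φ.reflPerm i * π,
          mul_mem (Subgroup.subset_closure (Or.inr ⟨i, hw i List.mem_cons_self, rfl⟩)) h1,
          mul_mem (Φ.reflPerm_mem_WL i) h2, fun r => ?_⟩
        rw [Equiv.Perm.mul_apply, h3]; rfl
  rw [← Φ.conj_reflPerm hπW ((hπ _).trans e)]
  exact mul_mem (mul_mem hπK (Subgroup.subset_closure (Or.inr ⟨t, ht, rfl⟩))) (inv_mem hπK)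

end Chev

end CfsgLib.Chev
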