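import Cfsg.Agent.Lib.DefectZero.SplitBN
import Cfsg.Agent.Lib.Chev.SimpleGen
import Cfsg.Agent.Lib.Chev.WeylCentre
import Cfsg.Agent.Lib.Chev.Bruhat
import Cfsg.Agent.Lib.Chev.Longest

/-!
# The rank one datum of a finite Chevalley group
-/

set_option linter.unusedSectionVars false
set_option linter.dupNamespace false
set_option autoImplicit false

namespace CfsgLib.Chev

open Cfsg.Lie Matrix

variable {D : ChevalleyDatum}

namespace Chev

variable (Φ : Chev D) {F : Type*} [Field F]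

/-- The negative roots outside the given fundamental one. -/
def NegOut (i : Fin D.rank) (r : Fin D.nroots) : Prop := Φ.Out {i} r.rev

theorem negOut_neg {i : Fin D.rank} {r : Fin D.nroots} (h : Φ.NegOut i r) : ¬ Φ.toTables.Pos r :=
  (Φ.pos_rev_iff r).1 (Out.pos Φ h)

theorem negOut_closed_conj (i : Fin D.rank) {r : Fin D.nroots} (hr : Φ.Sub {i} r) (c : F)
    {u : GL D.Idx F} (hu : u ∈ Φ.US F (Φ.NegOut i)) :
    Φ.toAlg.xg r c * u * (Φ.toAlg.xg r c)⁻¹ ∈ Φ.US F (Φ.NegOut i) := by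
  refine Φ.conj_mem_of_gen (fun s v hs => ?_) hu
  obtain ⟨j, hj, hsj⟩ := hs
  have hsj' : Φ.V s j < 0 := by rw [Φ.V_neg s] at hsj; omega
  have hrj := hr j hj
  have h1 : s ≠ r := fun e => by rw [e, hrj] at hsj'; omega
  have h2 : s ≠ r.rev := fun e => by rw [e, Φ.V_neg r, hrj] at hsj'; omega
  have hsp : ¬ Φ.toTables.Pos s := Φ.negOut_neg ⟨j, hj, hsj⟩
  have mk : ∀ x, Φ.V x j < 0 → Φ.NegOut i x := fun x hx => ⟨j, hj, by rw [Φ.V_neg x]; omega⟩
  have := Φ.conj_xg_mem h1 h2 (S := Φ.NegOut i) ⟨j, hj, hsj⟩ (fun d hd => Φ.commTerms_mem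
    (fun hN => mk _ (by rw [Φ.V_add r s hN, hrj]; omega))
    (fun x ⟨k, hk, hxk⟩ hN => ⟨k, hk, by
      rw [Φ.V_neg x] at hxk; rw [Φ.V_neg, Φ.V_add r x hN, hr k hk]; omega⟩)
    (fun x ⟨k, hk, hxk⟩ hN => ⟨k, hk, by
      rw [Φ.V_neg x] at hxk; rw [Φ.V_neg, Φ.V_add s x hN]
      have := Φ.V_nonpos s hsp k; omega⟩) hd) (-c) v
  rwa [← Φ.toAlg.xg_inv, inv_inv] at this

theorem negOut_split (i : Fin D.rank) {v : GL D.Idx F} (hv : v ∈ D.negUnipotent F) :
    ∃ w ∈ Φ.US F (Φ.NegOut i), ∃ s, v = w * Φ.toAlg.xg (Φ.p i).rev s := by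
  rw [Φ.negUnipotent_eq_US] at hv
  have hsub : Φ.Sub {i} (Φ.p i).rev := Φ.sub_rev.2 (Φ.sub_p.2 (Set.mem_singleton i))
  induction hv using Subgroup.closure_induction with
  | mem y hy =>
    obtain ⟨r, t, hr, rfl⟩ := hy
    by_cases h : r = (Φ.p i).rev
    · exact ⟨1, one_mem _, t, by rw [h, one_mul]⟩
    · refine ⟨_, Φ.xg_mem_US (show Φ.NegOut i r from Φ.out_singleton_iff.2
        ⟨(Φ.pos_rev_iff r).2 hr, fun e => h (by rw [← e, Fin.rev_rev])⟩) t, 0, by simp⟩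
  | one => exact ⟨1, one_mem _, 0, by simp⟩
  | mul y z _ _ hy hz =>
    obtain ⟨v, hv, a, rfl⟩ := hy
    obtain ⟨w, hw, b, rfl⟩ := hz
    refine ⟨_, mul_mem hv (Φ.negOut_closed_conj i hsub a hw), a + b, ?_⟩
    rw [Φ.toAlg.xg_add]; group
  | inv y _ hy =>
    obtain ⟨v, hv, a, rfl⟩ := hy
    refine ⟨_, Φ.negOut_closed_conj i hsub (-a) (inv_mem hv), -a, ?_⟩
    rw [Φ.toAlg.xg_neg]; group

theorem exists_long_element (F : Type*) [Field F] : ∃ n ∈ D.monomialSubgroup F,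
    ∃ π ∈ Φ.WL, Φ.Mono n π ∧ (∀ r, Φ.toTables.Pos r → ¬ Φ.toTables.Pos (π r)) ∧
      ∀ u, u ∈ D.posUnipotent F ↔ n * u * n⁻¹ ∈ D.negUnipotent F := by
  obtain ⟨π, hπ, hneg⟩ := Φ.exists_long
  obtain ⟨n, hn, hm⟩ := Φ.exists_preimage F hπ
  refine ⟨n, hn, π, hπ, hm, hneg, fun u => ⟨fun hu => ?_, fun hu => ?_⟩⟩
  · rw [Φ.posUnipotent_eq_US] at hu
    rw [Φ.negUnipotent_eq_US]
    exact Φ.map_US_le hm hneg u hu
  · rw [Φ.negUnipotent_eq_US] at hu
    rw [Φ.posUnipotent_eq_US]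
    have := Φ.map_US_le (Φ.mono_inv hn hm) (T := Φ.toTables.Pos)
      (fun r (hr : ¬ Φ.toTables.Pos r) => by
        by_contra hc
        have h1 := hneg _ ((Φ.pos_rev_iff _).2 hc)
        rw [Φ.map_rev hπ, show π (π⁻¹ r) = r from π.apply_symm_apply r, Φ.pos_rev_iff, not_not] at h1
        exact hr h1) _ hu
    simpa [mul_assoc] using this

/-- The rank one data inside the group. -/
noncomputable def rankOneIn (F : Type*) [Field F] (r : Fin D.nroots) : RankOne F ↥(D.group F) where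
  x t := ⟨Φ.toAlg.xg r t, Φ.toAlg.xg_mem_group r t⟩
  y t := ⟨Φ.toAlg.xg r.rev t, Φ.toAlg.xg_mem_group r.rev t⟩
  n t := ⟨Φ.nw r t, Φ.nw_mem_group r t⟩
  h t := ⟨Φ.hw r t, Φ.N_le_group (H_le_N (Φ.hw_mem_H r t))⟩
  x_add a b := Subtype.ext ((Φ.rankOne F r).x_add a b)
  n_def t := Subtype.ext ((Φ.rankOne F r).n_def t)
  n_eq t := Subtype.ext ((Φ.rankOne F r).n_eq t)
  h_mul a b := Subtype.ext ((Φ.rankOne F r).h_mul a b)
  h_x t u := Subtype.ext ((Φ.rankOne F r).h_x t u)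
  n_h t := Subtype.ext ((Φ.rankOne F r).n_h t)
  n_sq := Subtype.ext (Φ.rankOne F r).n_sq
  n_x u := Subtype.ext ((Φ.rankOne F r).n_x u)

/-- The datum. -/
noncomputable def defectDatum (F : Type*) [Field F] [Finite F] (p : ℕ) [Fact p.Prime] [CharP F p] :
    CfsgLib.DefectZeroBN.Datum ↥(D.group F) F p where
  ι := Fin D.rank
  R i := Φ.rankOneIn F (Φ.p i)
  U := (D.posUnipotent F).subgroupOf (D.group F)
  V := (D.negUnipotent F).subgroupOf (D.group F)
  Uc i := (Φ.US F (Φ.PosNe i)).subgroupOf (D.group F)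
  n0 := ⟨(Φ.exists_long_element F).choose, Φ.N_le_group (Φ.exists_long_element F).choose_spec.1⟩
  hU := by
    classical
    have hle : D.posUnipotent F ≤ D.group F := fun x hx => Φ.B_le_group (U_le_B hx)
    obtain ⟨k, hk⟩ : ∃ k, Nat.card F = p ^ k := by
      have : Fintype F := Fintype.ofFinite F
      obtain ⟨n, -, hn⟩ := FiniteField.card F p
      exact ⟨n, by rw [Nat.card_eq_fintype_card, hn]⟩
    refine IsPGroup.of_card (n := k * (D.nroots / 2)) ?_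
    rw [Nat.card_congr (Subgroup.subgroupOfEquivOfLe hle).toEquiv, Φ.card_U, hk, ← pow_mul]
  hV := by
    classical
    obtain ⟨hn, π, -, -, -, hiff⟩ := (Φ.exists_long_element F).choose_spec
    set n := (Φ.exists_long_element F).choose
    have hle : D.posUnipotent F ≤ D.group F := fun x hx => Φ.B_le_group (U_le_B hx)
    obtain ⟨k, hk⟩ : ∃ k, Nat.card F = p ^ k := by
      have : Fintype F := Fintype.ofFinite F
      obtain ⟨m, -, hm⟩ := FiniteField.card F p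
      exact ⟨m, by rw [Nat.card_eq_fintype_card, hm]⟩
    have hU : IsPGroup p ((D.posUnipotent F).subgroupOf (D.group F)) := by
      refine IsPGroup.of_card (n := k * (D.nroots / 2)) ?_
      rw [Nat.card_congr (Subgroup.subgroupOfEquivOfLe hle).toEquiv, Φ.card_U, hk, ← pow_mul]
    have e : (D.negUnipotent F).subgroupOf (D.group F) = ((D.posUnipotent F).subgroupOf (D.group F)).map
        (MulAut.conj (⟨n, Φ.N_le_group hn⟩ : ↥(D.group F))).toMonoidHom := by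
      ext x
      rw [Subgroup.mem_map]
      constructor
      · intro hx
        refine ⟨(⟨n, Φ.N_le_group hn⟩ : ↥(D.group F))⁻¹ * x * ⟨n, Φ.N_le_group hn⟩, ?_, ?_⟩
        · rw [Subgroup.mem_subgroupOf, hiff]
          rw [Subgroup.mem_subgroupOf] at hx
          simpa [mul_assoc] using hx
        · simp [mul_assoc]
      · rintro ⟨u, hu, rfl⟩
        rw [Subgroup.mem_subgroupOf] at hu ⊢
        simpa using (hiff _).1 hu
    rw [e]
    exact hU.map _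
  hUV := by
    ext x
    simp only [Subgroup.mem_inf, Subgroup.mem_subgroupOf, Subgroup.mem_bot]
    constructor
    · rintro ⟨h1, h2⟩
      have h : (x : GL D.Idx F) ∈ D.borelSubgroup F ⊓ D.negUnipotent F := ⟨U_le_B h1, h2⟩
      rw [Φ.B_inf_V, Subgroup.mem_bot] at h
      exact Subtype.ext h
    · rintro rfl; exact ⟨one_mem _, one_mem _⟩
  hinj i a b h := Φ.toAlg.xg_injective (Φ.p i) (congrArg Subtype.val h)
  hx i t := Φ.xg_mem_U (Φ.p_pos i) t
  hy i t := Φ.xg_mem_V (fun h => (Φ.pos_rev_iff _).1 h (Φ.p_pos i)) t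
  hgen := by
    rw [eq_top_iff]
    intro g _
    have hle : D.group F ≤ (Subgroup.closure {g : ↥(D.group F) | ∃ i t,
        g = (Φ.rankOneIn F (Φ.p i)).x t ∨ g = (Φ.rankOneIn F (Φ.p i)).y t}).map (D.group F).subtype :=
      Φ.group_le_of_fundamental fun i t =>
        ⟨⟨_, Subgroup.subset_closure ⟨i, t, Or.inl rfl⟩, rfl⟩,
         ⟨_, Subgroup.subset_closure ⟨i, t, Or.inr rfl⟩, rfl⟩⟩
    obtain ⟨k, hk, e⟩ := hle g.2
    rwa [show g = k from Subtype.ext e.symm]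
  hcomm i j a b := Subtype.ext (Φ.H_comm (Φ.hw_mem_H _ a) (Φ.hw_mem_H _ b))
  hnormU i a u := by
    simp only [Subgroup.mem_subgroupOf]
    exact Subgroup.mem_normalizer_iff.1 (Φ.H_le_normalizer_U (Φ.hw_mem_H (Φ.p i) a)) _
  hnormV i a u := by
    simp only [Subgroup.mem_subgroupOf]
    have h := Φ.H_le_normalizer_US (fun r => ¬ Φ.toTables.Pos r) (Φ.hw_mem_H (Φ.p i) a)
    rw [← Φ.negUnipotent_eq_US] at h
    exact Subgroup.mem_normalizer_iff.1 h _
  hlong u := by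
    simp only [Subgroup.mem_subgroupOf]
    exact (Φ.exists_long_element F).choose_spec.2.choose_spec.2.2.2 _
  hUc i x hx := Φ.posNe_le_U hx
  hsplit i u hu := by
    obtain ⟨v, hv, a, e⟩ := Φ.exists_split i hu
    exact ⟨⟨v, Φ.B_le_group (U_le_B (Φ.posNe_le_U hv))⟩, hv, a, Subtype.ext e⟩
  hUcn i c := by
    simp only [Subgroup.mem_subgroupOf]
    refine ⟨fun h => Φ.nw_conj_posNe i h, fun h => ?_⟩
    have h1 := Φ.nw_conj_posNe i h
    have h2 := Φ.H_le_normalizer_US (Φ.PosNe i) (Φ.hw_mem_H (Φ.p i) (-1 : Fˣ))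
    refine (Subgroup.mem_normalizer_iff.1 h2 _).2 ?_
    rw [← Φ.nw_sq]
    change Φ.nw (Φ.p i) 1 * Φ.nw (Φ.p i) 1 * c.1 * (Φ.nw (Φ.p i) 1 * Φ.nw (Φ.p i) 1)⁻¹ ∈ _
    change Φ.nw (Φ.p i) 1 * (Φ.nw (Φ.p i) 1 * c.1 * (Φ.nw (Φ.p i) 1)⁻¹) * (Φ.nw (Φ.p i) 1)⁻¹ ∈ _ at h1
    refine (congrArg (· ∈ Φ.US F (Φ.PosNe i)) ?_).mpr h1
    group
  hVsplit i v hv := by
    obtain ⟨w, hw, s, e⟩ := Φ.negOut_split i hv
    have hwV : w ∈ D.negUnipotent F := by
      rw [Φ.negUnipotent_eq_US]; exact Φ.US_mono (fun _ h => Φ.negOut_neg h) hw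
    have hwG : w ∈ D.group F := by
      rw [← Φ.toAlg.posUnipotent_sup_negUnipotent]; exact Subgroup.mem_sup_right hwV
    refine ⟨⟨w, hwG⟩, s, Subtype.ext e, fun t => ?_⟩
    rw [Subgroup.mem_subgroupOf]
    have h := Φ.negOut_closed_conj i (Φ.sub_p.2 (Set.mem_singleton i)) t hw
    rw [Φ.negUnipotent_eq_US]
    exact Φ.US_mono (fun _ h => Φ.negOut_neg h) h
  hbig g := by
    obtain ⟨hn0, π0, hπ0, hm0, hneg0, -⟩ := (Φ.exists_long_element F).choose_spec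
    set n0 := (Φ.exists_long_element F).choose
    obtain ⟨b, hb, n, hn, π, hπ, hm, u, hu, e⟩ := Φ.exists_normal_form g.2
    have huU : u ∈ D.posUnipotent F := Φ.Uneg_le_U hu
    by_cases hlong : ∀ r, Φ.toTables.Pos r → ¬ Φ.toTables.Pos (π r)
    · right
      have heq : π = π0 := by
        refine inv_mul_eq_one.1 (Φ.eq_one_of_pos (mul_mem (inv_mem hπ) hπ0) fun r hr => ?_)
        rw [Equiv.Perm.mul_apply]
        by_contra hc
        have h1 := hlong _ ((Φ.pos_rev_iff _).2 hc)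
        rw [Φ.map_rev hπ, show π (π⁻¹ (π0 r)) = π0 r from π.apply_symm_apply _, Φ.pos_rev_iff,
          not_not] at h1
        exact hneg0 r hr h1
      subst heq
      obtain ⟨u1, hu1, h, hh, rfl⟩ := Φ.mem_B_iff.1 hb
      have hd : n0⁻¹ * n ∈ D.diagonalSubgroup F := Φ.inv_mul_mem_H hn0 hn hm0 hm
      have hh' : h * (n * n0⁻¹) ∈ D.diagonalSubgroup F := by
        refine mul_mem hh ?_
        have := Φ.H_conj_mem hn0 hd
        rwa [show n0 * (n0⁻¹ * n) * n0⁻¹ = n * n0⁻¹ by group] at this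
      refine ⟨⟨u1, Φ.B_le_group (U_le_B hu1)⟩, hu1, ⟨h * (n * n0⁻¹), Φ.N_le_group (H_le_N hh')⟩,
        fun u' => ?_, ⟨u, Φ.B_le_group (U_le_B huU)⟩, huU, ?_⟩
      · simp only [Subgroup.mem_subgroupOf]
        exact Subgroup.mem_normalizer_iff.1 (Φ.H_le_normalizer_U hh') _
      · apply Subtype.ext
        show (g : GL D.Idx F) = u1 * (h * (n * n0⁻¹)) * n0 * u
        rw [e]; group
    · left
      push Not at hlong
      obtain ⟨r, hr, hr'⟩ := hlong
      obtain ⟨c, hc⟩ := Mono.conj Φ hm r (1 : F)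
      have hz : b * Φ.toAlg.xg (π r) c * b⁻¹ ∈ D.posUnipotent F := by
        obtain ⟨u1, hu1, h, hh, rfl⟩ := Φ.mem_B_iff.1 hb
        have h1 := (Subgroup.mem_normalizer_iff.1 (Φ.H_le_normalizer_U hh) _).1 (Φ.xg_mem_U hr' c)
        rw [show u1 * h * Φ.toAlg.xg (π r) c * (u1 * h)⁻¹ = u1 * (h * Φ.toAlg.xg (π r) c * h⁻¹) * u1⁻¹ by group]
        exact mul_mem (mul_mem hu1 h1) (inv_mem hu1)
      refine ⟨⟨b * Φ.toAlg.xg (π r) c * b⁻¹, Φ.B_le_group (U_le_B hz)⟩, hz, ?_, ?_⟩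
      · intro h1
        have h2 : b * Φ.toAlg.xg (π r) c * b⁻¹ = 1 := congrArg Subtype.val h1
        rw [conj_eq_one_iff, ← hc, conj_eq_one_iff, Φ.toAlg.xg_eq_one_iff] at h2
        exact one_ne_zero h2
      · rw [Subgroup.mem_subgroupOf]
        simp only [Subgroup.coe_mul, InvMemClass.coe_inv]
        rw [e, ← hc, show (b * n * u)⁻¹ * (b * (n * Φ.toAlg.xg r (1 : F) * n⁻¹) * b⁻¹) * (b * n * u) =
          u⁻¹ * Φ.toAlg.xg r (1 : F) * u by group]
        exact mul_mem (mul_mem (inv_mem huU) (Φ.xg_mem_U hr 1)) huU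

end Chev

end CfsgLib.Chev
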