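/-
Parabolic subgroups: generation, Levi decomposition, normaliser of the unipotent radical.
-/
import Cfsg.Agent.Lib.Chev.BNP

namespace CfsgLib.Chev

open Cfsg.Lie Matrix

set_option linter.dupNamespace false
set_option linter.unusedSimpArgs false

variable {D : ChevalleyDatum}

namespace Sys

variable (Φ : Sys D) (l : Fin D.rank → ℤ)

/-- A linear functional on the roots. -/
def lev (r : Fin D.nroots) : ℤ := ∑ j, Φ.V r j * l j

/-- The grading of the basis by a functional. -/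
def levIdx : D.Idx → ℤ := Sum.elim (fun _ => 0) (Φ.lev l)

theorem lev_neg (r : Fin D.nroots) : Φ.lev l r.rev = -Φ.lev l r := by
  simp [lev, Φ.V_neg r, Finset.sum_neg_distrib]

theorem lev_ch (r s : Fin D.nroots) : ∀ k, (Φ.toTables.ch r s k).2 ≠ 0 →
    Φ.lev l (Φ.toTables.ch r s k).1 = k * Φ.lev l r + Φ.lev l s := by
  intro k
  induction k with
  | zero => intro _; simp [Tables.ch]
  | succ k ih =>
    intro h
    have hk : (Φ.toTables.ch r s k).2 ≠ 0 := fun e => h (Φ.ch_snd_succ_eq_zero e)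
    have hN : Φ.N r (Φ.toTables.ch r s k).1 ≠ 0 := fun e => h (by simp [Tables.ch, e])
    show Φ.lev l (Φ.S r (Φ.toTables.ch r s k).1) = _
    have : Φ.lev l (Φ.S r (Φ.toTables.ch r s k).1) =
        Φ.lev l r + Φ.lev l (Φ.toTables.ch r s k).1 := by
      simp only [lev, Φ.V_add r _ hN, add_mul, Finset.sum_add_distrib]
    rw [this, ih hk]; push_cast; ring

theorem lev_E {R : Type*} [CommRing R] (k : ℕ) (r : Fin D.nroots) (x y : D.Idx)
    (h : Φ.E R k r x y ≠ 0) : Φ.levIdx l x = k * Φ.lev l r + Φ.levIdx l y := by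
  rcases y with i | s
  · rcases x with j | u
    · have : k = 0 := by by_contra e; simp [E, e] at h
      subst this; simp [levIdx]
    · have : k = 1 ∧ u = r := by by_contra e; simp [E, e] at h
      simp [levIdx, this.1, this.2]
  · by_cases hsr : s = r
    · rcases x with j | u
      · simp [E, hsr] at h
      · have : k = 0 ∧ u = r := by by_contra e; simp [E, hsr, e] at h
        simp [levIdx, this.1, this.2, hsr]
    · by_cases hsn : s = r.rev
      · subst hsn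
        rcases x with j | u
        · have : k = 1 := by by_contra e; simp [E, hsr, e] at h
          simp [levIdx, this, Φ.lev_neg l r]
        · by_cases h0 : k = 0 ∧ u = r.rev
          · simp [levIdx, h0.1, h0.2]
          · have : k = 2 ∧ u = r := by by_contra e; simp [E, hsr, h0, e] at h
            simp [levIdx, this.1, this.2, Φ.lev_neg l r]; ring
      · rcases x with j | u
        · simp [E, hsr, hsn] at h
        · simp only [E, Matrix.of_apply, if_neg hsr, if_neg hsn] at h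
          split_ifs at h with hu
          · subst hu
            exact Φ.lev_ch l r s k fun e => h (by simp [e])
          · exact absurd rfl h

theorem raises_X_lev {R : Type*} [CommRing R] (σ c : ℤ) (r : Fin D.nroots)
    (hc : 0 ≤ c) (hr : c ≤ σ * Φ.lev l r) (t : R) :
    Raises (fun x => σ * Φ.levIdx l x) c (Φ.X R r t - 1) := by
  intro x y hxy
  have : ∃ k, 1 ≤ k ∧ Φ.E R k r x y ≠ 0 := by
    by_contra hall
    push Not at hall
    apply hxy
    simp [X, Finset.sum_range_succ, hall 1 le_rfl, hall 2 (by norm_num), hall 3 (by norm_num), Φ.E_zero]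
  obtain ⟨k, hk, hE⟩ := this
  show _ ≤ σ * Φ.levIdx l x
  rw [Φ.lev_E l k r x y hE]
  have : (1 : ℤ) ≤ k := by exact_mod_cast hk
  nlinarith

end Sys

namespace Chev

variable (Φ : Chev D) {F : Type*} [Field F]

/-- A set of natural numbers read as a set of fundamental roots. -/
def natSet (J : Set ℕ) : Set (Fin D.rank) := {i | i.val ∈ J}

theorem inRootSub_iff (J : Set ℕ) (r : Fin D.nroots) :
    D.InRootSub J r.val ↔ Φ.Sub (natSet J) r := by
  simp only [ChevalleyDatum.InRootSub, r.isLt, true_and, Sub, natSet]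
  constructor
  · intro h j hj
    rw [← Φ.C_eq_zero_iff, ← Φ.coroot_eq]
    exact h j.val j.isLt hj
  · intro h i hi hJ
    rw [show i = (⟨i, hi⟩ : Fin D.rank).val from rfl, Φ.coroot_eq, Φ.C_eq_zero_iff]
    exact h ⟨i, hi⟩ hJ

theorem exists_descent_supp {r : Fin D.nroots} (hr : Φ.toTables.Pos r) :
    ∃ i, 0 < Φ.A i r ∧ Φ.V r i ≠ 0 := by
  by_contra hn
  push Not at hn
  have h := Φ.pair_self r
  have : ∑ i, Φ.C r i * Φ.A i r ≤ 0 := Finset.sum_nonpos fun i _ => by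
    by_cases e : Φ.C r i = 0
    · simp [e]
    · refine mul_nonpos_of_nonneg_of_nonpos (Φ.C_nonneg hr i) (not_lt.mp fun hA => e ?_)
      rw [Φ.C_eq_zero_iff]; exact hn i hA
  omega

theorem sub_mem_parabolic (J : Set ℕ) {r : Fin D.nroots} (hr : Φ.Sub (natSet J) r) (t : F) :
    Φ.toAlg.xg r t ∈ D.parabolicSubgroup F J := by
  by_cases hp : Φ.toTables.Pos r
  · exact Subgroup.mem_sup_left (Φ.xg_mem_B hp t)
  suffices key : ∀ m : ℕ, ∀ r : Fin D.nroots, r.val = m → Φ.toTables.Pos r → Φ.Sub (natSet J) r →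
      ∀ t : F, Φ.toAlg.xg r.rev t ∈ D.parabolicSubgroup F J by
    simpa using key _ r.rev rfl ((Φ.pos_rev_iff r).mpr hp) (Φ.sub_rev.mpr hr) t
  clear hp hr t r
  intro m
  induction m using Nat.strong_induction_on with
  | _ m ih =>
    intro r hm hr hs t
    obtain ⟨i, hA, hV⟩ := Φ.exists_descent_supp hr
    have hi : i ∈ natSet J := by by_contra e; exact hV (hs i e)
    have hn : Φ.nw (Φ.p i) (1 : Fˣ) ∈ D.parabolicSubgroup F J := by
      rw [Φ.parabolicSubgroup_eq]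
      exact Subgroup.mem_sup_right (Subgroup.subset_closure ⟨i, hi, rfl⟩)
    have hsq : (Φ.eta i (Φ.refl i r.rev) : F) * (Φ.eta i (Φ.refl i r.rev) : F) = 1 := by
      rcases Φ.eta_unit i (Φ.refl i r.rev) with e | e <;> simp [e]
    have e : Φ.toAlg.xg r.rev t = Φ.nw (Φ.p i) 1 *
        Φ.toAlg.xg (Φ.refl i r.rev) ((Φ.eta i (Φ.refl i r.rev) : F) * t) * (Φ.nw (Φ.p i) 1)⁻¹ := by
      rw [Φ.nw_conj_xg, Φ.refl_refl, ← mul_assoc, hsq, one_mul, mul_inv_cancel_right]
    rw [e]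
    refine Subgroup.mul_mem _ (Subgroup.mul_mem _ hn ?_) (Subgroup.inv_mem _ hn)
    by_cases hri : r = Φ.p i
    · rw [hri, Φ.refl_p_rev]
      exact Subgroup.mem_sup_left (Φ.xg_mem_B (Φ.p_pos i) _)
    · rw [Φ.refl_rev]
      exact ih _ (hm ▸ Φ.refl_lt hA) _ rfl (Φ.refl_pos hr hri).1 ((Φ.sub_refl hi).mpr hs) _

theorem unipotentRadical_eq (J : Set ℕ) :
    D.unipotentRadical F J = Φ.US F (Φ.Out (natSet J)) := by
  rw [ChevalleyDatum.unipotentRadical, US]
  congr 1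
  ext g
  constructor
  · rintro ⟨r, t, hr, hs, hg⟩
    refine ⟨⟨r, hr.1⟩, t, Φ.out_iff_pos_and_not_sub.mpr ⟨(Φ.posRoot_iff ⟨r, hr.1⟩).mp hr, ?_⟩,
      (Φ.toAlg.eq_xg_iff (r := ⟨r, hr.1⟩).mp hg).symm⟩
    exact fun h => hs ((Φ.inRootSub_iff J ⟨r, hr.1⟩).mpr h)
  · rintro ⟨r, t, hr, rfl⟩
    obtain ⟨h1, h2⟩ := Φ.out_iff_pos_and_not_sub.mp hr
    exact ⟨r.val, t, (Φ.posRoot_iff r).mpr h1, fun h => h2 ((Φ.inRootSub_iff J r).mp h),
      Φ.toAlg.eq_xg_iff.mpr rfl⟩

theorem leviSubgroup_eq (J : Set ℕ) :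
    D.leviSubgroup F J = D.diagonalSubgroup F ⊔ Φ.US F (Φ.Sub (natSet J)) := by
  rw [ChevalleyDatum.leviSubgroup, US]
  congr 2
  ext g
  constructor
  · rintro ⟨r, t, hs, hg⟩
    exact ⟨⟨r, hs.1⟩, t, (Φ.inRootSub_iff J ⟨r, hs.1⟩).mp hs,
      (Φ.toAlg.eq_xg_iff (r := ⟨r, hs.1⟩).mp hg).symm⟩
  · rintro ⟨r, t, hr, rfl⟩
    exact ⟨r.val, t, (Φ.inRootSub_iff J r).mpr hr, Φ.toAlg.eq_xg_iff.mpr rfl⟩

theorem parabolic_eq_gen (J : Set ℕ) : D.parabolicSubgroup F J =
    D.diagonalSubgroup F ⊔ Φ.US F (fun r => Φ.toTables.Pos r ∨ Φ.Sub (natSet J) r) := by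
  refine le_antisymm ?_ (sup_le (le_trans le_sup_right le_sup_left) ?_)
  · rw [Φ.parabolicSubgroup_eq]
    refine sup_le (sup_le ?_ le_sup_left) ((Subgroup.closure_le _).mpr ?_)
    · rw [Φ.posUnipotent_eq_US]
      exact le_trans (Φ.US_mono (T := fun r => Φ.toTables.Pos r ∨ Φ.Sub (natSet J) r)
        fun r hr => Or.inl hr) le_sup_right
    · rintro _ ⟨i, hi, rfl⟩
      have hs : Φ.Sub (natSet J) (Φ.p i) := Φ.sub_p.mpr hi
      exact Subgroup.mem_sup_right (Subgroup.mul_mem _ (Subgroup.mul_mem _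
        (Φ.xg_mem_US (Or.inr hs) _) (Φ.xg_mem_US (Or.inr (Φ.sub_rev.mpr hs)) _)) (Φ.xg_mem_US (Or.inr hs) _))
  · rw [US, Subgroup.closure_le]
    rintro _ ⟨r, t, hr | hr, rfl⟩
    · exact Subgroup.mem_sup_left (Φ.xg_mem_B hr t)
    · exact Φ.sub_mem_parabolic J hr t

include Φ in
theorem unipotentRadical_sup_levi (J : Set ℕ) :
    D.unipotentRadical F J ⊔ D.leviSubgroup F J = D.parabolicSubgroup F J := by
  rw [Φ.parabolic_eq_gen, Φ.unipotentRadical_eq, Φ.leviSubgroup_eq, sup_left_comm]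
  congr 1
  refine le_antisymm (sup_le ?_ ?_) ?_
  · exact Φ.US_mono fun r hr => Or.inl (Out.pos Φ hr)
  · exact Φ.US_mono fun r hr => Or.inr hr
  · rw [US, Subgroup.closure_le]
    rintro _ ⟨r, t, hr, rfl⟩
    by_cases hs : Φ.Sub (natSet J) r
    · exact Subgroup.mem_sup_right (Φ.xg_mem_US hs t)
    · exact Subgroup.mem_sup_left
        (Φ.xg_mem_US (Φ.out_iff_pos_and_not_sub.mpr ⟨hr.resolve_right hs, hs⟩) t)

include Φ in
theorem parabolic_le_normalizer (J : Set ℕ) : D.parabolicSubgroup F J ≤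
    Subgroup.normalizer (D.unipotentRadical F J : Set (GL D.Idx F)) := by
  rw [Φ.parabolic_eq_gen, Φ.unipotentRadical_eq]
  refine sup_le (Φ.H_le_normalizer_US _) ((Subgroup.closure_le _).mpr ?_)
  rintro _ ⟨r, t, hr, rfl⟩
  by_cases hs : Φ.Sub (natSet J) r
  · exact Φ.xg_mem_normalizer_out hs t
  · exact Subgroup.le_normalizer
      (Φ.xg_mem_US (Φ.out_iff_pos_and_not_sub.mpr ⟨hr.resolve_right hs, hs⟩) t)

include Φ in
theorem unipotentRadical_inf_levi (J : Set ℕ) :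
    D.unipotentRadical F J ⊓ D.leviSubgroup F J = ⊥ := by
  classical
  set l : Fin D.rank → ℤ := fun j => if j ∈ natSet J then 0 else 1 with hl
  have h0 : ∀ r, Φ.Sub (natSet J) r → Φ.toSys.lev l r = 0 := by
    intro r hr
    refine Finset.sum_eq_zero fun j _ => ?_
    by_cases hj : j ∈ natSet J
    · simp [hl, hj]
    · simp [hr j hj]
  have h1 : ∀ r, Φ.Out (natSet J) r → 1 ≤ 1 * Φ.toSys.lev l r := by
    intro r hr
    have hp := Out.pos Φ hr
    obtain ⟨j, hj, hv⟩ := hr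
    rw [one_mul]
    refine le_trans ?_ (Finset.single_le_sum (f := fun k => Φ.V r k * l k) (fun k _ => ?_) (Finset.mem_univ j))
    · simp [hl, hj]; omega
    · exact mul_nonneg (Φ.V_nonneg r hp k) (by simp only [hl]; split_ifs <;> simp)
  have hU : D.unipotentRadical F J ≤ raiseSubgroup (fun x => 1 * Φ.toSys.levIdx l x) 1 zero_le_one := by
    rw [Φ.unipotentRadical_eq, US, Subgroup.closure_le]
    rintro _ ⟨r, t, hr, rfl⟩
    exact ⟨Φ.toSys.raises_X_lev l 1 1 r zero_le_one (h1 r hr) t,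
      Φ.toSys.raises_X_lev l 1 1 r zero_le_one (h1 r hr) (-t)⟩
  have hL : D.leviSubgroup F J ≤ raiseSubgroup (fun x => (-1) * Φ.toSys.levIdx l x) 0 le_rfl := by
    rw [Φ.leviSubgroup_eq]
    refine sup_le (fun h hh => ?_) ((Subgroup.closure_le _).mpr ?_)
    · have key : ∀ h ∈ D.diagonalSubgroup F, Raises (fun x => (-1) * Φ.toSys.levIdx l x) 0
          ((h : Matrix D.Idx D.Idx F) - 1) := by
        intro h hh x y hxy
        by_cases e : x = y
        · subst e; simp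
        · simp [Matrix.sub_apply, Φ.diag_apply hh e, Matrix.one_apply_ne e] at hxy
      exact ⟨key h hh, key h⁻¹ (Subgroup.inv_mem _ hh)⟩
    · rintro _ ⟨r, t, hr, rfl⟩
      exact ⟨Φ.toSys.raises_X_lev l (-1) 0 r le_rfl (by simp [h0 r hr]) t,
        Φ.toSys.raises_X_lev l (-1) 0 r le_rfl (by simp [h0 r hr]) (-t)⟩
  rw [Subgroup.eq_bot_iff_forall]
  rintro g ⟨hu, hlv⟩
  refine Units.ext (sub_eq_zero.mp (Matrix.ext fun x y => ?_))
  by_contra hne
  have a : 1 * Φ.toSys.levIdx l y + 1 ≤ 1 * Φ.toSys.levIdx l x := (hU hu).1 x y hne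
  have b : (-1) * Φ.toSys.levIdx l y + 0 ≤ (-1) * Φ.toSys.levIdx l x := (hL hlv).1 x y hne
  omega

include Φ in
theorem normalizer_unipotentRadical (J : Set ℕ) :
    Subgroup.normalizer (D.unipotentRadical F J : Set (GL D.Idx F)) ⊓ D.group F =
      D.parabolicSubgroup F J := by
  set M : Subgroup ↥(D.group F) :=
    (Subgroup.normalizer (D.unipotentRadical F J : Set (GL D.Idx F))).subgroupOf (D.group F) with hM
  have hB : (Φ.bnPair F).B ≤ M := fun b hb =>
    Φ.parabolic_le_normalizer J (Subgroup.mem_sup_left hb)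
  have hS : (Φ.bnPair F).S ∩ (M : Set _) ⊆ Φ.simpleSet F (natSet J) := by
    rintro _ ⟨⟨i, rfl⟩, hi⟩
    refine ⟨i, ?_, rfl⟩
    by_contra hiJ
    have hpU : Φ.toAlg.xg (Φ.p i) (1 : F) ∈ D.unipotentRadical F J := by
      rw [Φ.unipotentRadical_eq]
      exact Φ.xg_mem_US (Φ.out_iff_pos_and_not_sub.mpr ⟨Φ.p_pos i, fun h => hiJ (Φ.sub_p.mp h)⟩) _
    have h2 := (Subgroup.mem_normalizer_iff.mp
      (show Φ.nw (Φ.p i) (1 : Fˣ) ∈ Subgroup.normalizer (D.unipotentRadical F J : Set (GL D.Idx F)) from hi)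
      (Φ.toAlg.xg (Φ.p i) (1 : F))).mp hpU
    rw [Φ.nw_conj_xg, mul_inv_cancel_right, Φ.refl_p, Φ.unipotentRadical_eq] at h2
    have h3 : Φ.toAlg.xg (Φ.p i).rev ((Φ.eta i (Φ.p i) : F) * 1) ∈
        D.borelSubgroup F ⊓ D.negUnipotent F := by
      refine ⟨Subgroup.mem_sup_left ?_, ?_⟩
      · rw [Φ.posUnipotent_eq_US]; exact Φ.US_mono (fun r hr => Out.pos Φ hr) h2
      · rw [Φ.negUnipotent_eq_US]
        exact Φ.xg_mem_US (S := fun r => ¬ Φ.toTables.Pos r) (by rw [Φ.pos_rev_iff]; simpa using Φ.p_pos i) _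
    rw [Φ.B_inf_V, Subgroup.mem_bot, Φ.toAlg.xg_eq_one_iff, mul_one] at h3
    rcases Φ.eta_unit i (Φ.p i) with e' | e' <;> simp [e'] at h3
  refine le_antisymm ?_ (le_inf (Φ.parabolic_le_normalizer J) ?_)
  · rintro g ⟨hn, hg⟩
    rw [Φ.mem_parabolicSubgroup]
    refine ⟨hg, ?_⟩
    have hmem : (⟨g, hg⟩ : D.group F) ∈ M := hn
    rw [CfsgLib.BN.eq_parabolic (Φ.bnPair F) hB] at hmem
    exact (sup_le_sup_left (Subgroup.closure_mono hS) _ :
      (Φ.bnPair F).parabolic _ ≤ (Φ.bnPair F).parabolic _) hmem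
  · intro g hg
    exact (Φ.mem_parabolicSubgroup.mp hg).1

end Chev

end CfsgLib.Chev
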