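/-
The alternating sum character of a Chevalley group over a finite field.
-/
import Cfsg.Agent.Lib.BN.Alternating
import Cfsg.Agent.Lib.Chev.Bruhat
import Cfsg.Agent.Lib.Chev.WeylCentre
import Cfsg.Agent.Lib.Chev.Inst

namespace CfsgLib.Chev

open Cfsg.Lie Matrix
open CfsgLib.BN (cls cell σ len)

set_option linter.dupNamespace false
set_option linter.unusedSectionVars false

variable {D : ChevalleyDatum}

namespace Chev

variable (Φ : Chev D) {F : Type*} [Field F]

/-- The letters indexed by the fundamental roots. -/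
noncomputable def sEquiv (F : Type*) [Field F] : Fin D.rank ≃ (Φ.bnPair (F := F)).S :=
  Equiv.ofBijective (fun i => ⟨⟨Φ.nw (Φ.p i) 1, Φ.nw_mem_group _ _⟩, i, rfl⟩)
    ⟨fun i j h => Φ.eq_of_nw_inv_mul_mem (F := F) (by
        have e : Φ.nw (Φ.p i) (1 : Fˣ) = Φ.nw (Φ.p j) 1 :=
          congrArg (fun x : (Φ.bnPair (F := F)).S => ((x.1 : ↥(D.group F)) : GL D.Idx F)) h
        rw [e, inv_mul_cancel]; exact one_mem _),
      by rintro ⟨_, i, rfl⟩; exact ⟨i, rfl⟩⟩

theorem len_lt_of_pos {n : ↥(D.group F)} (hn : (n : GL D.Idx F) ∈ D.monomialSubgroup F)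
    {π : Equiv.Perm (Fin D.nroots)} (hπ : Φ.Mono (n : GL D.Idx F) π) (i : Fin D.rank)
    (hp : Φ.toTables.Pos (π⁻¹ (Φ.p i))) :
    len (Φ.bnPair (F := F)) (cls (Φ.bnPair (F := F)) ⟨n, hn⟩) <
      len (Φ.bnPair (F := F)) (σ (Φ.bnPair (F := F)) (Φ.sEquiv F i) * cls (Φ.bnPair (F := F)) ⟨n, hn⟩) := by
  set P := Φ.bnPair (F := F)
  set q := cls P ⟨n, hn⟩
  set s := Φ.sEquiv F i
  rcases CfsgLib.BN.len_σ_mul_cases P s q with h | h
  · show len P q < len P (σ P s * q); omega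
  exfalso
  obtain ⟨x, hx, y, hy, hxy⟩ := CfsgLib.BN.exists_σ_mul_mem_self P s (q := q) (by omega)
  obtain ⟨a, ha, b, hb, rfl⟩ := (CfsgLib.BN.mem_cell_cls P).1 hx
  obtain ⟨c, hc, d, hd, rfl⟩ := (CfsgLib.BN.mem_cell_cls P).1 hy
  obtain ⟨u, hu, v, hv, e⟩ := (Φ.simple_mul_cell hn hπ i (b := ((b * c : ↥(D.group F)) : GL D.Idx F))
    (Subgroup.mul_mem _ hb hc)).1 hp
  have huG : u ∈ D.group F := Φ.B_le_group hu
  have hvG : v ∈ D.group F := Φ.B_le_group hv
  have e' : a * (s.1 : ↥(D.group F)) * b * (c * n * d) = (a * ⟨u, huG⟩) * (s.1 * n) * (⟨v, hvG⟩ * d) := by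
    apply Subtype.ext
    have e2 : (s.1 : GL D.Idx F) * ((b : GL D.Idx F) * c) * n = u * ((s.1 : GL D.Idx F) * n) * v := e
    simp only [Subgroup.coe_mul]
    calc _ = (a : GL D.Idx F) * ((s.1 : GL D.Idx F) * ((b : GL D.Idx F) * c) * n) * d := by group
      _ = _ := by rw [e2]; group
  have h2 : a * (s.1 : ↥(D.group F)) * b * (c * n * d) ∈ cell P (σ P s * q) := by
    rw [e', σ, ← CfsgLib.BN.cls_mul, CfsgLib.BN.mem_cell_cls]
    exact ⟨_, P.B.mul_mem ha (show u ∈ D.borelSubgroup F from hu), _, P.B.mul_mem (show v ∈ D.borelSubgroup F from hv) hd, rfl⟩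
  exact CfsgLib.BN.σ_ne_one P s (mul_eq_right.1 (CfsgLib.BN.cell_unique P h2 hxy))

/-- A monomial element which makes every positive root negative gives the longest class. -/
theorem exists_isLong (F : Type*) [Field F] : ∃ n : (Φ.bnPair (F := F)).N,
    CfsgLib.BN.IsLong (Φ.bnPair (F := F)) (cls (Φ.bnPair (F := F)) n) ∧
    ∃ π, Φ.Mono ((n : ↥(D.group F)) : GL D.Idx F) π ∧ ∀ r, Φ.toTables.Pos r → ¬ Φ.toTables.Pos (π r) := by
  obtain ⟨π, hW, hneg⟩ := Φ.exists_long
  obtain ⟨g, hg, hm⟩ := Φ.exists_preimage F hW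
  refine ⟨⟨⟨g, Φ.N_le_group hg⟩, hg⟩, fun s => ?_, π, hm, hneg⟩
  obtain ⟨i, hi⟩ := (Φ.sEquiv F).surjective s
  subst hi
  set P := Φ.bnPair (F := F)
  set q := cls P ⟨⟨g, Φ.N_le_group hg⟩, hg⟩
  set s := Φ.sEquiv F i with hs
  -- pass to the inverse and use the other simple root
  have key : len P (σ P s * q⁻¹) < len P q⁻¹ := by
    let n' : P.N := ⟨⟨Φ.nw (Φ.p i) 1, Φ.nw_mem_group _ _⟩, Φ.nw_mem_N _ _⟩ * ⟨⟨g, Φ.N_le_group hg⟩, hg⟩⁻¹
    have hmono : Φ.Mono ((n'.1 : ↥(D.group F)) : GL D.Idx F) (Φ.reflPerm i * π⁻¹) :=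
      Mono.mul Φ (Φ.nw_one_mono i) (Φ.mono_inv hg hm)
    have hp : Φ.toTables.Pos ((Φ.reflPerm i * π⁻¹)⁻¹ (Φ.p i)) := by
      rw [_root_.mul_inv_rev, inv_inv, Φ.reflPerm_inv', Equiv.Perm.mul_apply]
      show Φ.toTables.Pos (π (Φ.refl i (Φ.p i)))
      rw [Φ.refl_p, Φ.map_rev hW, Φ.pos_rev_iff]
      exact hneg _ (Φ.p_pos i)
    have h := Φ.len_lt_of_pos (n := n'.1) n'.2 hmono i hp
    have e : cls P ⟨n'.1, n'.2⟩ = σ P s * q⁻¹ := rfl
    rw [e, CfsgLib.BN.σ_mul_σ_mul] at h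
    exact h
  have e : σ P s * q⁻¹ = (q * σ P s)⁻¹ := by
    rw [_root_.mul_inv_rev, inv_eq_of_mul_eq_one_right (CfsgLib.BN.σ_mul_self P s)]
  rwa [e, CfsgLib.BN.len_inv, CfsgLib.BN.len_inv] at key

include Φ in
theorem steinberg_eq [Fintype (Φ.bnPair (F := F)).S] (g : ↥(D.group F)) :
    D.steinbergCharacter F g = CfsgLib.BN.altChar (Φ.bnPair (F := F)) g := by
  classical
  unfold ChevalleyDatum.steinbergCharacter CfsgLib.BN.altChar
  refine Finset.sum_bij' (fun J _ => (Finset.univ.filter fun s => ((Φ.sEquiv F).symm s).val ∈ J))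
    (fun K _ => K.image fun s => ((Φ.sEquiv F).symm s).val) (fun J _ => Finset.mem_univ _)
    (fun K _ => ?_) (fun J hJ => ?_) (fun K _ => ?_) (fun J hJ => ?_)
  · rw [Finset.mem_powerset]
    intro x hx
    obtain ⟨s, -, rfl⟩ := Finset.mem_image.1 hx
    exact Finset.mem_range.2 (Fin.isLt _)
  · ext x
    simp only [Finset.mem_image, Finset.mem_filter, Finset.mem_univ, true_and]
    constructor
    · rintro ⟨s, hs, rfl⟩; exact hs
    · intro hx
      have hlt := Finset.mem_range.1 (Finset.mem_powerset.1 hJ hx)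
      exact ⟨Φ.sEquiv F ⟨x, hlt⟩, by simpa using hx, by simp⟩
  · ext s
    simp only [Finset.mem_filter, Finset.mem_univ, true_and, Finset.mem_image]
    constructor
    · rintro ⟨t, ht, e⟩
      rwa [← (Φ.sEquiv F).symm.injective (Fin.ext e)]
    · exact fun h => ⟨s, h, rfl⟩
  · have hc : (Finset.univ.filter fun s => ((Φ.sEquiv F).symm s).val ∈ J).card = J.card := by
      refine Finset.card_bij (fun s _ => ((Φ.sEquiv F).symm s).val) (fun s hs => (Finset.mem_filter.1 hs).2)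
        (fun s _ t _ e => (Φ.sEquiv F).symm.injective (Fin.ext e)) (fun x hx => ?_)
      have hlt := Finset.mem_range.1 (Finset.mem_powerset.1 hJ hx)
      exact ⟨Φ.sEquiv F ⟨x, hlt⟩, by simpa using hx, by simp⟩
    have hp : D.parabolicIn F J = (Φ.bnPair (F := F)).parabolic
        (CfsgLib.BN.lset (Φ.bnPair (F := F)) (Finset.univ.filter fun s => ((Φ.sEquiv F).symm s).val ∈ J)) := by
      have hs : CfsgLib.BN.lset (Φ.bnPair (F := F)) (Finset.univ.filter fun s => ((Φ.sEquiv F).symm s).val ∈ J) =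
          Φ.simpleSet F {i | i.val ∈ (J : Set ℕ)} := by
        ext x
        constructor
        · rintro ⟨s, hs, rfl⟩
          refine ⟨(Φ.sEquiv F).symm s, (Finset.mem_filter.1 hs).2, ?_⟩
          conv_rhs => rw [← (Φ.sEquiv F).apply_symm_apply s]
          rfl
        · rintro ⟨i, hi, rfl⟩
          exact ⟨Φ.sEquiv F i, by simpa using hi, rfl⟩
      rw [hs]
      ext x
      show (x : GL D.Idx F) ∈ D.parabolicSubgroup F (J : Set ℕ) ↔ _
      rw [Φ.mem_parabolicSubgroup]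
      exact ⟨fun ⟨_, h⟩ => h, fun h => ⟨x.2, h⟩⟩
    rw [hc, hp]

include Φ in
theorem steinberg_restrict [Finite F] (b : ↥((D.borelSubgroup F).subgroupOf (D.group F))) :
    D.steinbergCharacter F ((((D.borelSubgroup F).subgroupOf (D.group F)).subtype) b) =
      Cfsg.fixedPointCharacter (((D.diagonalSubgroup F).subgroupOf (D.group F)).subgroupOf
        ((D.borelSubgroup F).subgroupOf (D.group F))) b := by
  classical
  have : Finite (Φ.bnPair (F := F)).S := Finite.of_equiv _ (Φ.sEquiv F)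
  have : Fintype (Φ.bnPair (F := F)).S := Fintype.ofFinite _
  obtain ⟨n, hn, π, hm, hneg⟩ := Φ.exists_isLong F
  rw [Φ.steinberg_eq]
  refine (CfsgLib.BN.altChar_restrict (Φ.bnPair (F := F)) hn (b := (b : ↥(D.group F))) b.2).trans ?_
  have e : (Φ.bnPair (F := F)).B.comap (MulAut.conj (n : ↥(D.group F))⁻¹).toMonoidHom ⊓ (Φ.bnPair (F := F)).B =
      (D.diagonalSubgroup F).subgroupOf (D.group F) := by
    have hgN : ((n : ↥(D.group F)) : GL D.Idx F) ∈ D.monomialSubgroup F := n.2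
    set g := ((n : ↥(D.group F)) : GL D.Idx F) with hg
    ext x
    simp only [Subgroup.mem_inf, Subgroup.mem_comap, Subgroup.mem_subgroupOf]
    have hconj : (((MulAut.conj (n : ↥(D.group F))⁻¹).toMonoidHom x : ↥(D.group F)) : GL D.Idx F) =
        g⁻¹ * x * g := by simp [MulAut.conj_apply, hg]
    show (((MulAut.conj (n : ↥(D.group F))⁻¹).toMonoidHom x : ↥(D.group F)) : GL D.Idx F) ∈ D.borelSubgroup F ∧
      (x : GL D.Idx F) ∈ D.borelSubgroup F ↔ _
    rw [hconj]
    constructor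
    · rintro ⟨h1, h2⟩
      obtain ⟨u, hu, h, hh, e⟩ := Φ.mem_B_iff.1 h1
      have hx : (x : GL D.Idx F) = (g * u * g⁻¹) * (g * h * g⁻¹) := by
        rw [show (x : GL D.Idx F) = g * (g⁻¹ * x * g) * g⁻¹ by group, e]; group
      rw [← Φ.B_inf_VH]
      refine ⟨h2, ?_⟩
      rw [hx]
      refine Subgroup.mul_mem _ (Subgroup.mem_sup_left ?_) (Subgroup.mem_sup_right (Φ.H_conj_mem hgN hh))
      rw [Φ.posUnipotent_eq_US] at hu
      rw [Φ.negUnipotent_eq_US]
      exact Φ.mono_conj_US hm hneg hu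
    · intro h
      exact ⟨H_le_B (Φ.H_conj_mem' hgN h), H_le_B h⟩
  have e2 : ((Φ.bnPair (F := F)).B.comap (MulAut.conj (n : ↥(D.group F))⁻¹).toMonoidHom).subgroupOf (Φ.bnPair (F := F)).B =
      ((D.diagonalSubgroup F).subgroupOf (D.group F)).subgroupOf (Φ.bnPair (F := F)).B := by
    rw [← Subgroup.inf_subgroupOf_right, e]
  rw [e2]
  rfl

include Φ in
theorem steinberg_one [Finite F] :
    D.steinbergCharacter F 1 = (Nat.card F : ℂ) ^ (D.nroots / 2) := by
  have h := Φ.steinberg_restrict (F := F) 1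
  rw [map_one] at h
  rw [h, ← Nat.cast_pow, ← Φ.card_U]
  unfold Cfsg.fixedPointCharacter
  rw [Nat.cast_inj]
  set HH := ((D.diagonalSubgroup F).subgroupOf (D.group F)).subgroupOf ((D.borelSubgroup F).subgroupOf (D.group F))
  have e : MulAction.fixedBy (↥((D.borelSubgroup F).subgroupOf (D.group F)) ⧸ HH)
      (1 : ↥((D.borelSubgroup F).subgroupOf (D.group F))) = Set.univ :=
    Set.eq_univ_of_forall fun x => one_smul _ x
  rw [e, Nat.card_univ]
  have h1 := Subgroup.card_eq_card_quotient_mul_card_subgroup HH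
  have hHle : (D.diagonalSubgroup F).subgroupOf (D.group F) ≤ (D.borelSubgroup F).subgroupOf (D.group F) :=
    fun x hx => H_le_B hx
  rw [Nat.card_congr (Subgroup.subgroupOfEquivOfLe hHle).toEquiv,
    Nat.card_congr (Subgroup.subgroupOfEquivOfLe (Φ.B_le_group (F := F))).toEquiv,
    Nat.card_congr (Subgroup.subgroupOfEquivOfLe (fun x hx => Φ.B_le_group (F := F) (H_le_B hx))).toEquiv,
    Φ.card_B] at h1
  exact (Nat.eq_of_mul_eq_mul_right Nat.card_pos h1).symm

include Φ in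
theorem steinberg_irr [Finite F] : Cfsg.IsIrrCharacter ↥(D.group F) (D.steinbergCharacter F) := by
  classical
  have : Finite (Φ.bnPair (F := F)).S := Finite.of_equiv _ (Φ.sEquiv F)
  have : Fintype (Φ.bnPair (F := F)).S := Fintype.ofFinite _
  have : Fintype ↥(D.group F) := Fintype.ofFinite _
  obtain ⟨n, hn, -⟩ := Φ.exists_isLong F
  have e : D.steinbergCharacter F = CfsgLib.BN.altChar (Φ.bnPair (F := F)) := funext Φ.steinberg_eq
  have h1 := Φ.steinberg_one (F := F)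
  rw [e] at h1 ⊢
  refine CfsgLib.CharTheory.irr_of_norm_one (CfsgLib.BN.isGenChar_altChar _)
    (CfsgLib.BN.altChar_inner_self _ hn) ?_
  rw [h1, ← Nat.cast_pow, Complex.natCast_re]
  have : 0 < Nat.card F := Nat.card_pos
  positivity

include Φ in
theorem card_group_split [Finite F] (p : ℕ) [Fact p.Prime] [CharP F p] :
    ∃ m k, ¬ p ∣ m ∧ Nat.card F = p ^ k ∧ Nat.card (D.group F) = Nat.card F ^ (D.nroots / 2) * m := by
  classical
  obtain ⟨k, hk⟩ : ∃ k, Nat.card F = p ^ k := by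
    have : Fintype F := Fintype.ofFinite F
    obtain ⟨n, -, hn⟩ := FiniteField.card F p
    exact ⟨n, by rw [Nat.card_eq_fintype_card, hn]⟩
  have hp : p.Prime := Fact.out
  have hpq : p ∣ Nat.card F := by
    rw [hk]
    refine dvd_pow_self p fun h0 => ?_
    have : 1 < Nat.card F := Finite.one_lt_card
    simp [hk, h0] at this
  refine ⟨Nat.card (D.diagonalSubgroup F) * ∑ π ∈ Φ.WFin, Nat.card F ^ Φ.inv π, k, ?_, hk, ?_⟩
  · intro hd
    rcases hp.dvd_mul.1 hd with h | h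
    · have h1 : Nat.card (D.diagonalSubgroup F) ∣ Nat.card (Fin D.rank → Fˣ) := by
        rw [Φ.diagonalSubgroup_eq]
        exact Subgroup.card_range_dvd _
      rw [Nat.card_fun, Nat.card_units, Nat.card_fin] at h1
      have h2 := hp.dvd_of_dvd_pow (h.trans h1)
      have h3 : p ∣ Nat.card F - (Nat.card F - 1) := Nat.dvd_sub hpq h2
      have : 1 < Nat.card F := Finite.one_lt_card
      rw [show Nat.card F - (Nat.card F - 1) = 1 by omega] at h3
      exact hp.one_lt.ne' (Nat.dvd_one.1 h3)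
    · rw [← Finset.sum_erase_add _ _ (Φ.mem_WFin.2 (one_mem _)), Φ.inv_one, pow_zero] at h
      have h2 : p ∣ ∑ x ∈ Φ.WFin.erase 1, Nat.card F ^ Φ.inv x := by
        refine Finset.dvd_sum fun π hπ => ?_
        obtain ⟨hne, hπ'⟩ := Finset.mem_erase.1 hπ
        refine dvd_pow hpq fun h0 => hne (Φ.eq_one_of_pos (Φ.mem_WFin.1 hπ') fun r hr => ?_)
        by_contra hn
        have : r ∈ Φ.invSet π := Φ.mem_invSet.2 ⟨hr, hn⟩
        rw [inv, Finset.card_eq_zero] at h0
        simp [h0] at this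
      exact hp.one_lt.ne' (Nat.dvd_one.1 ((Nat.dvd_add_right h2).1 h))
  · rw [Φ.card_group, mul_assoc]

end Chev

end CfsgLib.Chev
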