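/-
The number of elements of p-power order in a Chevalley group in characteristic p.
-/
import Cfsg.Agent.Lib.BN.Parabolic
import Cfsg.Agent.Lib.Chev.SteinbergChar
import Cfsg.Agent.Lib.Chev.Levi
import Mathlib.GroupTheory.Sylow

namespace CfsgLib.Chev

open Cfsg.Lie Matrix
open CfsgLib.BN (cls cell σ len lset IsLongIn cellCard)

set_option linter.dupNamespace false
set_option linter.unusedSectionVars false

variable {D : ChevalleyDatum}

namespace Chev

variable (Φ : Chev D) {F : Type*} [Field F]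

/-- The node numbers of a set of letters. -/
def nodeSet (J : Finset (Φ.bnPair (F := F)).S) : Set ℕ :=
  {j | ∃ s ∈ J, ((Φ.sEquiv F).symm s).val = j}

theorem mem_parabolic_lset (J : Finset (Φ.bnPair (F := F)).S) (x : ↥(D.group F)) :
    x ∈ (Φ.bnPair (F := F)).parabolic (lset (Φ.bnPair (F := F)) J) ↔
      (x : GL D.Idx F) ∈ D.parabolicSubgroup F (Φ.nodeSet J) := by
  have hs : lset (Φ.bnPair (F := F)) J = Φ.simpleSet F {i | i.val ∈ Φ.nodeSet J} := by
    ext y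
    constructor
    · rintro ⟨s, hs, rfl⟩
      refine ⟨(Φ.sEquiv F).symm s, ⟨s, hs, rfl⟩, ?_⟩
      conv_rhs => rw [← (Φ.sEquiv F).apply_symm_apply s]
      rfl
    · rintro ⟨i, ⟨s, hs, e⟩, rfl⟩
      refine ⟨s, hs, ?_⟩
      rw [← Fin.ext e]
      conv_lhs => rw [← (Φ.sEquiv F).apply_symm_apply s]
      rfl
  rw [hs, Φ.mem_parabolicSubgroup]
  exact ⟨fun h => ⟨x.2, h⟩, fun ⟨_, h⟩ => h⟩

theorem natSet_nodeSet {J : Finset (Φ.bnPair (F := F)).S} {i : Fin D.rank} :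
    i ∈ natSet (Φ.nodeSet J) ↔ Φ.sEquiv F i ∈ J := by
  constructor
  · rintro ⟨s, hs, e⟩
    rwa [← Fin.ext e, (Φ.sEquiv F).apply_symm_apply]
  · exact fun h => ⟨_, h, by rw [(Φ.sEquiv F).symm_apply_apply]⟩

theorem isLongIn_inv [Finite F] {J : Finset (Φ.bnPair (F := F)).S} {w : CfsgLib.BN.Weyl (Φ.bnPair (F := F))}
    (hw : IsLongIn (Φ.bnPair (F := F)) (lset _ J) w) : w⁻¹ = w := by
  refine CfsgLib.BN.IsLongIn.unique (Φ.bnPair (F := F)) ⟨CfsgLib.BN.InJ.inv (Φ.bnPair (F := F)) hw.1, fun s hs => ?_⟩ hw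
  have h := hw.len_mul (Φ.bnPair (F := F)) (CfsgLib.BN.InJ.mul (Φ.bnPair (F := F)) (CfsgLib.BN.InJ.inv (Φ.bnPair (F := F)) hw.1) (CfsgLib.BN.inJ_σ (Φ.bnPair (F := F)) hs))
  rw [mul_inv_cancel_left, CfsgLib.BN.len_σ] at h
  rw [CfsgLib.BN.len_inv]
  change len (Φ.bnPair (F := F)) (w⁻¹ * σ (Φ.bnPair (F := F)) s) < len (Φ.bnPair (F := F)) w
  omega

/-- A representative of the longest element of `W_J` makes the positive roots of `Φ_J` negative. -/
theorem long_neg [Finite F] {J : Finset (Φ.bnPair (F := F)).S} {n : (Φ.bnPair (F := F)).N}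
    (hw : IsLongIn (Φ.bnPair (F := F)) (lset _ J) (cls (Φ.bnPair (F := F)) n))
    {π : Equiv.Perm (Fin D.nroots)} (hm : Φ.Mono ((n : ↥(D.group F)) : GL D.Idx F) π) {r : Fin D.nroots}
    (hr : Φ.toTables.Pos r) (hsub : Φ.Sub (natSet (Φ.nodeSet J)) r) : ¬ Φ.toTables.Pos (π⁻¹ r) := by
  have hgN : ((n : ↥(D.group F)) : GL D.Idx F) ∈ D.monomialSubgroup F := n.2
  have hW : π ∈ Φ.WL := Φ.mem_W_of_mono hgN hm
  have hsimple : ∀ i, i ∈ natSet (Φ.nodeSet J) → ¬ Φ.toTables.Pos (π⁻¹ (Φ.p i)) := by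
    intro i hi hp
    have h1 := Φ.len_lt_of_pos (n := (n : ↥(D.group F))) hgN hm i hp
    have hs : ((Φ.sEquiv F i : ↥(Φ.bnPair (F := F)).S) : ↥(D.group F)) ∈ lset (Φ.bnPair (F := F)) J :=
      (CfsgLib.BN.mem_lset (Φ.bnPair (F := F))).2 (Φ.natSet_nodeSet.1 hi)
    have h2 := hw.2 (Φ.sEquiv F i) hs
    have e : σ (Φ.bnPair (F := F)) (Φ.sEquiv F i) * cls (Φ.bnPair (F := F)) n = (cls (Φ.bnPair (F := F)) n * σ (Φ.bnPair (F := F)) (Φ.sEquiv F i))⁻¹ := by
      rw [_root_.mul_inv_rev, inv_eq_of_mul_eq_one_right (CfsgLib.BN.σ_mul_self (Φ.bnPair (F := F)) _), Φ.isLongIn_inv hw]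
    change len (Φ.bnPair (F := F)) (cls (Φ.bnPair (F := F)) n) < len (Φ.bnPair (F := F)) (σ (Φ.bnPair (F := F)) (Φ.sEquiv F i) * cls (Φ.bnPair (F := F)) n) at h1
    rw [e, CfsgLib.BN.len_inv] at h1
    omega
  intro hp
  obtain ⟨j, hj⟩ := Φ.exists_V_pos hp
  have : Φ.V (π⁻¹ r) j ≤ 0 := by
    rw [Φ.V_map (inv_mem hW)]
    refine Finset.sum_nonpos fun k _ => ?_
    by_cases hk : k ∈ natSet (Φ.nodeSet J)
    · exact mul_nonpos_of_nonneg_of_nonpos (Φ.V_nonneg r hr k) (Φ.V_nonpos _ (hsimple k hk) j)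
    · rw [hsub k hk, zero_mul]
  omega

theorem long_mem_out [Finite F] {J : Finset (Φ.bnPair (F := F)).S} {n : (Φ.bnPair (F := F)).N}
    (hw : IsLongIn (Φ.bnPair (F := F)) (lset _ J) (cls (Φ.bnPair (F := F)) n)) {u : GL D.Idx F}
    (hu : u ∈ D.posUnipotent F)
    (h : ((n : ↥(D.group F)) : GL D.Idx F)⁻¹ * u * ((n : ↥(D.group F)) : GL D.Idx F) ∈ D.borelSubgroup F) :
    u ∈ D.unipotentRadical F (Φ.nodeSet J) := by
  classical
  set g := ((n : ↥(D.group F)) : GL D.Idx F) with hg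
  have hgN : g ∈ D.monomialSubgroup F := n.2
  obtain ⟨π, hW, hm, -⟩ := Φ.exists_mono_W hgN
  have hgP : g ∈ D.parabolicSubgroup F (Φ.nodeSet J) :=
    (Φ.mem_parabolic_lset J _).1 (CfsgLib.BN.mem_parabolic_of_mem_cell _ hw.1 (CfsgLib.BN.self_mem_cell _ n))
  rw [Φ.posUnipotent_eq_US, ← Φ.US_rootList] at hu
  obtain ⟨l, hl, m, hm', e⟩ := Φ.exists_splitList (A := fun r => Φ.Sub (natSet (Φ.nodeSet J)) r)
    (pairwise_rootList _) (fun r hr => mem_rootList.mp hr)
    (fun r s hr hs hN => mem_rootList.mpr (Φ.closed_pos r s (mem_rootList.mp hr) (mem_rootList.mp hs) hN)) hu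
  have hmR : m ∈ D.unipotentRadical F (Φ.nodeSet J) := by
    rw [Φ.unipotentRadical_eq]
    exact Φ.US_mono (F := F) (S := fun r => r ∈ rootList Φ.toTables.Pos ∧ ¬ Φ.Sub (natSet (Φ.nodeSet J)) r)
      (fun r hr => Φ.out_iff_pos_and_not_sub.mpr ⟨mem_rootList.mp hr.1, hr.2⟩) hm'
  have hmB : g⁻¹ * m * g ∈ D.borelSubgroup F := by
    have h1 : g⁻¹ * m * g ∈ D.unipotentRadical F (Φ.nodeSet J) :=
      (Subgroup.mem_normalizer_iff''.1 (Φ.parabolic_le_normalizer _ hgP) m).1 hmR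
    rw [Φ.unipotentRadical_eq] at h1
    refine U_le_B ?_
    rw [Φ.posUnipotent_eq_US]
    exact Φ.US_mono (fun r hr => Out.pos Φ hr) h1
  have hlV : g⁻¹ * l * g ∈ D.negUnipotent F := by
    rw [Φ.negUnipotent_eq_US]
    have := Φ.mono_conj_US (T := fun r => ¬ Φ.toTables.Pos r) (Φ.mono_inv hgN hm)
      (S := fun r => r ∈ rootList Φ.toTables.Pos ∧ Φ.Sub (natSet (Φ.nodeSet J)) r)
      (fun r hr => Φ.long_neg hw hm (mem_rootList.mp hr.1) hr.2) hl
    rwa [inv_inv] at this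
  have hlB : g⁻¹ * l * g ∈ D.borelSubgroup F := by
    have e2 : g⁻¹ * l * g = (g⁻¹ * u * g) * (g⁻¹ * m * g)⁻¹ := by rw [e]; group
    rw [e2]
    exact Subgroup.mul_mem _ h (Subgroup.inv_mem _ hmB)
  have h0 : g⁻¹ * l * g ∈ D.borelSubgroup F ⊓ D.negUnipotent F := ⟨hlB, hlV⟩
  rw [Φ.B_inf_V, Subgroup.mem_bot] at h0
  have hl1 : l = 1 := by
    calc l = g * (g⁻¹ * l * g) * g⁻¹ := by group
      _ = 1 := by rw [h0]; group
  rw [e, hl1, one_mul]
  exact hmR

include Φ in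
theorem mul_pow_exists {u h : GL D.Idx F} (hu : u ∈ D.posUnipotent F) (hh : h ∈ D.diagonalSubgroup F) :
    ∀ m : ℕ, ∃ v ∈ D.posUnipotent F, (u * h) ^ m = v * h ^ m := by
  intro m
  induction m with
  | zero => exact ⟨1, one_mem _, by simp⟩
  | succ m ih =>
    obtain ⟨v, hv, e⟩ := ih
    refine ⟨v * (h ^ m * u * (h ^ m)⁻¹), mul_mem hv
      ((Subgroup.mem_normalizer_iff.1 (Φ.H_le_normalizer_U (pow_mem hh m)) u).1 hu), ?_⟩
    rw [pow_succ, pow_succ, e]; group

include Φ in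
theorem pElement_mem_U [Finite F] (p : ℕ) [Fact p.Prime] [CharP F p] {b : GL D.Idx F}
    (hb : b ∈ D.borelSubgroup F) {j : ℕ} (hbp : b ^ p ^ j = 1) : b ∈ D.posUnipotent F := by
  obtain ⟨u, hu, h, hh, rfl⟩ := Φ.mem_B_iff.1 hb
  obtain ⟨v, hv, e⟩ := Φ.mul_pow_exists hu hh (p ^ j)
  rw [hbp] at e
  have h1 : v = 1 := Φ.eq_one_of_mem_U_of_mem_N hv (by
    rw [show v = (h ^ p ^ j)⁻¹ from eq_inv_of_mul_eq_one_left e.symm]
    exact H_le_N (inv_mem (pow_mem hh _)))
  rw [h1, one_mul] at e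
  have hcop : Nat.Coprime (p ^ j) (Nat.card (D.diagonalSubgroup F)) := by
    refine Nat.Coprime.pow_left _ ((Nat.Prime.coprime_iff_not_dvd Fact.out).2 fun hd => ?_)
    have h1 : Nat.card (D.diagonalSubgroup F) ∣ Nat.card (Fin D.rank → Fˣ) := by
      rw [Φ.diagonalSubgroup_eq]
      exact Subgroup.card_range_dvd _
    rw [Nat.card_fun, Nat.card_units, Nat.card_fin] at h1
    have h2 := (Fact.out : p.Prime).dvd_of_dvd_pow (hd.trans h1)
    have : Fintype F := Fintype.ofFinite F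
    obtain ⟨k, hk, hk'⟩ := FiniteField.card F p
    have h4 : p ∣ Nat.card F := by rw [Nat.card_eq_fintype_card, hk']; exact dvd_pow_self p k.ne_zero
    have h3 : p ∣ Nat.card F - (Nat.card F - 1) := Nat.dvd_sub h4 h2
    have : 1 < Nat.card F := Finite.one_lt_card
    rw [show Nat.card F - (Nat.card F - 1) = 1 by omega] at h3
    exact (Fact.out : p.Prime).one_lt.ne' (Nat.dvd_one.1 h3)
  have hd1 : orderOf (⟨h, hh⟩ : D.diagonalSubgroup F) ∣ p ^ j :=
    orderOf_dvd_of_pow_eq_one (Subtype.ext e.symm)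
  have h3 := Nat.eq_one_of_dvd_coprimes hcop hd1 (orderOf_dvd_natCard _)
  rw [orderOf_eq_one_iff] at h3
  have : h = 1 := congrArg Subtype.val h3
  rwa [this, mul_one]

include Φ in
theorem radical_le_U (J : Set ℕ) {x : GL D.Idx F} (hx : x ∈ D.unipotentRadical F J) :
    x ∈ D.posUnipotent F := by
  rw [Φ.unipotentRadical_eq] at hx
  rw [Φ.posUnipotent_eq_US]
  exact Φ.US_mono (fun r hr => Out.pos Φ hr) hx

/-- The elements of `p`-power order. -/
def PEl (p : ℕ) {G : Type*} [Monoid G] (x : G) : Prop := ∃ j : ℕ, orderOf x = p ^ j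

theorem radical_mul_card [Finite F] {J : Finset (Φ.bnPair (F := F)).S} {n : (Φ.bnPair (F := F)).N}
    (hw : IsLongIn (Φ.bnPair (F := F)) (lset _ J) (cls (Φ.bnPair (F := F)) n)) :
    Nat.card (D.unipotentRadical F (Φ.nodeSet J)) * cellCard (Φ.bnPair (F := F)) (cls (Φ.bnPair (F := F)) n) =
      Nat.card (D.posUnipotent F) := by
  classical
  set R := D.unipotentRadical F (Φ.nodeSet J) with hR
  let H' := ((Φ.bnPair (F := F)).B.comap (MulAut.conj (n : ↥(D.group F))⁻¹).toMonoidHom).subgroupOf (Φ.bnPair (F := F)).B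
  have hc : cellCard (Φ.bnPair (F := F)) (cls (Φ.bnPair (F := F)) n) = H'.index := by
    have h := CfsgLib.BN.card_fix_cell (Φ.bnPair (F := F)) (Φ.bnPair (F := F)).B.one_mem n
    simp only [one_smul, true_and] at h
    rw [cellCard, h]
    have e : MulAction.fixedBy (↥(Φ.bnPair (F := F)).B ⧸ H') (⟨1, (Φ.bnPair (F := F)).B.one_mem⟩ : ↥(Φ.bnPair (F := F)).B) = Set.univ :=
      Set.eq_univ_of_forall fun x => one_smul _ x
    rw [e, Nat.card_univ]
    rfl
  set g := ((n : ↥(D.group F)) : GL D.Idx F) with hg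
  have hgN : g ∈ D.monomialSubgroup F := n.2
  have hgP : g ∈ D.parabolicSubgroup F (Φ.nodeSet J) :=
    (Φ.mem_parabolic_lset J _).1 (CfsgLib.BN.mem_parabolic_of_mem_cell _ hw.1 (CfsgLib.BN.self_mem_cell _ n))
  have hH' : ∀ x : ↥(Φ.bnPair (F := F)).B, x ∈ H' ↔ g⁻¹ * ((x : ↥(D.group F)) : GL D.Idx F) * g ∈ D.borelSubgroup F := by
    intro x
    show ((((MulAut.conj (n : ↥(D.group F))⁻¹).toMonoidHom (x : ↥(D.group F))) : ↥(D.group F)) : GL D.Idx F) ∈
      D.borelSubgroup F ↔ _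
    simp [MulAut.conj_apply, hg]
  have hcard : Nat.card H' = Nat.card R * Nat.card (D.diagonalSubgroup F) := by
    rw [← Nat.card_prod]
    symm
    have hmem : ∀ (u : R) (h : D.diagonalSubgroup F), (u : GL D.Idx F) * h ∈ D.borelSubgroup F := fun u h =>
      mul_mem (U_le_B (Φ.radical_le_U _ u.2)) (H_le_B h.2)
    refine Nat.card_congr (Equiv.ofBijective (fun z => ⟨⟨⟨(z.1 : GL D.Idx F) * z.2,
      Φ.B_le_group (hmem z.1 z.2)⟩, hmem z.1 z.2⟩, (hH' _).2 ?_⟩) ⟨?_, ?_⟩)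
    · show g⁻¹ * ((z.1 : GL D.Idx F) * z.2) * g ∈ _
      rw [show g⁻¹ * ((z.1 : GL D.Idx F) * z.2) * g = (g⁻¹ * z.1 * g) * (g⁻¹ * z.2 * g) by group]
      exact mul_mem (U_le_B (Φ.radical_le_U (Φ.nodeSet J)
        ((Subgroup.mem_normalizer_iff''.1 (Φ.parabolic_le_normalizer _ hgP) _).1 z.1.2)))
        (H_le_B (Φ.H_conj_mem' hgN z.2.2))
    · rintro ⟨⟨u, hu⟩, ⟨h, hh⟩⟩ ⟨⟨u', hu'⟩, ⟨h', hh'⟩⟩ e
      have e' : u * h = u' * h' := congrArg (fun x : H' => (((x : ↥(Φ.bnPair (F := F)).B) : ↥(D.group F)) : GL D.Idx F)) e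
      have h1 : u'⁻¹ * u = h' * h⁻¹ := by
        calc u'⁻¹ * u = u'⁻¹ * (u * h) * h⁻¹ := by group
          _ = _ := by rw [e']; group
      have h2 : u'⁻¹ * u = 1 := Φ.eq_one_of_mem_U_of_mem_N
        (mul_mem (inv_mem (Φ.radical_le_U _ hu')) (Φ.radical_le_U _ hu))
        (h1 ▸ H_le_N (mul_mem hh' (inv_mem hh)))
      rw [inv_mul_eq_one] at h2
      subst h2
      have := mul_left_cancel e'
      subst this
      rfl
    · rintro ⟨⟨⟨x, hxG⟩, hxB⟩, hx⟩
      obtain ⟨u, hu, h, hh, rfl⟩ := Φ.mem_B_iff.1 hxB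
      have h1 := (hH' _).1 hx
      have huR : u ∈ R := by
        refine Φ.long_mem_out hw hu ?_
        have h2 : g⁻¹ * h * g ∈ D.borelSubgroup F := H_le_B (Φ.H_conj_mem' hgN hh)
        have e2 : g⁻¹ * u * g = (g⁻¹ * (u * h) * g) * (g⁻¹ * h * g)⁻¹ := by group
        rw [e2]
        exact mul_mem h1 (inv_mem h2)
      exact ⟨(⟨u, huR⟩, ⟨h, hh⟩), rfl⟩
  have h1 := H'.card_mul_index
  have hB : (Φ.bnPair (F := F)).B = (D.borelSubgroup F).subgroupOf (D.group F) := rfl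
  rw [hcard, ← hc, hB, Nat.card_congr (Subgroup.subgroupOfEquivOfLe (Φ.B_le_group (F := F))).toEquiv, Φ.card_B] at h1
  refine Nat.eq_of_mul_eq_mul_right (Nat.card_pos (α := D.diagonalSubgroup F)) ?_
  rw [← h1]; ring

theorem pEl_conj_mem_B [Finite F] (p : ℕ) [Fact p.Prime] [CharP F p] (PJ : Subgroup ↥(D.group F))
    (hB : (Φ.bnPair (F := F)).B ≤ PJ) {x : ↥(D.group F)} (hx : x ∈ PJ) (hxp : PEl p x) :
    ∃ y ∈ PJ, y * x * y⁻¹ ∈ (Φ.bnPair (F := F)).B := by
  classical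
  let U : Subgroup ↥(D.group F) := (D.posUnipotent F).subgroupOf (D.group F)
  have hUle : U ≤ (Φ.bnPair (F := F)).B := fun v hv => U_le_B hv
  have hUG : D.posUnipotent F ≤ D.group F := fun v hv => Φ.B_le_group (U_le_B hv)
  have hcardU : Nat.card U = Nat.card F ^ (D.nroots / 2) := by
    rw [Nat.card_congr (Subgroup.subgroupOfEquivOfLe hUG).toEquiv, Φ.card_U]
  obtain ⟨m, k, hm, hk, hc⟩ := Φ.card_group_split (F := F) p
  let U' : Subgroup ↥PJ := U.subgroupOf PJ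
  have hcardU' : Nat.card U' = Nat.card U :=
    Nat.card_congr (Subgroup.subgroupOfEquivOfLe (hUle.trans hB)).toEquiv
  have hp : IsPGroup p U' := IsPGroup.of_card (n := k * (D.nroots / 2)) (by rw [hcardU', hcardU, hk, pow_mul])
  have hidx : ¬ p ∣ U'.index := by
    intro hd
    apply hm
    have h1 : U'.index ∣ U.index := by
      rw [show U'.index = U.relIndex PJ from rfl]
      exact Subgroup.relIndex_dvd_index_of_le (hUle.trans hB)
    have h2 := U.card_mul_index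
    rw [hcardU, hc] at h2
    rw [← Nat.eq_of_mul_eq_mul_left (pow_pos Nat.card_pos _) h2]
    exact hd.trans h1
  obtain ⟨j, hj⟩ := hxp
  have hxg : IsPGroup p (Subgroup.zpowers (⟨x, hx⟩ : ↥PJ)) :=
    IsPGroup.of_card (n := j) (by rw [Nat.card_zpowers, Subgroup.orderOf_mk, hj])
  obtain ⟨Q, hQ⟩ := hxg.exists_le_sylow
  obtain ⟨y, hy⟩ := MulAction.exists_smul_eq ↥PJ Q (hp.toSylow hidx)
  refine ⟨y, y.2, hUle ?_⟩
  have : MulAut.conj y (⟨x, hx⟩ : ↥PJ) ∈ (y • Q : Sylow p ↥PJ) := by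
    rw [Sylow.smul_def]
    exact Subgroup.smul_mem_pointwise_smul _ _ _ (hQ (Subgroup.mem_zpowers _))
  rw [hy] at this
  exact this

include Φ in
theorem card_pEl [Finite F] (p : ℕ) [Fact p.Prime] [CharP F p] :
    Nat.card {g : ↥(D.group F) // ∃ k : ℕ, orderOf g = p ^ k} = Nat.card F ^ (2 * (D.nroots / 2)) := by
  classical
  set P := Φ.bnPair (F := F) with hP
  have : Finite P.S := Finite.of_equiv _ (Φ.sEquiv F)
  have : Fintype P.S := Fintype.ofFinite _
  choose W hW using fun J : Finset P.S => CfsgLib.BN.exists_isLongIn P (lset P J)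
  choose rep hrep using CfsgLib.BN.cls_surjective P
  let c : Finset P.S → ℕ := fun J => cellCard P (W J)
  have hc : CfsgLib.BN.IsLongSize P c := fun K => ⟨W K, hW K, rfl⟩
  let uK : Finset P.S → ℕ := fun K => Nat.card {x : ↥(D.group F) // x ∈ P.parabolic (lset P K) ∧ PEl p x}
  obtain ⟨m, k, hm, hk, -⟩ := Φ.card_group_split (F := F) p
  have main : ∀ J : Finset P.S, uK J = Nat.card (D.posUnipotent F) * c J := by
    intro J
    induction J using Finset.strongInduction with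
    | _ J ih =>
      have hw : IsLongIn P (lset P J) (cls P (rep (W J))) := by rw [hrep]; exact hW J
      let R : Subgroup ↥(D.group F) := (D.unipotentRadical F (Φ.nodeSet J)).subgroupOf (D.group F)
      have hcardR : Nat.card R = Nat.card (D.unipotentRadical F (Φ.nodeSet J)) :=
        Nat.card_congr (Subgroup.subgroupOfEquivOfLe fun v hv => Φ.B_le_group (U_le_B (Φ.radical_le_U (Φ.nodeSet J) hv))).toEquiv
      have hrec := CfsgLib.BN.count_recursion P J (PEl p) (fun g x ⟨j, hj⟩ => ⟨j, by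
          rw [← hj, ← MulAut.conj_apply, MulEquiv.orderOf_eq]⟩)
        hw R (fun v hv => U_le_B (Φ.radical_le_U _ hv)) (fun v hv => ?_) (fun y hy v hv => ?_)
        (fun x hx hxp => Φ.pEl_conj_mem_B p _ le_sup_left hx hxp) (fun b hb hbp x hx hxb => ?_)
      · have hid := CfsgLib.BN.sum_index_long P J hc
        have hRc : (Nat.card R : ℤ) * cellCard P (cls P (rep (W J))) = Nat.card (D.posUnipotent F) := by
          rw [hcardR]
          exact_mod_cast Φ.radical_mul_card hw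
        rw [hRc] at hrec
        rw [← Finset.add_sum_erase _ _ (Finset.mem_powerset_self J)] at hrec hid
        have hsum : ∑ K ∈ J.powerset.erase J, (-1 : ℤ) ^ K.card *
            ((CfsgLib.BN.pIndex P (lset P J) (lset P K) : ℤ) * (uK K : ℤ)) =
            (Nat.card (D.posUnipotent F) : ℤ) * ∑ K ∈ J.powerset.erase J, (-1 : ℤ) ^ K.card *
            ((CfsgLib.BN.pIndex P (lset P J) (lset P K) : ℤ) * (c K : ℤ)) := by
          rw [Finset.mul_sum]
          refine Finset.sum_congr rfl fun K hK => ?_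
          obtain ⟨hne, hK'⟩ := Finset.mem_erase.1 hK
          rw [ih K (lt_of_le_of_ne (Finset.mem_powerset.1 hK') hne)]
          push_cast; ring
        have hidx : (CfsgLib.BN.pIndex P (lset P J) (lset P J) : ℤ) ≠ 0 := by
          rw [Ne, Nat.cast_eq_zero, ← Ne, Nat.ne_zero_iff_zero_lt]
          obtain ⟨β, hβ, e⟩ := CfsgLib.BN.out_eq_mul (P.parabolic (lset P J)) (1 : ↥(D.group F))
          have : Nonempty {y : ↥(D.group F) ⧸ P.parabolic (lset P J) // y.out ∈ P.parabolic (lset P J)} :=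
            ⟨⟨((1 : ↥(D.group F)) : ↥(D.group F) ⧸ P.parabolic (lset P J)), by rw [e, one_mul]; exact hβ⟩⟩
          exact Nat.card_pos
        have hfin : (-1 : ℤ) ^ J.card * ((CfsgLib.BN.pIndex P (lset P J) (lset P J) : ℤ) *
            ((uK J : ℤ) - Nat.card (D.posUnipotent F) * c J)) = 0 := by
          have h1 : (-1 : ℤ) ^ J.card * ((CfsgLib.BN.pIndex P (lset P J) (lset P J) : ℤ) * (uK J : ℤ)) +
              ∑ K ∈ J.powerset.erase J, (-1 : ℤ) ^ K.card *
              ((CfsgLib.BN.pIndex P (lset P J) (lset P K) : ℤ) * (uK K : ℤ)) = Nat.card (D.posUnipotent F) := hrec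
          rw [hsum] at h1
          linear_combination h1 - (Nat.card (D.posUnipotent F) : ℤ) * hid
        simp only [mul_eq_zero, pow_eq_zero_iff', neg_eq_zero, one_ne_zero, false_and, false_or, hidx,
          sub_eq_zero] at hfin
        exact_mod_cast hfin
      · obtain ⟨j, -, hj⟩ := (Nat.dvd_prime_pow (Fact.out : p.Prime)).1
          (show orderOf v ∣ p ^ (k * (D.nroots / 2)) by
            rw [pow_mul, ← hk, ← Φ.card_U, ← Subgroup.orderOf_coe]
            exact Subgroup.orderOf_dvd_natCard _ (Φ.radical_le_U _ hv))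
        exact ⟨j, hj⟩
      · have h := (Φ.mem_parabolic_lset J y).1 hy
        exact (Subgroup.mem_normalizer_iff.1 (Φ.parabolic_le_normalizer _ h) _).1 hv
      · obtain ⟨a, ha, β, hβ, rfl⟩ := (CfsgLib.BN.mem_cell_cls P).1 hx
        obtain ⟨j, hj⟩ := hbp
        have hb' : (a⁻¹ * b * a : ↥(D.group F)) ∈ P.B := P.B.mul_mem (P.B.mul_mem (P.B.inv_mem ha) hb) ha
        have hup : ((a⁻¹ * b * a : ↥(D.group F)) : GL D.Idx F) ^ p ^ j = 1 := by
          rw [← Subgroup.coe_pow, show (a⁻¹ * b * a) ^ p ^ j = a⁻¹ * b ^ p ^ j * a by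
            simpa using conj_pow (a := a⁻¹) (b := b) (i := p ^ j), ← hj, pow_orderOf_eq_one]
          simp
        have huU := Φ.pElement_mem_U p hb' hup
        have hR : ((a⁻¹ * b * a : ↥(D.group F)) : GL D.Idx F) ∈ D.unipotentRadical F (Φ.nodeSet J) := by
          refine Φ.long_mem_out hw huU ?_
          have h2 := P.B.mul_mem (P.B.mul_mem hβ hxb) (P.B.inv_mem hβ)
          have e : β * ((a * (rep (W J) : ↥(D.group F)) * β)⁻¹ * b * (a * (rep (W J) : ↥(D.group F)) * β)) * β⁻¹ =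
              (rep (W J) : ↥(D.group F))⁻¹ * (a⁻¹ * b * a) * (rep (W J) : ↥(D.group F)) := by group
          rw [e] at h2
          exact h2
        have haP : (a : GL D.Idx F) ∈ D.parabolicSubgroup F (Φ.nodeSet J) := Subgroup.mem_sup_left ha
        have h3 := (Subgroup.mem_normalizer_iff.1 (Φ.parabolic_le_normalizer _ haP) _).1 hR
        show (b : GL D.Idx F) ∈ D.unipotentRadical F (Φ.nodeSet J)
        simpa [mul_assoc] using h3
  have htop : P.parabolic (lset P (Finset.univ : Finset P.S)) = ⊤ := by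
    rw [show lset P (Finset.univ : Finset P.S) = P.S by
      simp [CfsgLib.BN.lset, Set.image_univ]]
    exact CfsgLib.BN.parabolic_S P
  have hu : uK Finset.univ = Nat.card {g : ↥(D.group F) // ∃ k : ℕ, orderOf g = p ^ k} :=
    Nat.card_congr (Equiv.subtypeEquivRight fun x => by rw [htop]; simp [PEl])
  have hR1 : D.unipotentRadical F (Φ.nodeSet (Finset.univ : Finset P.S)) = ⊥ := by
    rw [Φ.unipotentRadical_eq, eq_bot_iff, US, Subgroup.closure_le]
    rintro _ ⟨r, t, ⟨i, hi, -⟩, rfl⟩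
    exact absurd (Φ.natSet_nodeSet.2 (Finset.mem_univ _)) hi
  have hcu := Φ.radical_mul_card (J := (Finset.univ : Finset P.S)) (n := rep (W Finset.univ))
    (by rw [hrep]; exact hW _)
  rw [hR1, Subgroup.card_bot, one_mul, hrep] at hcu
  rw [← hu, main, show c Finset.univ = Nat.card (D.posUnipotent F) from hcu, Φ.card_U, ← pow_add, two_mul]

end Chev

end CfsgLib.Chev
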