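/-
Parabolic subgroups of Chevalley groups are of characteristic p type.
-/
import Cfsg.Agent.Lib.Chev.Aut.Sylow
import Cfsg.Agent.Lib.Comp.Layer

namespace CfsgLib.Chev

open Cfsg.Lie Matrix

set_option linter.dupNamespace false
set_option linter.unusedSectionVars false
set_option maxRecDepth 100000

variable {D : ChevalleyDatum}

namespace Chev

variable (Φ : Chev D) {F : Type*} [Field F]

/-- Some root involving `i` can be raised by the fundamental root `j`. -/
def spanCert (D : ChevalleyDatum) : Bool :=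
  (List.range D.rank).all fun i => (List.range D.rank).all fun j => decide (i = j) ||
    (List.range D.nroots).any fun r => decide (D.nroots ≤ 2 * r) &&
      decide ((D.coroot.getD r #[]).getD i 0 ≠ 0) && !(D.chainEntry r (D.simple j)).isEmpty

theorem exists_raisable (hok : spanCert D = true) {i j : Fin D.rank} (hij : i ≠ j) :
    ∃ r, Φ.toTables.Pos r ∧ 0 < Φ.V r i ∧ Φ.N r (Φ.p j) ≠ 0 := by
  simp only [spanCert, List.all_eq_true, List.any_eq_true, List.mem_range, Bool.or_eq_true, Bool.and_eq_true,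
    decide_eq_true_eq, Bool.not_eq_true', List.isEmpty_eq_false_iff] at hok
  obtain ⟨r, hr, ⟨hpos, hC⟩, hne⟩ := (hok i.val i.isLt j.val j.isLt).resolve_left fun e => hij (Fin.ext e)
  let r' : Fin D.nroots := ⟨r, hr⟩
  refine ⟨r', hpos, lt_of_le_of_ne (Φ.V_nonneg r' hpos i) ?_, fun hN => hne ?_⟩
  · intro e
    apply hC
    exact (Φ.coroot_eq r' i).trans ((Φ.C_eq_zero_iff r' i).2 e.symm)
  · rw [Φ.simple_val j, show D.chainEntry r (Φ.p j).val = _ from Φ.toSys.chainEntry_eq r' (Φ.p j), Tables.entry,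
      if_pos (by rw [Φ.toSys.ch_one_snd]; exact hN)]

theorem conj_mem_raise {c : ℤ} (hc : 0 ≤ c) {g h : GL D.Idx F}
    (hg : g ∈ raiseSubgroup (fun x => 1 * Φ.toSys.codeIdx x) 0 le_rfl)
    (hh : h ∈ raiseSubgroup (fun x => 1 * Φ.toSys.codeIdx x) c hc) :
    g * h * g⁻¹ ∈ raiseSubgroup (fun x => 1 * Φ.toSys.codeIdx x) c hc := by
  have key : g * h * g⁻¹ * h⁻¹ ∈ raiseSubgroup (fun x => 1 * Φ.toSys.codeIdx x) c hc := by
    obtain ⟨a, b⟩ := commutator_mem_raiseSubgroup (fun x => 1 * Φ.toSys.codeIdx x) le_rfl hc hg hh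
    exact ⟨a.mono _ (by omega), b.mono _ (by omega)⟩
  have := mul_mem key hh
  rwa [inv_mul_cancel_right] at this

theorem B_le_raise {b : GL D.Idx F} (hb : b ∈ D.borelSubgroup F) :
    b ∈ raiseSubgroup (fun x => 1 * Φ.toSys.codeIdx x) 0 le_rfl := by
  obtain ⟨u, hu, h, hh, rfl⟩ := Φ.mem_B_iff.mp hb
  refine mul_mem ?_ ?_
  · rw [Φ.posUnipotent_eq_US] at hu
    have := Φ.US_pos_le_raise hu
    exact ⟨this.1.mono _ zero_le_one, this.2.mono _ zero_le_one⟩
  · have key : ∀ h ∈ D.diagonalSubgroup F, Raises (fun x => 1 * Φ.toSys.codeIdx x) 0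
        ((h : Matrix D.Idx D.Idx F) - 1) := by
      intro h hh x y hxy
      by_cases e : x = y
      · subst e; simp
      · simp [Matrix.sub_apply, Φ.diag_apply hh e, Matrix.one_apply_ne e] at hxy
    exact ⟨key h hh, key h⁻¹ (Subgroup.inv_mem _ hh)⟩

/-- A root element in a deeper layer vanishes. -/
theorem eq_zero_of_mem_raise {q : Fin D.nroots} (hq : Φ.toTables.Pos q) {a : F} {c : ℤ} (hc : 0 ≤ c)
    (hlt : Φ.toTables.code q < c)
    (h : Φ.toAlg.xg q a ∈ raiseSubgroup (fun x => 1 * Φ.toSys.codeIdx x) c hc) : a = 0 := by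
  obtain ⟨i, hi⟩ := Φ.exists_C_ne_zero (F := F) q
  have e1 := Φ.C_mul_of_prod (g := 1) a (hc) (one_mem _) hq hlt i
  rw [mul_one] at e1
  by_contra ha
  have h' := h.1 (Sum.inl i) (Sum.inr q.rev) (by
    rw [Matrix.sub_apply, Matrix.one_apply_ne (by simp), sub_zero, e1]
    exact mul_ne_zero ha hi)
  simp only [Sys.codeIdx, Sum.elim_inl, Sum.elim_inr, Φ.toSys.code_neg, one_mul] at h'
  omega

theorem xg_mem_raise {r : Fin D.nroots} (hr : Φ.toTables.Pos r) (a : F) :
    Φ.toAlg.xg r a ∈ raiseSubgroup (fun x => 1 * Φ.toSys.codeIdx x) (Φ.toTables.code r) (Φ.code_pos hr).le :=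
  Φ.US_le_raise (S := fun s => s = r) 1 _ (Φ.code_pos hr).le (fun s hs => by rw [hs, one_mul])
    (Φ.xg_mem_US (S := fun s => s = r) rfl a)

/-- An element of `B` centralising `x_r(1)` has trivial `r`-weight. -/
theorem chi_eq_one_of_commute {v : GL D.Idx F} (hv : v ∈ D.posUnipotent F) (c : Fin D.rank → Fˣ)
    {r : Fin D.nroots} (hr : Φ.toTables.Pos r)
    (h : Commute (v * Φ.toAlg.torus c) (Φ.toAlg.xg r (1 : F))) : Φ.toSys.chi c r = 1 := by
  have hcr := Φ.code_pos hr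
  set x := Φ.toAlg.xg r (Φ.toSys.chi c r : F) with hx
  have hconj : v * x * v⁻¹ = Φ.toAlg.xg r 1 := by
    have e := h.eq
    rw [mul_assoc, Φ.toAlg.torus_xg, mul_one, ← mul_assoc, ← hx, ← mul_assoc] at e
    calc v * x * v⁻¹ = v * x * Φ.toAlg.torus c * (v * Φ.toAlg.torus c)⁻¹ := by group
      _ = _ := by rw [e]; group
  rw [Φ.posUnipotent_eq_US] at hv
  have hxr : x ∈ raiseSubgroup (fun y => 1 * Φ.toSys.codeIdx y) (Φ.toTables.code r) hcr.le :=
    Φ.xg_mem_raise hr _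
  have hW : v * x * v⁻¹ * x⁻¹ ∈ raiseSubgroup (fun y => 1 * Φ.toSys.codeIdx y)
      (Φ.toTables.code r + 1) (by omega) := by
    obtain ⟨a, b⟩ := commutator_mem_raiseSubgroup (fun y => 1 * Φ.toSys.codeIdx y) zero_le_one hcr.le
      (Φ.US_pos_le_raise hv) hxr
    exact ⟨a.mono _ (by omega), b.mono _ (by omega)⟩
  rw [hconj, hx, Φ.toAlg.xg_inv, ← Φ.toAlg.xg_add] at hW
  have := Φ.eq_zero_of_mem_raise hr (by omega) (by omega) hW
  exact Units.ext (by rw [Units.val_one]; linear_combination -this)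

theorem out_raise {J : Set ℕ} {i : Fin D.rank} (hi : i.val ∉ J) {r : Fin D.nroots} (hV : 0 < Φ.V r i) :
    Φ.Out (natSet J) r :=
  ⟨i, hi, hV⟩

include Φ in
/-- The centralizer of the unipotent radical in the parabolic subgroup is unipotent. -/
theorem centralizer_radical_le (hok : spanCert D = true) {J : Set ℕ} {i0 : Fin D.rank} (hi0 : i0.val ∉ J) :
    D.parabolicSubgroup F J ⊓ Subgroup.centralizer (D.unipotentRadical F J : Set (GL D.Idx F)) ≤
      D.posUnipotent F := by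
  have hout : ∀ {r : Fin D.nroots}, Φ.Out (natSet J) r → ∀ t, Φ.toAlg.xg r t ∈ D.unipotentRadical F J :=
    fun hr t => by rw [Φ.unipotentRadical_eq]; exact Φ.xg_mem_US hr t
  -- every node can be raised inside the radical
  have hnode : ∀ j : Fin D.rank, j.val ∈ J → ∃ r, Φ.Out (natSet J) r ∧ Φ.Out (natSet J) (Φ.S r (Φ.p j)) ∧
      Φ.N r (Φ.p j) ≠ 0 := by
    intro j hj
    obtain ⟨r, -, hV, hN⟩ := Φ.exists_raisable hok (i := i0) (j := j) (fun e => hi0 (e ▸ hj))
    refine ⟨r, Φ.out_raise hi0 hV, Φ.out_raise hi0 ?_, hN⟩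
    rw [Φ.V_add r _ hN, Φ.V_p]
    split <;> omega
  set P := D.parabolicSubgroup F J with hP
  have hBP : D.borelSubgroup F ≤ P := le_sup_left
  have hB : ∀ g ∈ D.borelSubgroup F,
      g ∈ Subgroup.centralizer (D.unipotentRadical F J : Set (GL D.Idx F)) → g ∈ D.posUnipotent F := by
    intro g hg hcen
    obtain ⟨v, hv, h, hh, rfl⟩ := Φ.mem_B_iff.mp hg
    obtain ⟨c, rfl⟩ := Φ.exists_torus_of_mem_H hh
    have hc : ∀ {r : Fin D.nroots}, Φ.Out (natSet J) r → Φ.toSys.chi c r = 1 := fun hr =>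
      Φ.chi_eq_one_of_commute hv c (Out.pos Φ hr)
        (Subgroup.mem_centralizer_iff.1 hcen _ (hout hr 1)).symm
    have hc1 : c = 1 := by
      funext j
      rw [← Φ.toSys.chi_simple c j]
      by_cases hj : j.val ∈ J
      · obtain ⟨r, h1, h2, hN⟩ := hnode j hj
        have := Φ.toSys.chi_add c hN
        rw [hc h1, hc h2, one_mul] at this
        exact this.symm
      · exact hc (Φ.out_raise hj (by simp [Φ.V_p]))
    rw [hc1, map_one, mul_one]
    exact hv
  intro g ⟨hgP, hgC⟩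
  refine hB g ?_ hgC
  -- otherwise a fundamental reflection lies in `C · B`
  by_contra hgB
  set M := D.borelSubgroup F ⊔ (P ⊓ Subgroup.centralizer (D.unipotentRadical F J : Set (GL D.Idx F))) with hM
  have hMG : M ≤ D.group F := sup_le Φ.B_le_group (inf_le_left.trans
    (fun x hx => (Φ.mem_parabolicSubgroup.1 hx).1))
  set M' : Subgroup ↥(D.group F) := M.subgroupOf (D.group F) with hM'
  have hBM : (Φ.bnPair F).B ≤ M' := fun b hb => Subgroup.mem_sup_left hb
  obtain ⟨j, hj⟩ : ∃ j : Fin D.rank, Φ.nw (Φ.p j) (1 : Fˣ) ∈ M := by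
    by_contra hnone
    push Not at hnone
    have hS : (Φ.bnPair F).S ∩ (M' : Set _) ⊆ Φ.simpleSet F (∅ : Set (Fin D.rank)) := by
      rintro _ ⟨⟨i, rfl⟩, hi⟩
      exact absurd hi (hnone i)
    have hgM : g ∈ M := Subgroup.mem_sup_right ⟨hgP, hgC⟩
    have hmem : (⟨g, hMG hgM⟩ : D.group F) ∈ M' := hgM
    rw [CfsgLib.BN.eq_parabolic (Φ.bnPair F) hBM] at hmem
    have h2 := (sup_le_sup_left (Subgroup.closure_mono hS) _ :
      (Φ.bnPair F).parabolic _ ≤ (Φ.bnPair F).parabolic _) hmem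
    apply hgB
    have e : (Φ.bnPair F).B ⊔ Subgroup.closure (Φ.simpleSet F (∅ : Set (Fin D.rank))) = (Φ.bnPair F).B := by
      simp [simpleSet]
    rw [e] at h2
    exact h2
  obtain ⟨b, hb, k, hk, hbk⟩ : ∃ b ∈ D.borelSubgroup F,
      ∃ k ∈ Subgroup.centralizer (D.unipotentRadical F J : Set (GL D.Idx F)),
        Φ.nw (Φ.p j) (1 : Fˣ) = b * k := by
    have hn : D.borelSubgroup F ≤ Subgroup.normalizer
        ((P ⊓ Subgroup.centralizer (D.unipotentRadical F J : Set (GL D.Idx F)) : Subgroup (GL D.Idx F)) : Set (GL D.Idx F)) := by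
      have hfwd : ∀ b ∈ D.borelSubgroup F, ∀ x ∈ P ⊓ Subgroup.centralizer (D.unipotentRadical F J : Set (GL D.Idx F)),
          b * x * b⁻¹ ∈ P ⊓ Subgroup.centralizer (D.unipotentRadical F J : Set (GL D.Idx F)) := by
        intro b hb x hx
        obtain ⟨hxP, hxC⟩ := Subgroup.mem_inf.1 hx
        refine Subgroup.mem_inf.2 ⟨mul_mem (mul_mem (hBP hb) hxP) (inv_mem (hBP hb)),
          Subgroup.mem_centralizer_iff.2 fun y hy => ?_⟩
        have hn := Subgroup.mem_normalizer_iff.1 (Φ.parabolic_le_normalizer J (inv_mem (hBP hb))) y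
        have hy' := hn.1 hy
        rw [inv_inv] at hy'
        have e := Subgroup.mem_centralizer_iff.1 hxC _ hy'
        calc y * (b * x * b⁻¹) = b * ((b⁻¹ * y * b) * x) * b⁻¹ := by group
          _ = b * (x * (b⁻¹ * y * b)) * b⁻¹ := by rw [e]
          _ = _ := by group
      intro b hb
      rw [Subgroup.mem_normalizer_iff]
      refine fun x => ⟨hfwd b hb x, fun hx => ?_⟩
      have := hfwd b⁻¹ (inv_mem hb) _ hx
      rw [show b⁻¹ * (b * x * b⁻¹) * b⁻¹⁻¹ = x by group] at this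
      exact this
    have := hj
    rw [hM, ← SetLike.mem_coe, Subgroup.coe_mul_of_left_le_normalizer_right _ _ hn] at this
    obtain ⟨b, hb, k, hk, e⟩ := this
    exact ⟨b, hb, k, hk.2, e.symm⟩
  -- conjugation by `n_j` agrees with conjugation by `b` on the radical
  have hagree : ∀ x ∈ D.unipotentRadical F J,
      Φ.nw (Φ.p j) (1 : Fˣ) * x * (Φ.nw (Φ.p j) 1)⁻¹ = b * x * b⁻¹ := fun x hx => by
    rw [hbk]
    calc b * k * x * (b * k)⁻¹ = b * (k * x) * k⁻¹ * b⁻¹ := by group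
      _ = b * (x * k) * k⁻¹ * b⁻¹ := by rw [← Subgroup.mem_centralizer_iff.1 hk x hx]
      _ = _ := by group
  by_cases hjJ : j.val ∈ J
  · obtain ⟨r0, h1, h2, hN⟩ := hnode j hjJ
    obtain ⟨r, hr, hA⟩ : ∃ r, Φ.Out (natSet J) r ∧ 0 < Φ.A j r := by
      have hadd : Φ.A j (Φ.S r0 (Φ.p j)) = Φ.A j r0 + 2 := by
        rw [Φ.A_lin j, Φ.A_lin j r0]
        simp only [Φ.V_add r0 _ hN, add_mul, Finset.sum_add_distrib, Φ.V_p, ite_mul, one_mul, zero_mul,
          Finset.sum_ite_eq, Finset.mem_univ, if_true, Φ.A_pp]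
      rcases lt_trichotomy (Φ.A j r0) 0 with hlt | heq | hgt
      · refine ⟨Φ.refl j r0, (Φ.out_refl (J := natSet J) hjJ).2 h1, ?_⟩
        rw [Φ.A_refl, Φ.A_pp]
        omega
      · exact ⟨_, h2, by omega⟩
      · exact ⟨r0, h1, hgt⟩
    have hrp := Out.pos Φ hr
    have hne : r ≠ Φ.p j := by
      rintro rfl
      obtain ⟨k', hk', hVk⟩ := hr
      rw [Φ.V_p] at hVk
      split at hVk
      · next e => subst e; exact hk' hjJ
      · omega
    have hqpos := (Φ.refl_pos hrp hne).1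
    have hlt : Φ.toTables.code (Φ.refl j r) < Φ.toTables.code r := Φ.code_strictMono (Φ.refl_lt hA)
    have h := hagree _ (hout hr 1)
    rw [Φ.nw_conj_xg, mul_inv_cancel_right] at h
    have hmem := Φ.conj_mem_raise (Φ.code_pos hrp).le (Φ.B_le_raise hb)
      (Φ.xg_mem_raise (F := F) hrp 1)
    rw [← h] at hmem
    have h0 := Φ.eq_zero_of_mem_raise hqpos _ hlt hmem
    rcases Φ.eta_unit j r with e | e <;> simp [e] at h0
  · have hp : Φ.Out (natSet J) (Φ.p j) := Φ.out_raise hjJ (by simp [Φ.V_p])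
    have h := hagree _ (hout hp 1)
    rw [Φ.nw_conj_xg, mul_inv_cancel_right, Φ.refl_p] at h
    have hU : b * Φ.toAlg.xg (Φ.p j) 1 * b⁻¹ ∈ D.posUnipotent F :=
      Φ.B_conj_U hb (Φ.xg_mem_U (Φ.p_pos j) 1)
    rw [← h] at hU
    have h1 : Φ.toAlg.xg (Φ.p j).rev ((Φ.eta j (Φ.p j) : F) * 1) = 1 := by
      have : Φ.toAlg.xg (Φ.p j).rev ((Φ.eta j (Φ.p j) : F) * 1) ∈ D.borelSubgroup F ⊓ D.negUnipotent F :=
        Subgroup.mem_inf.2 ⟨U_le_B hU, Φ.xg_mem_V (by rw [Φ.pos_rev_iff]; simpa using Φ.p_pos j) _⟩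
      rwa [Φ.B_inf_V, Subgroup.mem_bot] at this
    rw [Φ.toAlg.xg_eq_one_iff] at h1
    rcases Φ.eta_unit j (Φ.p j) with e | e <;> simp [e] at h1

include Φ in
/-- `F*(P_J)` is a `p`-group. -/
theorem isPGroup_gfit_parabolic [Finite F] (p : ℕ) [Fact p.Prime] [CharP F p] (hok : spanCert D = true)
    {J : Set ℕ} {i0 : Fin D.rank} (hi0 : i0.val ∉ J) :
    IsPGroup p ↥(Cfsg.generalizedFittingSubgroup ↥(D.parabolicSubgroup F J)) := by
  classical
  haveI := Fintype.ofFinite F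
  have hU : IsPGroup p ↥(D.posUnipotent F) := by
    obtain ⟨m, k', -, hk', -⟩ := Φ.card_group_split (F := F) p
    exact IsPGroup.of_card (n := k' * (D.nroots / 2)) (by rw [Φ.card_U, hk', pow_mul])
  set P := D.parabolicSubgroup F J with hP
  have hQP : D.unipotentRadical F J ≤ P := by
    rw [hP, ← Φ.unipotentRadical_sup_levi]; exact le_sup_left
  set Q := (D.unipotentRadical F J).subgroupOf P with hQ
  haveI : Q.Normal :=
    (Subgroup.normal_subgroupOf_iff_le_normalizer hQP).mpr (Φ.parabolic_le_normalizer J)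
  have hQp : IsPGroup p Q := by
    refine IsPGroup.of_equiv ?_ (Subgroup.subgroupOfEquivOfLe hQP).symm
    refine hU.to_le ?_
    rw [Φ.unipotentRadical_eq, Φ.posUnipotent_eq_US]
    exact Φ.US_mono fun r hr => Out.pos Φ hr
  rw [CfsgLib.Comp.isPGroup_gfit_iff]
  have hQle : Q ≤ Cfsg.pCore p ↥P := le_pCore hQp
  set C := Subgroup.centralizer (Q : Set ↥P) with hC
  have hCp : IsPGroup p C := by
    refine hU.of_injective (ϕ := ?_) ?_
    · exact
        { toFun := fun x => ⟨((x : ↥P) : GL D.Idx F), Φ.centralizer_radical_le hok hi0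
            (Subgroup.mem_inf.2 ⟨(x : ↥P).2, Subgroup.mem_centralizer_iff.2 fun y hy =>
              congrArg Subtype.val (Subgroup.mem_centralizer_iff.1 x.2 ⟨y, hQP hy⟩ hy)⟩)⟩
          map_one' := rfl
          map_mul' := fun _ _ => rfl }
    · intro a b e
      exact Subtype.ext (Subtype.ext (congrArg (fun z : ↥(D.posUnipotent F) => (z : GL D.Idx F)) e))
  exact (Subgroup.centralizer_le (SetLike.coe_subset_coe.2 hQle)).trans (le_pCore hCp)

end Chev

end CfsgLib.Chev
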