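import Cfsg.Agent.Lib.Blocks.Green
import Cfsg.Agent.Lib.Blocks.CentralRadical
import Cfsg.Agent.Lib.Chev.DefectZero
import Cfsg.Agent.Lib.DefectZero.Residue
import Cfsg.Agent.Lib.Chev.SteinbergChar
import Cfsg.Agent.Lib.Chev.ParabolicFitting

/-!
# Defect groups in finite Chevalley groups

Every defect group of a block is trivial or a Sylow subgroup; there are exactly two blocks.
-/

set_option autoImplicit false
set_option linter.unusedSectionVars false
set_option linter.dupNamespace false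
set_option linter.style.haveILetI false
set_option maxRecDepth 100000

namespace CfsgLib.Chev

open Cfsg Cfsg.Lie Matrix CfsgLib.CharTheory CfsgLib.Blocks
open scoped Pointwise

variable {D : ChevalleyDatum}

/-- The nodes reachable from the first one along edges of the diagram. -/
def reach (D : ChevalleyDatum) : ℕ → List ℕ
  | 0 => [0]
  | t + 1 => (List.range D.rank).filter fun j => (reach D t).any fun i =>
      decide (i = j) || (decide (D.cartan i (D.simple j) ≠ 0) && decide (D.cartan j (D.simple i) ≠ 0))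

/-- The diagram is connected. -/
def connCert (D : ChevalleyDatum) : Bool :=
  decide (0 < D.rank) && (List.range D.rank).all fun j => (reach D D.rank).contains j

namespace Chev

variable (Φ : Chev D) {F : Type*} [Field F]

theorem reach_lt (hr : 0 < D.rank) : ∀ (t j : ℕ), j ∈ reach D t → j < D.rank := by
  intro t
  induction t with
  | zero => intro j hj; simp only [reach, List.mem_singleton] at hj; omega
  | succ t ih => intro j hj; simp only [reach, List.mem_filter, List.mem_range] at hj; exact hj.1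

theorem exists_edge (hc : connCert D = true) {J : Set (Fin D.rank)} (h1 : J.Nonempty) (h2 : J ≠ Set.univ) :
    ∃ i k, i ∈ J ∧ k ∉ J ∧ Φ.A k (Φ.p i) ≠ 0 := by
  classical
  simp only [connCert, Bool.and_eq_true, decide_eq_true_eq, List.all_eq_true, List.mem_range,
    List.contains_iff_mem] at hc
  obtain ⟨hrank, hall⟩ := hc
  by_contra hno
  push Not at hno
  let z : Fin D.rank := ⟨0, hrank⟩
  have key : ∀ (t : ℕ) (j : Fin D.rank), j.val ∈ reach D t → (j ∈ J ↔ z ∈ J) := by
    intro t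
    induction t with
    | zero =>
      intro j hj
      simp only [reach, List.mem_singleton] at hj
      rw [show j = z from Fin.ext hj]
    | succ t ih =>
      intro j hj
      simp only [reach, List.mem_filter, List.any_eq_true, Bool.or_eq_true, Bool.and_eq_true,
        decide_eq_true_eq] at hj
      obtain ⟨-, i, hi, h⟩ := hj
      have hil := reach_lt hrank t i hi
      rcases h with h | ⟨ha, hb⟩
      · exact ih j (h ▸ hi)
      · have ha' : Φ.A ⟨i, hil⟩ (Φ.p j) ≠ 0 := by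
          rw [← Φ.cartan_val, ← Φ.simple_val]; exact ha
        have hb' : Φ.A j (Φ.p ⟨i, hil⟩) ≠ 0 := by
          rw [← Φ.cartan_val, ← Φ.simple_val]; exact hb
        rw [← ih ⟨i, hil⟩ hi]
        refine ⟨fun hjJ => ?_, fun hiJ => ?_⟩
        · by_contra hiJ
          exact ha' (hno j ⟨i, hil⟩ hjJ hiJ)
        · by_contra hjJ
          exact hb' (hno ⟨i, hil⟩ j hiJ hjJ)
  obtain ⟨a, ha⟩ := h1
  refine h2 (Set.eq_univ_of_forall fun j => ?_)
  rw [key _ j (hall j.val j.isLt), ← key _ a (hall a.val a.isLt)]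
  exact ha

include Φ in
theorem B_normalizes_U {b u : GL D.Idx F} (hb : b ∈ D.borelSubgroup F) (hu : u ∈ D.posUnipotent F) :
    b * u * b⁻¹ ∈ D.posUnipotent F := by
  obtain ⟨u1, hu1, h, hh, rfl⟩ := Φ.mem_B_iff.1 hb
  have h1 := (Subgroup.mem_normalizer_iff.1 (Φ.H_le_normalizer_U hh) _).1 hu
  rw [show u1 * h * u * (u1 * h)⁻¹ = u1 * (h * u * h⁻¹) * u1⁻¹ by group]
  exact mul_mem (mul_mem hu1 h1) (inv_mem hu1)

/-- `U ∩ x U x⁻¹` for a regular-type intersection: a conjugate of a standard root subgroup. -/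
theorem inter_standard {x : GL D.Idx F} (hx : x ∈ D.group F)
    (hcomm : ∀ d ∈ D.posUnipotent F, x⁻¹ * d * x ∈ D.posUnipotent F → d * x = x * d) :
    ∃ b ∈ D.borelSubgroup F, ∃ J : Set (Fin D.rank), ∀ g,
      (g ∈ D.posUnipotent F ∧ x⁻¹ * g * x ∈ D.posUnipotent F) ↔
        b⁻¹ * g * b ∈ Φ.US F (fun r => Φ.toTables.Pos r ∧ Φ.Sub J r) := by
  classical
  obtain ⟨b, hb, n, hn, π, hπ, hm, u, hu, e⟩ := Φ.exists_normal_form hx
  have huU : u ∈ D.posUnipotent F := Φ.Uneg_le_U hu
  have hm' : Φ.Mono n⁻¹ π⁻¹ := Φ.mono_inv hn hm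
  -- intersection with a monomial conjugate
  have hint : ∀ g, (g ∈ D.posUnipotent F ∧ n⁻¹ * g * n ∈ D.posUnipotent F) ↔
      g ∈ Φ.US F (fun r => Φ.toTables.Pos r ∧ Φ.toTables.Pos (π⁻¹ r)) := by
    intro g
    constructor
    · rintro ⟨hg, hg'⟩
      obtain ⟨P, hP, M, hM, rfl⟩ := Φ.exists_split_inv π⁻¹ hg
      have hP' : n⁻¹ * P * n ∈ D.posUnipotent F := by
        rw [Φ.posUnipotent_eq_US]
        have := Φ.map_US_le hm' (T := Φ.toTables.Pos) (fun r hr => hr.2) P hP
        rwa [inv_inv] at this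
      have hM' : n⁻¹ * M * n ∈ D.negUnipotent F := by
        rw [Φ.negUnipotent_eq_US]
        have := Φ.map_US_le hm' (T := fun r => ¬ Φ.toTables.Pos r) (fun r hr => hr.2) M hM
        rwa [inv_inv] at this
      have hM'' : n⁻¹ * M * n ∈ D.borelSubgroup F ⊓ D.negUnipotent F := by
        refine ⟨U_le_B ?_, hM'⟩
        rw [show n⁻¹ * M * n = (n⁻¹ * P * n)⁻¹ * (n⁻¹ * (P * M) * n) by group]
        exact mul_mem (inv_mem hP') hg'
      rw [Φ.B_inf_V, Subgroup.mem_bot] at hM''
      have : M = 1 := by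
        rw [show M = n * (n⁻¹ * M * n) * n⁻¹ by group, hM'']; group
      rwa [this, mul_one]
    · intro hg
      refine ⟨?_, ?_⟩
      · rw [Φ.posUnipotent_eq_US]; exact Φ.US_mono (fun r hr => hr.1) hg
      · rw [Φ.posUnipotent_eq_US]
        have := Φ.map_US_le hm' (T := Φ.toTables.Pos) (fun r hr => hr.2) g hg
        rwa [inv_inv] at this
  have hint' : ∀ g, (g ∈ D.posUnipotent F ∧ x⁻¹ * g * x ∈ D.posUnipotent F) ↔
      (b⁻¹ * g * b ∈ D.posUnipotent F ∧ n⁻¹ * (b⁻¹ * g * b) * n ∈ D.posUnipotent F) := by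
    intro g
    constructor
    · rintro ⟨h1, h2⟩
      refine ⟨?_, ?_⟩
      · have := Φ.B_normalizes_U (inv_mem hb) h1
        rwa [inv_inv] at this
      · rw [show n⁻¹ * (b⁻¹ * g * b) * n = u * (x⁻¹ * g * x) * u⁻¹ by rw [e]; group]
        exact mul_mem (mul_mem huU h2) (inv_mem huU)
    · rintro ⟨h1, h2⟩
      refine ⟨?_, ?_⟩
      · have := Φ.B_normalizes_U hb h1
        rwa [show b * (b⁻¹ * g * b) * b⁻¹ = g by group] at this
      · rw [show x⁻¹ * g * x = u⁻¹ * (n⁻¹ * (b⁻¹ * g * b) * n) * u by rw [e]; group]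
        exact mul_mem (mul_mem (inv_mem huU) h2) huU
  -- roots of the intersection are fixed
  have hfix : ∀ r, Φ.toTables.Pos r → Φ.toTables.Pos (π⁻¹ r) → π⁻¹ r = r := by
    intro r hr hr'
    set v := u * b with hv
    have hvB : v ∈ D.borelSubgroup F := mul_mem (U_le_B huU) hb
    set d := b * Φ.toAlg.xg r (1 : F) * b⁻¹ with hd
    have hd' := (hint' d).2 (by
      rw [show b⁻¹ * d * b = Φ.toAlg.xg r (1 : F) by rw [hd]; group]
      exact (hint _).2 (Φ.xg_mem_US ⟨hr, hr'⟩ 1))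
    have hc := hcomm d hd'.1 hd'.2
    obtain ⟨a, ha, hconj, -⟩ := hm'.1 r
    have h1 : v * Φ.toAlg.xg r (1 : F) * v⁻¹ = Φ.toAlg.xg (π⁻¹ r) a := by
      have h2 := hconj 1
      rw [mul_one, inv_inv] at h2
      rw [← h2]
      have h3 : x * d * x⁻¹ = d := by rw [← hc]; group
      rw [e, hd] at h3
      calc v * Φ.toAlg.xg r (1 : F) * v⁻¹
          = n⁻¹ * b⁻¹ * (b * n * u * (b * Φ.toAlg.xg r (1 : F) * b⁻¹) * (b * n * u)⁻¹) * b * n := by
            rw [hv]; group
        _ = _ := by rw [h3]; group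
    have c1 := Φ.code_pos hr
    have c2 := Φ.code_pos hr'
    have k1 := Φ.conj_mem_raise c1.le (Φ.B_le_raise hvB) (Φ.xg_mem_raise hr (1 : F))
    rw [h1] at k1
    have k2 := Φ.conj_mem_raise c2.le (Φ.B_le_raise (inv_mem hvB)) (Φ.xg_mem_raise hr' a)
    rw [← h1, show v⁻¹ * (v * Φ.toAlg.xg r (1 : F) * v⁻¹) * v⁻¹⁻¹ = Φ.toAlg.xg r (1 : F) by group] at k2
    apply Φ.code_strictMono.injective
    rcases lt_trichotomy (Φ.toTables.code (π⁻¹ r)) (Φ.toTables.code r) with h | h | h
    · exact absurd (Φ.eq_zero_of_mem_raise hr' c1.le h k1) ha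
    · exact h
    · exact absurd (Φ.eq_zero_of_mem_raise hr c2.le h k2) one_ne_zero
  set J : Set (Fin D.rank) := {i | π⁻¹ (Φ.p i) = Φ.p i} with hJ
  refine ⟨b, hb, J, fun g => ?_⟩
  rw [hint', hint]
  have hS : (fun r => Φ.toTables.Pos r ∧ Φ.toTables.Pos (π⁻¹ r)) =
      fun r => Φ.toTables.Pos r ∧ Φ.Sub J r := by
    funext r
    refine propext (and_congr_right fun hr => ⟨fun hr' j hj => ?_, fun hs => ?_⟩)
    · have h1 := Φ.V_map (inv_mem hπ) r j
      rw [hfix r hr hr'] at h1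
      have h2 : Φ.V r j ≤ 0 := by
        rw [h1]
        refine Finset.sum_nonpos fun k _ => ?_
        by_cases hk : k ∈ J
        · rw [show π⁻¹ (Φ.p k) = Φ.p k from hk, Φ.V_p, if_neg, mul_zero]
          rintro rfl; exact hj hk
        · refine mul_nonpos_of_nonneg_of_nonpos (Φ.V_nonneg r hr k) (Φ.V_nonpos _ (fun hp => hk ?_) j)
          exact hfix _ (Φ.p_pos k) hp
      exact le_antisymm h2 (Φ.V_nonneg r hr j)
    · rw [Φ.pos_iff_V_nonneg]
      intro j
      rw [Φ.V_map (inv_mem hπ)]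
      refine Finset.sum_nonneg fun k _ => ?_
      by_cases hk : k ∈ J
      · rw [show π⁻¹ (Φ.p k) = Φ.p k from hk]
        exact mul_nonneg (Φ.V_nonneg r hr k) (Φ.V_nonneg _ (Φ.p_pos k) j)
      · simp [hs k hk]
  rw [hS]

/-- The subgroup of a standard type. -/
def Std (F : Type*) [Field F] (J : Set (Fin D.rank)) : Subgroup ↥(D.group F) :=
  (Φ.US F (fun r => Φ.toTables.Pos r ∧ Φ.Sub J r)).subgroupOf (D.group F)

theorem Std_le (J : Set (Fin D.rank)) : Φ.Std F J ≤ (D.posUnipotent F).subgroupOf (D.group F) := by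
  intro g hg
  show (g : GL D.Idx F) ∈ D.posUnipotent F
  rw [Φ.posUnipotent_eq_US]
  exact Φ.US_mono (fun r hr => hr.1) hg

section finite

variable [Finite F] [Fintype ↥(D.group F)] (p : ℕ) [Fact p.Prime] [CharP F p] {M : Ideal AlgInt}

include Φ in
theorem card_U_sub :
    Nat.card ↥((D.posUnipotent F).subgroupOf (D.group F)) = p ^ (Nat.card ↥(D.group F)).factorization p := by
  classical
  obtain ⟨m, k, hpm, hk, hcard⟩ := Φ.card_group_split (F := F) p
  have hp : p.Prime := Fact.out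
  have hm0 : m ≠ 0 := fun h => hpm (h ▸ dvd_zero p)
  have hle : D.posUnipotent F ≤ D.group F := fun x hx => Φ.B_le_group (U_le_B hx)
  rw [Nat.card_congr (Subgroup.subgroupOfEquivOfLe hle).toEquiv, Φ.card_U, hcard, hk, ← pow_mul,
    Nat.factorization_mul (pow_ne_zero _ hp.ne_zero) hm0, hp.factorization_pow]
  simp [Nat.factorization_eq_zero_of_not_dvd hpm]

include Φ in
theorem isPGroup_U_sub : IsPGroup p ((D.posUnipotent F).subgroupOf (D.group F)) :=
  IsPGroup.of_card (Φ.card_U_sub p)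

variable {p} {B : Set (IrrCharacter ↥(D.group F))}

/-- A defect group inside `U` has standard type. -/
theorem defect_standard (hM : IsPModular p M) (hB : IsPBlock M B) {E : Subgroup ↥(D.group F)}
    (hE : IsDefectGroup p M B E) (hEU : E ≤ (D.posUnipotent F).subgroupOf (D.group F)) :
    ∃ (b : ↥(D.group F)) (J : Set (Fin D.rank)), (b : GL D.Idx F) ∈ D.borelSubgroup F ∧
      ∀ g, g ∈ E ↔ b⁻¹ * g * b ∈ Φ.Std F J := by
  obtain ⟨x, -, ⟨S, hS⟩, hint⟩ :=
    CfsgLib.Blocks.green_defect hM hB hE (Φ.isPGroup_U_sub p) hEU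
  have hmem : ∀ g : ↥(D.group F), g ∈ E ↔ (g : GL D.Idx F) ∈ D.posUnipotent F ∧
      (x : GL D.Idx F)⁻¹ * g * x ∈ D.posUnipotent F := by
    intro g
    rw [← hint, Subgroup.mem_inf, Subgroup.mem_map_equiv, MulAut.conj_symm_apply]
    simp [Subgroup.mem_subgroupOf, mul_assoc]
  have hcomm : ∀ d ∈ D.posUnipotent F, (x : GL D.Idx F)⁻¹ * d * x ∈ D.posUnipotent F →
      d * x = x * d := by
    intro d hd hd'
    have hdE : (⟨d, Φ.B_le_group (U_le_B hd)⟩ : ↥(D.group F)) ∈ E := (hmem _).2 ⟨hd, hd'⟩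
    rw [← hS] at hdE
    obtain ⟨r, -, hr⟩ := hdE
    have := Subgroup.mem_centralizer_singleton_iff.1 r.2
    rw [show (r : ↥(D.group F)) = ⟨d, Φ.B_le_group (U_le_B hd)⟩ from hr] at this
    exact congrArg Subtype.val this
  obtain ⟨b, hb, J, hJ⟩ := Φ.inter_standard x.2 hcomm
  refine ⟨⟨b, Φ.B_le_group hb⟩, J, hb, fun g => ?_⟩
  rw [hmem, hJ]
  rfl

include Φ in
theorem defect_dichotomy (hc : connCert D = true) (hM : IsPModular p M) (hB : IsPBlock M B)
    {E : Subgroup ↥(D.group F)} (hE : IsDefectGroup p M B E) :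
    E = ⊥ ∨ Nat.card E = p ^ (Nat.card ↥(D.group F)).factorization p := by
  classical
  let P : Sylow p ↥(D.group F) := Sylow.ofCard _ (Φ.card_U_sub p)
  obtain ⟨Q, hQ⟩ := (defectGroup_isPGroup hE).exists_le_sylow
  obtain ⟨g, hg⟩ := MulAction.exists_smul_eq ↥(D.group F) Q P
  set E1 := E.map (MulAut.conj g).toMonoidHom with hE1def
  have hE1 : IsDefectGroup p M B E1 := isDefectGroup_conj hE g
  have hcard1 : Nat.card E1 = Nat.card E :=
    Subgroup.card_map_of_injective (MulAut.conj g).injective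
  have hE1U : E1 ≤ (D.posUnipotent F).subgroupOf (D.group F) := by
    rintro _ ⟨e, he, rfl⟩
    have : MulAut.conj g e ∈ ((g • Q : Sylow p ↥(D.group F)) : Subgroup ↥(D.group F)) := by
      exact Subgroup.smul_mem_pointwise_smul _ _ _ (hQ he)
    rw [hg] at this
    simpa [P] using this
  obtain ⟨b, J, hb, hJ⟩ := Φ.defect_standard hM hB hE1 hE1U
  set E0 := E1.map (MulAut.conj b⁻¹).toMonoidHom with hE0def
  have hE0 : IsDefectGroup p M B E0 := isDefectGroup_conj hE1 b⁻¹
  have hcard0 : Nat.card E0 = Nat.card E :=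
    (Subgroup.card_map_of_injective (MulAut.conj b⁻¹).injective).trans hcard1
  have hE0eq : E0 = Φ.Std F J := by
    ext y
    rw [hE0def, Subgroup.mem_map_equiv, MulAut.conj_symm_apply, inv_inv, hJ,
      show b⁻¹ * (b * y * b⁻¹) * b = y by group]
  rcases J.eq_empty_or_nonempty with hJe | hJne
  · left
    have hbot : Φ.Std F J = ⊥ := by
      rw [Subgroup.eq_bot_iff_forall]
      intro y hy
      have h1 : (y : GL D.Idx F) ∈ Φ.US F (fun r => Φ.toTables.Pos r ∧ Φ.Sub J r) := hy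
      have h2 : Φ.US F (fun r => Φ.toTables.Pos r ∧ Φ.Sub J r) = ⊥ := by
        rw [US, Subgroup.closure_eq_bot_iff]
        rintro _ ⟨r, t, ⟨hr, hs⟩, rfl⟩
        have := (Φ.out_iff_pos_and_not_sub (J := J) (r := r)).1 (hJe ▸ Φ.out_empty_iff.2 hr)
        exact absurd hs this.2
      rw [h2, Subgroup.mem_bot] at h1
      exact Subtype.ext h1
    apply Subgroup.eq_bot_of_card_eq
    rw [← hcard0, hE0eq, hbot, Subgroup.card_bot]
  by_cases hJu : J = Set.univ
  · right
    rw [← hcard0, hE0eq, ← Φ.card_U_sub p]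
    congr 2
    refine le_antisymm (Φ.Std_le J) fun y hy => ?_
    rw [Std, Subgroup.mem_subgroupOf]
    have hy' : (y : GL D.Idx F) ∈ D.posUnipotent F := hy
    rw [Φ.posUnipotent_eq_US] at hy'
    exact Φ.US_mono (fun r hr => ⟨hr, fun j hj => absurd (hJu ▸ Set.mem_univ j) hj⟩) hy'
  exfalso
  obtain ⟨i, k, hi, hk, hA⟩ := Φ.exists_edge hc hJne hJu
  have hik : i ≠ k := fun h => hk (h ▸ hi)
  let s : ↥(D.group F) := ⟨Φ.nw (Φ.p k) 1, Φ.nw_mem_group _ _⟩
  set E2 := E0.map (MulAut.conj s).toMonoidHom with hE2def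
  have hE2 : IsDefectGroup p M B E2 := isDefectGroup_conj hE0 s
  have hE2k : ∀ y : ↥(D.group F), y ∈ E2 → (y : GL D.Idx F) ∈ Φ.US F (Φ.PosNe k) := by
    intro y hy
    rw [hE2def, hE0eq] at hy
    obtain ⟨e, he, rfl⟩ := hy
    refine Φ.nw_conj_posNe k (Φ.US_mono (fun r hr => ⟨hr.1, ?_⟩) he)
    rintro rfl
    exact hk (Φ.sub_p.1 hr.2)
  have hE2U : E2 ≤ (D.posUnipotent F).subgroupOf (D.group F) := fun y hy => Φ.posNe_le_U (hE2k y hy)
  obtain ⟨c, J1, hcB, hJ1⟩ := Φ.defect_standard hM hB hE2 hE2U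
  set m := Φ.refl k (Φ.p i) with hm
  have hmk : 0 < Φ.V m k := by
    rw [hm, Φ.V_refl, if_pos rfl, Φ.V_p, if_neg hik]
    have := Φ.A_p_nonpos (i := k) (j := i) hik
    omega
  have hmpos : Φ.toTables.Pos m := (Φ.refl_pos (Φ.p_pos i) (fun e => hik ?_)).1
  swap
  · have h1 := congrArg (fun r => Φ.V r i) e
    simp only [Φ.V_p] at h1
    by_contra hne
    simp [Ne.symm hne] at h1
  obtain ⟨a, ha, haM⟩ : ∃ a : F, a ≠ 0 ∧
      (c : GL D.Idx F)⁻¹ * Φ.toAlg.xg m a * c ∈ Φ.US F (fun r => Φ.toTables.Pos r ∧ Φ.Sub J1 r) := by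
    refine ⟨(Φ.eta k (Φ.p i) : F) * 1, ?_, ?_⟩
    · rcases Φ.eta_unit k (Φ.p i) with h | h <;> simp [h]
    · let y0 : ↥(D.group F) := ⟨Φ.toAlg.xg (Φ.p i) 1, Φ.toAlg.xg_mem_group _ _⟩
      have hy0 : y0 ∈ E0 := by
        rw [hE0eq]
        exact Φ.xg_mem_US (S := fun r => Φ.toTables.Pos r ∧ Φ.Sub J r) ⟨Φ.p_pos i, Φ.sub_p.2 hi⟩ _
      have h1 : c⁻¹ * (s * y0 * s⁻¹) * c ∈ Φ.Std F J1 := (hJ1 _).1 ⟨y0, hy0, rfl⟩
      have h2 : ((s * y0 * s⁻¹ : ↥(D.group F)) : GL D.Idx F) =
          Φ.toAlg.xg m ((Φ.eta k (Φ.p i) : F) * 1) := by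
        show Φ.nw (Φ.p k) 1 * Φ.toAlg.xg (Φ.p i) 1 * (Φ.nw (Φ.p k) 1)⁻¹ = _
        rw [Φ.nw_conj_xg, mul_inv_cancel_right]
      rw [← h2]
      exact h1
  set Jn : Set ℕ := {n | ∃ j ∈ J1, j.val = n} with hJn
  have hnat : natSet Jn = J1 := by
    ext j
    exact ⟨fun ⟨j', hj', e⟩ => Fin.ext e ▸ hj', fun h => ⟨j, h, rfl⟩⟩
  have hsubm : Φ.Sub J1 m := by
    by_contra hns
    have hrad : (c : GL D.Idx F)⁻¹ * Φ.toAlg.xg m a * c ∈ D.unipotentRadical F Jn := by
      have h1 : Φ.toAlg.xg m a ∈ D.unipotentRadical F Jn := by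
        rw [Φ.unipotentRadical_eq, hnat]
        exact Φ.xg_mem_US (Φ.out_iff_pos_and_not_sub.2 ⟨hmpos, hns⟩) a
      exact (Subgroup.mem_normalizer_iff''.1
        (Φ.parabolic_le_normalizer Jn (Subgroup.mem_sup_left hcB)) _).1 h1
    have hlevi : (c : GL D.Idx F)⁻¹ * Φ.toAlg.xg m a * c ∈ D.leviSubgroup F Jn := by
      rw [Φ.leviSubgroup_eq, hnat]
      exact Subgroup.mem_sup_right (Φ.US_mono (fun r hr => hr.2) haM)
    have h0 := Subgroup.mem_inf.2 ⟨hrad, hlevi⟩
    rw [Φ.unipotentRadical_inf_levi, Subgroup.mem_bot] at h0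
    refine ha ((Φ.toAlg.xg_eq_one_iff (r := m)).1 ?_)
    rw [show Φ.toAlg.xg m a = (c : GL D.Idx F) * ((c : GL D.Idx F)⁻¹ * Φ.toAlg.xg m a * c) *
      (c : GL D.Idx F)⁻¹ by group, h0]
    group
  have hkJ1 : k ∈ J1 := by
    by_contra h
    have := hsubm k h
    omega
  have hxk : Φ.toAlg.xg (Φ.p k) (1 : F) ∈ Φ.US F (Φ.PosNe k) := by
    let y1 : ↥(D.group F) := c * ⟨Φ.toAlg.xg (Φ.p k) 1, Φ.toAlg.xg_mem_group _ _⟩ * c⁻¹
    have hy1 : y1 ∈ E2 := by
      rw [hJ1, show c⁻¹ * y1 * c = ⟨Φ.toAlg.xg (Φ.p k) 1, Φ.toAlg.xg_mem_group _ _⟩ by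
        simp [y1, mul_assoc]]
      exact Φ.xg_mem_US (S := fun r => Φ.toTables.Pos r ∧ Φ.Sub J1 r) ⟨Φ.p_pos k, Φ.sub_p.2 hkJ1⟩ _
    have h1 : (c : GL D.Idx F) * Φ.toAlg.xg (Φ.p k) 1 * (c : GL D.Idx F)⁻¹ ∈ Φ.US F (Φ.PosNe k) :=
      hE2k y1 hy1
    have hPN : Φ.US F (Φ.PosNe k) = D.unipotentRadical F {k.val} := by
      rw [Φ.unipotentRadical_eq, show natSet ({k.val} : Set ℕ) = ({k} : Set (Fin D.rank)) from
        Set.ext fun j => by simp [natSet, Fin.ext_iff]]
      exact le_antisymm (Φ.US_mono fun r hr => Φ.out_singleton_iff.2 hr)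
        (Φ.US_mono fun r hr => Φ.out_singleton_iff.1 hr)
    rw [hPN] at h1 ⊢
    exact (Subgroup.mem_normalizer_iff.1
      (Φ.parabolic_le_normalizer {k.val} (Subgroup.mem_sup_left hcB)) _).2 h1
  have h1 := Φ.nw_conj_posNe k hxk
  rw [Φ.nw_conj_xg, mul_inv_cancel_right, Φ.refl_p] at h1
  have h3 : Φ.toAlg.xg (Φ.p k).rev ((Φ.eta k (Φ.p k) : F) * 1) ∈
      D.borelSubgroup F ⊓ D.negUnipotent F :=
    ⟨U_le_B (Φ.posNe_le_U h1), Φ.xg_mem_V (by rw [Φ.pos_rev_iff]; simpa using Φ.p_pos k) _⟩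
  rw [Φ.B_inf_V, Subgroup.mem_bot, Φ.toAlg.xg_eq_one_iff, mul_one] at h3
  rcases Φ.eta_unit k (Φ.p k) with e' | e' <;> simp [e'] at h3

include Φ in
theorem centralizer_U_le {g : GL D.Idx F} (hg : g ∈ D.group F)
    (hc : ∀ u ∈ D.posUnipotent F, u * g = g * u) : g ∈ D.posUnipotent F := by
  have hgB : g ∈ D.borelSubgroup F := by
    have h1 : g ∈ Subgroup.normalizer (D.unipotentRadical F (∅ : Set ℕ) : Set (GL D.Idx F)) ⊓ D.group F := by
      have hU : D.unipotentRadical F (∅ : Set ℕ) = D.posUnipotent F := by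
        rw [Φ.unipotentRadical_eq, Φ.posUnipotent_eq_US,
          show natSet (∅ : Set ℕ) = (∅ : Set (Fin D.rank)) from Set.ext fun j => by simp [natSet]]
        exact le_antisymm (Φ.US_mono fun r hr => Φ.out_empty_iff.1 hr)
          (Φ.US_mono fun r hr => Φ.out_empty_iff.2 hr)
      refine Subgroup.mem_inf.2 ⟨?_, hg⟩
      rw [hU, Subgroup.mem_normalizer_iff]
      intro u
      constructor
      · intro hu
        rwa [← hc u hu, mul_inv_cancel_right]
      · intro hu
        have h2 := hc _ hu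
        rw [inv_mul_cancel_right] at h2
        have : g * u * g⁻¹ = u := mul_left_cancel (h2.symm)
        rwa [this] at hu
    rw [Φ.normalizer_unipotentRadical, Φ.parabolicSubgroup_eq] at h1
    simpa using h1
  obtain ⟨v, hv, h, hh, rfl⟩ := Φ.mem_B_iff.1 hgB
  obtain ⟨d, rfl⟩ := Φ.exists_torus_of_mem_H hh
  have hchi : ∀ r, Φ.toSys.chi d r = 1 := by
    intro r
    by_cases hr : Φ.toTables.Pos r
    · exact Φ.chi_eq_one_of_commute hv d hr (hc _ (Φ.xg_mem_U hr 1)).symm
    · have h2 := Φ.chi_eq_one_of_commute hv d ((Φ.pos_rev_iff r).2 hr)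
        (hc _ (Φ.xg_mem_U ((Φ.pos_rev_iff r).2 hr) 1)).symm
      rwa [Φ.toSys.chi_neg, inv_eq_one] at h2
  have : Φ.toAlg.torus d = 1 := by
    apply Units.ext
    rw [Φ.toAlg.torus_val, Sys.torusMat, Units.val_one, ← Matrix.diagonal_one]
    congr 1
    funext y
    rcases y with j | r <;> simp [Sys.chiIdx, hchi]
  rwa [this, mul_one]

include Φ in
/-- There are exactly two blocks: the Steinberg block and one of full defect. -/
theorem card_blocks_eq_two (hc : connCert D = true) (hM : IsPModular p M) :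
    Nat.card {B : Set (IrrCharacter ↥(D.group F)) // IsPBlock M B} = 2 := by
  classical
  have hp : p.Prime := Fact.out
  set N := (Nat.card ↥(D.group F)).factorization p with hN
  obtain ⟨m, k, hpm, hk, hcard⟩ := Φ.card_group_split (F := F) p
  have hm0 : m ≠ 0 := fun h => hpm (h ▸ dvd_zero p)
  have hfac : N = k * (D.nroots / 2) := by
    rw [hN, hcard, hk, ← pow_mul, Nat.factorization_mul (pow_ne_zero _ hp.ne_zero) hm0, hp.factorization_pow]
    simp [Nat.factorization_eq_zero_of_not_dvd hpm]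
  have hrank : 0 < D.rank := by
    simp only [connCert, Bool.and_eq_true, decide_eq_true_eq] at hc
    exact hc.1
  have hNpos : 0 < N := by
    rw [hfac]
    refine Nat.mul_pos (Nat.pos_of_ne_zero fun h => ?_) ?_
    · have : 1 < Nat.card F := Finite.one_lt_card
      simp [hk, h] at this
    · rw [← Φ.card_pos]
      haveI : Nonempty {r : Fin D.nroots // Φ.toTables.Pos r} := ⟨⟨Φ.p ⟨0, hrank⟩, Φ.p_pos _⟩⟩
      exact Nat.card_pos
  set St : IrrCharacter ↥(D.group F) := ⟨_, Φ.steinberg_irr⟩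
  have hSt : IsDefZero p St := by
    show (charDegree (D.steinbergCharacter F)).factorization p = N
    have h1 : D.steinbergCharacter F 1 = ((p ^ (k * (D.nroots / 2)) : ℕ) : ℂ) := by
      rw [Φ.steinberg_one, hk]; push_cast; rw [← pow_mul]
    have : charDegree (D.steinbergCharacter F) = p ^ (k * (D.nroots / 2)) := by
      rw [charDegree, h1, Complex.natCast_re, Nat.floor_natCast]
    rw [this, hp.factorization_pow, hfac]
    simp
  haveI : Fintype F := Fintype.ofFinite F
  have huniq : ∀ χ ψ : IrrCharacter ↥(D.group F), IsDefZero p χ → IsDefZero p ψ → χ = ψ := fun χ ψ h h' =>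
    CfsgLib.DefectZeroBN.defZero_unique (Φ.defectDatum F p) χ ψ h h'
  have hfz : ∀ B : Set (IrrCharacter ↥(D.group F)), IsPBlock M B →
      N ≤ blockDefect p B ∨ B = {St} := by
    intro B hB
    obtain ⟨E, hE⟩ := exists_defectGroup hM hB
    have h := card_defectGroup hM hB hE
    rcases Φ.defect_dichotomy hc hM hB hE with h1 | h1
    · right
      have h0 : blockDefect p B = 0 := by
        rw [h1, Subgroup.card_bot] at h
        exact (Nat.pow_eq_one.1 h.symm).resolve_left hp.ne_one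
      obtain ⟨χ, hχ, hdv⟩ := exists_height_zero hM hB
      have hle := minDv_le_card hM hB
      rw [blockDefect_eq] at h0
      have hfull : dv p (χ : ↥(D.group F) → ℂ) = N := by omega
      rw [(eq_blockOf hM hB hχ).trans ((defect_zero_iff hM χ).1 hfull), huniq χ St hfull hSt]
    · left
      rw [h1] at h
      exact le_of_eq (Nat.pow_right_injective hp.two_le h)
  have hfull_le : Nat.card {B : Set (IrrCharacter ↥(D.group F)) // IsPBlock M B ∧ N ≤ blockDefect p B} ≤ 1 := by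
    refine (InducedChar.card_blocks_le_classes hM N).trans ?_
    rw [Finite.card_le_one_iff_subsingleton]
    refine ⟨?_⟩
    suffices h : ∀ g : ↥(D.group F), IsPRegular p g →
        N ≤ (Nat.card (Subgroup.centralizer ({g} : Set ↥(D.group F)))).factorization p → g = 1 by
      rintro ⟨C, g, hg, hr, hd⟩ ⟨C', g', hg', hr', hd'⟩
      refine Subtype.ext ?_
      show C = C'
      rw [← hg, ← hg', h g hr hd, h g' hr' hd']
    intro g hreg hd
    let P : Sylow p ↥(D.group F) := Sylow.ofCard _ (Φ.card_U_sub p)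
    obtain ⟨S⟩ := (inferInstance : Nonempty (Sylow p (Subgroup.centralizer ({g} : Set ↥(D.group F)))))
    obtain ⟨Q, hQ⟩ := (S.2.map (Subgroup.centralizer ({g} : Set ↥(D.group F))).subtype).exists_le_sylow
    have heq : (S : Subgroup _).map (Subgroup.centralizer ({g} : Set ↥(D.group F))).subtype =
        (Q : Subgroup ↥(D.group F)) := by
      refine Subgroup.eq_of_le_of_card_ge hQ ?_
      rw [Subgroup.card_map_of_injective (Subgroup.subtype_injective _),
        Sylow.card_eq_multiplicity S, Sylow.card_eq_multiplicity Q]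
      exact Nat.pow_le_pow_right hp.pos hd
    obtain ⟨t, ht⟩ := MulAction.exists_smul_eq ↥(D.group F) Q P
    set g' := t * g * t⁻¹ with hg'
    have hc' : ∀ u ∈ D.posUnipotent F, u * (g' : GL D.Idx F) = (g' : GL D.Idx F) * u := by
      intro u hu
      let u' : ↥(D.group F) := ⟨u, Φ.B_le_group (U_le_B hu)⟩
      have h1 : u' ∈ ((t • Q : Sylow p ↥(D.group F)) : Subgroup ↥(D.group F)) := by
        rw [ht]; exact hu
      replace h1 : u' ∈ MulAut.conj t • (Q : Subgroup ↥(D.group F)) := h1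
      rw [Subgroup.mem_pointwise_smul_iff_inv_smul_mem] at h1
      have h2 : t⁻¹ * u' * t ∈ (Q : Subgroup ↥(D.group F)) := by simpa [mul_assoc] using h1
      rw [← heq] at h2
      obtain ⟨r, -, hr⟩ := h2
      have h3 := Subgroup.mem_centralizer_singleton_iff.1 r.2
      rw [show (r : ↥(D.group F)) = t⁻¹ * u' * t from hr] at h3
      have h4 : u' * g' = g' * u' := by
        calc u' * g' = t * ((t⁻¹ * u' * t) * g) * t⁻¹ := by rw [hg']; group
          _ = _ := by rw [h3, hg']; group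
      exact congrArg Subtype.val h4
    have hgU : g' ∈ (D.posUnipotent F).subgroupOf (D.group F) := Φ.centralizer_U_le g'.2 hc'
    obtain ⟨j, hj⟩ := Φ.isPGroup_U_sub p ⟨g', hgU⟩
    have hj' : g' ^ p ^ j = 1 := congrArg Subtype.val hj
    have hord : orderOf g' = orderOf g := orderOf_injective (MulAut.conj t).toMonoidHom
      (MulAut.conj t).injective g
    have h1 : orderOf g' = 1 :=
      Nat.eq_one_of_dvd_coprimes (Nat.Coprime.pow_left j (hp.coprime_iff_not_dvd.2 (hord ▸ hreg)))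
        (orderOf_dvd_of_pow_eq_one hj') dvd_rfl
    rw [orderOf_eq_one_iff, hg', conj_eq_one_iff] at h1
    exact h1
  have hblSt : blockOf M (St : ↥(D.group F) → ℂ) = {St} := (defect_zero_iff hM St).1 hSt
  refine le_antisymm ?_ ?_
  · let f : {B : Set (IrrCharacter ↥(D.group F)) // IsPBlock M B} →
        Option {B : Set (IrrCharacter ↥(D.group F)) // IsPBlock M B ∧ N ≤ blockDefect p B} :=
      fun B => if h : N ≤ blockDefect p B.1 then some ⟨B.1, B.2, h⟩ else none
    have hf : Function.Injective f := by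
      rintro ⟨B, hB⟩ ⟨B', hB'⟩ h
      simp only [f] at h
      split_ifs at h with h1 h2
      · exact Subtype.ext (congrArg Subtype.val (Option.some.inj h) :)
      · refine Subtype.ext ?_
        show B = B'
        rw [(hfz B hB).resolve_left h1, (hfz B' hB').resolve_left (by assumption)]
    refine (Nat.card_le_card_of_injective f hf).trans ?_
    rw [Finite.card_option]
    omega
  · let f : Fin 2 → {B : Set (IrrCharacter ↥(D.group F)) // IsPBlock M B} :=
      ![⟨_, blockOf_isPBlock St⟩, ⟨_, blockOf_isPBlock (oneIrr ↥(D.group F))⟩]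
    have hne : blockOf M (oneIrr ↥(D.group F) : ↥(D.group F) → ℂ) ≠
        blockOf M (St : ↥(D.group F) → ℂ) := by
      intro h
      have h1 := mem_blockOf_self hM (oneIrr ↥(D.group F))
      rw [h, hblSt, Set.mem_singleton_iff] at h1
      have h2 : IsDefZero p (oneIrr ↥(D.group F)) := h1 ▸ hSt
      have hd1 : charDegree (oneIrr ↥(D.group F) : ↥(D.group F) → ℂ) = 1 := by simp [charDegree, oneIrr]
      rw [IsDefZero, hd1, Nat.factorization_one] at h2
      have : N = 0 := by simpa [hN] using h2.symm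
      omega
    have hf : Function.Injective f := by
      intro a a' h
      fin_cases a <;> fin_cases a' <;> first
        | rfl
        | exact absurd (congrArg Subtype.val h).symm hne
        | exact absurd (congrArg Subtype.val h) hne
    simpa using Nat.card_le_card_of_injective f hf

end finite

end Chev

end CfsgLib.Chev
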