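/-
The sets of roots `i r + j s` with `i, j ≥ 1`, the pairing of coroots with roots, generic facts on central extensions.
-/
import Cfsg.Agent.Lib.Chev.SteinbergCover
import Cfsg.Agent.Lib.Chev.SteinbergData

open scoped commutatorElement

namespace CfsgLib.CentralComm

variable {E G : Type*} [Group E] [Group G] {π : E →* G} (hc : π.ker ≤ Subgroup.center E)
include hc

theorem ker_commute {z : E} (hz : π z = 1) (g : E) : Commute g z :=
  Subgroup.mem_center_iff.mp (hc hz) g

theorem exists_ker {a a' : E} (h : π a = π a') : ∃ z, π z = 1 ∧ a = a' * z :=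
  ⟨a'⁻¹ * a, by rw [map_mul, map_inv, h, inv_mul_cancel], by group⟩

/-- Commutators depend only on the images. -/
theorem comm_congr {a a' b b' : E} (ha : π a = π a') (hb : π b = π b') : ⁅a, b⁆ = ⁅a', b'⁆ := by
  obtain ⟨z, hz, rfl⟩ := exists_ker hc ha
  obtain ⟨w, hw, rfl⟩ := exists_ker hc hb
  have zc := fun g => (ker_commute hc hz g).eq
  have wc := fun g => (ker_commute hc hw g).eq
  simp only [commutatorElement_def]
  calc a' * z * (b' * w) * (a' * z)⁻¹ * (b' * w)⁻¹
      = a' * (z * (b' * w)) * z⁻¹ * a'⁻¹ * (w⁻¹ * b'⁻¹) := by group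
    _ = a' * ((b' * w) * z) * z⁻¹ * a'⁻¹ * (w⁻¹ * b'⁻¹) := by rw [← zc]
    _ = a' * b' * (w * a'⁻¹) * w⁻¹ * b'⁻¹ := by group
    _ = a' * b' * (a'⁻¹ * w) * w⁻¹ * b'⁻¹ := by rw [← wc]
    _ = a' * b' * a'⁻¹ * b'⁻¹ := by group

/-- A commutator of elements with commuting images is fixed by conjugation. -/
theorem conj_comm {a b : E} (h : Commute (π a) (π b)) (g : E) : ⁅g * a * g⁻¹, g * b * g⁻¹⁆ = ⁅a, b⁆ := by
  have hk : π ⁅a, b⁆ = 1 := by rw [map_commutatorElement, commutatorElement_eq_one_iff_commute]; exact h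
  rw [show ⁅g * a * g⁻¹, g * b * g⁻¹⁆ = g * ⁅a, b⁆ * g⁻¹ by simp only [commutatorElement_def]; group,
    (ker_commute hc hk g).eq, mul_inv_cancel_right]

theorem comm_mul_right {a b c : E} (h : Commute (π a) (π c)) : ⁅a, b * c⁆ = ⁅a, b⁆ * ⁅a, c⁆ := by
  have hk : π ⁅a, c⁆ = 1 := by rw [map_commutatorElement, commutatorElement_eq_one_iff_commute]; exact h
  rw [show ⁅a, b * c⁆ = ⁅a, b⁆ * (b * ⁅a, c⁆ * b⁻¹) by simp only [commutatorElement_def]; group,
    (ker_commute hc hk b).eq, mul_inv_cancel_right]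

theorem comm_mul_left {a b c : E} (h : Commute (π b) (π c)) : ⁅a * b, c⁆ = ⁅a, c⁆ * ⁅b, c⁆ := by
  have hk : π ⁅b, c⁆ = 1 := by rw [map_commutatorElement, commutatorElement_eq_one_iff_commute]; exact h
  rw [show ⁅a * b, c⁆ = (a * ⁅b, c⁆ * a⁻¹) * ⁅a, c⁆ by simp only [commutatorElement_def]; group,
    (ker_commute hc hk a).eq, mul_inv_cancel_right, (ker_commute hc hk ⁅a, c⁆).eq]

/-- Preimages of central elements of a perfect group are central. -/
theorem mem_center_of_perfect (hπ : Function.Surjective π) (hG : commutator G = ⊤) {z : E}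
    (hz : π z ∈ Subgroup.center G) : z ∈ Subgroup.center E := by
  have hcomm : ∀ g : E, Commute (π z) (π g) := fun g => (Subgroup.mem_center_iff.mp hz (π g)).symm
  set S : Subgroup G :=
    { carrier := {g | ∀ e, π e = g → ⁅z, e⁆ = 1}
      one_mem' := fun e he => by
        rw [comm_congr hc rfl (show π e = π 1 by rw [he, map_one]), commutatorElement_one_right]
      mul_mem' := fun {a b} ha hb e he => by
        obtain ⟨a', rfl⟩ := hπ a
        obtain ⟨b', rfl⟩ := hπ b
        rw [comm_congr hc rfl (show π e = π (a' * b') by rw [he, map_mul]), comm_mul_right hc (hcomm b'),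
          ha a' rfl, hb b' rfl, one_mul]
      inv_mem' := fun {a} ha e he => by
        obtain ⟨a', rfl⟩ := hπ a
        have h1 := comm_mul_right hc (b := a') (c := e) (hcomm e) (a := z)
        rw [comm_congr hc rfl (show π (a' * e) = π 1 by rw [map_mul, he, mul_inv_cancel, map_one]),
          commutatorElement_one_right, ha a' rfl, one_mul] at h1
        exact h1.symm } with hS
  have hle : commutator G ≤ S := by
    rw [commutator_def, Subgroup.commutator_le]
    intro a _ b _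
    show ∀ e, π e = ⁅a, b⁆ → ⁅z, e⁆ = 1
    intro e he
    obtain ⟨a', rfl⟩ := hπ a
    obtain ⟨b', rfl⟩ := hπ b
    rw [← map_commutatorElement] at he
    rw [comm_congr hc rfl he, commutatorElement_eq_one_iff_commute]
    have hza : ∀ g : E, z * g * z⁻¹ = ⁅z, g⁆ * g := fun g => by rw [commutatorElement_def]; group
    have hk : ∀ g : E, π ⁅z, g⁆ = 1 := fun g => by
      rw [map_commutatorElement, commutatorElement_eq_one_iff_commute]; exact hcomm g
    have : ⁅z * a' * z⁻¹, z * b' * z⁻¹⁆ = ⁅a', b'⁆ :=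
      comm_congr hc (by rw [hza, map_mul, hk, one_mul]) (by rw [hza, map_mul, hk, one_mul])
    rw [show ⁅z * a' * z⁻¹, z * b' * z⁻¹⁆ = z * ⁅a', b'⁆ * z⁻¹ by simp only [commutatorElement_def]; group,
      mul_inv_eq_iff_eq_mul] at this
    exact this
  rw [hG] at hle
  rw [Subgroup.mem_center_iff]
  intro g
  exact (commutatorElement_eq_one_iff_commute.mp (hle (Subgroup.mem_top (π g)) g rfl)).eq.symm

omit hc in
/-- A map additive in the first variable and invariant under a scaling of it is trivial. -/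
theorem kill_scale {F : Type*} [Field F] {f : F → F → E}
    (hadd : ∀ a b u, f (a + b) u = f a u * f b u) {c : F} (hc1 : c ≠ 1)
    (hinv : ∀ t u, f (c * t) u = f t u) (t u : F) : f t u = 1 := by
  have h1 : c - 1 ≠ 0 := sub_ne_zero.mpr hc1
  have h := hadd t (c * (t / (c - 1)) - t / (c - 1) - t) u
  have key : ∀ v, f (c * v - v) u = 1 := fun v => by
    have := hadd (c * v - v) v u
    rw [sub_add_cancel, hinv] at this
    exact mul_eq_right.mp this.symm
  have := key (t / (c - 1))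
  rwa [show c * (t / (c - 1)) - t / (c - 1) = t by field_simp] at this

omit hc in
/-- A biadditive map invariant under all diagonal scalings is trivial over fields with more than four elements. -/
theorem kill_diag {F : Type*} [Field F] {f : F → F → E}
    (hl : ∀ a b u, f (a + b) u = f a u * f b u) (hr : ∀ t a b, f t (a + b) = f t a * f t b)
    (hcc : ∀ a b t u, Commute (f a b) (f t u))
    (hinv : ∀ a : F, a ≠ 0 → ∀ t u, f (a * t) (a * u) = f t u)
    {a : F} (ha : a ≠ 0) (ha1 : a + 1 ≠ 0) (ha2 : 1 + a + a * a ≠ 0) (t u : F) : f t u = 1 := by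
  have key : ∀ v, f (a * t) v * f t (a * v) * f t v = 1 := fun v => by
    have h := hinv (a + 1) ha1 t v
    rw [add_one_mul, add_one_mul, hl, hr, hr, hinv a ha] at h
    rw [mul_assoc] at h
    have h2 := mul_eq_left.mp h
    rw [mul_assoc]; exact h2
  set v := u / (1 + a + a * a) with hv
  have h2 := key (a * v)
  rw [hinv a ha] at h2
  rw [show u = v + a * (a * v) + a * v by linear_combination -(div_mul_cancel₀ u ha2), hr, hr]
  exact h2

end CfsgLib.CentralComm

namespace CfsgLib.Chev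

open Cfsg.Lie Matrix

set_option linter.dupNamespace false

variable {D : ChevalleyDatum}

namespace Chev

variable (Φ : Chev D) {F : Type*} [Field F]

/-- The roots `i r + j s` with `i, j ≥ 1`. -/
def Between (r s k : Fin D.nroots) : Prop :=
  ∃ i j : ℤ, 1 ≤ i ∧ 1 ≤ j ∧ ∀ m, Φ.V k m = i * Φ.V r m + j * Φ.V s m

theorem between_closed (r s : Fin D.nroots) : Φ.Closed (Φ.Between r s) := by
  rintro x y ⟨i, j, hi, hj, hx⟩ ⟨i', j', hi', hj', hy⟩ hN
  exact ⟨i + i', j + j', by omega, by omega, fun m => by rw [Φ.V_add x y hN, hx, hy]; ring⟩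

theorem between_of_mem_commTerms {r s : Fin D.nroots} {c : ℕ × ℤ × ℕ × ℕ}
    (hc : c ∈ D.commTerms r.val s.val) : ∃ h : c.1 < D.nroots, Φ.Between r s ⟨c.1, h⟩ := by
  refine Φ.commTerms_mem (fun hN => ⟨1, 1, le_rfl, le_rfl, fun m => by rw [Φ.V_add r s hN]; ring⟩) ?_ ?_ hc
  · rintro x ⟨i, j, hi, hj, hx⟩ hN
    exact ⟨i + 1, j, by omega, hj, fun m => by rw [Φ.V_add r x hN, hx]; ring⟩
  · rintro x ⟨i, j, hi, hj, hx⟩ hN
    exact ⟨i, j + 1, hi, by omega, fun m => by rw [Φ.V_add s x hN, hx]; ring⟩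

theorem code_W_lin {π : Equiv.Perm (Fin D.nroots)} (hπ : π ∈ Φ.W) {r s k : Fin D.nroots} {i j : ℤ}
    (h : ∀ m, Φ.V k m = i * Φ.V r m + j * Φ.V s m) :
    Φ.toTables.code (π k) = i * Φ.toTables.code (π r) + j * Φ.toTables.code (π s) := by
  simp only [Tables.code, Finset.mul_sum, ← Finset.sum_add_distrib]
  refine Finset.sum_congr rfl fun m _ => ?_
  rw [Φ.W_lin hπ k, Φ.W_lin hπ r, Φ.W_lin hπ s]
  simp only [h, Finset.sum_mul, Finset.mul_sum, ← Finset.sum_add_distrib]
  exact Finset.sum_congr rfl fun _ _ => by ring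

theorem exists_pos_pair {r s : Fin D.nroots} (hneg : s ≠ r.rev) :
    ∃ π ∈ Φ.W, Φ.toTables.Pos (π r) ∧ Φ.toTables.Pos (π s) := by
  obtain ⟨π, hπ, i, hi⟩ := Φ.exists_to_simple r
  obtain ⟨w, hw, hlong⟩ := Φ.exists_longest
  by_cases hs : Φ.toTables.Pos (π s)
  · exact ⟨π, hπ, by rw [hi]; exact Φ.p_pos i, hs⟩
  have hsi : Φ.reflPerm i ∈ Φ.W := Subgroup.subset_closure ⟨i, rfl⟩
  refine ⟨w * (Φ.reflPerm i * π), mul_mem hw (mul_mem hsi hπ), ?_, ?_⟩
  · rw [Equiv.Perm.mul_apply, Equiv.Perm.mul_apply, hlong, hi, Φ.reflPerm_apply, Φ.refl_p]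
    exact fun h => (Φ.pos_rev_iff _).mp h (Φ.p_pos i)
  · rw [Equiv.Perm.mul_apply, Equiv.Perm.mul_apply, hlong, Φ.reflPerm_apply]
    intro hp
    have hpr := (Φ.pos_rev_iff _).mpr hs
    have hne : (π s).rev ≠ Φ.p i := fun e => hneg (π.injective (by
      rw [Φ.W_rev hπ, hi, ← e, Fin.rev_rev]))
    have h2 := (Φ.refl_pos (i := i) hpr hne).1
    rw [Φ.refl_rev] at h2
    exact (Φ.pos_rev_iff _).mp h2 hp

/-- The pairing of the coroot of `w` with the root `r`. -/
def pr (w r : Fin D.nroots) : ℤ := ∑ k, Φ.C w k * Φ.A k r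

theorem pr_refl (i : Fin D.rank) (r s : Fin D.nroots) : Φ.pr (Φ.refl i r) (Φ.refl i s) = Φ.pr r s := by
  simp only [pr, Φ.C_refl, Φ.A_refl]
  set X := ∑ j, Φ.C r j * Φ.A j (Φ.p i) with hX
  have e : ∀ k, (Φ.C r k - if k = i then X else 0) * (Φ.A k s - Φ.A i s * Φ.A k (Φ.p i)) =
      Φ.C r k * Φ.A k s - Φ.A i s * (Φ.C r k * Φ.A k (Φ.p i)) -
        (if k = i then X * (Φ.A k s - Φ.A i s * Φ.A k (Φ.p i)) else 0) := fun k => by
    split_ifs <;> ring
  simp only [e, Finset.sum_sub_distrib, ← Finset.mul_sum, ← hX, Finset.sum_ite_eq', Finset.mem_univ, if_true]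
  rw [Φ.A_pp i]
  ring

end Chev

end CfsgLib.Chev
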