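/-
Lifting the root elements of the (R1),(R2)-presented group through a central extension.
-/
import Cfsg.Agent.Lib.Chev.CoverInterval

namespace CfsgLib.Chev

open Cfsg.Lie Matrix
open scoped commutatorElement
open CfsgLib (CentralComm.comm_congr)

set_option linter.dupNamespace false
set_option linter.unusedSimpArgs false

variable {D : ChevalleyDatum}

namespace Chev

variable (Φ : Chev D) {F : Type*} [Field F] {E : Type*} [Group E]

theorem cgh_conj (hadj : Φ.Adj) (w r : Fin D.nroots) (b : Fˣ) (t : F) :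
    Φ.cgh w b * Φ.cgx r t * (Φ.cgh w b)⁻¹ = Φ.cgx r (((b ^ Φ.pr w r : Fˣ) : F) * t) := by
  refine ((Φ.cnice_gn hadj w b).mul Φ (Φ.cnice_gn hadj w (-1))).2 _ _ _ _ ?_
  rw [show Φ.cgn w b * Φ.cgn w (-1) = Φ.cgh w b from rfl, Φ.cproj_gh, Φ.hw_eq, Φ.toAlg.torus_xg,
    mul_inv_cancel_right, Φ.chi_coChar]
  rfl

/-- The commutation relator holds for preimages `X` of the root elements. -/
def wordE (X : Fin D.nroots → F → E) (w : List (ℕ × F)) : E :=
  (w.map fun p => if h : p.1 < D.nroots then X ⟨p.1, h⟩ p.2 else 1).prod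

/-- A family of preimages of the root elements in a central extension of the presented group. -/
structure Lift (F : Type*) [Field F] (E : Type*) [Group E] where
  π : E →* D.SteinbergCover F
  surj : Function.Surjective π
  central : π.ker ≤ Subgroup.center E
  X : Fin D.nroots → F → E
  π_X : ∀ r t, π (X r t) = Φ.cgx r t

variable {Φ}

namespace Lift

variable (L : Φ.Lift F E)

/-- The defect of the commutation relator. -/
def defect (r s : Fin D.nroots) (t u : F) : E :=
  (L.X s u)⁻¹ * (L.X r t)⁻¹ * L.X s u * L.X r t * (wordE L.X (D.commWord F r.val s.val t u))⁻¹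

/-- The commutation relator holds exactly. -/
def Exact (r s : Fin D.nroots) : Prop := ∀ t u, L.defect r s t u = 1

/-- Additivity of the preimages. -/
def Additive : Prop := ∀ r a b, L.X r (a + b) = L.X r a * L.X r b

/-- The torus permutes the preimages as it does their images. -/
def Equivariant : Prop :=
  ∀ w (b : Fˣ) r t (g : E), L.π g = Φ.cgh w b →
    g * L.X r t * g⁻¹ = L.X r (((b ^ Φ.pr w r : Fˣ) : F) * t)

theorem π_wordE (w : List (ℕ × F)) :
    L.π (wordE L.X w) = PresentedGroup.mk (D.steinbergRelsAB F) (D.stWord w) := by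
  induction w with
  | nil => simp [wordE, ChevalleyDatum.stWord]
  | cons p w ih =>
    simp only [wordE, ChevalleyDatum.stWord, List.map_cons, List.prod_cons, map_mul] at ih ⊢
    rw [ih]
    congr 1
    by_cases h : p.1 < D.nroots
    · rw [dif_pos h, L.π_X]; rfl
    · simp [ChevalleyDatum.stX, h]

theorem π_defect {r s : Fin D.nroots} (h1 : s ≠ r) (h2 : s ≠ r.rev) (t u : F) :
    L.π (L.defect r s t u) = 1 := by
  simp only [defect, map_mul, map_inv, L.π_X, L.π_wordE]
  have h : PresentedGroup.mk (D.steinbergRelsAB F)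
      ((D.stX s.val u)⁻¹ * (D.stX r.val t)⁻¹ * D.stX s.val u * D.stX r.val t *
        (D.stWord (D.commWord F r.val s.val t u))⁻¹) = 1 :=
    PresentedGroup.one_of_mem (Or.inr ⟨r.val, s.val, t, u, r.isLt, s.isLt,
      fun e => h1 (Fin.ext e), fun e => h2 (Fin.ext (e.trans (Φ.negIdx_eq r))), rfl⟩)
  simpa only [map_mul, map_inv, cgx, ChevalleyDatum.scGen] using h

theorem defect_commute {r s : Fin D.nroots} (h1 : s ≠ r) (h2 : s ≠ r.rev) (t u : F) (g : E) :
    Commute g (L.defect r s t u) :=
  CentralComm.ker_commute L.central (L.π_defect h1 h2 t u) g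

theorem comm_eq (r s : Fin D.nroots) (t u : F) :
    (L.X s u)⁻¹ * (L.X r t)⁻¹ * L.X s u * L.X r t =
      L.defect r s t u * wordE L.X (D.commWord F r.val s.val t u) := by
  rw [defect]; group

variable (hadd : L.Additive)

/-- The subgroup generated by the preimages over a set of roots. -/
def sub (S : Fin D.nroots → Prop) : Subgroup E :=
  Subgroup.closure {g | ∃ r t, S r ∧ L.X r t = g}

theorem X_mem {S : Fin D.nroots → Prop} {r : Fin D.nroots} (h : S r) (t : F) : L.X r t ∈ L.sub S :=
  Subgroup.subset_closure ⟨r, t, h, rfl⟩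

theorem wordE_mem {S : Fin D.nroots → Prop} (w : List (ℕ × F))
    (h : ∀ p ∈ w, ∃ hp : p.1 < D.nroots, S ⟨p.1, hp⟩) : wordE L.X w ∈ L.sub S := by
  refine Subgroup.list_prod_mem _ fun g hg => ?_
  obtain ⟨p, hp, rfl⟩ := List.mem_map.mp hg
  obtain ⟨hlt, hS⟩ := h p hp
  rw [dif_pos hlt]
  exact L.X_mem hS _

theorem π_sub {S : Fin D.nroots → Prop} {g : E} (hg : g ∈ L.sub S) : L.π g ∈ Φ.cgUS F S := by
  have : L.sub S ≤ (Φ.cgUS F S).comap L.π := by
    rw [sub, Subgroup.closure_le]
    rintro _ ⟨r, t, hr, rfl⟩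
    show L.π (L.X r t) ∈ Φ.cgUS F S
    rw [L.π_X]
    exact Φ.cgx_mem_gUS hr t
  exact this hg

include hadd in
theorem X_zero (r : Fin D.nroots) : L.X r 0 = 1 := by
  have := hadd r 0 0
  rw [add_zero] at this
  exact mul_left_cancel (this.symm.trans (mul_one _).symm)

include hadd in
theorem X_neg (r : Fin D.nroots) (t : F) : L.X r (-t) = (L.X r t)⁻¹ :=
  eq_inv_of_mul_eq_one_left (by rw [← hadd, neg_add_cancel, L.X_zero hadd])

theorem wordE_conj_mem {S : Fin D.nroots → Prop} {g : E}
    (h : ∀ x, S x → ∀ v, g * L.X x v * g⁻¹ ∈ L.sub S) : ∀ y ∈ L.sub S, g * y * g⁻¹ ∈ L.sub S := by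
  have : L.sub S ≤ (L.sub S).comap (MulAut.conj g).toMonoidHom := by
    nth_rw 1 [sub]
    rw [Subgroup.closure_le]
    rintro _ ⟨r, t, hr, rfl⟩
    exact h r hr t
  exact fun y hy => this hy

include hadd in
/-- The preimages over a positive closed set generate a group mapping injectively, if the relators hold there. -/
theorem inj_of_exact {π : Equiv.Perm (Fin D.nroots)} (hπ : π ∈ Φ.W) {S : Fin D.nroots → Prop}
    (hcl : Φ.Closed S) (hpos : ∀ r, S r → Φ.toTables.Pos (π r))
    (hex : ∀ x y, S x → S y → x ≠ y → L.Exact x y) :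
    ∀ g ∈ L.sub S, L.π g = 1 → g = 1 := by
  classical
  induction hn : (Finset.univ.filter S).card using Nat.strong_induction_on generalizing S with
  | _ k ih =>
    by_cases hne : ∃ r, S r
    swap
    · intro g hg _
      have : L.sub S = ⊥ := by
        rw [eq_bot_iff, sub, Subgroup.closure_le]
        rintro _ ⟨r, t, hr, _⟩
        exact absurd ⟨r, hr⟩ hne
      rwa [this, Subgroup.mem_bot] at hg
    obtain ⟨a, ha, hmin⟩ := (Finset.univ.filter S).exists_min_image (fun r => Φ.toTables.code (π r))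
      (by obtain ⟨r, hr⟩ := hne; exact ⟨r, by simpa using hr⟩)
    simp only [Finset.mem_filter, Finset.mem_univ, true_and] at ha hmin
    set S' : Fin D.nroots → Prop := fun r => S r ∧ r ≠ a with hS'
    have hgt : ∀ r, S' r → Φ.toTables.code (π a) < Φ.toTables.code (π r) := fun r hr =>
      lt_of_le_of_ne (hmin r hr.1) fun e => hr.2 (π.injective (Φ.code_strictMono.injective e)).symm
    have hca := Φ.code_pos (hpos a ha)
    have hsum : ∀ x y, S x → S y → Φ.N x y ≠ 0 → S' (Φ.S x y) := fun x y hx hy hN => by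
      refine ⟨hcl x y hx hy hN, fun e => ?_⟩
      have := Φ.code_W_add hπ hN
      rw [e] at this
      have := hmin x hx; have := hmin y hy
      omega
    have hcl' : Φ.Closed S' := fun x y hx hy hN => hsum x y hx.1 hy.1 hN
    have hnorm : ∀ c, ∀ y ∈ L.sub S', L.X a c * y * (L.X a c)⁻¹ ∈ L.sub S' := fun c =>
      L.wordE_conj_mem fun s hs v => by
        have e := L.comm_eq a s (-c) v
        rw [hex a s ha hs.1 (Ne.symm hs.2) (-c) v, one_mul, L.X_neg hadd, inv_inv] at e
        have : L.X a c * L.X s v * (L.X a c)⁻¹ = L.X s v * wordE L.X (D.commWord F a.val s.val (-c) v) := by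
          rw [← e]; group
        rw [this]
        refine mul_mem (L.X_mem (S := S') hs v) (L.wordE_mem _ fun p hp => ?_)
        simp only [ChevalleyDatum.commWord, List.mem_map] at hp
        obtain ⟨d, hd, rfl⟩ := hp
        exact Φ.commTerms_mem (fun hN => hsum a s ha hs.1 hN) (fun x hx hN => hsum a x ha hx.1 hN)
          (fun x hx hN => hsum s x hs.1 hx.1 hN) hd
    have hdec : ∀ g ∈ L.sub S, ∃ c, ∃ y ∈ L.sub S', g = L.X a c * y := by
      intro g hg
      induction hg using Subgroup.closure_induction_left with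
      | one => exact ⟨0, 1, one_mem _, by rw [L.X_zero hadd, one_mul]⟩
      | mul_left x hx y _ ih' =>
        obtain ⟨r, t, hr, rfl⟩ := hx
        obtain ⟨c, y', hy', rfl⟩ := ih'
        by_cases hra : r = a
        · subst hra; exact ⟨t + c, y', hy', by rw [hadd, mul_assoc]⟩
        · have hz : (L.X a c)⁻¹ * L.X r t * L.X a c ∈ L.sub S' := by
            have := hnorm (-c) _ (L.X_mem (show S' r from ⟨hr, hra⟩) t)
            rwa [L.X_neg hadd, inv_inv] at this
          exact ⟨c, _, mul_mem hz hy', by group⟩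
      | inv_mul_cancel x hx y _ ih' =>
        obtain ⟨r, t, hr, rfl⟩ := hx
        obtain ⟨c, y', hy', rfl⟩ := ih'
        by_cases hra : r = a
        · subst hra; exact ⟨-t + c, y', hy', by rw [hadd, L.X_neg hadd, mul_assoc]⟩
        · have hz : (L.X a c)⁻¹ * (L.X r t)⁻¹ * L.X a c ∈ L.sub S' := by
            have := hnorm (-c) _ (inv_mem (L.X_mem (show S' r from ⟨hr, hra⟩) t))
            rwa [L.X_neg hadd, inv_inv] at this
          exact ⟨c, _, mul_mem hz hy', by group⟩
    intro g hg h1
    obtain ⟨c, y, hy, rfl⟩ := hdec g hg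
    rw [map_mul, L.π_X] at h1
    have h1' : Φ.toAlg.xg a c * Φ.cproj F (L.π y) = 1 := by
      rw [← Φ.cproj_gx, ← map_mul, h1, map_one]
    obtain ⟨n, hn', hm⟩ := Φ.exists_N_of_W (F := F) hπ
    have hc : c = 0 := by
      obtain ⟨k', hk', hconj, -⟩ := hm.1 a
      have hmem : Φ.toAlg.xg (π a) (k' * c) ∈ Φ.US F (fun x => Φ.toTables.code (π a) + 1 ≤ 1 * Φ.toTables.code x) := by
        rw [← hconj, eq_inv_of_mul_eq_one_left h1']
        refine Φ.map_US_le hm (S := S') (fun r hr => ?_) _ (inv_mem (Φ.cproj_mem_US (L.π_sub hy)))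
        have := hgt r hr; omega
      have h0 := Φ.eq_zero_of_xg_mem (b := Φ.toTables.code (π a) + 1) (by omega) (hpos a ha) (by omega)
        (Φ.US_le_raise 1 _ (by omega) (fun x hx => hx) hmem)
      exact (mul_eq_zero.mp h0).resolve_left hk'
    rw [hc, Φ.cgx_zero, one_mul] at h1
    have hy1 : y = 1 := by
      refine ih _ ?_ hcl' (fun r hr => hpos r hr.1) (fun x y hx hy => hex x y hx.1 hy.1) rfl y hy h1
      rw [← hn]
      refine Finset.card_lt_card ⟨fun r hr => ?_, fun h => ?_⟩
      · simp only [Finset.mem_filter, Finset.mem_univ, true_and] at hr ⊢; exact hr.1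
      · have := h (show a ∈ Finset.univ.filter S by simpa using ha)
        simp [hS'] at this
    rw [hc, hy1, L.X_zero hadd, one_mul]

/-- The defect is additive in both arguments and invariant under the torus. -/
def Bilinear (r s : Fin D.nroots) : Prop :=
  (∀ a b u, L.defect r s (a + b) u = L.defect r s a u * L.defect r s b u) ∧
  (∀ t a b, L.defect r s t (a + b) = L.defect r s t a * L.defect r s t b) ∧
  ∀ w (b : Fˣ) t u, L.defect r s (((b ^ Φ.pr w r : Fˣ) : F) * t) (((b ^ Φ.pr w s : Fˣ) : F) * u) =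
    L.defect r s t u

include hadd in
theorem bilinear_of_exact (hadj : Φ.Adj) (hequ : L.Equivariant) {r s : Fin D.nroots} (h1 : s ≠ r) (h2 : s ≠ r.rev)
    (hex : ∀ x y, (Φ.Between r s x ∨ x = r ∨ x = s) → (Φ.Between r s y ∨ y = r ∨ y = s) → x ≠ y →
      (Φ.Between r s x ∨ Φ.Between r s y) → L.Exact x y) :
    L.Bilinear r s := by
  set K := Φ.Between r s
  obtain ⟨π, hπ, hpr, hps⟩ := Φ.exists_pos_pair (r := r) h2
  have hpos : ∀ k, K k → Φ.toTables.Pos (π k) := by
    rintro k ⟨i, j, hi, hj, hk⟩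
    rw [← Φ.code_pos_iff, Φ.code_W_lin hπ hk]
    have := Φ.code_pos hpr; have := Φ.code_pos hps
    nlinarith
  have hexK : ∀ x y, K x → K y → x ≠ y → L.Exact x y := fun x y hx hy hne =>
    hex x y (Or.inl hx) (Or.inl hy) hne (Or.inl hx)
  have inj : ∀ g ∈ L.sub K, L.π g = 1 → g = 1 :=
    L.inj_of_exact hadd hπ (Φ.between_closed r s) hpos hexK
  have eqK : ∀ g ∈ L.sub K, ∀ h ∈ L.sub K, L.π g = L.π h → g = h := fun g hg h hh e =>
    mul_inv_eq_one.mp (inj _ (mul_mem hg (inv_mem hh)) (by rw [map_mul, map_inv, e, mul_inv_cancel]))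
  set W : F → F → E := fun t u => wordE L.X (D.commWord F r.val s.val t u) with hW
  have hWK : ∀ t u, W t u ∈ L.sub K := fun t u => L.wordE_mem _ fun p hp => by
    simp only [ChevalleyDatum.commWord, List.mem_map] at hp
    obtain ⟨d, hd, rfl⟩ := hp
    exact Φ.between_of_mem_commTerms hd
  have πW : ∀ t u, L.π (W t u) = (Φ.cgx s u)⁻¹ * (Φ.cgx r t)⁻¹ * Φ.cgx s u * Φ.cgx r t := by
    intro t u
    have h := L.π_defect h1 h2 t u
    rw [defect, map_mul, map_inv, mul_inv_eq_one] at h
    rw [← h]
    simp only [map_mul, map_inv, L.π_X]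
  -- conjugation by the outer roots preserves the subgroup over the roots between
  have hnorm : ∀ a, (a = r ∨ a = s) → ∀ c, ∀ y ∈ L.sub K, L.X a c * y * (L.X a c)⁻¹ ∈ L.sub K := by
    intro a ha c
    refine L.wordE_conj_mem fun k hk v => ?_
    have hka : a ≠ k := by
      obtain ⟨i, j, hi, hj, hk'⟩ := hk
      intro e
      subst e
      have := Φ.code_W_lin hπ hk'
      have := Φ.code_pos hpr; have := Φ.code_pos hps
      rcases ha with rfl | rfl <;> nlinarith
    have e := L.comm_eq a k (-c) v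
    rw [hex a k (Or.inr ha) (Or.inl hk) hka (Or.inr hk) (-c) v, one_mul, L.X_neg hadd, inv_inv] at e
    have : L.X a c * L.X k v * (L.X a c)⁻¹ = L.X k v * wordE L.X (D.commWord F a.val k.val (-c) v) := by
      rw [← e]; group
    rw [this]
    refine mul_mem (L.X_mem (S := K) hk v) (L.wordE_mem _ fun p hp => ?_)
    simp only [ChevalleyDatum.commWord, List.mem_map] at hp
    obtain ⟨d, hd, rfl⟩ := hp
    obtain ⟨hlt, i, j, hi, hj, hd'⟩ := Φ.between_of_mem_commTerms hd
    obtain ⟨i', j', hi', hj', hk'⟩ := hk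
    refine ⟨hlt, ?_⟩
    rcases ha with rfl | rfl
    · exact ⟨i + j * i', j * j', by nlinarith, by nlinarith, fun m => by rw [hd', hk']; ring⟩
    · exact ⟨j * i', i + j * j', by nlinarith, by nlinarith, fun m => by rw [hd', hk']; ring⟩
  have com : ∀ t u g, Commute g (L.defect r s t u) := fun t u g => L.defect_commute h1 h2 t u g
  refine ⟨fun a b u => ?_, fun t a b => ?_, fun w b t u => ?_⟩
  · have e : L.defect r s (a + b) u * W (a + b) u =
        (L.defect r s a u * L.defect r s b u) * (W b u * ((L.X r b)⁻¹ * W a u * L.X r b)) := by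
      rw [← L.comm_eq, hadd]
      calc (L.X s u)⁻¹ * (L.X r a * L.X r b)⁻¹ * L.X s u * (L.X r a * L.X r b)
          = ((L.X s u)⁻¹ * (L.X r b)⁻¹ * L.X s u * L.X r b) *
              ((L.X r b)⁻¹ * ((L.X s u)⁻¹ * (L.X r a)⁻¹ * L.X s u * L.X r a) * L.X r b) := by group
        _ = (L.defect r s b u * W b u) * (((L.X r b)⁻¹ * L.defect r s a u) * W a u * L.X r b) := by
              rw [L.comm_eq, L.comm_eq]; simp only [W, mul_assoc]
        _ = L.defect r s b u * (W b u * L.defect r s a u) * ((L.X r b)⁻¹ * W a u * L.X r b) := by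
              rw [(com a u _).eq]; simp only [mul_assoc]
        _ = (L.defect r s b u * L.defect r s a u) * (W b u * ((L.X r b)⁻¹ * W a u * L.X r b)) := by
              rw [(com a u _).eq]; simp only [mul_assoc]
        _ = _ := by rw [(com a u _).eq]
    have hmem : W b u * ((L.X r b)⁻¹ * W a u * L.X r b) ∈ L.sub K := by
      refine mul_mem (hWK _ _) ?_
      have := hnorm r (Or.inl rfl) (-b) _ (hWK a u)
      rwa [L.X_neg hadd, inv_inv] at this
    have hπe := congrArg L.π e
    rw [map_mul, map_mul, map_mul, L.π_defect h1 h2, L.π_defect h1 h2, L.π_defect h1 h2, one_mul,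
      one_mul, one_mul] at hπe
    rw [← eqK _ (hWK _ _) _ hmem hπe] at e
    exact mul_right_cancel e
  · have e : L.defect r s t (a + b) * W t (a + b) =
        (L.defect r s t a * L.defect r s t b) * (((L.X s b)⁻¹ * W t a * L.X s b) * W t b) := by
      rw [← L.comm_eq, hadd]
      calc (L.X s a * L.X s b)⁻¹ * (L.X r t)⁻¹ * (L.X s a * L.X s b) * L.X r t
          = ((L.X s b)⁻¹ * ((L.X s a)⁻¹ * (L.X r t)⁻¹ * L.X s a * L.X r t) * L.X s b) *
              ((L.X s b)⁻¹ * (L.X r t)⁻¹ * L.X s b * L.X r t) := by group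
        _ = (((L.X s b)⁻¹ * L.defect r s t a) * W t a * L.X s b) * (L.defect r s t b * W t b) := by
              rw [L.comm_eq, L.comm_eq]; simp only [W, mul_assoc]
        _ = L.defect r s t a * (((L.X s b)⁻¹ * W t a * L.X s b) * L.defect r s t b) * W t b := by
              rw [(com t a _).eq]; simp only [mul_assoc]
        _ = _ := by rw [(com t b _).eq]; simp only [mul_assoc]
    have hmem : (L.X s b)⁻¹ * W t a * L.X s b * W t b ∈ L.sub K := by
      refine mul_mem ?_ (hWK _ _)
      have := hnorm s (Or.inr rfl) (-b) _ (hWK t a)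
      rwa [L.X_neg hadd, inv_inv] at this
    have hπe := congrArg L.π e
    rw [map_mul, map_mul, map_mul, L.π_defect h1 h2, L.π_defect h1 h2, L.π_defect h1 h2, one_mul,
      one_mul, one_mul] at hπe
    rw [← eqK _ (hWK _ _) _ hmem hπe] at e
    exact mul_right_cancel e
  · obtain ⟨g, hg⟩ := L.surj (Φ.cgh w b)
    set t' := ((b ^ Φ.pr w r : Fˣ) : F) * t
    set u' := ((b ^ Φ.pr w s : Fˣ) : F) * u
    have e : L.defect r s t' u' * W t' u' = L.defect r s t u * (g * W t u * g⁻¹) := by
      rw [← L.comm_eq, ← hequ w b r t g hg, ← hequ w b s u g hg,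
        show (g * L.X s u * g⁻¹)⁻¹ * (g * L.X r t * g⁻¹)⁻¹ * (g * L.X s u * g⁻¹) * (g * L.X r t * g⁻¹) =
          g * ((L.X s u)⁻¹ * (L.X r t)⁻¹ * L.X s u * L.X r t) * g⁻¹ by group,
        L.comm_eq, ← mul_assoc g, (com t u g).eq]
      simp only [W, mul_assoc]
    have hmem : g * W t u * g⁻¹ ∈ L.sub K := by
      refine L.wordE_conj_mem (fun k hk v => ?_) _ (hWK t u)
      rw [hequ w b k v g hg]
      exact L.X_mem hk _
    have hπe := congrArg L.π e
    rw [map_mul, map_mul, L.π_defect h1 h2, L.π_defect h1 h2, one_mul, one_mul] at hπe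
    rw [← eqK _ (hWK _ _) _ hmem hπe] at e
    exact mul_right_cancel e

include hadd in
/-- All relators hold, if bilinear invariant defects vanish. -/
theorem exact_all (hadj : Φ.Adj) (hequ : L.Equivariant)
    (hkill : ∀ r s, s ≠ r → s ≠ r.rev → L.Bilinear r s → L.Exact r s) :
    ∀ r s, s ≠ r → s ≠ r.rev → L.Exact r s := by
  classical
  intro r s
  induction hn : (Finset.univ.filter (Φ.Between r s)).card using Nat.strong_induction_on generalizing r s with
  | _ n ih =>
    intro h1 h2
    refine hkill r s h1 h2 (L.bilinear_of_exact hadd hadj hequ h1 h2 fun x y hx hy hne hK => ?_)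
    obtain ⟨π, hπ, hpr, hps⟩ := Φ.exists_pos_pair (r := r) h2
    have cr := Φ.code_pos hpr
    have cs := Φ.code_pos hps
    have coef : ∀ z, (Φ.Between r s z ∨ z = r ∨ z = s) → ∃ i j : ℤ, 0 ≤ i ∧ 0 ≤ j ∧ 1 ≤ i + j ∧
        (Φ.Between r s z → 1 ≤ i ∧ 1 ≤ j) ∧ ∀ m, Φ.V z m = i * Φ.V r m + j * Φ.V s m := by
      intro z hz
      by_cases hb : Φ.Between r s z
      · obtain ⟨i, j, hi, hj, h⟩ := hb
        exact ⟨i, j, by omega, by omega, by omega, fun _ => ⟨hi, hj⟩, h⟩
      rcases hz with hz | rfl | rfl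
      · exact absurd hz hb
      · exact ⟨1, 0, by omega, by omega, by omega, fun h => absurd h hb, fun m => by ring⟩
      · exact ⟨0, 1, by omega, by omega, by omega, fun h => absurd h hb, fun m => by ring⟩
    obtain ⟨i, j, hi, hj, hij, hxK', hx'⟩ := coef x hx
    obtain ⟨i', j', hi', hj', hij', hyK', hy'⟩ := coef y hy
    have cx : 0 < Φ.toTables.code (π x) := by rw [Φ.code_W_lin hπ hx']; nlinarith
    have cy : 0 < Φ.toTables.code (π y) := by rw [Φ.code_W_lin hπ hy']; nlinarith
    refine ih _ ?_ x y rfl (Ne.symm hne) (fun e => ?_)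
    · rw [← hn]
      refine Finset.card_lt_card ⟨fun k hk => ?_, fun hsub => ?_⟩
      · simp only [Finset.mem_filter, Finset.mem_univ, true_and] at hk ⊢
        obtain ⟨a, b, ha, hb, hk'⟩ := hk
        refine ⟨a * i + b * i', a * j + b * j', ?_, ?_, fun m => by rw [hk', hx', hy']; ring⟩
        · rcases hK with h | h
          · have := (hxK' h).1; nlinarith
          · have := (hyK' h).1; nlinarith
        · rcases hK with h | h
          · have := (hxK' h).2; nlinarith
          · have := (hyK' h).2; nlinarith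
      · rcases hK with hxK | hyK
        · have := hsub (show x ∈ Finset.univ.filter (Φ.Between r s) by simpa using hxK)
          simp only [Finset.mem_filter, Finset.mem_univ, true_and] at this
          obtain ⟨a, b, ha, hb, h⟩ := this
          have := Φ.code_W_lin hπ h
          nlinarith
        · have := hsub (show y ∈ Finset.univ.filter (Φ.Between r s) by simpa using hyK)
          simp only [Finset.mem_filter, Finset.mem_univ, true_and] at this
          obtain ⟨a, b, ha, hb, h⟩ := this
          have := Φ.code_W_lin hπ h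
          nlinarith
    · rw [e, Φ.W_rev hπ, Φ.toSys.code_neg] at cy
      omega

end Lift

end Chev

end CfsgLib.Chev
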