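/-
Table checks used for the universality of the presented cover.
-/
import Cfsg.Agent.Lib.Chev.CoverLift
import Cfsg.Agent.Lib.Chev.Inst

namespace CfsgLib.Chev

open Cfsg.Lie

set_option maxRecDepth 100000
set_option linter.dupNamespace false

/-- `⟨h_w, r⟩` on the tables. -/
def prN (D : ChevalleyDatum) (w r : ℕ) : ℤ :=
  ((List.range D.rank).map fun k => (D.coroot.getD w #[]).getD k 0 * D.cartan k r).sum

/-- Pairs with a fundamental root admit a scaling of one root of exponent at most three. -/
def pairCheck (D : ChevalleyDatum) : Bool :=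
  (List.range D.rank).all fun i => (List.range D.nroots).all fun s =>
    Nat.beq s (D.simple i) || Nat.beq s (D.neg (D.simple i)) ||
    (let c := prN D (D.simple i) s
     let d := prN D s (D.simple i)
     decide (c = 0) || (Nat.beq c.natAbs 1 && Nat.blt 0 (d - 4 * c).natAbs && Nat.blt (d - 4 * c).natAbs 4) ||
       (Nat.beq d.natAbs 1 && Nat.blt 0 (c - 4 * d).natAbs && Nat.blt (c - 4 * d).natAbs 4))

/-- Every root has a coroot pairing to a unit with it, or is twice a pure commutator of roots commuting with it. -/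
def diagCheck (D : ChevalleyDatum) : Bool :=
  (List.range D.nroots).all fun r =>
    (List.range D.nroots).any (fun w => Nat.beq (prN D w r).natAbs 1) ||
    (List.range D.nroots).any fun x => (List.range D.nroots).any fun y =>
      !(Nat.beq y x) && !(Nat.beq y (D.neg x)) && !(Nat.beq x r) && !(Nat.beq x (D.neg r)) &&
      !(Nat.beq y r) && !(Nat.beq y (D.neg r)) &&
      (D.commTerms r x).isEmpty && (D.commTerms r y).isEmpty &&
      match D.commTerms x y with
      | [(k, c, 1, 1)] => Nat.beq k r && Nat.beq c.natAbs 2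
      | _ => false

theorem pairG2 : pairCheck Cfsg.Lie.chevG2 = true := by decide +kernel
theorem pairB2 : pairCheck Cfsg.Lie.chevB2 = true := by decide +kernel
theorem pairD4 : pairCheck Cfsg.Lie.chevD4 = true := by decide +kernel
theorem pairF4 : pairCheck Cfsg.Lie.chevF4 = true := by decide +kernel
theorem pairE6 : pairCheck Cfsg.Lie.chevE6 = true := by decide +kernel
theorem pairE7 : pairCheck Cfsg.Lie.chevE7 = true := by decide +kernel
theorem pairE8 : pairCheck Cfsg.Lie.chevE8 = true := by decide +kernel

theorem diagG2 : diagCheck Cfsg.Lie.chevG2 = true := by decide +kernel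
theorem diagB2 : diagCheck Cfsg.Lie.chevB2 = true := by decide +kernel
theorem diagD4 : diagCheck Cfsg.Lie.chevD4 = true := by decide +kernel
theorem diagF4 : diagCheck Cfsg.Lie.chevF4 = true := by decide +kernel
theorem diagE6 : diagCheck Cfsg.Lie.chevE6 = true := by decide +kernel
theorem diagE7 : diagCheck Cfsg.Lie.chevE7 = true := by decide +kernel
theorem diagE8 : diagCheck Cfsg.Lie.chevE8 = true := by decide +kernel

theorem checks_of_mem {D : ChevalleyDatum}
    (hD : D ∈ [Cfsg.Lie.chevG2, Cfsg.Lie.chevB2, Cfsg.Lie.chevD4, Cfsg.Lie.chevF4, Cfsg.Lie.chevE6,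
      Cfsg.Lie.chevE7, Cfsg.Lie.chevE8]) : pairCheck D = true ∧ diagCheck D = true := by
  simp only [List.mem_cons, List.not_mem_nil, or_false] at hD
  rcases hD with rfl | rfl | rfl | rfl | rfl | rfl | rfl
  exacts [⟨pairG2, diagG2⟩, ⟨pairB2, diagB2⟩, ⟨pairD4, diagD4⟩, ⟨pairF4, diagF4⟩, ⟨pairE6, diagE6⟩,
    ⟨pairE7, diagE7⟩, ⟨pairE8, diagE8⟩]

end CfsgLib.Chev
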