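/-
Perfectness of the group presented by the relators (R1), (R2).
-/
import Cfsg.Agent.Lib.Chev.SteinbergCover
import Cfsg.Agent.Lib.Chev.SteinbergData
import Cfsg.Agent.Lib.Chev.PerfectData

namespace CfsgLib.Chev

open Cfsg.Lie Matrix
open scoped commutatorElement

set_option linter.dupNamespace false
set_option linter.unusedSimpArgs false

variable {D : ChevalleyDatum}

namespace Chev

variable (Φ : Chev D) {F : Type*} [Field F]

theorem cmk_stX {k : ℕ} (hk : k < D.nroots) (v : F) :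
    PresentedGroup.mk (D.steinbergRelsAB F) (D.stX k v) = Φ.cgx ⟨k, hk⟩ v := rfl

theorem cword_mem {K : Subgroup (D.SteinbergCover F)} (w : List (ℕ × F))
    (h : ∀ p ∈ w, ∀ hp : p.1 < D.nroots, Φ.cgx ⟨p.1, hp⟩ p.2 ∈ K) :
    PresentedGroup.mk (D.steinbergRelsAB F) (D.stWord w) ∈ K := by
  induction w with
  | nil => simp [ChevalleyDatum.stWord]
  | cons p w ih =>
    rw [ChevalleyDatum.stWord, List.map_cons, List.prod_cons, map_mul]
    refine mul_mem ?_ (ih fun q hq => h q (List.mem_cons_of_mem _ hq))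
    by_cases hp : p.1 < D.nroots
    · exact h p List.mem_cons_self hp
    · simp [ChevalleyDatum.stX, hp]

theorem cgood_of_pair {r s : Fin D.nroots} (h1 : s ≠ r) (h2 : s ≠ r.rev) {k : ℕ} {c : ℤ}
    {rest : List (ℕ × ℤ × ℕ × ℕ)} (he : D.commTerms r.val s.val = (k, c, 1, 1) :: rest)
    (hc : (c : F) ≠ 0)
    (hrest : ∀ e ∈ rest, ∀ h : e.1 < D.nroots, ∀ v : F,
      Φ.cgx ⟨e.1, h⟩ v ∈ commutator (D.SteinbergCover F))
    (hk : k < D.nroots) (v : F) : Φ.cgx ⟨k, hk⟩ v ∈ commutator (D.SteinbergCover F) := by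
  set t : F := -(v / c) with ht
  have hval : (c : F) * (-t) ^ 1 * 1 ^ 1 = v := by
    simp only [t, neg_neg, pow_one, mul_one]; field_simp
  have h : PresentedGroup.mk (D.steinbergRelsAB F)
      ((D.stX s.val (1 : F))⁻¹ * (D.stX r.val t)⁻¹ * D.stX s.val 1 * D.stX r.val t *
        (D.stWord (D.commWord F r.val s.val t 1))⁻¹) = 1 :=
    PresentedGroup.one_of_mem (Or.inr ⟨r.val, s.val, t, 1, r.isLt, s.isLt,
      fun e => h1 (Fin.ext e), fun e => h2 (Fin.ext (e.trans (Φ.negIdx_eq r))), rfl⟩)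
  rw [map_mul, map_inv, mul_inv_eq_one, map_mul, map_mul, map_mul, map_inv, map_inv] at h
  have hmem : PresentedGroup.mk (D.steinbergRelsAB F) (D.stWord (D.commWord F r.val s.val t 1)) ∈
      commutator (D.SteinbergCover F) := by
    rw [← h]
    have := Subgroup.commutator_mem_commutator (Subgroup.mem_top (PresentedGroup.mk (D.steinbergRelsAB F) (D.stX s.val (1 : F)))⁻¹)
      (Subgroup.mem_top (PresentedGroup.mk (D.steinbergRelsAB F) (D.stX r.val t))⁻¹)
    rw [← commutator_def] at this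
    simpa [commutatorElement_def] using this
  have hw : D.commWord F r.val s.val t 1 = (k, v) :: rest.map fun c =>
      (c.1, (c.2.1 : F) * (-t) ^ c.2.2.1 * 1 ^ c.2.2.2) := by
    simp [ChevalleyDatum.commWord, he, ← hval]
  rw [hw, ChevalleyDatum.stWord, List.map_cons, List.prod_cons, map_mul] at hmem
  refine (Subgroup.mul_mem_cancel_right _ (Φ.cword_mem _ ?_)).mp hmem
  intro p hp h
  obtain ⟨e, he', rfl⟩ := List.mem_map.mp hp
  exact hrest e he' h _

theorem cgood_of_single {allow : ℤ → Bool} (hallow : ∀ c, allow c = true → (c : F) ≠ 0) {k : ℕ}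
    {p : ℕ × ℕ} (h : isSingle D allow k p = true) (hk : k < D.nroots) (v : F) :
    Φ.cgx ⟨k, hk⟩ v ∈ commutator (D.SteinbergCover F) := by
  simp only [isSingle, Bool.and_eq_true, Nat.blt_eq, Bool.not_eq_true', Nat.beq_eq] at h
  obtain ⟨⟨⟨⟨h1, h2⟩, h3⟩, h4⟩, h5⟩ := h
  have e1 : (⟨p.2, h2⟩ : Fin D.nroots) ≠ ⟨p.1, h1⟩ := fun e => by simp [Fin.ext_iff] at e; simp [e] at h3
  have e2 : (⟨p.2, h2⟩ : Fin D.nroots) ≠ (⟨p.1, h1⟩ : Fin D.nroots).rev := fun e => by
    have : p.2 = D.neg p.1 := (congrArg Fin.val e).trans (Φ.negIdx_eq ⟨p.1, h1⟩).symm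
    simp [this] at h4
  split at h5
  · rename_i k' c heq
    simp only [Bool.and_eq_true, Nat.beq_eq] at h5
    obtain ⟨rfl, hc⟩ := h5
    exact Φ.cgood_of_pair (r := ⟨p.1, h1⟩) (s := ⟨p.2, h2⟩) e1 e2 heq (hallow c hc) (by simp) hk v
  · simp at h5

theorem cgood_of_witness {allow : ℤ → Bool} (hallow : ∀ c, allow c = true → (c : F) ≠ 0) {k : ℕ}
    {w : (ℕ × ℕ) × List (ℕ × ℕ)} (h : isWitness D allow k w = true) (hk : k < D.nroots) (v : F) :
    Φ.cgx ⟨k, hk⟩ v ∈ commutator (D.SteinbergCover F) := by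
  simp only [isWitness, Bool.and_eq_true, Nat.blt_eq, Bool.not_eq_true', Nat.beq_eq] at h
  obtain ⟨⟨⟨⟨h1, h2⟩, h3⟩, h4⟩, h5⟩ := h
  have e1 : (⟨w.1.2, h2⟩ : Fin D.nroots) ≠ ⟨w.1.1, h1⟩ := fun e => by simp [Fin.ext_iff] at e; simp [e] at h3
  have e2 : (⟨w.1.2, h2⟩ : Fin D.nroots) ≠ (⟨w.1.1, h1⟩ : Fin D.nroots).rev := fun e => by
    have : w.1.2 = D.neg w.1.1 := (congrArg Fin.val e).trans (Φ.negIdx_eq ⟨w.1.1, h1⟩).symm
    simp [this] at h4
  split at h5
  · rename_i k' c rest heq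
    simp only [Bool.and_eq_true, Nat.beq_eq, List.all_eq_true, List.any_eq_true] at h5
    obtain ⟨⟨rfl, hc⟩, hrest⟩ := h5
    refine Φ.cgood_of_pair (r := ⟨w.1.1, h1⟩) (s := ⟨w.1.2, h2⟩) e1 e2 heq (hallow c hc) ?_ hk v
    intro e he h v'
    obtain ⟨q, _, hq⟩ := hrest e he
    exact Φ.cgood_of_single hallow hq h v'
  · simp at h5

include Φ in
/-- Perfectness of the presented group, given witnesses for the case that all non-zero squares are one. -/
theorem cover_perfect (hadj : Φ.Adj) {allow : ℤ → Bool} {W : List ((ℕ × ℕ) × List (ℕ × ℕ))}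
    (hW : allWitness D allow W = true)
    (hallow : (∀ a : F, a ≠ 0 → a ^ 2 = 1) → ∀ c, allow c = true → (c : F) ≠ 0) :
    commutator (D.SteinbergCover F) = ⊤ := by
  have good : ∀ r : Fin D.nroots, ∀ v : F, Φ.cgx r v ∈ commutator (D.SteinbergCover F) := by
    intro r
    by_cases ha : ∃ a : F, a ≠ 0 ∧ a ^ 2 ≠ 1
    · obtain ⟨a, ha0, ha2⟩ := ha
      intro v
      set t := Units.mk0 a ha0
      have hne : a ^ 2 - 1 ≠ 0 := sub_ne_zero.mpr ha2
      set w := v / (a ^ 2 - 1) with hw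
      have hconj : Φ.cgh r t * Φ.cgx r w * (Φ.cgh r t)⁻¹ = Φ.cgx r (a ^ 2 * w) := by
        refine ((Φ.cnice_gn hadj r t).mul Φ (Φ.cnice_gn hadj r (-1))).2 _ _ _ _ ?_
        rw [show Φ.cgn r t * Φ.cgn r (-1) = Φ.cgh r t from rfl, Φ.cproj_gh, Φ.hw_eq, Φ.toAlg.torus_xg,
          mul_inv_cancel_right, Φ.chi_coChar, Φ.pair_self]
        congr 2
      have e : Φ.cgh r t * Φ.cgx r w * (Φ.cgh r t)⁻¹ * (Φ.cgx r w)⁻¹ = Φ.cgx r v := by
        rw [hconj, ← Φ.cgx_neg, ← Φ.cgx_add]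
        congr 1
        rw [hw]
        field_simp
        ring
      rw [← e, commutator_def, ← commutatorElement_def]
      exact Subgroup.commutator_mem_commutator trivial trivial
    · push Not at ha
      induction r using Φ.root_induction with
      | hp i =>
        intro v
        simp only [allWitness, List.all_eq_true, List.any_eq_true, List.mem_range] at hW
        obtain ⟨w, _, hw⟩ := hW i.val i.isLt
        rw [Φ.simple_val] at hw
        exact Φ.cgood_of_witness (hallow ha) hw (Φ.p i).isLt v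
      | hstep i r ih =>
        intro v
        have hsq : (Φ.eta i r : F) * (Φ.eta i r : F) = 1 := by
          rcases Φ.eta_unit i r with e | e <;> simp [e]
        have e : Φ.cgn (Φ.p i) 1 * Φ.cgx r ((Φ.eta i r : F) * v) * (Φ.cgn (Φ.p i) 1)⁻¹ =
            Φ.cgx (Φ.refl i r) v := by
          refine (Φ.cnice_gn hadj _ _).2 _ _ _ _ ?_
          rw [Φ.cproj_gn, Φ.nw_conj_xg, ← mul_assoc (Φ.eta i r : F), hsq, one_mul, mul_inv_cancel_right]
        rw [← e]
        exact Subgroup.Normal.conj_mem inferInstance _ (ih _) _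
  rw [eq_top_iff]
  intro g _
  exact Φ.cgen_induction (Q := fun g => g ∈ commutator (D.SteinbergCover F)) (one_mem _)
    (fun r t y hy => mul_mem (good r t) hy) g

end Chev

theorem cover_perfect_of_mem {F : Type*} [Field F] {D : ChevalleyDatum}
    (hD : D ∈ [Cfsg.Lie.chevG2, Cfsg.Lie.chevB2, Cfsg.Lie.chevD4, Cfsg.Lie.chevF4, Cfsg.Lie.chevE6,
      Cfsg.Lie.chevE7, Cfsg.Lie.chevE8])
    (h2 : D = Cfsg.Lie.chevG2 ∨ D = Cfsg.Lie.chevB2 → ∃ a : F, a ≠ 0 ∧ a ≠ 1) :
    commutator (D.SteinbergCover F) = ⊤ := by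
  simp only [List.mem_cons, List.not_mem_nil, or_false] at hD
  rcases hD with rfl | rfl | rfl | rfl | rfl | rfl | rfl
  · exact chevG2.cover_perfect (chevG2.adj_of_check adjG2) witG2 fun hsq c hc => allowTwo_ne (two_ne_zero_of_sq (h2 (Or.inl rfl)) hsq) hc
  · exact chevB2.cover_perfect (chevB2.adj_of_check adjB2) witB2 fun hsq c hc => allowTwo_ne (two_ne_zero_of_sq (h2 (Or.inr rfl)) hsq) hc
  · exact chevD4.cover_perfect (chevD4.adj_of_check adjD4) witD4 fun _ c hc => allowOne_ne hc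
  · exact chevF4.cover_perfect (chevF4.adj_of_check adjF4) witF4 fun _ c hc => allowOne_ne hc
  · exact chevE6.cover_perfect (chevE6.adj_of_check adjE6) witE6 fun _ c hc => allowOne_ne hc
  · exact chevE7.cover_perfect (chevE7.adj_of_check adjE7) witE7 fun _ c hc => allowOne_ne hc
  · exact chevE8.cover_perfect (chevE8.adj_of_check adjE8) witE8 fun _ c hc => allowOne_ne hc

end CfsgLib.Chev
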