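/-
Central extensions of the (R1),(R2)-presented group over fields with more than four elements split.
-/
import Cfsg.Agent.Lib.Chev.CoverUniversalData
import Cfsg.Agent.Lib.Chev.SteinbergCoverPerfect

namespace CfsgLib.Chev

open Cfsg.Lie Matrix
open scoped commutatorElement

set_option linter.dupNamespace false
set_option linter.unusedSimpArgs false

variable {D : ChevalleyDatum}

namespace Chev

variable {Φ : Chev D} {F : Type*} [Field F] {E : Type*} [Group E]

theorem prN_eq (w r : Fin D.nroots) : prN D w.val r.val = Φ.pr w r := by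
  rw [prN, pr, ← List.sum_toFinset _ (List.nodup_range)]
  rw [List.toFinset_range, Finset.sum_range]
  exact Finset.sum_congr rfl fun k _ => by rw [Φ.coroot_eq w k, Φ.cartan_val k r]

theorem pr_self (r : Fin D.nroots) : Φ.pr r r = 2 := Φ.pair_self r

/-- The property of a pair of roots needed for the vanishing of invariant additive maps. -/
def GoodPair (Φ : Chev D) (r s : Fin D.nroots) : Prop :=
  Φ.pr r s = 0 ∨
    (|Φ.pr r s| = 1 ∧ Φ.pr s r - 4 * Φ.pr r s ≠ 0 ∧ |Φ.pr s r - 4 * Φ.pr r s| ≤ 3) ∨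
    (|Φ.pr s r| = 1 ∧ Φ.pr r s - 4 * Φ.pr s r ≠ 0 ∧ |Φ.pr r s - 4 * Φ.pr s r| ≤ 3)

theorem goodPair (hc : pairCheck D = true) (r : Fin D.nroots) :
    ∀ s, s ≠ r → s ≠ r.rev → GoodPair Φ r s := by
  induction r using Φ.root_induction with
  | hp i =>
    intro s h1 h2
    simp only [pairCheck, List.all_eq_true, List.mem_range, Bool.or_eq_true, Bool.and_eq_true,
      decide_eq_true_eq, Nat.beq_eq, Nat.blt_eq] at hc
    have h := hc i.val i.isLt s.val s.isLt
    rw [Φ.simple_val] at h
    rw [prN_eq (Φ := Φ), prN_eq (Φ := Φ)] at h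
    have e2 : D.neg (Φ.p i).val = (Φ.p i).rev.val := Φ.negIdx_eq (Φ.p i)
    rw [e2] at h
    rcases h with (h | h) | ((h | ⟨⟨h, h'⟩, h''⟩) | ⟨⟨h, h'⟩, h''⟩)
    · exact absurd (Fin.ext h) h1
    · exact absurd (Fin.ext h) h2
    · exact Or.inl h
    · exact Or.inr (Or.inl ⟨by rw [Int.abs_eq_natAbs]; omega, by omega, by rw [Int.abs_eq_natAbs]; omega⟩)
    · exact Or.inr (Or.inr ⟨by rw [Int.abs_eq_natAbs]; omega, by omega, by rw [Int.abs_eq_natAbs]; omega⟩)
  | hstep i r ih =>
    intro s h1 h2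
    have hs : s = Φ.refl i (Φ.refl i s) := (Φ.refl_refl i s).symm
    have := ih (Φ.refl i s) (fun e => h1 (by rw [hs, e]))
      (fun e => h2 (by rw [hs, e, Φ.refl_rev]))
    unfold GoodPair at this ⊢
    rw [hs, Φ.pr_refl, Φ.pr_refl]
    exact this

theorem exists_ne_pow_one (h5 : ∃ s : Finset F, 4 < s.card) {m : ℤ} (h0 : m ≠ 0) (h3 : |m| ≤ 3) :
    ∃ b : Fˣ, ((b ^ m : Fˣ) : F) ≠ 1 := by
  classical
  obtain ⟨s, hs⟩ := h5
  have key : ∀ n : ℕ, 0 < n → n ≤ 3 → ∃ b : Fˣ, b ^ n ≠ 1 := by
    intro n hn hn3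
    by_contra hall
    push Not at hall
    have hsub : s ⊆ insert (0 : F) (Polynomial.nthRootsFinset n (1 : F)) := fun x _ => by
      by_cases hx : x = 0
      · simp [hx]
      · refine Finset.mem_insert_of_mem ((Polynomial.mem_nthRootsFinset hn 1).mpr ?_)
        simpa using congrArg Units.val (hall (Units.mk0 x hx))
    have h1 := Finset.card_le_card hsub
    have h2 := Finset.card_insert_le (0 : F) (Polynomial.nthRootsFinset n (1 : F))
    have h4 : (Polynomial.nthRootsFinset n (1 : F)).card ≤ n := by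
      rw [Polynomial.nthRootsFinset_def]
      exact (Multiset.toFinset_card_le _).trans (Polynomial.card_nthRoots n 1)
    omega
  rw [Int.abs_eq_natAbs] at h3
  obtain ⟨b, hb⟩ := key m.natAbs (by omega) (by omega)
  refine ⟨b, fun e => hb ?_⟩
  have e' : b ^ m = 1 := Units.ext e
  rcases Int.natAbs_eq m with h | h
  · rw [h, zpow_natCast] at e'; exact e'
  · rw [h, _root_.zpow_neg, inv_eq_one, zpow_natCast] at e'; exact e'

namespace Lift

variable (L : Φ.Lift F E)

theorem exact_of_bilinear (h5 : ∃ s : Finset F, 4 < s.card) (hc : pairCheck D = true) {r s : Fin D.nroots}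
    (h1 : s ≠ r) (h2 : s ≠ r.rev) (hb : L.Bilinear r s) : L.Exact r s := by
  obtain ⟨hl, hr, hinv⟩ := hb
  set c := Φ.pr r s with hcdef
  set d := Φ.pr s r with hddef
  have comb : ∀ (α β : ℤ) (b : Fˣ) t u,
      L.defect r s (((b ^ (α * 2 + β * d) : Fˣ) : F) * t) (((b ^ (α * c + β * 2) : Fˣ) : F) * u) =
        L.defect r s t u := by
    intro α β b t u
    have e1 := hinv r (b ^ α) (((b ^ (β * d) : Fˣ) : F) * t) (((b ^ (β * 2) : Fˣ) : F) * u)
    have e2 := hinv s (b ^ β) t u
    rw [pr_self, ← hcdef] at e1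
    rw [pr_self, ← hddef, ← _root_.zpow_mul, ← _root_.zpow_mul] at e2
    rw [e2] at e1
    rw [← e1, _root_.zpow_add, _root_.zpow_add, ← _root_.zpow_mul, ← _root_.zpow_mul, Units.val_mul,
      Units.val_mul, mul_assoc, mul_assoc]
  rcases goodPair (Φ := Φ) hc r s h1 h2 with h | ⟨h, hm, hm3⟩ | ⟨h, hm, hm3⟩
  · obtain ⟨b, hb⟩ := exists_ne_pow_one h5 (m := 2) (by norm_num) (by norm_num)
    intro t u
    refine CentralComm.kill_scale hl hb (fun t u => ?_) t u
    have := comb 1 0 b t u
    rw [← hcdef] at h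
    simpa [h] using this
  · obtain ⟨b, hb⟩ := exists_ne_pow_one h5 (m := d - 4 * c) hm hm3
    intro t u
    refine CentralComm.kill_scale hl hb (fun t u => ?_) t u
    have hcc : c * c = 1 := by rcases abs_eq (show (0 : ℤ) ≤ 1 by norm_num) |>.mp h with e | e <;> rw [hcdef, e] <;> norm_num
    have := comb (-2 * c) 1 b t u
    rw [show -2 * c * 2 + 1 * d = d - 4 * c by ring,
      show -2 * c * c + 1 * 2 = 0 by rw [mul_assoc, hcc]; ring] at this
    simpa using this
  · obtain ⟨b, hb⟩ := exists_ne_pow_one h5 (m := c - 4 * d) hm hm3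
    intro t u
    refine CentralComm.kill_scale (f := fun u t => L.defect r s t u) (fun a b t => hr t a b) hb
      (fun u t => ?_) u t
    have hdd : d * d = 1 := by rcases abs_eq (show (0 : ℤ) ≤ 1 by norm_num) |>.mp h with e | e <;> rw [hddef, e] <;> norm_num
    have := comb 1 (-2 * d) b t u
    rw [show 1 * 2 + -2 * d * d = 0 by rw [mul_assoc, hdd]; ring,
      show 1 * c + -2 * d * 2 = c - 4 * d by ring] at this
    simpa using this

/-- The presented relators lift. -/
theorem exists_section (hadd : L.Additive) (hex : ∀ r s, s ≠ r → s ≠ r.rev → L.Exact r s) :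
    ∃ σ : D.SteinbergCover F →* E, L.π.comp σ = MonoidHom.id _ := by
  set f := fun p : Fin D.nroots × F => L.X p.1 p.2
  have hX : ∀ (r : Fin D.nroots) (t : F), FreeGroup.lift f (D.stX r.val t) = L.X r t := fun r t => by
    simp [f, ChevalleyDatum.stX]
  have hw : ∀ w, FreeGroup.lift f (D.stWord w) = wordE L.X w := by
    intro w
    induction w with
    | nil => simp [wordE, ChevalleyDatum.stWord]
    | cons p w ih =>
      simp only [wordE, ChevalleyDatum.stWord, List.map_cons, List.prod_cons, map_mul] at ih ⊢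
      rw [ih]
      congr 1
      by_cases h : p.1 < D.nroots
      · rw [dif_pos h]; exact hX ⟨p.1, h⟩ p.2
      · simp [ChevalleyDatum.stX, h]
  have hrel : ∀ w ∈ D.steinbergRelsAB F, FreeGroup.lift f w = 1 := by
    rintro w (⟨r, a, b, hr, rfl⟩ | ⟨r, s, t, u, hr, hs, h1, h2, rfl⟩)
    · rw [map_mul, map_mul, map_inv, mul_inv_eq_one, hX ⟨r, hr⟩, hX ⟨r, hr⟩, hX ⟨r, hr⟩, hadd]
    · have := hex ⟨r, hr⟩ ⟨s, hs⟩ (fun e => h1 (congrArg Fin.val e))
        (fun e => h2 ((congrArg Fin.val e).trans (Φ.negIdx_eq ⟨r, hr⟩).symm)) t u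
      rw [defect] at this
      simp only [map_mul, map_inv, hw, hX ⟨r, hr⟩, hX ⟨s, hs⟩]
      exact this
  refine ⟨PresentedGroup.toGroup hrel, ?_⟩
  refine MonoidHom.eq_of_eqOn_dense (PresentedGroup.closure_range_of _) ?_
  rintro _ ⟨⟨r, t⟩, rfl⟩
  rw [MonoidHom.comp_apply, PresentedGroup.toGroup.of, MonoidHom.id_apply, L.π_X]
  simp [cgx, ChevalleyDatum.scGen, ChevalleyDatum.stX, PresentedGroup.of]

end Lift

theorem exists_section_of_card (hadj : Φ.Adj) (hperf : commutator (D.SteinbergCover F) = ⊤)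
    (hpc : pairCheck D = true) (hdc : diagCheck D = true) (h5 : ∃ s : Finset F, 4 < s.card)
    (π : E →* D.SteinbergCover F) (hπ : Function.Surjective π) (hc : π.ker ≤ Subgroup.center E) :
    ∃ σ : D.SteinbergCover F →* E, π.comp σ = MonoidHom.id _ := by
  classical
  obtain ⟨a, ha2⟩ : ∃ a : Fˣ, ((a ^ (2 : ℤ) : Fˣ) : F) ≠ 1 :=
    exists_ne_pow_one h5 (by norm_num) (by norm_num)
  set H : Fin D.nroots → E := fun r => Function.surjInv hπ (Φ.cgh r a)
  set Y : Fin D.nroots → F → E := fun r v => Function.surjInv hπ (Φ.cgx r v)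
  have πH : ∀ r, π (H r) = Φ.cgh r a := fun r => Function.surjInv_eq hπ _
  have πY : ∀ r v, π (Y r v) = Φ.cgx r v := fun r v => Function.surjInv_eq hπ _
  set q : F := ((a ^ (2 : ℤ) : Fˣ) : F) with hq
  have hq1 : q - 1 ≠ 0 := sub_ne_zero.mpr ha2
  let L : Φ.Lift F E :=
    { π := π, surj := hπ, central := hc, X := fun r t => ⁅H r, Y r (t / (q - 1))⁆
      π_X := fun r t => by
        rw [map_commutatorElement, πH, πY, commutatorElement_def, Φ.cgh_conj hadj, pr_self, ← Φ.cgx_neg,
          ← Φ.cgx_add, ← hq]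
        congr 1; field_simp; ring }
  -- commuting images: the commutator of lifts is biadditive and invariant
  have hXv : ∀ r t, π (L.X r t) = Φ.cgx r t := L.π_X
  have hXX : ∀ r t u, Commute (π (L.X r t)) (π (L.X r u)) := fun r t u => by
    show π (L.X r t) * π (L.X r u) = π (L.X r u) * π (L.X r t)
    rw [hXv, hXv, ← Φ.cgx_add, ← Φ.cgx_add, add_comm]
  have hsame : ∀ r t u, ⁅L.X r t, L.X r u⁆ = 1 := by
    intro r
    set f : F → F → E := fun t u => ⁅L.X r t, L.X r u⁆ with hf
    have hk : ∀ t u, π (f t u) = 1 := fun t u => by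
      rw [map_commutatorElement, commutatorElement_eq_one_iff_commute]; exact hXX r t u
    have hl : ∀ x y u, f (x + y) u = f x u * f y u := fun x y u => by
      rw [hf]
      show ⁅L.X r (x + y), L.X r u⁆ = ⁅L.X r x, L.X r u⁆ * ⁅L.X r y, L.X r u⁆
      rw [← CentralComm.comm_mul_left hc (hXX r y u)]
      refine CentralComm.comm_congr hc ?_ rfl
      rw [map_mul, hXv, hXv, hXv, Φ.cgx_add]
    have hr : ∀ t x y, f t (x + y) = f t x * f t y := fun t x y => by
      show ⁅L.X r t, L.X r (x + y)⁆ = ⁅L.X r t, L.X r x⁆ * ⁅L.X r t, L.X r y⁆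
      rw [← CentralComm.comm_mul_right hc (hXX r t y)]
      refine CentralComm.comm_congr hc rfl ?_
      rw [map_mul, hXv, hXv, hXv, Φ.cgx_add]
    have hinv : ∀ w (b : Fˣ) t u,
        f (((b ^ Φ.pr w r : Fˣ) : F) * t) (((b ^ Φ.pr w r : Fˣ) : F) * u) = f t u := fun w b t u => by
      obtain ⟨g, hg⟩ := hπ (Φ.cgh w b)
      show ⁅L.X r _, L.X r _⁆ = ⁅L.X r t, L.X r u⁆
      rw [← CentralComm.conj_comm hc (hXX r t u) g]
      refine CentralComm.comm_congr hc ?_ ?_ <;>
        (rw [map_mul, map_mul, map_inv, hg, hXv, hXv, Φ.cgh_conj hadj])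
    simp only [diagCheck, List.all_eq_true, List.mem_range, Bool.or_eq_true, List.any_eq_true,
      Bool.and_eq_true, Nat.beq_eq] at hdc
    rcases hdc r.val r.isLt with ⟨w, hw, h⟩ | ⟨x, hx, y, hy, h⟩
    · rw [prN_eq (Φ := Φ) ⟨w, hw⟩ r] at h
      obtain ⟨s, hs⟩ := h5
      obtain ⟨c, -, hc'⟩ : ∃ c ∈ s, c ∉ ({0, -1} ∪ (Polynomial.X ^ 2 + Polynomial.X + 1 : Polynomial F).roots.toFinset : Finset F) := by
        refine Finset.exists_mem_notMem_of_card_lt_card ?_
        refine lt_of_le_of_lt ((Finset.card_union_le _ _).trans (add_le_add (d := 2) Finset.card_le_two ?_)) hs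
        refine (Multiset.toFinset_card_le _).trans ((Polynomial.card_roots' _).trans ?_)
        compute_degree
      simp only [Finset.mem_union, Finset.mem_insert, Finset.mem_singleton, Multiset.mem_toFinset,
        not_or] at hc'
      obtain ⟨⟨hc0, hc1⟩, hc2⟩ := hc'
      have hc3 : 1 + c + c * c ≠ 0 := by
        intro e
        refine hc2 ((Polynomial.mem_roots ?_).mpr ?_)
        · refine Polynomial.Monic.ne_zero ?_
          monicity!
        · simp [Polynomial.IsRoot]; linear_combination e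
      refine fun t u => CentralComm.kill_diag hl hr (fun _ _ t u => CentralComm.ker_commute hc (hk t u) _)
        (fun m hm t u => ?_) hc0 (fun e => hc1 (eq_neg_of_add_eq_zero_left e)) hc3 t u
      rcases Int.natAbs_eq (Φ.pr ⟨w, hw⟩ r) with e | e <;> rw [h] at e
      · have := hinv ⟨w, hw⟩ (Units.mk0 m hm) t u
        simpa [e] using this
      · have := hinv ⟨w, hw⟩ (Units.mk0 m hm)⁻¹ t u
        simpa [e] using this
    · obtain ⟨⟨⟨⟨⟨⟨⟨⟨n1, n2⟩, n3⟩, n4⟩, n5⟩, n6⟩, e1⟩, e2⟩, e3⟩ := h
      simp only [Bool.not_eq_true', ← Bool.not_eq_true, Nat.beq_eq] at n1 n2 n3 n4 n5 n6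
      split at e3
      swap
      · simp at e3
      rename_i k cc heq
      simp only [Bool.and_eq_true, Nat.beq_eq] at e3
      obtain ⟨rfl, hcc⟩ := e3
      set x' : Fin D.nroots := ⟨x, hx⟩
      set y' : Fin D.nroots := ⟨y, hy⟩
      have nn : ∀ z : ℕ, ∀ hz : z < D.nroots, D.neg z = (⟨z, hz⟩ : Fin D.nroots).rev.val :=
        fun z hz => Φ.negIdx_eq ⟨z, hz⟩
      have cxy : y' ≠ x' := fun e => n1 (congrArg Fin.val e)
      have cxy' : y' ≠ x'.rev := fun e => n2 ((congrArg Fin.val e).trans (nn x hx).symm)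
      have comm_r : ∀ z : Fin D.nroots, z ≠ r → z ≠ r.rev → D.commTerms r.val z.val = [] →
          ∀ v u : F, Commute (Φ.cgx r v) (Φ.cgx z u) := by
        intro z z1 z2 hz v u
        have h : PresentedGroup.mk (D.steinbergRelsAB F) ((D.stX z.val u)⁻¹ * (D.stX r.val v)⁻¹ *
            D.stX z.val u * D.stX r.val v * (D.stWord (D.commWord F r.val z.val v u))⁻¹) = 1 :=
          PresentedGroup.one_of_mem (Or.inr ⟨r.val, z.val, v, u, r.isLt, z.isLt,
            fun e => z1 (Fin.ext e), fun e => z2 (Fin.ext (e.trans (Φ.negIdx_eq r))), rfl⟩)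
        simp only [ChevalleyDatum.commWord, hz, List.map_nil, ChevalleyDatum.stWord, List.prod_nil,
          inv_one, mul_one, map_mul, map_inv] at h
        show Φ.cgx r v * Φ.cgx z u = Φ.cgx z u * Φ.cgx r v
        simp only [cgx, ChevalleyDatum.scGen]
        rw [mul_assoc, mul_assoc, inv_mul_eq_iff_eq_mul, mul_one, inv_mul_eq_iff_eq_mul] at h
        exact h.symm
      by_cases h2 : (2 : F) = 0
      · -- squares form a subfield
        obtain ⟨s, hs⟩ := h5
        obtain ⟨c, -, hc'⟩ : ∃ c ∈ s, c ∉ ({0, 1} ∪ (Polynomial.X ^ 2 + Polynomial.X + 1 : Polynomial F).roots.toFinset : Finset F) := by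
          refine Finset.exists_mem_notMem_of_card_lt_card ?_
          refine lt_of_le_of_lt ((Finset.card_union_le _ _).trans (add_le_add (d := 2) Finset.card_le_two ?_)) hs
          refine (Multiset.toFinset_card_le _).trans ((Polynomial.card_roots' _).trans ?_)
          compute_degree
        simp only [Finset.mem_union, Finset.mem_insert, Finset.mem_singleton, Multiset.mem_toFinset,
          not_or] at hc'
        obtain ⟨⟨hc0, hc1⟩, hc2⟩ := hc'
        have hsq : ∀ m : F, m ≠ 0 → ∀ t u, f (m * m * t) (m * m * u) = f t u := fun m hm t u => by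
          have := hinv r (Units.mk0 m hm) t u
          simpa [pr_self, zpow_two, sq] using this
        intro t u
        have h11 : (1 : F) + 1 = 0 := by rw [one_add_one_eq_two, h2]
        have hc4 : c + 1 ≠ 0 := fun e => hc1 (by linear_combination e - h11)
        have key : ∀ v, f (c * c * t) v * f t (c * c * v) * f t v = 1 := fun v => by
          have h := hsq (c + 1) hc4 t v
          rw [show (c + 1) * (c + 1) = c * c + 1 by linear_combination c * h11, add_one_mul, add_one_mul, hl,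
            hr, hr, hsq c hc0, mul_assoc] at h
          have h3 := mul_eq_left.mp h
          rw [mul_assoc]; exact h3
        have hc3 : 1 + c * c + c * c * (c * c) ≠ 0 := by
          intro e
          have : (1 + c + c * c) ^ 2 = 0 := by linear_combination e + (c + c * c + c * c * c) * h11
          refine hc2 ((Polynomial.mem_roots ?_).mpr ?_)
          · refine Polynomial.Monic.ne_zero ?_
            monicity!
          · simp [Polynomial.IsRoot]; linear_combination pow_eq_zero_iff (two_ne_zero) |>.mp this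
        set v := u / (1 + c * c + c * c * (c * c))
        have h3 := key (c * c * v)
        rw [hsq c hc0] at h3
        show f t u = 1
        rw [show u = v + c * c * (c * c * v) + c * c * v by linear_combination -(div_mul_cancel₀ u hc3), hr, hr]
        exact h3
      · -- the root element is a commutator of elements commuting with the root subgroup
        intro t u
        have hcF : (cc : F) ≠ 0 := by rcases Int.natAbs_eq cc with e | e <;> rw [e, hcc] <;> simpa using h2
        have h : PresentedGroup.mk (D.steinbergRelsAB F) ((D.stX y (1 : F))⁻¹ * (D.stX x (-(t / cc)))⁻¹ *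
            D.stX y 1 * D.stX x (-(t / cc)) * (D.stWord (D.commWord F x y (-(t / cc)) 1))⁻¹) = 1 :=
          PresentedGroup.one_of_mem (Or.inr ⟨x, y, -(t / cc), 1, hx, hy, n1, n2, rfl⟩)
        have hv : (cc : F) * (t / cc) = t := mul_div_cancel₀ t hcF
        simp only [ChevalleyDatum.commWord, heq, List.map_cons, List.map_nil, ChevalleyDatum.stWord,
          List.prod_cons, List.prod_nil, mul_one, map_mul, map_inv, pow_one, neg_neg, hv] at h
        rw [mul_inv_eq_one] at h
        have e : π (L.X r t) = π ⁅(L.X y' 1)⁻¹, (L.X x' (-(t / cc)))⁻¹⁆ := by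
          rw [hXv r t, map_commutatorElement, map_inv, map_inv, commutatorElement_def, inv_inv, inv_inv,
            hXv y' 1, hXv x' (-(t / cc))]
          exact h.symm
        rw [CentralComm.comm_congr hc e rfl, commutatorElement_eq_one_iff_commute]
        set g := L.X r u
        have fix : ∀ z : Fin D.nroots, z ≠ r → z ≠ r.rev → D.commTerms r.val z.val = [] → ∀ v,
            π (g * L.X z v * g⁻¹) = π (L.X z v) := fun z z1 z2 hz v => by
          rw [map_mul, map_mul, map_inv, hXv, hXv, (comm_r z z1 z2 hz u v).eq, mul_inv_cancel_right]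
        have hx' := fix x' (fun e => n3 (congrArg Fin.val e))
          (fun e => n4 ((congrArg Fin.val e).trans (Φ.negIdx_eq r).symm)) (by simpa using e1) (-(t / cc))
        have hy' := fix y' (fun e => n5 (congrArg Fin.val e))
          (fun e => n6 ((congrArg Fin.val e).trans (Φ.negIdx_eq r).symm)) (by simpa using e2) 1
        have := CentralComm.comm_congr hc (a := (g * L.X y' 1 * g⁻¹)⁻¹) (a' := (L.X y' 1)⁻¹)
          (b := (g * L.X x' (-(t / cc)) * g⁻¹)⁻¹) (b' := (L.X x' (-(t / cc)))⁻¹)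
          (by rw [map_inv, map_inv, hy']) (by rw [map_inv, map_inv, hx'])
        rw [show ⁅(g * L.X y' 1 * g⁻¹)⁻¹, (g * L.X x' (-(t / cc)) * g⁻¹)⁻¹⁆ =
          g * ⁅(L.X y' 1)⁻¹, (L.X x' (-(t / cc)))⁻¹⁆ * g⁻¹ by simp only [commutatorElement_def]; group,
          mul_inv_eq_iff_eq_mul] at this
        exact this.symm
  have hadd : L.Additive := by
    intro r x y
    show ⁅H r, Y r ((x + y) / (q - 1))⁆ = ⁅H r, Y r (x / (q - 1))⁆ * ⁅H r, Y r (y / (q - 1))⁆
    rw [CentralComm.comm_congr hc (rfl : π (H r) = π (H r))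
      (show π (Y r ((x + y) / (q - 1))) = π (Y r (x / (q - 1)) * Y r (y / (q - 1))) by
        rw [map_mul, πY, πY, πY, ← Φ.cgx_add, add_div])]
    rw [show ⁅H r, Y r (x / (q - 1)) * Y r (y / (q - 1))⁆ = ⁅H r, Y r (x / (q - 1))⁆ *
        (Y r (x / (q - 1)) * ⁅H r, Y r (y / (q - 1))⁆ * (Y r (x / (q - 1)))⁻¹) by
      simp only [commutatorElement_def]; group]
    congr 1
    have : ⁅Y r (x / (q - 1)), L.X r y⁆ = 1 := by
      rw [CentralComm.comm_congr hc (show π (Y r (x / (q - 1))) = π (L.X r (x / (q - 1))) by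
        rw [πY, hXv]) rfl]
      exact hsame r _ _
    rw [commutatorElement_eq_one_iff_mul_comm] at this
    rw [show ⁅H r, Y r (y / (q - 1))⁆ = L.X r y from rfl, this, mul_inv_cancel_right]
  have hequ : L.Equivariant := by
    intro w b r t g hg
    show g * ⁅H r, Y r (t / (q - 1))⁆ * g⁻¹ = ⁅H r, Y r (_ / (q - 1))⁆
    rw [show g * ⁅H r, Y r (t / (q - 1))⁆ * g⁻¹ = ⁅g * H r * g⁻¹, g * Y r (t / (q - 1)) * g⁻¹⁆ by
      simp only [commutatorElement_def]; group]
    obtain ⟨z, hz, e⟩ : ∃ z, π z ∈ Subgroup.center (D.SteinbergCover F) ∧ g * H r * g⁻¹ = z * H r := by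
      refine ⟨g * H r * g⁻¹ * (H r)⁻¹, ?_, by group⟩
      refine (Φ.cker_proj hadj ?_).1
      have hH := fun x y => (Φ.H_comm (Φ.hw_mem_H (F := F) w x) (Φ.hw_mem_H r y)).eq
      rw [map_mul π, map_mul π, map_mul π, map_inv π, map_inv π, show π g = Φ.cgh w b from hg, πH]
      rw [map_mul, map_mul, map_mul, map_inv, map_inv, Φ.cproj_gh, Φ.cproj_gh, hH, mul_inv_cancel_right,
        mul_inv_cancel]
    have hzc : z ∈ Subgroup.center E := CentralComm.mem_center_of_perfect hc hπ hperf hz
    have hzz := Subgroup.mem_center_iff.mp hzc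
    rw [e]
    rw [show ⁅z * H r, g * Y r (t / (q - 1)) * g⁻¹⁆ = ⁅H r, g * Y r (t / (q - 1)) * g⁻¹⁆ by
      simp only [commutatorElement_def]
      rw [← hzz (H r), _root_.mul_inv_rev]
      calc H r * z * (g * Y r (t / (q - 1)) * g⁻¹) * (z⁻¹ * (H r)⁻¹) * (g * Y r (t / (q - 1)) * g⁻¹)⁻¹
          = H r * (z * (g * Y r (t / (q - 1)) * g⁻¹)) * z⁻¹ * (H r)⁻¹ * (g * Y r (t / (q - 1)) * g⁻¹)⁻¹ := by group
        _ = H r * ((g * Y r (t / (q - 1)) * g⁻¹) * z) * z⁻¹ * (H r)⁻¹ * (g * Y r (t / (q - 1)) * g⁻¹)⁻¹ := by rw [← hzz]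
        _ = _ := by group]
    refine CentralComm.comm_congr hc rfl ?_
    rw [map_mul, map_mul, map_inv, show π g = Φ.cgh w b from hg, πY, πY, Φ.cgh_conj hadj, mul_div_assoc]
  exact L.exists_section hadd (L.exact_all hadd hadj hequ fun r s h1 h2 hb =>
    L.exact_of_bilinear h5 hpc h1 h2 hb)

end Chev

end CfsgLib.Chev
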