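/-
Universal property of the presented cover and Schur multipliers of the Chevalley groups.
-/
import Cfsg.Agent.Lib.Chev.CoverUniversal
import Cfsg.Agent.Lib.Chev.SteinbergCoverPerfect
import Cfsg.Prelude.Def_KGroupFacts

namespace CfsgLib.Chev

open Cfsg.Lie Matrix
open scoped commutatorElement

set_option linter.dupNamespace false

universe u v

/-- Homomorphisms from a perfect group into a central extension lifting the same map agree. -/
theorem lift_unique {G E H : Type*} [Group G] [Group E] [Group H] (hG : commutator G = ⊤) (π : E →* H)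
    (hc : π.ker ≤ Subgroup.center E) {τ τ' : G →* E} (h : π.comp τ = π.comp τ') : τ = τ' := by
  have hs : commutator G ≤ τ.eqLocus τ' := by
    rw [commutator_def, Subgroup.commutator_le]
    intro a _ b _
    show τ ⁅a, b⁆ = τ' ⁅a, b⁆
    rw [map_commutatorElement, map_commutatorElement]
    exact CfsgLib.CentralComm.comm_congr hc (DFunLike.congr_fun h a) (DFunLike.congr_fun h b)
  rw [hG] at hs
  exact MonoidHom.ext fun g => hs (Subgroup.mem_top g)

/-- Central extensions of the presented cover split. -/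
def Split (D : ChevalleyDatum) (F : Type u) [Field F] : Prop :=
  ∀ (E : Type v) [Group E] (π : E →* D.SteinbergCover F), Function.Surjective π →
    π.ker ≤ Subgroup.center E → ∃ σ : D.SteinbergCover F →* E, π.comp σ = MonoidHom.id _

theorem existsUnique_lift {D : ChevalleyDatum} {F : Type u} [Field F] (hperf : commutator (D.SteinbergCover F) = ⊤)
    {G₁ E : Type*} [Group G₁] [Group E] (hsplit : ∀ (S : Subgroup (E × D.SteinbergCover F))
      (π : S →* D.SteinbergCover F), Function.Surjective π → π.ker ≤ Subgroup.center S →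
      ∃ σ : D.SteinbergCover F →* S, π.comp σ = MonoidHom.id _)
    (π₁ : E →* G₁) (hπ : Function.Surjective π₁) (hc : π₁.ker ≤ Subgroup.center E)
    (σ : D.SteinbergCover F →* G₁) : ∃! τ : D.SteinbergCover F →* E, π₁.comp τ = σ := by
  let S : Subgroup (E × D.SteinbergCover F) := (π₁.comp (MonoidHom.fst _ _)).eqLocus (σ.comp (MonoidHom.snd _ _))
  let q : S →* D.SteinbergCover F := (MonoidHom.snd _ _).comp S.subtype
  have hq : Function.Surjective q := fun d => by
    obtain ⟨e, he⟩ := hπ (σ d)
    exact ⟨⟨(e, d), he⟩, rfl⟩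
  have hqc : q.ker ≤ Subgroup.center S := by
    rintro ⟨⟨e, d⟩, hm⟩ hk
    have hd : d = 1 := hk
    subst hd
    have he : e ∈ Subgroup.center E := hc (by
      rw [MonoidHom.mem_ker]
      exact (show π₁ e = σ 1 from hm).trans (map_one σ))
    rw [Subgroup.mem_center_iff]
    rintro ⟨⟨e', d'⟩, hm'⟩
    exact Subtype.ext (Prod.ext (Subgroup.mem_center_iff.mp he e') (by simp))
  obtain ⟨s, hs⟩ := hsplit S q hq hqc
  refine ⟨((MonoidHom.fst _ _).comp S.subtype).comp s, ?_, fun τ hτ => lift_unique hperf π₁ hc (hτ.trans ?_)⟩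
  all_goals
    refine MonoidHom.ext fun d => ?_
    have h1 : π₁ (s d).1.1 = σ (s d).1.2 := (s d).2
    rw [show (s d).1.2 = d from DFunLike.congr_fun hs d] at h1
    first
      | exact h1
      | exact h1.symm

theorem split_of_card {D : ChevalleyDatum} {F : Type u} [Field F]
    (hD : D ∈ [Cfsg.Lie.chevG2, Cfsg.Lie.chevB2, Cfsg.Lie.chevD4, Cfsg.Lie.chevF4, Cfsg.Lie.chevE6,
      Cfsg.Lie.chevE7, Cfsg.Lie.chevE8]) (h5 : ∃ s : Finset F, 4 < s.card) : Split.{u, v} D F := by
  intro E _ π hπ hc
  obtain ⟨Φ, hadj⟩ := exists_adj hD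
  obtain ⟨hpc, hdc⟩ := checks_of_mem hD
  refine Chev.exists_section_of_card hadj (cover_perfect_of_mem hD fun _ => ?_) hpc hdc h5 π hπ hc
  obtain ⟨s, hs⟩ := h5
  classical
  obtain ⟨x, -, hx⟩ := Finset.exists_mem_notMem_of_card_lt_card (s := ({0, 1} : Finset F)) (t := s)
    (lt_of_le_of_lt Finset.card_le_two (by omega))
  simp only [Finset.mem_insert, Finset.mem_singleton, not_or] at hx
  exact ⟨x, hx⟩

/-- The multiplier of the Chevalley group is carried by the presented cover, once central extensions split. -/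
theorem hasMultiplier_of_split {D : ChevalleyDatum} {F : Type u} [Field F] [Finite F]
    (hsplit : Split.{u, u} D F) (hperf : commutator (D.SteinbergCover F) = ⊤)
    (θ : D.SteinbergCover F →* ↥(D.group F)) (hθ : Function.Surjective θ)
    (hθc : θ.ker ≤ Subgroup.center (D.SteinbergCover F)) [Finite (D.SteinbergCover F)]
    {A : Type v} [CommGroup A] (e : Nonempty (θ.ker ≃* A)) :
    Cfsg.HasSchurMultiplier ↥(D.group F) A := by
  refine ⟨⟨D.SteinbergCover F, inferInstance, inferInstance, θ, ⟨hθ, hθc, by rw [hperf]; exact le_top⟩, e⟩,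
    fun Γ _ _ σ hσ => ?_⟩
  obtain ⟨hsurj, hc, hcomm⟩ := hσ
  obtain ⟨τ, hτ, -⟩ := existsUnique_lift hperf (fun S π h1 h2 => hsplit S π h1 h2) σ hsurj hc θ
  have hΓ : commutator Γ = ⊤ := by
    have hG : commutator ↥(D.group F) = ⊤ := by
      rw [← MonoidHom.range_eq_top.mpr hθ, MonoidHom.range_eq_map, ← hperf]
      rw [commutator_def, commutator_def, Subgroup.map_commutator, ← MonoidHom.range_eq_map,
        MonoidHom.range_eq_top.mpr hθ]
    rw [eq_top_iff]
    intro g _
    have : σ g ∈ (commutator Γ).map σ := by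
      rw [commutator_def, Subgroup.map_commutator, ← MonoidHom.range_eq_map,
        MonoidHom.range_eq_top.mpr hsurj, ← commutator_def, hG]
      trivial
    obtain ⟨h, hh, e⟩ := this
    have hk : h⁻¹ * g ∈ σ.ker := by rw [MonoidHom.mem_ker, map_mul, map_inv, e, inv_mul_cancel]
    simpa using (commutator Γ).mul_mem hh (hcomm hk)
  have hτs : Function.Surjective τ := by
    rw [← MonoidHom.range_eq_top, eq_top_iff, ← hΓ, commutator_def, Subgroup.commutator_le]
    intro a _ b _
    obtain ⟨a', ha⟩ := hθ (σ a)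
    obtain ⟨b', hb⟩ := hθ (σ b)
    refine ⟨⁅a', b'⁆, ?_⟩
    rw [map_commutatorElement]
    exact CfsgLib.CentralComm.comm_congr hc ((DFunLike.congr_fun hτ a').trans ha)
      ((DFunLike.congr_fun hτ b').trans hb)
  obtain ⟨e⟩ := e
  let f : θ.ker →* σ.ker := (τ.comp θ.ker.subtype).codRestrict _ fun x => by
    rw [MonoidHom.mem_ker]
    exact (DFunLike.congr_fun hτ x.1).trans x.2
  refine ⟨f.comp e.symm.toMonoidHom, fun y => ?_⟩
  obtain ⟨x, hx⟩ := hτs y.1
  have hxk : θ x = 1 := by
    rw [← DFunLike.congr_fun hτ x]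
    show σ (τ x) = 1
    rw [hx]
    exact y.2
  exact ⟨e ⟨x, hxk⟩, Subtype.ext (by simpa [f] using hx)⟩

end CfsgLib.Chev
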