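/-
Over a finite field the presented groups are finite and the cover is the universal group.
-/
import Cfsg.Agent.Lib.Chev.SteinbergCoverRels
import Cfsg.Agent.Lib.Chev.CoverMultiplier

namespace CfsgLib.Chev

open Cfsg.Lie Matrix

set_option linter.dupNamespace false

variable {D : ChevalleyDatum}

namespace Chev

variable (Φ : Chev D) {F : Type*} [Field F] [Finite F]

theorem finite_steinbergGroup (hadj : Φ.Adj) : Finite (D.SteinbergGroup F) := by
  haveI : Finite (Φ.proj F).ker := by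
    let f : (Fin D.rank → Fˣ) → D.SteinbergGroup F := fun c =>
      ((List.finRange D.rank).map fun k => Φ.gh (Φ.p k) (c k)).prod
    refine Set.Finite.to_subtype (Set.Finite.subset (Set.finite_range f) fun g hg => ?_)
    obtain ⟨c, rfl⟩ := Φ.mem_gH_form hadj (Φ.ker_le_gH hadj hg)
    exact ⟨c, rfl⟩
  haveI : Finite (GL D.Idx F) := inferInstance
  haveI : Finite (D.SteinbergGroup F ⧸ (Φ.proj F).ker) :=
    Finite.of_injective _ (QuotientGroup.kerLift_injective (Φ.proj F))
  exact Finite.of_equiv _ (Subgroup.groupEquivQuotientProdSubgroup (s := (Φ.proj F).ker)).symm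

theorem finite_cover (hadj : Φ.Adj) : Finite (D.SteinbergCover F) := by
  haveI := Φ.finite_steinbergGroup (F := F) hadj
  obtain ⟨e, -⟩ := Φ.cover_equiv (F := F) hadj
  exact Finite.of_equiv _ e.symm.toEquiv

theorem cover_center_equiv (hadj : Φ.Adj) :
    Nonempty (Subgroup.center (D.SteinbergCover F) ≃* Subgroup.center (D.SteinbergGroup F)) := by
  obtain ⟨e, -⟩ := Φ.cover_equiv (F := F) hadj
  exact ⟨Subgroup.centerCongr e⟩

end Chev

universe u

theorem hasCyclicMultiplier_one_of_center {D : ChevalleyDatum} {F : Type u} [Field F] [Finite F]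
    (hD : D ∈ [Cfsg.Lie.chevG2, Cfsg.Lie.chevB2, Cfsg.Lie.chevD4, Cfsg.Lie.chevF4, Cfsg.Lie.chevE6,
      Cfsg.Lie.chevE7, Cfsg.Lie.chevE8]) (hsplit : Split.{u, u} D F)
    (h2 : D = Cfsg.Lie.chevG2 ∨ D = Cfsg.Lie.chevB2 → ∃ a : F, a ≠ 0 ∧ a ≠ 1)
    (hZ : Subgroup.center (D.SteinbergGroup F) = ⊥) :
    Cfsg.HasCyclicSchurMultiplier ↥(D.group F) 1 := by
  obtain ⟨Φ, hadj⟩ := exists_adj hD
  haveI := Φ.finite_cover (F := F) hadj
  refine hasMultiplier_of_split hsplit (cover_perfect_of_mem hD h2)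
    ((Φ.cproj F).codRestrict (D.group F) Φ.cproj_mem_group) ?_ ?_ ?_
  · rintro ⟨g, hg⟩
    have hle : D.group F ≤ (Φ.cproj F).range := by
      rw [Φ.toAlg.group_eq, Subgroup.closure_le]
      rintro _ ⟨r, t, rfl⟩
      exact ⟨_, Φ.cproj_gx r t⟩
    obtain ⟨y, hy⟩ := hle hg
    exact ⟨y, Subtype.ext hy⟩
  · rw [MonoidHom.ker_codRestrict, Φ.cker_proj_eq_center hadj]
  · rw [MonoidHom.ker_codRestrict, Φ.cker_proj_eq_center hadj]
    obtain ⟨e⟩ := Φ.cover_center_equiv (F := F) hadj
    haveI : Subsingleton (Subgroup.center (D.SteinbergGroup F)) := by rw [hZ]; infer_instance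
    haveI : Subsingleton (Multiplicative (ZMod 1)) := inferInstance
    letI : Unique (Subgroup.center (D.SteinbergGroup F)) := uniqueOfSubsingleton 1
    exact ⟨e.trans MulEquiv.ofUnique⟩

end CfsgLib.Chev
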