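/-
Lifting homomorphisms from the presented cover over a finite field through central extensions
whose kernel has no element of order the characteristic.
-/
import Cfsg.Agent.Lib.Chev.CoverMultiplier
import Cfsg.Agent.Lib.Chev.CoverFinite
import Cfsg.Agent.Lib.Chev.Bruhat
import Mathlib.GroupTheory.SchurZassenhaus
import Mathlib.GroupTheory.Schreier

namespace CfsgLib.Chev

open Cfsg.Lie Matrix
open scoped commutatorElement

set_option linter.dupNamespace false
set_option linter.unusedSimpArgs false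

namespace Chev

variable {D : ChevalleyDatum} (Φ : Chev D) {F : Type*} [Field F]

theorem W_le_WL : Φ.W ≤ Φ.WL := by
  rw [W, Subgroup.closure_le]
  rintro _ ⟨i, rfl⟩
  exact Φ.reflPerm_mem_WL i

theorem cgx_pow (r : Fin D.nroots) (t : F) (n : ℕ) : Φ.cgx r t ^ n = Φ.cgx r ((n : F) * t) := by
  induction n with
  | zero => simp [Φ.cgx_zero]
  | succ n ih => rw [pow_succ, ih, ← Φ.cgx_add, Nat.cast_succ, add_one_mul]

/-- The subgroup of the cover attached to a positive system is a group of prime power exponent. -/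
theorem isPGroup_cgUS_pos [Finite F] (p : ℕ) [Fact p.Prime] [CharP F p] {π : Equiv.Perm (Fin D.nroots)}
    (hπ : π ∈ Φ.W) : IsPGroup p ↥(Φ.cgUS F fun k => Φ.toTables.Pos (π k)) := by
  classical
  haveI := Fintype.ofFinite F
  obtain ⟨e, -, hcard⟩ := FiniteField.card F p
  have hU : IsPGroup p ↥(D.posUnipotent F) := by
    refine IsPGroup.of_card (n := (e : ℕ) * (D.nroots / 2)) ?_
    rw [Φ.card_U, Nat.card_eq_fintype_card, hcard, pow_mul]
  obtain ⟨n, -, hn⟩ := Φ.exists_preimage F (Φ.W_le_WL hπ)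
  have hcl : Φ.Closed fun k => Φ.toTables.Pos (π k) := fun x y hx hy hN => by
    show Φ.toTables.Pos (π (Φ.S x y))
    rw [← Φ.code_pos_iff, Φ.code_W_add hπ hN]
    have := Φ.code_pos hx
    have := Φ.code_pos hy
    omega
  have hle : Φ.US F (fun k => Φ.toTables.Pos (π k)) ≤
      (D.posUnipotent F).comap (MulAut.conj n).toMonoidHom := by
    rw [US, Subgroup.closure_le]
    rintro _ ⟨r, t, hr, rfl⟩
    obtain ⟨a, -, ha, -⟩ := hn.1 r
    show n * Φ.toAlg.xg r t * n⁻¹ ∈ D.posUnipotent F
    rw [ha, Φ.posUnipotent_eq_US]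
    exact Φ.xg_mem_US hr _
  rintro ⟨g, hg⟩
  obtain ⟨j, hj⟩ := hU ⟨n * Φ.cproj F g * n⁻¹, hle (Φ.cproj_mem_US hg)⟩
  refine ⟨j, Subtype.ext ?_⟩
  rw [SubgroupClass.coe_pow, OneMemClass.coe_one]
  refine Φ.cgUS_inj hπ hcl (fun r hr => hr) _ (pow_mem hg _) ?_
  have hj' : (n * Φ.cproj F g * n⁻¹) ^ p ^ j = 1 := by simpa using congrArg Subtype.val hj
  rw [conj_pow, mul_inv_eq_one, mul_eq_left] at hj'
  rw [map_pow]
  exact hj'

variable {E : Type*} [Group E]

include Φ in
/-- A finite central extension of the cover whose kernel has no element of order the characteristic splits. -/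
theorem exists_section_of_coprime [Finite F] (p : ℕ) [Fact p.Prime] [CharP F p] [Finite E]
    (π : E →* D.SteinbergCover F) (hπ : Function.Surjective π) (hc : π.ker ≤ Subgroup.center E)
    (hnop : ∀ z, π z = 1 → z ^ p = 1 → z = 1) :
    ∃ σ : D.SteinbergCover F →* E, π.comp σ = MonoidHom.id _ := by
  classical
  have hp : p.Prime := Fact.out
  have zc : ∀ {z : E}, π z = 1 → ∀ g, Commute g z := fun hz g => CentralComm.ker_commute hc hz g
  have hcop : p.Coprime (Nat.card π.ker) := by
    rw [hp.coprime_iff_not_dvd]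
    intro hdvd
    obtain ⟨z, hz⟩ := exists_prime_orderOf_dvd_card' p hdvd
    have hz1 : (z : E) = 1 := hnop z z.2 (by
      rw [← SubgroupClass.coe_pow, ← hz, pow_orderOf_eq_one, OneMemClass.coe_one])
    rw [show z = 1 from Subtype.ext hz1, orderOf_one] at hz
    exact hp.ne_one hz.symm
  have huniq : ∀ a b : E, π a = π b → a ^ p = 1 → b ^ p = 1 → a = b := by
    intro a b hab ha hb
    obtain ⟨z, hz, rfl⟩ := CentralComm.exists_ker hc hab
    rw [(zc hz b).mul_pow, hb, one_mul] at ha
    rw [hnop z hz ha, mul_one]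
  have hxp : ∀ r (t : F), Φ.cgx r t ^ p = 1 := fun r t => by
    rw [Φ.cgx_pow, CharP.cast_eq_zero, zero_mul, Φ.cgx_zero]
  have hex : ∀ r (t : F), ∃ e : E, π e = Φ.cgx r t ∧ e ^ p = 1 := by
    intro r t
    obtain ⟨e, he⟩ := hπ (Φ.cgx r t)
    set M := Nat.card π.ker with hM
    refine ⟨e ^ M ^ p.totient, ?_, ?_⟩
    · have hmod : M ^ p.totient % p = 1 := by
        rw [Nat.ModEq.pow_totient hcop.symm, Nat.mod_eq_of_lt hp.one_lt]
      rw [map_pow, he, ← Nat.div_add_mod (M ^ p.totient) p, hmod, pow_add, pow_mul, hxp, one_pow, one_mul,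
        pow_one]
    · have hk : e ^ p ∈ π.ker := by rw [MonoidHom.mem_ker, map_pow, he, hxp]
      have h1 : (e ^ p) ^ M = 1 := by
        have := congrArg Subtype.val (pow_card_eq_one' (x := (⟨e ^ p, hk⟩ : π.ker)))
        simpa [hM] using this
      obtain ⟨q, hq⟩ : M ∣ M ^ p.totient := dvd_pow_self M (Nat.totient_pos.mpr hp.pos).ne'
      rw [← pow_mul, mul_comm, pow_mul, hq, pow_mul, h1, one_pow]
  choose X hX hXp using hex
  let L : Φ.Lift F E := { π := π, surj := hπ, central := hc, X := X, π_X := hX }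
  have hadd : L.Additive := by
    intro r a b
    have hcomm : ∀ u v, Commute (π (X r u)) (π (X r v)) := fun u v => by
      show _ = _
      rw [hX, hX, ← Φ.cgx_add, ← Φ.cgx_add, add_comm]
    have hk : π ⁅X r a, X r b⁆ = 1 := by
      rw [map_commutatorElement, commutatorElement_eq_one_iff_commute]; exact hcomm a b
    have hpow : ∀ n : ℕ, ⁅X r a ^ n, X r b⁆ = ⁅X r a, X r b⁆ ^ n := by
      intro n
      induction n with
      | zero => rw [pow_zero, pow_zero, commutatorElement_one_left]
      | succ n ih => rw [pow_succ, CentralComm.comm_mul_left hc (hcomm a b), ih, pow_succ]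
    have h1 : ⁅X r a, X r b⁆ = 1 := hnop _ hk (by rw [← hpow, hXp, commutatorElement_one_left])
    refine huniq _ _ ?_ (hXp _ _) ?_
    · show π (X r (a + b)) = π (X r a * X r b)
      rw [map_mul, hX, hX, hX, Φ.cgx_add]
    · rw [(commutatorElement_eq_one_iff_commute.mp h1).mul_pow, hXp, hXp, one_mul]
  refine L.exists_section hadd fun r s h1 h2 t u => ?_
  obtain ⟨w, hw, hwr, hws⟩ := Φ.exists_pos_pair (r := r) h2
  set P := Φ.cgUS F fun k => Φ.toTables.Pos (w k) with hP
  set TP := P.comap π with hTP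
  have hker : π.ker ≤ TP := fun z hz => by
    rw [hTP, Subgroup.mem_comap, MonoidHom.mem_ker.mp hz]; exact one_mem _
  set N := π.ker.subgroupOf TP with hN
  let f : TP →* P := (π.comp TP.subtype).codRestrict P fun x => x.2
  have hfker : f.ker = N := by
    ext x
    simp only [f, MonoidHom.mem_ker, hN, Subgroup.mem_subgroupOf]
    exact ⟨fun h => congrArg Subtype.val h, fun h => Subtype.ext h⟩
  have hNcard : Nat.card N = Nat.card π.ker := Nat.card_congr (Subgroup.subgroupOfEquivOfLe hker).toEquiv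
  have hNcop : (Nat.card N).Coprime N.index := by
    haveI : Finite P := Finite.of_surjective f fun y => by
      obtain ⟨e, he⟩ := hπ y.1
      refine ⟨⟨e, ?_⟩, Subtype.ext he⟩
      rw [hTP, Subgroup.mem_comap, he]; exact y.2
    obtain ⟨j, hj⟩ := IsPGroup.iff_card.mp ((Φ.isPGroup_cgUS_pos p hw).to_subgroup f.range)
    rw [← hfker, Subgroup.index_ker, hj, hfker, hNcard]
    exact (hcop.pow_left j).symm
  obtain ⟨H, hH⟩ := Subgroup.exists_right_complement'_of_coprime hNcop
  set H' := H.map TP.subtype with hH'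
  have hmemH : ∀ k : Fin D.nroots, Φ.toTables.Pos (w k) → ∀ c, X k c ∈ H' := by
    intro k hk c
    have hm : X k c ∈ TP := by
      rw [hTP, Subgroup.mem_comap, hX]; exact Φ.cgx_mem_gUS (S := fun k => Φ.toTables.Pos (w k)) hk c
    obtain ⟨⟨z, h⟩, hzh⟩ := hH.2 ⟨X k c, hm⟩
    have hz : π ((z : TP) : E) = 1 := z.2
    have hzh' : ((z : TP) : E) * ((h : TP) : E) = X k c := congrArg Subtype.val hzh
    have hcz : Commute (z : TP) (h : TP) := Subtype.ext ((zc hz _).eq.symm)
    have hpow : ((z : TP) * (h : TP)) ^ p = 1 := by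
      rw [show (z : TP) * (h : TP) = ⟨X k c, hm⟩ from hzh]
      exact Subtype.ext (by simp [hXp])
    rw [hcz.mul_pow, mul_eq_one_iff_eq_inv] at hpow
    have hz1 : (z : TP) ^ p = 1 := by
      refine Subgroup.disjoint_def.mp hH.disjoint (pow_mem z.2 p) ?_
      rw [hpow]
      exact inv_mem (pow_mem h.2 p)
    have hz2 : ((z : TP) : E) = 1 := hnop _ hz (by simpa using congrArg Subtype.val hz1)
    rw [hz2, one_mul] at hzh'
    rw [← hzh']
    exact Subgroup.mem_map_of_mem _ h.2
  have hword : wordE X (D.commWord F r.val s.val t u) ∈ H' := by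
    refine Subgroup.list_prod_mem _ fun g hg => ?_
    obtain ⟨q, hq, rfl⟩ := List.mem_map.mp hg
    simp only [ChevalleyDatum.commWord, List.mem_map] at hq
    obtain ⟨d, hd, rfl⟩ := hq
    obtain ⟨hlt, i, j, hi, hj, hk⟩ := Φ.between_of_mem_commTerms hd
    rw [dif_pos hlt]
    refine hmemH _ ?_ _
    rw [← Φ.code_pos_iff, Φ.code_W_lin hw hk]
    have := Φ.code_pos hwr
    have := Φ.code_pos hws
    nlinarith
  have hd : L.defect r s t u ∈ H' := by
    refine mul_mem (mul_mem (mul_mem (mul_mem ?_ ?_) ?_) ?_) (inv_mem hword)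
    · exact inv_mem (hmemH s hws u)
    · exact inv_mem (hmemH r hwr t)
    · exact hmemH s hws u
    · exact hmemH r hwr t
  obtain ⟨x, hx, hxd⟩ := hd
  have hxN : x ∈ N := by
    rw [hN, Subgroup.mem_subgroupOf, MonoidHom.mem_ker]
    rw [Subgroup.coe_subtype] at hxd
    rw [hxd]
    exact L.π_defect h1 h2 t u
  rw [← hxd, Subgroup.disjoint_def.mp hH.disjoint hxN hx, map_one]

/-- Maps from the cover lift uniquely through central extensions whose kernel has no element of order the
characteristic. -/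
theorem existsUnique_lift_of_coprime [Finite F] (p : ℕ) [Fact p.Prime] [CharP F p] (hadj : Φ.Adj)
    (hperf : commutator (D.SteinbergCover F) = ⊤) {G₁ : Type*} [Group G₁] (π₁ : E →* G₁)
    (hπ : Function.Surjective π₁) (hc : π₁.ker ≤ Subgroup.center E)
    (hnop : ∀ z, π₁ z = 1 → z ^ p = 1 → z = 1) (σ : D.SteinbergCover F →* G₁) :
    ∃! τ : D.SteinbergCover F →* E, π₁.comp τ = σ := by
  haveI := Φ.finite_cover (F := F) hadj
  let S : Subgroup (E × D.SteinbergCover F) :=
    (π₁.comp (MonoidHom.fst _ _)).eqLocus (σ.comp (MonoidHom.snd _ _))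
  let q : S →* D.SteinbergCover F := (MonoidHom.snd _ _).comp S.subtype
  have hq : Function.Surjective q := fun d => by
    obtain ⟨e, he⟩ := hπ (σ d)
    exact ⟨⟨(e, d), he⟩, rfl⟩
  have hk : ∀ z : S, q z = 1 → π₁ z.1.1 = 1 := by
    rintro ⟨⟨e, d⟩, hm⟩ hz
    have hd : d = 1 := hz
    subst hd
    exact (show π₁ e = σ 1 from hm).trans (map_one σ)
  have hqc : q.ker ≤ Subgroup.center S := by
    rintro ⟨⟨e, d⟩, hm⟩ hz
    have hd : d = 1 := hz
    have he : e ∈ Subgroup.center E := hc (hk _ hz)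
    subst hd
    rw [Subgroup.mem_center_iff]
    rintro ⟨⟨e', d'⟩, hm'⟩
    exact Subtype.ext (Prod.ext (Subgroup.mem_center_iff.mp he e') (by simp))
  haveI : Finite (commutatorSet S) := by
    refine Set.Finite.to_subtype (Set.Finite.subset (Set.finite_range
      fun ab : D.SteinbergCover F × D.SteinbergCover F =>
        ⁅Function.surjInv hq ab.1, Function.surjInv hq ab.2⁆) ?_)
    rintro _ ⟨a, b, rfl⟩
    exact ⟨(q a, q b), CentralComm.comm_congr hqc (Function.surjInv_eq hq _) (Function.surjInv_eq hq _)⟩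
  let q' : commutator S →* D.SteinbergCover F := q.comp (commutator S).subtype
  have hq' : Function.Surjective q' := by
    rw [← MonoidHom.range_eq_top, MonoidHom.range_comp, Subgroup.range_subtype, commutator_def,
      Subgroup.map_commutator, ← MonoidHom.range_eq_map, MonoidHom.range_eq_top.mpr hq, ← commutator_def,
      hperf]
  obtain ⟨s, hs⟩ := Φ.exists_section_of_coprime p q' hq' (fun z hz => by
      rw [Subgroup.mem_center_iff]
      exact fun g => Subtype.ext (Subgroup.mem_center_iff.mp (hqc (show z.1 ∈ q.ker from hz)) g.1))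
    (fun z hz hzp => by
      have h1 : z.1.1.1 = 1 := hnop _ (hk _ hz) (by
        simpa using congrArg (fun w : commutator S => w.1.1.1) hzp)
      have h2 : z.1.1.2 = 1 := hz
      exact Subtype.ext (Subtype.ext (Prod.ext h1 h2)))
  refine ⟨(((MonoidHom.fst _ _).comp S.subtype).comp (commutator S).subtype).comp s, ?_,
    fun τ hτ => lift_unique hperf π₁ hc (hτ.trans ?_)⟩
  all_goals
    refine MonoidHom.ext fun d => ?_
    have h1 : π₁ (s d).1.1.1 = σ (s d).1.1.2 := (s d).1.2
    rw [show (s d).1.1.2 = d from DFunLike.congr_fun hs d] at h1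
    first
      | exact h1
      | exact h1.symm

end Chev

end CfsgLib.Chev
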