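/-
Graph automorphisms of the tabulated Chevalley groups.
-/
import Cfsg.Agent.Lib.Chev.MorphData
import Cfsg.Agent.Lib.Chev.PerfectData

namespace CfsgLib.Chev

open Cfsg.Lie

set_option maxRecDepth 100000
set_option linter.dupNamespace false

/-- The values of the map at the fundamental roots and their negatives. -/
def valCheck (D : ChevalleyDatum) (M : MorData) (sig : List (ℕ × ℕ)) : Bool :=
  (List.range D.rank).all fun i =>
    Nat.blt (D.simple i) D.nroots && Nat.blt (D.neg (D.simple i)) D.nroots &&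
    Nat.beq (M.ρ (D.simple i)) (D.simple (sig.getD i (0, 1)).1) &&
    Nat.beq (M.ρ (D.neg (D.simple i))) (D.neg (D.simple (sig.getD i (0, 1)).1)) &&
    Nat.beq (M.l (D.simple i)) (sig.getD i (0, 1)).2 &&
    Nat.beq (M.l (D.neg (D.simple i))) (sig.getD i (0, 1)).2 &&
    (M.e (D.simple i) == 1) && (M.e (D.neg (D.simple i)) == 1)

theorem exists_graphAut {D : ChevalleyDatum} {F : Type*} [Field F] (Φ : Chev D) {p : ℕ} {M : MorData}
    {sig : List (ℕ × ℕ)} (hadj : adjCheck D = true) (hF : Chev.MorOK F p) (hM : M.check D p = true)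
    (hv : valCheck D M sig = true) (hS : IsSimpleGroup ↥(D.group F) ∨ Finite ↥(D.group F)) :
    ∃ α : ↥(D.group F) ≃* ↥(D.group F), ∀ (g : ↥(D.group F)) (i : ℕ) (t : F), i < D.rank →
      (((g : GL D.Idx F) : Matrix D.Idx D.Idx F) = D.x F (D.simple i) t →
        ((α g : GL D.Idx F) : Matrix D.Idx D.Idx F) =
          D.x F (D.simple (sig.getD i (0, 1)).1) (t ^ (sig.getD i (0, 1)).2)) ∧
      (((g : GL D.Idx F) : Matrix D.Idx D.Idx F) = D.x F (D.neg (D.simple i)) t →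
        ((α g : GL D.Idx F) : Matrix D.Idx D.Idx F) =
          D.x F (D.neg (D.simple (sig.getD i (0, 1)).1)) (t ^ (sig.getD i (0, 1)).2)) := by
  obtain ⟨α, hα⟩ := Φ.exists_mor_equiv (Φ.adj_of_check hadj) hF hM hS
  refine ⟨α, fun g i t hi => ?_⟩
  simp only [valCheck, List.all_eq_true, List.mem_range, Bool.and_eq_true, Nat.blt_eq, Nat.beq_eq,
    beq_iff_eq] at hv
  obtain ⟨⟨⟨⟨⟨⟨⟨h1, h2⟩, h3⟩, h4⟩, h5⟩, h6⟩, h7⟩, h8⟩ := hv i hi
  constructor <;> intro hg
  · rw [hα _ h1 t g hg, h3, h5, h7, Int.cast_one, one_mul]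
  · rw [hα _ h2 t g hg, h4, h6, h8, Int.cast_one, one_mul]

theorem finite_or_large (F : Type*) [Field F] : Finite F ∨ ∃ a : F, a ≠ 0 ∧ a ≠ 1 := by
  by_cases h : ∃ a : F, a ≠ 0 ∧ a ≠ 1
  · exact Or.inr h
  · push Not at h
    refine Or.inl (Finite.of_surjective (fun b : Bool => if b then (1 : F) else 0) fun a => ?_)
    by_cases ha : a = 0
    · exact ⟨false, by simp [ha]⟩
    · exact ⟨true, by simp [h a ha]⟩

theorem vE6 : valCheck Cfsg.Lie.chevE6 morE6 [(5, 1), (1, 1), (4, 1), (3, 1), (2, 1), (0, 1)] = true := by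
  decide +kernel
theorem vD4a : valCheck Cfsg.Lie.chevD4 morD4a [(2, 1), (1, 1), (3, 1), (0, 1)] = true := by decide +kernel
theorem vD4b : valCheck Cfsg.Lie.chevD4 morD4b [(3, 1), (1, 1), (0, 1), (2, 1)] = true := by decide +kernel
theorem vB2 : valCheck Cfsg.Lie.chevB2 morB2 [(1, 2), (0, 1)] = true := by decide +kernel
theorem vF4 : valCheck Cfsg.Lie.chevF4 morF4 [(3, 2), (2, 2), (1, 1), (0, 1)] = true := by decide +kernel

theorem simpleE6 (F : Type*) [Field F] : IsSimpleGroup ↥(Cfsg.Lie.chevE6.group F) :=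
  (simple_of_conn chevE6 connE6 ⟨0, by decide⟩ (chevE6.group_perfect witE6 fun _ c hc => allowOne_ne hc)).1

theorem simpleD4 (F : Type*) [Field F] : IsSimpleGroup ↥(Cfsg.Lie.chevD4.group F) :=
  (simple_of_conn chevD4 connD4 ⟨0, by decide⟩ (chevD4.group_perfect witD4 fun _ c hc => allowOne_ne hc)).1

theorem simpleF4 (F : Type*) [Field F] : IsSimpleGroup ↥(Cfsg.Lie.chevF4.group F) :=
  (simple_of_conn chevF4 connF4 ⟨0, by decide⟩ (chevF4.group_perfect witF4 fun _ c hc => allowOne_ne hc)).1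

theorem simpleG2 (F : Type*) [Field F] (h : ∃ a : F, a ≠ 0 ∧ a ≠ 1) :
    IsSimpleGroup ↥(Cfsg.Lie.chevG2.group F) :=
  (simple_of_conn chevG2 connG2 ⟨0, by decide⟩
    (chevG2.group_perfect witG2 fun hsq c hc => allowTwo_ne (two_ne_zero_of_sq h hsq) hc)).1

theorem simpleB2 (F : Type*) [Field F] (h : ∃ a : F, a ≠ 0 ∧ a ≠ 1) :
    IsSimpleGroup ↥(Cfsg.Lie.chevB2.group F) :=
  (simple_of_conn chevB2 connB2 ⟨0, by decide⟩
    (chevB2.group_perfect witB2 fun hsq c hc => allowTwo_ne (two_ne_zero_of_sq h hsq) hc)).1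

theorem finite_group {D : ChevalleyDatum} {F : Type*} [Field F] [Finite F] : Finite ↥(D.group F) := by
  haveI := Fintype.ofFinite F
  infer_instance

end CfsgLib.Chev
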