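/-
Diagonal matrices of characters of the root lattice.
-/
import Cfsg.Agent.Lib.Chev.Inst
import Cfsg.Agent.Lib.Chev.HN
import Cfsg.Prelude.Def_ChevAutomorphisms

namespace CfsgLib.Chev

open Cfsg.Lie Matrix

set_option linter.unusedSimpArgs false

namespace Chev

variable {D : ChevalleyDatum} (Φ : Chev D) {F : Type*} [Field F]

include Φ in
theorem rootChar_neg {χ : ℕ → Fˣ} (hχ : D.IsRootCharacter χ) (r : Fin D.nroots) :
    χ r.rev.val = (χ r.val)⁻¹ := by
  have h := hχ.1 r.val r.isLt
  rwa [show D.neg r.val = r.rev.val from Φ.negIdx_eq r] at h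

theorem chainRoot_one {r s : Fin D.nroots} (h : Φ.N r s ≠ 0) :
    D.chainRoot r.val s.val 1 = some (Φ.S r s).val := by
  have e1 : (Φ.toTables.ch r s 1).2 ≠ 0 := by rwa [Φ.toSys.ch_one_snd]
  rw [ChevalleyDatum.chainRoot, Φ.toSys.chainEntry_eq, Tables.entry, if_neg e1]
  simp [Φ.toSys.ch_one_fst]

theorem rootChar_ch {χ : ℕ → Fˣ} (hχ : D.IsRootCharacter χ) (r s : Fin D.nroots) :
    ∀ k, (Φ.toTables.ch r s k).2 ≠ 0 →
      χ (Φ.toTables.ch r s k).1.val = χ r.val ^ k * χ s.val := by
  intro k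
  induction k with
  | zero => intro _; simp [Tables.ch]
  | succ k ih =>
    intro h
    have hk : (Φ.toTables.ch r s k).2 ≠ 0 := fun e => h (Φ.toSys.ch_snd_succ_eq_zero e)
    have hN : Φ.N r (Φ.toTables.ch r s k).1 ≠ 0 := fun e => h (by simp [Tables.ch, e])
    show χ (Φ.S r (Φ.toTables.ch r s k).1).val = _
    rw [hχ.2 _ _ _ r.isLt (Fin.isLt _) (Φ.chainRoot_one hN), ih hk, pow_succ', mul_assoc]

/-- A character on the basis. -/
def rootIdx (χ : ℕ → Fˣ) : D.Idx → Fˣ := Sum.elim (fun _ => 1) (fun r => χ r.val)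

theorem rootChar_E {χ : ℕ → Fˣ} (hχ : D.IsRootCharacter χ) (k : ℕ) (r : Fin D.nroots) (x y : D.Idx)
    (h : Φ.toSys.E F k r x y ≠ 0) : rootIdx χ x = χ r.val ^ k * rootIdx χ y := by
  rcases y with i | s
  · rcases x with j | u
    · have : k = 0 := by by_contra e; simp [Sys.E, e] at h
      subst this; simp [rootIdx]
    · have : k = 1 ∧ u = r := by by_contra e; simp [Sys.E, e] at h
      simp [rootIdx, this.1, this.2]
  · by_cases hsr : s = r
    · rcases x with j | u
      · simp [Sys.E, hsr] at h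
      · have : k = 0 ∧ u = r := by by_contra e; simp [Sys.E, hsr, e] at h
        simp [rootIdx, this.1, this.2, hsr]
    · by_cases hsn : s = r.rev
      · subst hsn
        rcases x with j | u
        · have : k = 1 := by by_contra e; simp [Sys.E, hsr, e] at h
          simp [rootIdx, this, -Fin.val_rev, Φ.rootChar_neg hχ r]
        · by_cases h0 : k = 0 ∧ u = r.rev
          · simp [rootIdx, h0.1, h0.2]
          · have : k = 2 ∧ u = r := by by_contra e; simp [Sys.E, hsr, h0, e] at h
            simp [rootIdx, this.1, this.2, -Fin.val_rev, Φ.rootChar_neg hχ r, pow_two]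
      · rcases x with j | u
        · simp [Sys.E, hsr, hsn] at h
        · simp only [Sys.E, Matrix.of_apply, if_neg hsr, if_neg hsn] at h
          split_ifs at h with hu
          · subst hu
            exact Φ.rootChar_ch hχ r s k fun e => h (by simp [e])
          · exact absurd rfl h

theorem charDiag_eq (χ : ℕ → Fˣ) :
    D.charDiag F χ = Matrix.diagonal fun x => (rootIdx χ x : F) := by
  rw [ChevalleyDatum.charDiag]
  congr 1
  funext x
  rcases x with i | r <;> simp [rootIdx]

theorem charDiag_mul_inv (χ : ℕ → Fˣ) : D.charDiag F χ * D.charDiag F (fun s => (χ s)⁻¹) = 1 := by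
  rw [charDiag_eq, charDiag_eq, Matrix.diagonal_mul_diagonal, ← Matrix.diagonal_one]
  congr 1
  funext x
  rcases x with i | r <;> simp [rootIdx]

include Φ in
theorem charDiag_X {χ : ℕ → Fˣ} (hχ : D.IsRootCharacter χ) (r : Fin D.nroots) (t : F) :
    D.charDiag F χ * D.x F r.val t = D.x F r.val ((χ r.val : F) * t) * D.charDiag F χ := by
  rw [Φ.toAlg.x_val, Φ.toAlg.x_val, Alg.xg_val, Alg.xg_val, charDiag_eq]
  refine Matrix.ext fun x y => ?_
  rw [Matrix.diagonal_mul, Matrix.mul_diagonal, Sys.X, Sys.X]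
  simp only [Matrix.sum_apply, Matrix.smul_apply, smul_eq_mul, Finset.mul_sum, Finset.sum_mul]
  refine Finset.sum_congr rfl fun k _ => ?_
  by_cases h : Φ.toSys.E F k r x y = 0
  · simp [h]
  · rw [Φ.rootChar_E hχ k r x y h, Units.val_mul, Units.val_pow_eq_pow_val]
    ring

end Chev

end CfsgLib.Chev
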