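/-
Orbit certificate for the Poincaré polynomial of the Weyl group of type E6.
-/
import Cfsg.Agent.Lib.Chev.PoincareCert
import Cfsg.Prelude.Def_ChevE6
import Cfsg.Prelude.Def_ChevStructure

namespace CfsgLib.Chev.Cert

open Cfsg.Lie

set_option maxRecDepth 100000

/-- The Cartan matrix. -/
def cmE6 (i j : Fin 6) : ℤ :=
  ([[2, 0, -1, 0, 0, 0], [0, 2, 0, -1, 0, 0], [-1, 0, 2, -1, 0, 0], [0, -1, -1, 2, -1, 0], [0, 0, 0, -1, 2, -1], [0, 0, 0, 0, -1, 2]].getD i.val []).getD j.val 0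

/-- An orbit. -/
def orbE6_0 : Orbit :=
  [([1, 0, 0, 0, 0, 0], 0),
   ([-1, 0, 1, 0, 0, 0], 1),
   ([0, 0, -1, 1, 0, 0], 2),
   ([0, 1, 0, -1, 1, 0], 3),
   ([0, -1, 0, 0, 1, 0], 4),
   ([0, 1, 0, 0, -1, 1], 4),
   ([0, -1, 0, 1, -1, 1], 5),
   ([0, 1, 0, 0, 0, -1], 5),
   ([0, -1, 0, 1, 0, -1], 6),
   ([0, 0, 1, -1, 0, 1], 6),
   ([0, 0, 1, -1, 1, -1], 7),
   ([1, 0, -1, 0, 0, 1], 7),
   ([-1, 0, 0, 0, 0, 1], 8),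
   ([0, 0, 1, 0, -1, 0], 8),
   ([1, 0, -1, 0, 1, -1], 8),
   ([-1, 0, 0, 0, 1, -1], 9),
   ([1, 0, -1, 1, -1, 0], 9),
   ([-1, 0, 0, 1, -1, 0], 10),
   ([1, 1, 0, -1, 0, 0], 10),
   ([-1, 1, 1, -1, 0, 0], 11),
   ([1, -1, 0, 0, 0, 0], 11),
   ([-1, -1, 1, 0, 0, 0], 12),
   ([0, 1, -1, 0, 0, 0], 12),
   ([0, -1, -1, 1, 0, 0], 13),
   ([0, 0, 0, -1, 1, 0], 14),
   ([0, 0, 0, 0, -1, 1], 15),
   ([0, 0, 0, 0, 0, -1], 16)]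

/-- An orbit. -/
def orbE6_1 : Orbit :=
  [([0, 0, 0, 0, 0, 1], 0),
   ([0, 0, 0, 0, 1, -1], 1),
   ([0, 0, 0, 1, -1, 0], 2),
   ([0, 1, 1, -1, 0, 0], 3),
   ([0, -1, 1, 0, 0, 0], 4),
   ([1, 1, -1, 0, 0, 0], 4),
   ([1, -1, -1, 1, 0, 0], 5),
   ([1, 0, 0, -1, 1, 0], 6),
   ([1, 0, 0, 0, -1, 1], 7),
   ([1, 0, 0, 0, 0, -1], 8)]

/-- An orbit. -/
def orbE6_2 : Orbit :=
  [([0, 1, 0, 0, 0, 0], 0),
   ([0, -1, 0, 1, 0, 0], 1),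
   ([0, 0, 1, -1, 1, 0], 2),
   ([0, 0, 1, 0, -1, 1], 3),
   ([1, 0, -1, 0, 1, 0], 3),
   ([1, 0, -1, 1, -1, 1], 4),
   ([1, 1, 0, -1, 0, 1], 5),
   ([1, -1, 0, 0, 0, 1], 6)]

/-- An orbit. -/
def orbE6_3 : Orbit :=
  [([0, 0, 1, 0, 0, 0], 0),
   ([1, 0, -1, 1, 0, 0], 1),
   ([1, 1, 0, -1, 1, 0], 2),
   ([1, 1, 0, 0, -1, 1], 3)]

/-- An orbit. -/
def orbE6_4 : Orbit :=
  [([0, 0, 0, 1, 0, 0], 0),
   ([0, 1, 1, -1, 1, 0], 1),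
   ([0, 1, 1, 0, -1, 1], 2)]

/-- An orbit. -/
def orbE6_5 : Orbit :=
  [([0, 0, 0, 0, 1, 0], 0),
   ([0, 0, 0, 1, -1, 1], 1)]

/-- The chain. -/
def chainE6 : List (Fin 6 × Orbit) :=
  [(0, orbE6_0), (5, orbE6_1), (1, orbE6_2), (2, orbE6_3), (3, orbE6_4), (4, orbE6_5)]

theorem cartanE6 : ∀ a b : Fin 6,
    chevE6.cartan a.val (chevE6.simple b.val) = cmE6 a b := by
  decide +kernel

theorem chainE6_ok : chainOK cmE6 (List.finRange 6) chainE6 = true := by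
  decide +kernel

theorem chainE6_deg : eqP (chainP chainE6) (degP [2, 5, 6, 8, 9, 12]) = true := by
  decide +kernel

end CfsgLib.Chev.Cert
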