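/-
The orders of the Chevalley groups of type E6.
-/
import Cfsg.Agent.Lib.Chev.TorusOrder
import Cfsg.Agent.Lib.Chev.OrbitE6
import Cfsg.Agent.Lib.Chev.Inst

namespace CfsgLib.Chev

open Cfsg.Lie Matrix

set_option maxRecDepth 100000

theorem sumWE6 (Φ : Chev Cfsg.Lie.chevE6) (x : ℕ) :
    ∑ π ∈ Φ.WFin, x ^ Φ.inv π = Cert.evalP x (Cert.degP [2, 5, 6, 8, 9, 12]) :=
  Φ.sum_WFin (M := Cert.cmE6) Cert.cartanE6 Cert.chainE6_ok Cert.chainE6_deg x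

theorem cardWE6 (Φ : Chev Cfsg.Lie.chevE6) : Nat.card Φ.WL = 51840 :=
  (Φ.card_WL (M := Cert.cmE6) Cert.cartanE6 Cert.chainE6_ok Cert.chainE6_deg).trans (by decide +kernel)

theorem cardHE6 (Φ : Chev Cfsg.Lie.chevE6) (F : Type*) [Field F] [Finite F] :
    (∏ k : Fin 6, Nat.gcd (Nat.card F - 1) ([1, 1, 1, 1, 1, 3].getD k.val 0)) *
        Nat.card (Cfsg.Lie.chevE6.diagonalSubgroup F) = (Nat.card F - 1) ^ 6 :=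
  Φ.card_H (!![2, 0, -1, 0, 0, 0; 0, 2, 0, -1, 0, 0; -1, 0, 2, -1, 0, 0; 0, -1, -1, 2, -1, 0; 0, 0, 0, -1, 2, -1; 0, 0, 0, 0, -1, 2] : Matrix (Fin 6) (Fin 6) ℤ)
    (!![-1, 0, 0, 0, 0, 0; 0, -1, 0, 0, 0, 0; 1, -2, 0, -1, 0, 0; 2, -3, 0, -2, -1, 0; -2, 1, -1, 0, 0, 0; -5, 0, -4, -3, -2, -1] : Matrix (Fin 6) (Fin 6) ℤ) (!![-1, 0, 0, 0, 0, 0; 0, -1, 0, 0, 0, 0; 2, -1, 0, 0, -1, 0; -1, 2, -1, 0, 0, 0; 0, -1, 2, -1, 0, 0; 0, 0, -1, 2, 4, -1] : Matrix (Fin 6) (Fin 6) ℤ)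
    (!![0, 0, 0, 0, 1, -2; 0, 0, 0, 0, 2, -3; 1, 0, 0, 0, 2, -4; 0, 1, 0, 0, 4, -6; 0, 0, 1, 0, 4, -5; 0, 0, 0, 1, 4, -4] : Matrix (Fin 6) (Fin 6) ℤ) (!![-2, 0, 1, 0, 0, 0; 0, -2, 0, 1, 0, 0; 2, -3, 0, 0, 1, 0; 4, -4, 0, 0, 0, 1; -3, 2, 0, 0, 0, 0; -2, 1, 0, 0, 0, 0] : Matrix (Fin 6) (Fin 6) ℤ)
    (fun k : Fin 6 => [1, 1, 1, 1, 1, 3].getD k.val 0)
    (show ∀ a b : Fin 6, Cfsg.Lie.chevE6.cartan a.val (Cfsg.Lie.chevE6.simple b.val) =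
      (!![2, 0, -1, 0, 0, 0; 0, 2, 0, -1, 0, 0; -1, 0, 2, -1, 0, 0; 0, -1, -1, 2, -1, 0; 0, 0, 0, -1, 2, -1; 0, 0, 0, 0, -1, 2] : Matrix (Fin 6) (Fin 6) ℤ) b a by decide +kernel)
    (by decide +kernel) (by decide +kernel) (by decide +kernel)

end CfsgLib.Chev
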