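/-
Orbit certificate for the Poincaré polynomial of the Weyl group of type E7.
-/
import Cfsg.Agent.Lib.Chev.PoincareCert
import Cfsg.Prelude.Def_ChevE7
import Cfsg.Prelude.Def_ChevStructure

namespace CfsgLib.Chev.Cert

open Cfsg.Lie

set_option maxRecDepth 100000

/-- The Cartan matrix. -/
def cmE7 (i j : Fin 7) : ℤ :=
  ([[2, 0, -1, 0, 0, 0, 0], [0, 2, 0, -1, 0, 0, 0], [-1, 0, 2, -1, 0, 0, 0], [0, -1, -1, 2, -1, 0, 0], [0, 0, 0, -1, 2, -1, 0], [0, 0, 0, 0, -1, 2, -1], [0, 0, 0, 0, 0, -1, 2]].getD i.val []).getD j.val 0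

/-- An orbit. -/
def orbE7_0 : Orbit :=
  [([0, 0, 0, 0, 0, 0, 1], 0),
   ([0, 0, 0, 0, 0, 1, -1], 1),
   ([0, 0, 0, 0, 1, -1, 0], 2),
   ([0, 0, 0, 1, -1, 0, 0], 3),
   ([0, 1, 1, -1, 0, 0, 0], 4),
   ([0, -1, 1, 0, 0, 0, 0], 5),
   ([1, 1, -1, 0, 0, 0, 0], 5),
   ([-1, 1, 0, 0, 0, 0, 0], 6),
   ([1, -1, -1, 1, 0, 0, 0], 6),
   ([-1, -1, 0, 1, 0, 0, 0], 7),
   ([1, 0, 0, -1, 1, 0, 0], 7),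
   ([-1, 0, 1, -1, 1, 0, 0], 8),
   ([1, 0, 0, 0, -1, 1, 0], 8),
   ([-1, 0, 1, 0, -1, 1, 0], 9),
   ([0, 0, -1, 0, 1, 0, 0], 9),
   ([1, 0, 0, 0, 0, -1, 1], 9),
   ([-1, 0, 1, 0, 0, -1, 1], 10),
   ([0, 0, -1, 1, -1, 1, 0], 10),
   ([1, 0, 0, 0, 0, 0, -1], 10),
   ([-1, 0, 1, 0, 0, 0, -1], 11),
   ([0, 0, -1, 1, 0, -1, 1], 11),
   ([0, 1, 0, -1, 0, 1, 0], 11),
   ([0, -1, 0, 0, 0, 1, 0], 12),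
   ([0, 0, -1, 1, 0, 0, -1], 12),
   ([0, 1, 0, -1, 1, -1, 1], 12),
   ([0, -1, 0, 0, 1, -1, 1], 13),
   ([0, 1, 0, -1, 1, 0, -1], 13),
   ([0, 1, 0, 0, -1, 0, 1], 13),
   ([0, -1, 0, 0, 1, 0, -1], 14),
   ([0, -1, 0, 1, -1, 0, 1], 14),
   ([0, 1, 0, 0, -1, 1, -1], 14),
   ([0, -1, 0, 1, -1, 1, -1], 15),
   ([0, 0, 1, -1, 0, 0, 1], 15),
   ([0, 1, 0, 0, 0, -1, 0], 15),
   ([0, -1, 0, 1, 0, -1, 0], 16),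
   ([0, 0, 1, -1, 0, 1, -1], 16),
   ([1, 0, -1, 0, 0, 0, 1], 16),
   ([-1, 0, 0, 0, 0, 0, 1], 17),
   ([0, 0, 1, -1, 1, -1, 0], 17),
   ([1, 0, -1, 0, 0, 1, -1], 17),
   ([-1, 0, 0, 0, 0, 1, -1], 18),
   ([0, 0, 1, 0, -1, 0, 0], 18),
   ([1, 0, -1, 0, 1, -1, 0], 18),
   ([-1, 0, 0, 0, 1, -1, 0], 19),
   ([1, 0, -1, 1, -1, 0, 0], 19),
   ([-1, 0, 0, 1, -1, 0, 0], 20),
   ([1, 1, 0, -1, 0, 0, 0], 20),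
   ([-1, 1, 1, -1, 0, 0, 0], 21),
   ([1, -1, 0, 0, 0, 0, 0], 21),
   ([-1, -1, 1, 0, 0, 0, 0], 22),
   ([0, 1, -1, 0, 0, 0, 0], 22),
   ([0, -1, -1, 1, 0, 0, 0], 23),
   ([0, 0, 0, -1, 1, 0, 0], 24),
   ([0, 0, 0, 0, -1, 1, 0], 25),
   ([0, 0, 0, 0, 0, -1, 1], 26),
   ([0, 0, 0, 0, 0, 0, -1], 27)]

/-- An orbit. -/
def orbE7_1 : Orbit :=
  [([1, 0, 0, 0, 0, 0, 0], 0),
   ([-1, 0, 1, 0, 0, 0, 0], 1),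
   ([0, 0, -1, 1, 0, 0, 0], 2),
   ([0, 1, 0, -1, 1, 0, 0], 3),
   ([0, -1, 0, 0, 1, 0, 0], 4),
   ([0, 1, 0, 0, -1, 1, 0], 4),
   ([0, -1, 0, 1, -1, 1, 0], 5),
   ([0, 1, 0, 0, 0, -1, 1], 5),
   ([0, -1, 0, 1, 0, -1, 1], 6),
   ([0, 0, 1, -1, 0, 1, 0], 6),
   ([0, 0, 1, -1, 1, -1, 1], 7),
   ([1, 0, -1, 0, 0, 1, 0], 7),
   ([-1, 0, 0, 0, 0, 1, 0], 8),
   ([0, 0, 1, 0, -1, 0, 1], 8),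
   ([1, 0, -1, 0, 1, -1, 1], 8),
   ([-1, 0, 0, 0, 1, -1, 1], 9),
   ([1, 0, -1, 1, -1, 0, 1], 9),
   ([-1, 0, 0, 1, -1, 0, 1], 10),
   ([1, 1, 0, -1, 0, 0, 1], 10),
   ([-1, 1, 1, -1, 0, 0, 1], 11),
   ([1, -1, 0, 0, 0, 0, 1], 11),
   ([-1, -1, 1, 0, 0, 0, 1], 12),
   ([0, 1, -1, 0, 0, 0, 1], 12),
   ([0, -1, -1, 1, 0, 0, 1], 13),
   ([0, 0, 0, -1, 1, 0, 1], 14),
   ([0, 0, 0, 0, -1, 1, 1], 15),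
   ([0, 0, 0, 0, 0, -1, 2], 16)]

/-- An orbit. -/
def orbE7_2 : Orbit :=
  [([0, 0, 0, 0, 0, 1, 0], 0),
   ([0, 0, 0, 0, 1, -1, 1], 1),
   ([0, 0, 0, 1, -1, 0, 1], 2),
   ([0, 1, 1, -1, 0, 0, 1], 3),
   ([0, -1, 1, 0, 0, 0, 1], 4),
   ([1, 1, -1, 0, 0, 0, 1], 4),
   ([1, -1, -1, 1, 0, 0, 1], 5),
   ([1, 0, 0, -1, 1, 0, 1], 6),
   ([1, 0, 0, 0, -1, 1, 1], 7),
   ([1, 0, 0, 0, 0, -1, 2], 8)]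

/-- An orbit. -/
def orbE7_3 : Orbit :=
  [([0, 1, 0, 0, 0, 0, 0], 0),
   ([0, -1, 0, 1, 0, 0, 0], 1),
   ([0, 0, 1, -1, 1, 0, 0], 2),
   ([0, 0, 1, 0, -1, 1, 0], 3),
   ([1, 0, -1, 0, 1, 0, 0], 3),
   ([1, 0, -1, 1, -1, 1, 0], 4),
   ([1, 1, 0, -1, 0, 1, 0], 5),
   ([1, -1, 0, 0, 0, 1, 0], 6)]

/-- An orbit. -/
def orbE7_4 : Orbit :=
  [([0, 0, 1, 0, 0, 0, 0], 0),
   ([1, 0, -1, 1, 0, 0, 0], 1),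
   ([1, 1, 0, -1, 1, 0, 0], 2),
   ([1, 1, 0, 0, -1, 1, 0], 3)]

/-- An orbit. -/
def orbE7_5 : Orbit :=
  [([0, 0, 0, 1, 0, 0, 0], 0),
   ([0, 1, 1, -1, 1, 0, 0], 1),
   ([0, 1, 1, 0, -1, 1, 0], 2)]

/-- An orbit. -/
def orbE7_6 : Orbit :=
  [([0, 0, 0, 0, 1, 0, 0], 0),
   ([0, 0, 0, 1, -1, 1, 0], 1)]

/-- The chain. -/
def chainE7 : List (Fin 7 × Orbit) :=
  [(6, orbE7_0), (0, orbE7_1), (5, orbE7_2), (1, orbE7_3), (2, orbE7_4), (3, orbE7_5), (4, orbE7_6)]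

theorem cartanE7 : ∀ a b : Fin 7,
    chevE7.cartan a.val (chevE7.simple b.val) = cmE7 a b := by
  decide +kernel

theorem chainE7_ok : chainOK cmE7 (List.finRange 7) chainE7 = true := by
  decide +kernel

theorem chainE7_deg : eqP (chainP chainE7) (degP [2, 6, 8, 10, 12, 14, 18]) = true := by
  decide +kernel

end CfsgLib.Chev.Cert
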