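/-
Orbit certificate for the Poincaré polynomial of the Weyl group of type E8.
-/
import Cfsg.Agent.Lib.Chev.PoincareCert
import Cfsg.Prelude.Def_ChevE8
import Cfsg.Prelude.Def_ChevStructure

namespace CfsgLib.Chev.Cert

open Cfsg.Lie

set_option maxRecDepth 100000

/-- The Cartan matrix. -/
def cmE8 (i j : Fin 8) : ℤ :=
  ([[2, 0, -1, 0, 0, 0, 0, 0], [0, 2, 0, -1, 0, 0, 0, 0], [-1, 0, 2, -1, 0, 0, 0, 0], [0, -1, -1, 2, -1, 0, 0, 0], [0, 0, 0, -1, 2, -1, 0, 0], [0, 0, 0, 0, -1, 2, -1, 0], [0, 0, 0, 0, 0, -1, 2, -1], [0, 0, 0, 0, 0, 0, -1, 2]].getD i.val []).getD j.val 0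

/-- An orbit. -/
def orbE8_0 : Orbit :=
  [([0, 0, 0, 0, 0, 0, 0, 1], 0),
   ([0, 0, 0, 0, 0, 0, 1, -1], 1),
   ([0, 0, 0, 0, 0, 1, -1, 0], 2),
   ([0, 0, 0, 0, 1, -1, 0, 0], 3),
   ([0, 0, 0, 1, -1, 0, 0, 0], 4),
   ([0, 1, 1, -1, 0, 0, 0, 0], 5),
   ([0, -1, 1, 0, 0, 0, 0, 0], 6),
   ([1, 1, -1, 0, 0, 0, 0, 0], 6),
   ([-1, 1, 0, 0, 0, 0, 0, 0], 7),
   ([1, -1, -1, 1, 0, 0, 0, 0], 7),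
   ([-1, -1, 0, 1, 0, 0, 0, 0], 8),
   ([1, 0, 0, -1, 1, 0, 0, 0], 8),
   ([-1, 0, 1, -1, 1, 0, 0, 0], 9),
   ([1, 0, 0, 0, -1, 1, 0, 0], 9),
   ([-1, 0, 1, 0, -1, 1, 0, 0], 10),
   ([0, 0, -1, 0, 1, 0, 0, 0], 10),
   ([1, 0, 0, 0, 0, -1, 1, 0], 10),
   ([-1, 0, 1, 0, 0, -1, 1, 0], 11),
   ([0, 0, -1, 1, -1, 1, 0, 0], 11),
   ([1, 0, 0, 0, 0, 0, -1, 1], 11),
   ([-1, 0, 1, 0, 0, 0, -1, 1], 12),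
   ([0, 0, -1, 1, 0, -1, 1, 0], 12),
   ([0, 1, 0, -1, 0, 1, 0, 0], 12),
   ([1, 0, 0, 0, 0, 0, 0, -1], 12),
   ([-1, 0, 1, 0, 0, 0, 0, -1], 13),
   ([0, -1, 0, 0, 0, 1, 0, 0], 13),
   ([0, 0, -1, 1, 0, 0, -1, 1], 13),
   ([0, 1, 0, -1, 1, -1, 1, 0], 13),
   ([0, -1, 0, 0, 1, -1, 1, 0], 14),
   ([0, 0, -1, 1, 0, 0, 0, -1], 14),
   ([0, 1, 0, -1, 1, 0, -1, 1], 14),
   ([0, 1, 0, 0, -1, 0, 1, 0], 14),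
   ([0, -1, 0, 0, 1, 0, -1, 1], 15),
   ([0, -1, 0, 1, -1, 0, 1, 0], 15),
   ([0, 1, 0, -1, 1, 0, 0, -1], 15),
   ([0, 1, 0, 0, -1, 1, -1, 1], 15),
   ([0, -1, 0, 0, 1, 0, 0, -1], 16),
   ([0, -1, 0, 1, -1, 1, -1, 1], 16),
   ([0, 0, 1, -1, 0, 0, 1, 0], 16),
   ([0, 1, 0, 0, -1, 1, 0, -1], 16),
   ([0, 1, 0, 0, 0, -1, 0, 1], 16),
   ([0, -1, 0, 1, -1, 1, 0, -1], 17),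
   ([0, -1, 0, 1, 0, -1, 0, 1], 17),
   ([0, 0, 1, -1, 0, 1, -1, 1], 17),
   ([0, 1, 0, 0, 0, -1, 1, -1], 17),
   ([1, 0, -1, 0, 0, 0, 1, 0], 17),
   ([-1, 0, 0, 0, 0, 0, 1, 0], 18),
   ([0, -1, 0, 1, 0, -1, 1, -1], 18),
   ([0, 0, 1, -1, 0, 1, 0, -1], 18),
   ([0, 0, 1, -1, 1, -1, 0, 1], 18),
   ([0, 1, 0, 0, 0, 0, -1, 0], 18),
   ([1, 0, -1, 0, 0, 1, -1, 1], 18),
   ([-1, 0, 0, 0, 0, 1, -1, 1], 19),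
   ([0, -1, 0, 1, 0, 0, -1, 0], 19),
   ([0, 0, 1, -1, 1, -1, 1, -1], 19),
   ([0, 0, 1, 0, -1, 0, 0, 1], 19),
   ([1, 0, -1, 0, 0, 1, 0, -1], 19),
   ([1, 0, -1, 0, 1, -1, 0, 1], 19),
   ([-1, 0, 0, 0, 0, 1, 0, -1], 20),
   ([-1, 0, 0, 0, 1, -1, 0, 1], 20),
   ([0, 0, 1, -1, 1, 0, -1, 0], 20),
   ([0, 0, 1, 0, -1, 0, 1, -1], 20),
   ([1, 0, -1, 0, 1, -1, 1, -1], 20),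
   ([1, 0, -1, 1, -1, 0, 0, 1], 20),
   ([-1, 0, 0, 0, 1, -1, 1, -1], 21),
   ([-1, 0, 0, 1, -1, 0, 0, 1], 21),
   ([0, 0, 1, 0, -1, 1, -1, 0], 21),
   ([1, 0, -1, 0, 1, 0, -1, 0], 21),
   ([1, 0, -1, 1, -1, 0, 1, -1], 21),
   ([1, 1, 0, -1, 0, 0, 0, 1], 21),
   ([-1, 0, 0, 0, 1, 0, -1, 0], 22),
   ([-1, 0, 0, 1, -1, 0, 1, -1], 22),
   ([-1, 1, 1, -1, 0, 0, 0, 1], 22),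
   ([0, 0, 1, 0, 0, -1, 0, 0], 22),
   ([1, -1, 0, 0, 0, 0, 0, 1], 22),
   ([1, 0, -1, 1, -1, 1, -1, 0], 22),
   ([1, 1, 0, -1, 0, 0, 1, -1], 22),
   ([-1, -1, 1, 0, 0, 0, 0, 1], 23),
   ([-1, 0, 0, 1, -1, 1, -1, 0], 23),
   ([-1, 1, 1, -1, 0, 0, 1, -1], 23),
   ([0, 1, -1, 0, 0, 0, 0, 1], 23),
   ([1, -1, 0, 0, 0, 0, 1, -1], 23),
   ([1, 0, -1, 1, 0, -1, 0, 0], 23),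
   ([1, 1, 0, -1, 0, 1, -1, 0], 23),
   ([-1, -1, 1, 0, 0, 0, 1, -1], 24),
   ([-1, 0, 0, 1, 0, -1, 0, 0], 24),
   ([-1, 1, 1, -1, 0, 1, -1, 0], 24),
   ([0, -1, -1, 1, 0, 0, 0, 1], 24),
   ([0, 1, -1, 0, 0, 0, 1, -1], 24),
   ([1, -1, 0, 0, 0, 1, -1, 0], 24),
   ([1, 1, 0, -1, 1, -1, 0, 0], 24),
   ([-1, -1, 1, 0, 0, 1, -1, 0], 25),
   ([-1, 1, 1, -1, 1, -1, 0, 0], 25),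
   ([0, -1, -1, 1, 0, 0, 1, -1], 25),
   ([0, 0, 0, -1, 1, 0, 0, 1], 25),
   ([0, 1, -1, 0, 0, 1, -1, 0], 25),
   ([1, -1, 0, 0, 1, -1, 0, 0], 25),
   ([1, 1, 0, 0, -1, 0, 0, 0], 25),
   ([-1, -1, 1, 0, 1, -1, 0, 0], 26),
   ([-1, 1, 1, 0, -1, 0, 0, 0], 26),
   ([0, -1, -1, 1, 0, 1, -1, 0], 26),
   ([0, 0, 0, -1, 1, 0, 1, -1], 26),
   ([0, 0, 0, 0, -1, 1, 0, 1], 26),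
   ([0, 1, -1, 0, 1, -1, 0, 0], 26),
   ([1, -1, 0, 1, -1, 0, 0, 0], 26),
   ([-1, -1, 1, 1, -1, 0, 0, 0], 27),
   ([0, -1, -1, 1, 1, -1, 0, 0], 27),
   ([0, 0, 0, -1, 1, 1, -1, 0], 27),
   ([0, 0, 0, 0, -1, 1, 1, -1], 27),
   ([0, 0, 0, 0, 0, -1, 1, 1], 27),
   ([0, 1, -1, 1, -1, 0, 0, 0], 27),
   ([1, 0, 1, -1, 0, 0, 0, 0], 27),
   ([-1, 0, 2, -1, 0, 0, 0, 0], 28),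
   ([0, -1, -1, 2, -1, 0, 0, 0], 28),
   ([0, 0, 0, -1, 2, -1, 0, 0], 28),
   ([0, 0, 0, 0, -1, 2, -1, 0], 28),
   ([0, 0, 0, 0, 0, -1, 2, -1], 28),
   ([0, 0, 0, 0, 0, 0, -1, 2], 28),
   ([0, 2, 0, -1, 0, 0, 0, 0], 28),
   ([2, 0, -1, 0, 0, 0, 0, 0], 28),
   ([-2, 0, 1, 0, 0, 0, 0, 0], 29),
   ([0, -2, 0, 1, 0, 0, 0, 0], 29),
   ([0, 0, 0, 0, 0, 0, 1, -2], 29),
   ([0, 0, 0, 0, 0, 1, -2, 1], 29),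
   ([0, 0, 0, 0, 1, -2, 1, 0], 29),
   ([0, 0, 0, 1, -2, 1, 0, 0], 29),
   ([0, 1, 1, -2, 1, 0, 0, 0], 29),
   ([1, 0, -2, 1, 0, 0, 0, 0], 29),
   ([-1, 0, -1, 1, 0, 0, 0, 0], 30),
   ([0, -1, 1, -1, 1, 0, 0, 0], 30),
   ([0, 0, 0, 0, 0, 1, -1, -1], 30),
   ([0, 0, 0, 0, 1, -1, -1, 1], 30),
   ([0, 0, 0, 1, -1, -1, 1, 0], 30),
   ([0, 1, 1, -1, -1, 1, 0, 0], 30),
   ([1, 1, -1, -1, 1, 0, 0, 0], 30),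
   ([-1, 1, 0, -1, 1, 0, 0, 0], 31),
   ([0, -1, 1, 0, -1, 1, 0, 0], 31),
   ([0, 0, 0, 0, 1, -1, 0, -1], 31),
   ([0, 0, 0, 1, -1, 0, -1, 1], 31),
   ([0, 1, 1, -1, 0, -1, 1, 0], 31),
   ([1, -1, -1, 0, 1, 0, 0, 0], 31),
   ([1, 1, -1, 0, -1, 1, 0, 0], 31),
   ([-1, -1, 0, 0, 1, 0, 0, 0], 32),
   ([-1, 1, 0, 0, -1, 1, 0, 0], 32),
   ([0, -1, 1, 0, 0, -1, 1, 0], 32),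
   ([0, 0, 0, 1, -1, 0, 0, -1], 32),
   ([0, 1, 1, -1, 0, 0, -1, 1], 32),
   ([1, -1, -1, 1, -1, 1, 0, 0], 32),
   ([1, 1, -1, 0, 0, -1, 1, 0], 32),
   ([-1, -1, 0, 1, -1, 1, 0, 0], 33),
   ([-1, 1, 0, 0, 0, -1, 1, 0], 33),
   ([0, -1, 1, 0, 0, 0, -1, 1], 33),
   ([0, 1, 1, -1, 0, 0, 0, -1], 33),
   ([1, -1, -1, 1, 0, -1, 1, 0], 33),
   ([1, 0, 0, -1, 0, 1, 0, 0], 33),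
   ([1, 1, -1, 0, 0, 0, -1, 1], 33),
   ([-1, -1, 0, 1, 0, -1, 1, 0], 34),
   ([-1, 0, 1, -1, 0, 1, 0, 0], 34),
   ([-1, 1, 0, 0, 0, 0, -1, 1], 34),
   ([0, -1, 1, 0, 0, 0, 0, -1], 34),
   ([1, -1, -1, 1, 0, 0, -1, 1], 34),
   ([1, 0, 0, -1, 1, -1, 1, 0], 34),
   ([1, 1, -1, 0, 0, 0, 0, -1], 34),
   ([-1, -1, 0, 1, 0, 0, -1, 1], 35),
   ([-1, 0, 1, -1, 1, -1, 1, 0], 35),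
   ([-1, 1, 0, 0, 0, 0, 0, -1], 35),
   ([0, 0, -1, 0, 0, 1, 0, 0], 35),
   ([1, -1, -1, 1, 0, 0, 0, -1], 35),
   ([1, 0, 0, -1, 1, 0, -1, 1], 35),
   ([1, 0, 0, 0, -1, 0, 1, 0], 35),
   ([-1, -1, 0, 1, 0, 0, 0, -1], 36),
   ([-1, 0, 1, -1, 1, 0, -1, 1], 36),
   ([-1, 0, 1, 0, -1, 0, 1, 0], 36),
   ([0, 0, -1, 0, 1, -1, 1, 0], 36),
   ([1, 0, 0, -1, 1, 0, 0, -1], 36),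
   ([1, 0, 0, 0, -1, 1, -1, 1], 36),
   ([-1, 0, 1, -1, 1, 0, 0, -1], 37),
   ([-1, 0, 1, 0, -1, 1, -1, 1], 37),
   ([0, 0, -1, 0, 1, 0, -1, 1], 37),
   ([0, 0, -1, 1, -1, 0, 1, 0], 37),
   ([1, 0, 0, 0, -1, 1, 0, -1], 37),
   ([1, 0, 0, 0, 0, -1, 0, 1], 37),
   ([-1, 0, 1, 0, -1, 1, 0, -1], 38),
   ([-1, 0, 1, 0, 0, -1, 0, 1], 38),
   ([0, 0, -1, 0, 1, 0, 0, -1], 38),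
   ([0, 0, -1, 1, -1, 1, -1, 1], 38),
   ([0, 1, 0, -1, 0, 0, 1, 0], 38),
   ([1, 0, 0, 0, 0, -1, 1, -1], 38),
   ([-1, 0, 1, 0, 0, -1, 1, -1], 39),
   ([0, -1, 0, 0, 0, 0, 1, 0], 39),
   ([0, 0, -1, 1, -1, 1, 0, -1], 39),
   ([0, 0, -1, 1, 0, -1, 0, 1], 39),
   ([0, 1, 0, -1, 0, 1, -1, 1], 39),
   ([1, 0, 0, 0, 0, 0, -1, 0], 39),
   ([-1, 0, 1, 0, 0, 0, -1, 0], 40),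
   ([0, -1, 0, 0, 0, 1, -1, 1], 40),
   ([0, 0, -1, 1, 0, -1, 1, -1], 40),
   ([0, 1, 0, -1, 0, 1, 0, -1], 40),
   ([0, 1, 0, -1, 1, -1, 0, 1], 40),
   ([0, -1, 0, 0, 0, 1, 0, -1], 41),
   ([0, -1, 0, 0, 1, -1, 0, 1], 41),
   ([0, 0, -1, 1, 0, 0, -1, 0], 41),
   ([0, 1, 0, -1, 1, -1, 1, -1], 41),
   ([0, 1, 0, 0, -1, 0, 0, 1], 41),
   ([0, -1, 0, 0, 1, -1, 1, -1], 42),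
   ([0, -1, 0, 1, -1, 0, 0, 1], 42),
   ([0, 1, 0, -1, 1, 0, -1, 0], 42),
   ([0, 1, 0, 0, -1, 0, 1, -1], 42),
   ([0, -1, 0, 0, 1, 0, -1, 0], 43),
   ([0, -1, 0, 1, -1, 0, 1, -1], 43),
   ([0, 0, 1, -1, 0, 0, 0, 1], 43),
   ([0, 1, 0, 0, -1, 1, -1, 0], 43),
   ([0, -1, 0, 1, -1, 1, -1, 0], 44),
   ([0, 0, 1, -1, 0, 0, 1, -1], 44),
   ([0, 1, 0, 0, 0, -1, 0, 0], 44),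
   ([1, 0, -1, 0, 0, 0, 0, 1], 44),
   ([-1, 0, 0, 0, 0, 0, 0, 1], 45),
   ([0, -1, 0, 1, 0, -1, 0, 0], 45),
   ([0, 0, 1, -1, 0, 1, -1, 0], 45),
   ([1, 0, -1, 0, 0, 0, 1, -1], 45),
   ([-1, 0, 0, 0, 0, 0, 1, -1], 46),
   ([0, 0, 1, -1, 1, -1, 0, 0], 46),
   ([1, 0, -1, 0, 0, 1, -1, 0], 46),
   ([-1, 0, 0, 0, 0, 1, -1, 0], 47),
   ([0, 0, 1, 0, -1, 0, 0, 0], 47),
   ([1, 0, -1, 0, 1, -1, 0, 0], 47),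
   ([-1, 0, 0, 0, 1, -1, 0, 0], 48),
   ([1, 0, -1, 1, -1, 0, 0, 0], 48),
   ([-1, 0, 0, 1, -1, 0, 0, 0], 49),
   ([1, 1, 0, -1, 0, 0, 0, 0], 49),
   ([-1, 1, 1, -1, 0, 0, 0, 0], 50),
   ([1, -1, 0, 0, 0, 0, 0, 0], 50),
   ([-1, -1, 1, 0, 0, 0, 0, 0], 51),
   ([0, 1, -1, 0, 0, 0, 0, 0], 51),
   ([0, -1, -1, 1, 0, 0, 0, 0], 52),
   ([0, 0, 0, -1, 1, 0, 0, 0], 53),
   ([0, 0, 0, 0, -1, 1, 0, 0], 54),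
   ([0, 0, 0, 0, 0, -1, 1, 0], 55),
   ([0, 0, 0, 0, 0, 0, -1, 1], 56),
   ([0, 0, 0, 0, 0, 0, 0, -1], 57)]

/-- An orbit. -/
def orbE8_1 : Orbit :=
  [([0, 0, 0, 0, 0, 0, 1, 0], 0),
   ([0, 0, 0, 0, 0, 1, -1, 1], 1),
   ([0, 0, 0, 0, 1, -1, 0, 1], 2),
   ([0, 0, 0, 1, -1, 0, 0, 1], 3),
   ([0, 1, 1, -1, 0, 0, 0, 1], 4),
   ([0, -1, 1, 0, 0, 0, 0, 1], 5),
   ([1, 1, -1, 0, 0, 0, 0, 1], 5),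
   ([-1, 1, 0, 0, 0, 0, 0, 1], 6),
   ([1, -1, -1, 1, 0, 0, 0, 1], 6),
   ([-1, -1, 0, 1, 0, 0, 0, 1], 7),
   ([1, 0, 0, -1, 1, 0, 0, 1], 7),
   ([-1, 0, 1, -1, 1, 0, 0, 1], 8),
   ([1, 0, 0, 0, -1, 1, 0, 1], 8),
   ([-1, 0, 1, 0, -1, 1, 0, 1], 9),
   ([0, 0, -1, 0, 1, 0, 0, 1], 9),
   ([1, 0, 0, 0, 0, -1, 1, 1], 9),
   ([-1, 0, 1, 0, 0, -1, 1, 1], 10),
   ([0, 0, -1, 1, -1, 1, 0, 1], 10),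
   ([1, 0, 0, 0, 0, 0, -1, 2], 10),
   ([-1, 0, 1, 0, 0, 0, -1, 2], 11),
   ([0, 0, -1, 1, 0, -1, 1, 1], 11),
   ([0, 1, 0, -1, 0, 1, 0, 1], 11),
   ([0, -1, 0, 0, 0, 1, 0, 1], 12),
   ([0, 0, -1, 1, 0, 0, -1, 2], 12),
   ([0, 1, 0, -1, 1, -1, 1, 1], 12),
   ([0, -1, 0, 0, 1, -1, 1, 1], 13),
   ([0, 1, 0, -1, 1, 0, -1, 2], 13),
   ([0, 1, 0, 0, -1, 0, 1, 1], 13),
   ([0, -1, 0, 0, 1, 0, -1, 2], 14),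
   ([0, -1, 0, 1, -1, 0, 1, 1], 14),
   ([0, 1, 0, 0, -1, 1, -1, 2], 14),
   ([0, -1, 0, 1, -1, 1, -1, 2], 15),
   ([0, 0, 1, -1, 0, 0, 1, 1], 15),
   ([0, 1, 0, 0, 0, -1, 0, 2], 15),
   ([0, -1, 0, 1, 0, -1, 0, 2], 16),
   ([0, 0, 1, -1, 0, 1, -1, 2], 16),
   ([1, 0, -1, 0, 0, 0, 1, 1], 16),
   ([-1, 0, 0, 0, 0, 0, 1, 1], 17),
   ([0, 0, 1, -1, 1, -1, 0, 2], 17),
   ([1, 0, -1, 0, 0, 1, -1, 2], 17),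
   ([-1, 0, 0, 0, 0, 1, -1, 2], 18),
   ([0, 0, 1, 0, -1, 0, 0, 2], 18),
   ([1, 0, -1, 0, 1, -1, 0, 2], 18),
   ([-1, 0, 0, 0, 1, -1, 0, 2], 19),
   ([1, 0, -1, 1, -1, 0, 0, 2], 19),
   ([-1, 0, 0, 1, -1, 0, 0, 2], 20),
   ([1, 1, 0, -1, 0, 0, 0, 2], 20),
   ([-1, 1, 1, -1, 0, 0, 0, 2], 21),
   ([1, -1, 0, 0, 0, 0, 0, 2], 21),
   ([-1, -1, 1, 0, 0, 0, 0, 2], 22),
   ([0, 1, -1, 0, 0, 0, 0, 2], 22),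
   ([0, -1, -1, 1, 0, 0, 0, 2], 23),
   ([0, 0, 0, -1, 1, 0, 0, 2], 24),
   ([0, 0, 0, 0, -1, 1, 0, 2], 25),
   ([0, 0, 0, 0, 0, -1, 1, 2], 26),
   ([0, 0, 0, 0, 0, 0, -1, 3], 27)]

/-- An orbit. -/
def orbE8_2 : Orbit :=
  [([1, 0, 0, 0, 0, 0, 0, 0], 0),
   ([-1, 0, 1, 0, 0, 0, 0, 0], 1),
   ([0, 0, -1, 1, 0, 0, 0, 0], 2),
   ([0, 1, 0, -1, 1, 0, 0, 0], 3),
   ([0, -1, 0, 0, 1, 0, 0, 0], 4),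
   ([0, 1, 0, 0, -1, 1, 0, 0], 4),
   ([0, -1, 0, 1, -1, 1, 0, 0], 5),
   ([0, 1, 0, 0, 0, -1, 1, 0], 5),
   ([0, -1, 0, 1, 0, -1, 1, 0], 6),
   ([0, 0, 1, -1, 0, 1, 0, 0], 6),
   ([0, 0, 1, -1, 1, -1, 1, 0], 7),
   ([1, 0, -1, 0, 0, 1, 0, 0], 7),
   ([-1, 0, 0, 0, 0, 1, 0, 0], 8),
   ([0, 0, 1, 0, -1, 0, 1, 0], 8),
   ([1, 0, -1, 0, 1, -1, 1, 0], 8),
   ([-1, 0, 0, 0, 1, -1, 1, 0], 9),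
   ([1, 0, -1, 1, -1, 0, 1, 0], 9),
   ([-1, 0, 0, 1, -1, 0, 1, 0], 10),
   ([1, 1, 0, -1, 0, 0, 1, 0], 10),
   ([-1, 1, 1, -1, 0, 0, 1, 0], 11),
   ([1, -1, 0, 0, 0, 0, 1, 0], 11),
   ([-1, -1, 1, 0, 0, 0, 1, 0], 12),
   ([0, 1, -1, 0, 0, 0, 1, 0], 12),
   ([0, -1, -1, 1, 0, 0, 1, 0], 13),
   ([0, 0, 0, -1, 1, 0, 1, 0], 14),
   ([0, 0, 0, 0, -1, 1, 1, 0], 15),
   ([0, 0, 0, 0, 0, -1, 2, 0], 16)]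

/-- An orbit. -/
def orbE8_3 : Orbit :=
  [([0, 0, 0, 0, 0, 1, 0, 0], 0),
   ([0, 0, 0, 0, 1, -1, 1, 0], 1),
   ([0, 0, 0, 1, -1, 0, 1, 0], 2),
   ([0, 1, 1, -1, 0, 0, 1, 0], 3),
   ([0, -1, 1, 0, 0, 0, 1, 0], 4),
   ([1, 1, -1, 0, 0, 0, 1, 0], 4),
   ([1, -1, -1, 1, 0, 0, 1, 0], 5),
   ([1, 0, 0, -1, 1, 0, 1, 0], 6),
   ([1, 0, 0, 0, -1, 1, 1, 0], 7),
   ([1, 0, 0, 0, 0, -1, 2, 0], 8)]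

/-- An orbit. -/
def orbE8_4 : Orbit :=
  [([0, 1, 0, 0, 0, 0, 0, 0], 0),
   ([0, -1, 0, 1, 0, 0, 0, 0], 1),
   ([0, 0, 1, -1, 1, 0, 0, 0], 2),
   ([0, 0, 1, 0, -1, 1, 0, 0], 3),
   ([1, 0, -1, 0, 1, 0, 0, 0], 3),
   ([1, 0, -1, 1, -1, 1, 0, 0], 4),
   ([1, 1, 0, -1, 0, 1, 0, 0], 5),
   ([1, -1, 0, 0, 0, 1, 0, 0], 6)]

/-- An orbit. -/
def orbE8_5 : Orbit :=
  [([0, 0, 1, 0, 0, 0, 0, 0], 0),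
   ([1, 0, -1, 1, 0, 0, 0, 0], 1),
   ([1, 1, 0, -1, 1, 0, 0, 0], 2),
   ([1, 1, 0, 0, -1, 1, 0, 0], 3)]

/-- An orbit. -/
def orbE8_6 : Orbit :=
  [([0, 0, 0, 1, 0, 0, 0, 0], 0),
   ([0, 1, 1, -1, 1, 0, 0, 0], 1),
   ([0, 1, 1, 0, -1, 1, 0, 0], 2)]

/-- An orbit. -/
def orbE8_7 : Orbit :=
  [([0, 0, 0, 0, 1, 0, 0, 0], 0),
   ([0, 0, 0, 1, -1, 1, 0, 0], 1)]

/-- The chain. -/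
def chainE8 : List (Fin 8 × Orbit) :=
  [(7, orbE8_0), (6, orbE8_1), (0, orbE8_2), (5, orbE8_3), (1, orbE8_4), (2, orbE8_5), (3, orbE8_6), (4, orbE8_7)]

theorem cartanE8 : ∀ a b : Fin 8,
    chevE8.cartan a.val (chevE8.simple b.val) = cmE8 a b := by
  decide +kernel

theorem chainE8_ok : chainOK cmE8 (List.finRange 8) chainE8 = true := by
  decide +kernel

theorem chainE8_deg : eqP (chainP chainE8) (degP [2, 8, 12, 14, 18, 20, 24, 30]) = true := by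
  decide +kernel

end CfsgLib.Chev.Cert
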