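/-
The orders of the Chevalley groups of type E8.
-/
import Cfsg.Agent.Lib.Chev.TorusOrder
import Cfsg.Agent.Lib.Chev.OrbitE8
import Cfsg.Agent.Lib.Chev.Inst

namespace CfsgLib.Chev

open Cfsg.Lie Matrix

set_option maxRecDepth 100000

theorem sumWE8 (Φ : Chev Cfsg.Lie.chevE8) (x : ℕ) :
    ∑ π ∈ Φ.WFin, x ^ Φ.inv π = Cert.evalP x (Cert.degP [2, 8, 12, 14, 18, 20, 24, 30]) :=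
  Φ.sum_WFin (M := Cert.cmE8) Cert.cartanE8 Cert.chainE8_ok Cert.chainE8_deg x

theorem cardWE8 (Φ : Chev Cfsg.Lie.chevE8) : Nat.card Φ.WL = 696729600 :=
  (Φ.card_WL (M := Cert.cmE8) Cert.cartanE8 Cert.chainE8_ok Cert.chainE8_deg).trans (by decide +kernel)

theorem cardHE8 (Φ : Chev Cfsg.Lie.chevE8) (F : Type*) [Field F] [Finite F] :
    (∏ k : Fin 8, Nat.gcd (Nat.card F - 1) ([1, 1, 1, 1, 1, 1, 1, 1].getD k.val 0)) *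
        Nat.card (Cfsg.Lie.chevE8.diagonalSubgroup F) = (Nat.card F - 1) ^ 8 :=
  Φ.card_H (!![2, 0, -1, 0, 0, 0, 0, 0; 0, 2, 0, -1, 0, 0, 0, 0; -1, 0, 2, -1, 0, 0, 0, 0; 0, -1, -1, 2, -1, 0, 0, 0; 0, 0, 0, -1, 2, -1, 0, 0; 0, 0, 0, 0, -1, 2, -1, 0; 0, 0, 0, 0, 0, -1, 2, -1; 0, 0, 0, 0, 0, 0, -1, 2] : Matrix (Fin 8) (Fin 8) ℤ)
    (!![-1, 0, 0, 0, 0, 0, 0, 0; 0, -1, 0, 0, 0, 0, 0, 0; 1, -2, 0, -1, 0, 0, 0, 0; 2, -3, 0, -2, -1, 0, 0, 0; 3, -4, 0, -3, -2, -1, 0, 0; 4, -5, 0, -4, -3, -2, -1, 0; -2, 1, -1, 0, 0, 0, 0, 0; -3, -2, -4, -5, -4, -3, -2, -1] : Matrix (Fin 8) (Fin 8) ℤ) (!![-1, 0, 0, 0, 0, 0, 0, 0; 0, -1, 0, 0, 0, 0, 0, 0; 2, -1, 0, 0, 0, 0, -1, 0; -1, 2, -1, 0, 0, 0, 0, 0; 0, -1, 2, -1, 0, 0, 0, 0; 0, 0, -1, 2, -1, 0, 0, 0; 0,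 0, 0, -1, 2, -1, 0, 0; 0, 0, 0, 0, -1, 2, 4, -1] : Matrix (Fin 8) (Fin 8) ℤ)
    (!![0, 0, 0, 0, 0, 0, 1, -2; 0, 0, 0, 0, 0, 0, 2, -3; 1, 0, 0, 0, 0, 0, 2, -4; 0, 1, 0, 0, 0, 0, 4, -6; 0, 0, 1, 0, 0, 0, 4, -5; 0, 0, 0, 1, 0, 0, 4, -4; 0, 0, 0, 0, 1, 0, 4, -3; 0, 0, 0, 0, 0, 1, 4, -2] : Matrix (Fin 8) (Fin 8) ℤ) (!![-2, 0, 1, 0, 0, 0, 0, 0; 0, -2, 0, 1, 0, 0, 0, 0; 2, -3, 0, 0, 1, 0, 0, 0; 4, -4, 0, 0, 0, 1, 0, 0; 6, -5, 0, 0, 0, 0, 1, 0; 8, -6, 0, 0, 0, 0, 0, 1; -3, 2, 0, 0, 0, 0, 0, 0; -2, 1, 0, 0, 0, 0, 0, 0] : Matrix (Fin 8) (Fin 8) ℤ)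
    (fun k : Fin 8 => [1, 1, 1, 1, 1, 1, 1, 1].getD k.val 0)
    (show ∀ a b : Fin 8, Cfsg.Lie.chevE8.cartan a.val (Cfsg.Lie.chevE8.simple b.val) =
      (!![2, 0, -1, 0, 0, 0, 0, 0; 0, 2, 0, -1, 0, 0, 0, 0; -1, 0, 2, -1, 0, 0, 0, 0; 0, -1, -1, 2, -1, 0, 0, 0; 0, 0, 0, -1, 2, -1, 0, 0; 0, 0, 0, 0, -1, 2, -1, 0; 0, 0, 0, 0, 0, -1, 2, -1; 0, 0, 0, 0, 0, 0, -1, 2] : Matrix (Fin 8) (Fin 8) ℤ) b a by decide +kernel)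
    (by decide +kernel) (by decide +kernel) (by decide +kernel)

end CfsgLib.Chev
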