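/-
Orbit certificate for the Poincaré polynomial of the Weyl group of type B2.
-/
import Cfsg.Agent.Lib.Chev.PoincareCert
import Cfsg.Prelude.Def_ChevB2
import Cfsg.Prelude.Def_ChevStructure

namespace CfsgLib.Chev.Cert

open Cfsg.Lie

set_option maxRecDepth 100000

/-- The Cartan matrix. -/
def cmB2 (i j : Fin 2) : ℤ :=
  ([[2, -2], [-1, 2]].getD i.val []).getD j.val 0

/-- An orbit. -/
def orbB2_0 : Orbit :=
  [([1, 0], 0),
   ([-1, 2], 1),
   ([1, -2], 2),
   ([-1, 0], 3)]

/-- An orbit. -/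
def orbB2_1 : Orbit :=
  [([0, 1], 0),
   ([1, -1], 1)]

/-- The chain. -/
def chainB2 : List (Fin 2 × Orbit) :=
  [(0, orbB2_0), (1, orbB2_1)]

theorem cartanB2 : ∀ a b : Fin 2,
    chevB2.cartan a.val (chevB2.simple b.val) = cmB2 a b := by
  decide +kernel

theorem chainB2_ok : chainOK cmB2 (List.finRange 2) chainB2 = true := by
  decide +kernel

theorem chainB2_deg : eqP (chainP chainB2) (degP [2, 4]) = true := by
  decide +kernel

end CfsgLib.Chev.Cert
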