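/-
The theorem of Borel and Tits for finite Chevalley groups.

For a subgroup `R`, the gradings (given by a frame `g` and a real vector `x` with non-negative
coordinates) in which every element of `R` minus one raises the weight by at least one form a
closed set. The grading of least norm is unique up to the stabiliser, a parabolic subgroup, which
therefore contains the normaliser of `R` and has `R` in its unipotent radical.
-/
import Cfsg.Agent.Lib.Chev.SteinbergChar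
import Cfsg.Agent.Lib.Chev.Levi
import Mathlib.Topology.MetricSpace.ProperSpace
import Mathlib.Topology.Order.Compact

set_option autoImplicit false
set_option linter.dupNamespace false
set_option linter.unusedSectionVars false
set_option linter.unusedSimpArgs false

namespace CfsgLib.Chev

open Cfsg.Lie Matrix

/-! ### Matrices raising a real weight -/

section raising

variable {I : Type*} [Fintype I] [DecidableEq I] {R : Type*} [CommRing R] (w : I → ℝ)

/-- Every non-zero entry raises the weight by at least `c`. -/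
def RaisesR (c : ℝ) (M : Matrix I I R) : Prop := ∀ a b, M a b ≠ 0 → w b + c ≤ w a

/-- Every non-zero entry raises the weight strictly. -/
def RaisesP (M : Matrix I I R) : Prop := ∀ a b, M a b ≠ 0 → w b < w a

theorem RaisesR.mul {c d : ℝ} {M N : Matrix I I R} (hM : RaisesR w c M) (hN : RaisesR w d N) :
    RaisesR w (c + d) (M * N) := by
  intro a b hab
  rw [Matrix.mul_apply] at hab
  obtain ⟨z, -, hz⟩ := Finset.exists_ne_zero_of_sum_ne_zero hab
  have h1 := hM a z (fun e => hz (by simp [e]))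
  have h2 := hN z b (fun e => hz (by simp [e]))
  linarith

theorem RaisesR.mul_strict {M N : Matrix I I R} (hM : RaisesR w 0 M) (hN : RaisesP w N) :
    RaisesP w (M * N) := by
  intro a b hab
  rw [Matrix.mul_apply] at hab
  obtain ⟨z, -, hz⟩ := Finset.exists_ne_zero_of_sum_ne_zero hab
  have h1 := hM a z (fun e => hz (by simp [e]))
  have h2 := hN z b (fun e => hz (by simp [e]))
  linarith

theorem RaisesP.add {M N : Matrix I I R} (hM : RaisesP w M) (hN : RaisesP w N) :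
    RaisesP w (M + N) := by
  intro a b hab
  by_cases h : M a b = 0
  · exact hN a b (by simpa [h] using hab)
  · exact hM a b h

theorem RaisesR.add {c : ℝ} {M N : Matrix I I R} (hM : RaisesR w c M) (hN : RaisesR w c N) :
    RaisesR w c (M + N) := by
  intro a b hab
  by_cases h : M a b = 0
  · exact hN a b (by simpa [h] using hab)
  · exact hM a b h

theorem raisesR_one : RaisesR w 0 (1 : Matrix I I R) := by
  intro a b h
  by_cases e : a = b
  · subst e; simp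
  · exact absurd (Matrix.one_apply_ne e) h

theorem RaisesR.of_sub_one {c : ℝ} (hc : 0 ≤ c) {M : Matrix I I R} (h : RaisesR w c (M - 1)) :
    RaisesR w 0 M := by
  have h0 : RaisesR w 0 (M - 1) := fun a b hab => by linarith [h a b hab]
  simpa using h0.add w (raisesR_one w)

theorem RaisesP.toR {M : Matrix I I R} (h : RaisesP w M) : RaisesR w 0 M := fun a b hab => by
  linarith [h a b hab]

/-- The units preserving the filtration. -/
def stabR : Subgroup (Matrix I I R)ˣ where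
  carrier := {g | RaisesR w 0 (g : Matrix I I R) ∧ RaisesR w 0 (↑g⁻¹ : Matrix I I R)}
  one_mem' := by simp [raisesR_one]
  mul_mem' := by
    rintro g h ⟨g1, g2⟩ ⟨h1, h2⟩
    exact ⟨by simpa using g1.mul w h1, by simpa using h2.mul w g2⟩
  inv_mem' := by
    rintro g ⟨g1, g2⟩
    exact ⟨g2, by rwa [inv_inv]⟩

theorem mem_stabR {g : (Matrix I I R)ˣ} : g ∈ stabR w ↔
    RaisesR w 0 (g : Matrix I I R) ∧ RaisesR w 0 (↑g⁻¹ : Matrix I I R) := Iff.rfl

/-- The units acting trivially on the quotients of the filtration. -/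
def radP : Subgroup (Matrix I I R)ˣ where
  carrier := {g | RaisesP w ((g : Matrix I I R) - 1) ∧ RaisesP w ((↑g⁻¹ : Matrix I I R) - 1)}
  one_mem' := by simp [RaisesP]
  mul_mem' := by
    rintro g h ⟨g1, g2⟩ ⟨h1, h2⟩
    constructor
    · rw [Units.val_mul, mul_sub_one]
      exact ((g1.toR.mul_strict w h1).add w g1).add w h1
    · rw [_root_.mul_inv_rev, Units.val_mul, mul_sub_one]
      exact ((h2.toR.mul_strict w g2).add w h2).add w g2
  inv_mem' := by
    rintro g ⟨g1, g2⟩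
    exact ⟨g2, by rwa [inv_inv]⟩

theorem mem_radP {g : (Matrix I I R)ˣ} : g ∈ radP w ↔
    RaisesP w ((g : Matrix I I R) - 1) ∧ RaisesP w ((↑g⁻¹ : Matrix I I R) - 1) := Iff.rfl

theorem conj_sub_one (b r : (Matrix I I R)ˣ) :
    ((b⁻¹ * r * b : (Matrix I I R)ˣ) : Matrix I I R) - 1 =
      (↑b⁻¹ : Matrix I I R) * ((r : Matrix I I R) - 1) * (b : Matrix I I R) := by
  simp only [Units.val_mul, mul_sub, sub_mul, mul_one, Units.inv_mul]

theorem raisesR_conj {c : ℝ} {b r : (Matrix I I R)ˣ} (hb : b ∈ stabR w)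
    (hr : RaisesR w c ((r : Matrix I I R) - 1)) :
    RaisesR w c (((b⁻¹ * r * b : (Matrix I I R)ˣ) : Matrix I I R) - 1) := by
  rw [conj_sub_one]
  have := (hb.2.mul w hr).mul w hb.1
  simpa using this

end raising

variable {D : ChevalleyDatum}

namespace Chev

variable (Φ : Chev D) {F : Type*} [Field F]

/-- The weight of a root. -/
def wt (x : Fin D.rank → ℝ) (r : Fin D.nroots) : ℝ := ∑ j, (Φ.V r j : ℝ) * x j

/-- The weight of a basis element. -/
def wtIdx (x : Fin D.rank → ℝ) : D.Idx → ℝ := Sum.elim (fun _ => 0) (Φ.wt x)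

/-- The transformed vector. -/
def act (π : Equiv.Perm (Fin D.nroots)) (x : Fin D.rank → ℝ) : Fin D.rank → ℝ :=
  fun k => Φ.wt x (π (Φ.p k))

theorem wt_p (x : Fin D.rank → ℝ) (i : Fin D.rank) : Φ.wt x (Φ.p i) = x i := by
  simp [wt, Φ.V_p]

theorem wt_rev (x : Fin D.rank → ℝ) (r : Fin D.nroots) : Φ.wt x r.rev = -Φ.wt x r := by
  simp [wt, Φ.V_neg r, Finset.sum_neg_distrib]

theorem wt_nonneg {x : Fin D.rank → ℝ} (hx : ∀ i, 0 ≤ x i) {r : Fin D.nroots}
    (hr : Φ.toTables.Pos r) : 0 ≤ Φ.wt x r :=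
  Finset.sum_nonneg fun j _ => mul_nonneg (by exact_mod_cast Φ.V_nonneg r hr j) (hx j)

theorem wt_nonpos {x : Fin D.rank → ℝ} (hx : ∀ i, 0 ≤ x i) {r : Fin D.nroots}
    (hr : ¬ Φ.toTables.Pos r) : Φ.wt x r ≤ 0 :=
  Finset.sum_nonpos fun j _ =>
    mul_nonpos_of_nonpos_of_nonneg (by exact_mod_cast Φ.V_nonpos r hr j) (hx j)

theorem wt_act {π : Equiv.Perm (Fin D.nroots)} (hπ : π ∈ Φ.WL) (x : Fin D.rank → ℝ)
    (r : Fin D.nroots) : Φ.wt (Φ.act π x) r = Φ.wt x (π r) := by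
  simp only [wt, act, Finset.mul_sum, Φ.V_map hπ r, Int.cast_sum, Int.cast_mul, Finset.sum_mul]
  rw [Finset.sum_comm]
  exact Finset.sum_congr rfl fun k _ => Finset.sum_congr rfl fun j _ => by ring

theorem act_mul {π σ : Equiv.Perm (Fin D.nroots)} (hπ : π ∈ Φ.WL) (x : Fin D.rank → ℝ) :
    Φ.act (π * σ) x = Φ.act σ (Φ.act π x) :=
  funext fun k => by
    show Φ.wt x (π (σ (Φ.p k))) = Φ.wt (Φ.act π x) (σ (Φ.p k))
    rw [Φ.wt_act hπ]

theorem act_one (x : Fin D.rank → ℝ) : Φ.act 1 x = x := funext fun k => Φ.wt_p x k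

/-- The squared norm. -/
def nsq (x : Fin D.rank → ℝ) : ℝ := ∑ r, Φ.wt x r ^ 2

theorem nsq_act {π : Equiv.Perm (Fin D.nroots)} (hπ : π ∈ Φ.WL) (x : Fin D.rank → ℝ) :
    Φ.nsq (Φ.act π x) = Φ.nsq x := by
  simp only [nsq, Φ.wt_act hπ]
  exact Equiv.sum_comp π fun r => Φ.wt x r ^ 2

theorem sq_le_nsq (x : Fin D.rank → ℝ) (i : Fin D.rank) : x i ^ 2 ≤ Φ.nsq x := by
  rw [← Φ.wt_p x i]
  exact Finset.single_le_sum (f := fun r => Φ.wt x r ^ 2) (fun r _ => sq_nonneg _) (Finset.mem_univ _)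

theorem nsq_mid (x y : Fin D.rank → ℝ) :
    4 * Φ.nsq (fun j => (x j + y j) / 2) = 2 * Φ.nsq x + 2 * Φ.nsq y - Φ.nsq (fun j => x j - y j) := by
  simp only [nsq, Finset.mul_sum, ← Finset.sum_add_distrib, ← Finset.sum_sub_distrib]
  refine Finset.sum_congr rfl fun r _ => ?_
  have h1 : Φ.wt (fun j => (x j + y j) / 2) r = (Φ.wt x r + Φ.wt y r) / 2 := by
    simp only [wt, ← Finset.sum_add_distrib, Finset.sum_div]
    exact Finset.sum_congr rfl fun j _ => by ring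
  have h2 : Φ.wt (fun j => x j - y j) r = Φ.wt x r - Φ.wt y r := by
    simp only [wt, ← Finset.sum_sub_distrib]
    exact Finset.sum_congr rfl fun j _ => by ring
  rw [h1, h2]
  ring

theorem wt_refl (x : Fin D.rank → ℝ) (i : Fin D.rank) (r : Fin D.nroots) :
    Φ.wt x (Φ.refl i r) = Φ.wt x r - (Φ.A i r : ℝ) * x i := by
  simp only [wt, Φ.V_refl, Int.cast_sub, sub_mul, Finset.sum_sub_distrib]
  congr 1
  rw [Finset.sum_eq_single i]
  · simp
  · intro j _ hj; simp [hj]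
  · simp

/-- Some translate of a vector is dominant. -/
theorem exists_dominant (z : Fin D.rank → ℝ) :
    ∃ σ ∈ Φ.WL, ∀ i, 0 ≤ Φ.act σ z i := by
  classical
  obtain ⟨σ, hσ, hmax⟩ := Finset.exists_max_image (Finset.univ.filter (· ∈ Φ.WL))
    (fun σ => ∑ r ∈ Finset.univ.filter (fun r => Φ.toTables.Pos r), Φ.wt z (σ r))
    ⟨1, by simp [one_mem]⟩
  simp only [Finset.mem_filter, Finset.mem_univ, true_and] at hσ hmax
  refine ⟨σ, hσ, fun i => ?_⟩
  by_contra hi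
  push Not at hi
  set P := Finset.univ.filter (fun r => Φ.toTables.Pos r) with hP
  have hip : Φ.p i ∈ P := by simp [hP, Φ.p_pos i]
  have h := hmax _ (mul_mem hσ (Φ.reflPerm_mem_WL i))
  have e : ∑ r ∈ P.erase (Φ.p i), Φ.wt z ((σ * Φ.reflPerm i) r) =
      ∑ r ∈ P.erase (Φ.p i), Φ.wt z (σ r) := by
    refine Finset.sum_nbij' (fun r => Φ.refl i r) (fun r => Φ.refl i r) ?_ ?_ ?_ ?_ ?_
    · intro r hr
      simp only [hP, Finset.mem_coe, Finset.mem_erase, Finset.mem_filter, Finset.mem_univ, true_and] at hr ⊢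
      obtain ⟨h1, h2⟩ := Φ.refl_pos hr.2 hr.1
      exact ⟨h2, h1⟩
    · intro r hr
      simp only [hP, Finset.mem_coe, Finset.mem_erase, Finset.mem_filter, Finset.mem_univ, true_and] at hr ⊢
      obtain ⟨h1, h2⟩ := Φ.refl_pos hr.2 hr.1
      exact ⟨h2, h1⟩
    · intro r _; exact Φ.refl_refl i r
    · intro r _; exact Φ.refl_refl i r
    · intro r _; rfl
  rw [← Finset.add_sum_erase _ _ hip, ← Finset.add_sum_erase _ _ hip, e] at h
  have e2 : Φ.wt z ((σ * Φ.reflPerm i) (Φ.p i)) = -Φ.act σ z i := by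
    show Φ.wt z (σ (Φ.refl i (Φ.p i))) = _
    rw [Φ.refl_p, Φ.map_rev hσ, Φ.wt_rev]
    rfl
  rw [e2] at h
  have e3 : Φ.wt z (σ (Φ.p i)) = Φ.act σ z i := rfl
  rw [e3] at h
  linarith

/-- An orbit meets the dominant vectors once. -/
theorem dominant_unique : ∀ {π : Equiv.Perm (Fin D.nroots)}, π ∈ Φ.WL →
    ∀ {x : Fin D.rank → ℝ}, (∀ i, 0 ≤ x i) → (∀ i, 0 ≤ Φ.act π x i) → Φ.act π x = x := by
  intro π
  induction h : Φ.inv π using Nat.strong_induction_on generalizing π with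
  | _ k ih =>
    intro hπ x hx hy
    by_cases h1 : π = 1
    · rw [h1, Φ.act_one]
    obtain ⟨i, hi⟩ := Φ.exists_right_descent hπ h1
    have hzero : Φ.act π x i = 0 := le_antisymm (Φ.wt_nonpos hx hi) (hy i)
    have e : Φ.act (π * Φ.reflPerm i) x = Φ.act π x := by
      funext j
      show Φ.wt x (π (Φ.refl i (Φ.p j))) = _
      rw [← Φ.wt_act hπ, Φ.wt_refl, hzero, mul_zero, sub_zero, Φ.wt_p]
    have := ih _ (h ▸ Φ.inv_mul_refl_lt hπ hi) rfl (mul_mem hπ (Φ.reflPerm_mem_WL i)) hx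
      (by rw [e]; exact hy)
    rwa [e] at this

/-- Linearity of the grading along the chains. -/
theorem wt_E {R : Type*} [CommRing R] (x : Fin D.rank → ℝ) (k : ℕ) (r : Fin D.nroots) (a b : D.Idx)
    (h : Φ.toSys.E R k r a b ≠ 0) : Φ.wtIdx x a = k * Φ.wt x r + Φ.wtIdx x b := by
  have hl : ∀ a : D.Idx, Φ.wtIdx x a = ∑ j, x j * (Φ.toSys.levIdx (Pi.single j 1) a : ℝ) := by
    intro a
    rcases a with i | s
    · simp [wtIdx, Sys.levIdx]
    · simp [wtIdx, wt, Sys.levIdx, Sys.lev, Pi.single_apply, mul_comm]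
  have hr : Φ.wt x r = ∑ j, x j * (Φ.toSys.lev (Pi.single j 1) r : ℝ) := by
    simp [wt, Sys.lev, Pi.single_apply, mul_comm]
  rw [hl, hl, hr, Finset.mul_sum, ← Finset.sum_add_distrib]
  refine Finset.sum_congr rfl fun j _ => ?_
  rw [Φ.toSys.lev_E (Pi.single j 1) k r a b h]
  push_cast
  ring

theorem X_sub_one_entry {R : Type*} [CommRing R] {r : Fin D.nroots} {t : R} {a b : D.Idx}
    (hab : (Φ.toSys.X R r t - 1) a b ≠ 0) : ∃ k : ℕ, 1 ≤ k ∧ Φ.toSys.E R k r a b ≠ 0 := by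
  by_contra hall
  push Not at hall
  apply hab
  simp [Sys.X, Finset.sum_range_succ, hall 1 le_rfl, hall 2 (by norm_num), hall 3 (by norm_num),
    Φ.toSys.E_zero]

theorem raisesR_xg {x : Fin D.rank → ℝ} {r : Fin D.nroots} {c : ℝ} (hc : 0 ≤ c)
    (hr : c ≤ Φ.wt x r) (t : F) :
    RaisesR (Φ.wtIdx x) c (((Φ.toAlg.xg r t : GL D.Idx F) : Matrix D.Idx D.Idx F) - 1) := by
  intro a b hab
  rw [Φ.toAlg.xg_val] at hab
  obtain ⟨k, hk, hE⟩ := Φ.X_sub_one_entry hab
  rw [Φ.wt_E x k r a b hE]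
  have : (1 : ℝ) ≤ (k : ℝ) := by exact_mod_cast hk
  nlinarith

theorem raisesP_xg {x : Fin D.rank → ℝ} {r : Fin D.nroots} (hr : 0 < Φ.wt x r) (t : F) :
    RaisesP (Φ.wtIdx x) (((Φ.toAlg.xg r t : GL D.Idx F) : Matrix D.Idx D.Idx F) - 1) :=
  fun a b hab => by linarith [Φ.raisesR_xg hr.le le_rfl t a b hab]

theorem xg_mem_stabR {x : Fin D.rank → ℝ} {r : Fin D.nroots} (hr : 0 ≤ Φ.wt x r) (t : F) :
    Φ.toAlg.xg r t ∈ stabR (Φ.wtIdx x) := by
  refine ⟨(Φ.raisesR_xg le_rfl hr t).of_sub_one _ le_rfl, ?_⟩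
  rw [Φ.toAlg.xg_inv]
  exact (Φ.raisesR_xg le_rfl hr (-t)).of_sub_one _ le_rfl

include Φ in
theorem diag_mem_stabR (w : D.Idx → ℝ) {h : GL D.Idx F} (hh : h ∈ D.diagonalSubgroup F) :
    h ∈ stabR w := by
  have key : ∀ h ∈ D.diagonalSubgroup F, RaisesR w 0 (h : Matrix D.Idx D.Idx F) := by
    intro h hh a b hab
    by_cases e : a = b
    · subst e; simp
    · exact absurd (Φ.diag_apply hh e) hab
  exact ⟨key h hh, key h⁻¹ (inv_mem hh)⟩

/-- The fundamental roots on which a vector vanishes. -/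
def zeroSet (x : Fin D.rank → ℝ) : Set ℕ := {i | ∃ h : i < D.rank, x ⟨i, h⟩ = 0}

theorem mem_natSet_zeroSet {x : Fin D.rank → ℝ} {i : Fin D.rank} :
    i ∈ natSet (zeroSet x) ↔ x i = 0 := by
  simp [natSet, zeroSet, i.isLt]

theorem wt_sub_zero {x : Fin D.rank → ℝ} {r : Fin D.nroots} (hr : Φ.Sub (natSet (zeroSet x)) r) :
    Φ.wt x r = 0 := by
  refine Finset.sum_eq_zero fun j _ => ?_
  by_cases h : j ∈ natSet (zeroSet x)
  · simp [mem_natSet_zeroSet.1 h]
  · simp [hr j h]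

theorem wt_out_pos {x : Fin D.rank → ℝ} (hx : ∀ i, 0 ≤ x i) {r : Fin D.nroots}
    (hr : Φ.Out (natSet (zeroSet x)) r) : 0 < Φ.wt x r := by
  have hp := Out.pos Φ hr
  obtain ⟨j, hj, hV⟩ := hr
  refine Finset.sum_pos' (fun k _ => mul_nonneg (by exact_mod_cast Φ.V_nonneg r hp k) (hx k))
    ⟨j, Finset.mem_univ _, mul_pos (by exact_mod_cast hV) ?_⟩
  exact lt_of_le_of_ne (hx j) fun e => hj (mem_natSet_zeroSet.2 e.symm)

theorem borel_le_stabR {x : Fin D.rank → ℝ} (hx : ∀ i, 0 ≤ x i) :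
    D.borelSubgroup F ≤ stabR (Φ.wtIdx x) := by
  intro b hb
  obtain ⟨u, hu, h, hh, rfl⟩ := Φ.mem_B_iff.1 hb
  refine mul_mem ?_ (Φ.diag_mem_stabR _ hh)
  rw [Φ.posUnipotent_eq_US] at hu
  refine (Subgroup.closure_le (stabR (Φ.wtIdx x))).2 ?_ hu
  rintro _ ⟨r, t, hr, rfl⟩
  exact Φ.xg_mem_stabR (Φ.wt_nonneg hx hr) t

/-- A monomial element carries one grading to the transformed one. -/
theorem mono_entry {n : GL D.Idx F} {π : Equiv.Perm (Fin D.nroots)} (hπ : π ∈ Φ.WL)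
    (hm : Φ.Mono n π) (x : Fin D.rank → ℝ) {a b : D.Idx}
    (hab : (n : Matrix D.Idx D.Idx F) a b ≠ 0) : Φ.wtIdx x a = Φ.wtIdx (Φ.act π x) b := by
  rcases b with j | s
  · rcases a with i | u
    · rfl
    · exfalso
      refine hab ?_
      have := hm.2 (Pi.single (Sum.inl j) 1) (fun v => by simp) u
      rwa [Matrix.mulVec_single_one, Matrix.col_apply] at this
  · obtain ⟨c, -, -, hv⟩ := hm.1 s
    have h := congrFun hv a
    rw [Matrix.mulVec_single_one, Matrix.col_apply, Pi.smul_apply, Pi.single_apply] at h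
    by_cases e : a = Sum.inr (π s)
    · subst e
      exact (Φ.wt_act hπ x s).symm
    · rw [if_neg e, smul_zero] at h
      exact absurd h hab

theorem raisesR_mono {n : GL D.Idx F} (hn : n ∈ D.monomialSubgroup F)
    {π : Equiv.Perm (Fin D.nroots)} (hπ : π ∈ Φ.WL) (hm : Φ.Mono n π) {x : Fin D.rank → ℝ} {c : ℝ}
    {M : Matrix D.Idx D.Idx F} (hM : RaisesR (Φ.wtIdx x) c M) :
    RaisesR (Φ.wtIdx (Φ.act π x)) c ((↑n⁻¹ : Matrix D.Idx D.Idx F) * M * (n : Matrix D.Idx D.Idx F)) := by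
  have hm' : Φ.Mono n⁻¹ π⁻¹ := Φ.mono_inv hn hm
  intro a b hab
  rw [Matrix.mul_apply] at hab
  obtain ⟨b', -, hb'⟩ := Finset.exists_ne_zero_of_sum_ne_zero hab
  have hb1 := left_ne_zero_of_mul hb'
  rw [Matrix.mul_apply] at hb1
  obtain ⟨a', -, ha'⟩ := Finset.exists_ne_zero_of_sum_ne_zero hb1
  have e1 := Φ.mono_entry (inv_mem hπ) hm' (Φ.act π x) (left_ne_zero_of_mul ha')
  rw [← Φ.act_mul hπ, mul_inv_cancel, Φ.act_one] at e1
  have e2 := Φ.mono_entry hπ hm x (right_ne_zero_of_mul hb')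
  rw [e1, ← e2]
  exact hM a' b' (right_ne_zero_of_mul ha')

/-- An element of `R`, in the frame `g`, raises the weight given by `x` by at least one. -/
def Adm (R : Subgroup (GL D.Idx F)) (g : GL D.Idx F) (x : Fin D.rank → ℝ) : Prop :=
  ∀ r ∈ R, RaisesR (Φ.wtIdx x) 1 (((g⁻¹ * r * g : GL D.Idx F) : Matrix D.Idx D.Idx F) - 1)

theorem Adm.mul_stab {R : Subgroup (GL D.Idx F)} {g b : GL D.Idx F} {x : Fin D.rank → ℝ}
    (h : Φ.Adm R g x) (hb : b ∈ stabR (Φ.wtIdx x)) : Φ.Adm R (g * b) x := by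
  intro r hr
  have := raisesR_conj _ hb (h r hr)
  rwa [show b⁻¹ * (g⁻¹ * r * g) * b = (g * b)⁻¹ * r * (g * b) by group] at this

theorem Adm.mul_mono {R : Subgroup (GL D.Idx F)} {g n : GL D.Idx F} {x : Fin D.rank → ℝ}
    {π : Equiv.Perm (Fin D.nroots)}
    (h : Φ.Adm R g x) (hn : n ∈ D.monomialSubgroup F) (hπ : π ∈ Φ.WL) (hm : Φ.Mono n π) :
    Φ.Adm R (g * n) (Φ.act π x) := by
  intro r hr
  have := Φ.raisesR_mono hn hπ hm (h r hr)
  rw [← conj_sub_one] at this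
  rwa [show n⁻¹ * (g⁻¹ * r * g) * n = (g * n)⁻¹ * r * (g * n) by group] at this

include Φ in
/-- Two frames of the least grading differ by an element preserving the filtration. -/
theorem adm_unique {R : Subgroup (GL D.Idx F)} {g h : GL D.Idx F}
    (hg : g ∈ D.group F) (hh : h ∈ D.group F) {x : Fin D.rank → ℝ} (hx : ∀ i, 0 ≤ x i)
    (hgx : Φ.Adm R g x) (hhx : Φ.Adm R h x)
    (hmin : ∀ g' ∈ D.group F, ∀ y : Fin D.rank → ℝ, (∀ i, 0 ≤ y i) → Φ.Adm R g' y → Φ.nsq x ≤ Φ.nsq y) :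
    g⁻¹ * h ∈ stabR (Φ.wtIdx x) := by
  obtain ⟨b, hb, n, hn, b', hb', e⟩ := Φ.exists_bnb (mul_mem (inv_mem hg) hh)
  obtain ⟨π, hπ, hm, -⟩ := Φ.exists_mono_W hn
  have hbs := Φ.borel_le_stabR hx hb
  have hb's := Φ.borel_le_stabR hx hb'
  set g1 := g * b with hg1
  have hg1G : g1 ∈ D.group F := mul_mem hg (Φ.B_le_group hb)
  have h1 : Φ.Adm R g1 x := hgx.mul_stab Φ hbs
  have h2 : Φ.Adm R (h * b'⁻¹) x := hhx.mul_stab Φ (inv_mem hb's)
  have e' : h * b'⁻¹ = g1 * n := by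
    rw [hg1, show h = g * (g⁻¹ * h) by group, e]
    group
  rw [e'] at h2
  set y := Φ.act π⁻¹ x with hy
  have h3 : Φ.Adm R g1 y := by
    have := h2.mul_mono Φ (inv_mem hn) (inv_mem hπ) (Φ.mono_inv hn hm)
    rwa [mul_inv_cancel_right] at this
  set z : Fin D.rank → ℝ := fun j => (x j + y j) / 2 with hz
  have h4 : Φ.Adm R g1 z := by
    intro r hr a c hac
    have u1 := h1 r hr a c hac
    have u2 := h3 r hr a c hac
    have hl : ∀ i : D.Idx, Φ.wtIdx z i = (Φ.wtIdx x i + Φ.wtIdx y i) / 2 := by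
      rintro (i | s)
      · simp [wtIdx]
      · simp only [wtIdx, Sum.elim_inr, wt, hz, ← Finset.sum_add_distrib, Finset.sum_div]
        exact Finset.sum_congr rfl fun j _ => by ring
    rw [hl, hl]
    linarith
  obtain ⟨σ, hσ, hdom⟩ := Φ.exists_dominant z
  obtain ⟨m, hm1, hm2⟩ := Φ.exists_preimage F hσ
  have h5 := hmin _ (mul_mem hg1G (Φ.N_le_group hm1)) _ hdom (h4.mul_mono Φ hm1 hσ hm2)
  rw [Φ.nsq_act hσ] at h5
  have h6 := Φ.nsq_mid x y
  rw [hy, Φ.nsq_act (inv_mem hπ), ← hy, ← hz] at h6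
  have h7 : Φ.nsq (fun j => x j - y j) ≤ 0 := by linarith
  have hxy : y = x := by
    funext j
    have := (Φ.sq_le_nsq (fun j => x j - y j) j).trans h7
    nlinarith
  have hπx : Φ.act π x = x := by
    conv_lhs => rw [← hxy, hy, ← Φ.act_mul (inv_mem hπ), inv_mul_cancel, Φ.act_one]
  have hns : n ∈ stabR (Φ.wtIdx x) := by
    constructor
    · intro a c hac
      rw [Φ.mono_entry hπ hm x hac, hπx, add_zero]
    · intro a c hac
      rw [Φ.mono_entry (inv_mem hπ) (Φ.mono_inv hn hm) x hac, ← hy, hxy, add_zero]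
  rw [e]
  exact mul_mem (mul_mem hbs hns) hb's

include Φ in
/-- The stabiliser of a dominant grading is a standard parabolic subgroup. -/
theorem stabR_inf_group {x : Fin D.rank → ℝ} (hx : ∀ i, 0 ≤ x i) :
    stabR (Φ.wtIdx x) ⊓ D.group F = D.parabolicSubgroup F (zeroSet x) := by
  refine le_antisymm ?_ (le_inf ?_ ?_)
  · set M : Subgroup ↥(D.group F) := (stabR (Φ.wtIdx x)).subgroupOf (D.group F) with hM
    have hB : (Φ.bnPair F).B ≤ M := fun b hb => Φ.borel_le_stabR hx hb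
    have hS : (Φ.bnPair F).S ∩ (M : Set _) ⊆ Φ.simpleSet F (natSet (zeroSet x)) := by
      rintro _ ⟨⟨i, rfl⟩, hi⟩
      refine ⟨i, mem_natSet_zeroSet.2 ?_, rfl⟩
      have hmem : Φ.nw (Φ.p i) (1 : Fˣ) ∈ stabR (Φ.wtIdx x) := hi
      have hne : (Φ.nw (Φ.p i) (1 : Fˣ) : Matrix D.Idx D.Idx F) (Sum.inr (Φ.p i).rev) (Sum.inr (Φ.p i)) ≠ 0 := by
        rw [Φ.nw_one_val, Φ.nOne_apply_inr, Φ.refl_p, if_pos rfl]
        rcases Φ.eta_unit i (Φ.p i) with e | e <;> simp [e]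
      have h1 := hmem.1 _ _ hne
      simp only [wtIdx, Sum.elim_inr, Φ.wt_rev, Φ.wt_p] at h1
      linarith [hx i]
    rintro g ⟨hs, hg⟩
    rw [Φ.mem_parabolicSubgroup]
    refine ⟨hg, ?_⟩
    have hmem : (⟨g, hg⟩ : D.group F) ∈ M := hs
    rw [CfsgLib.BN.eq_parabolic (Φ.bnPair F) hB] at hmem
    exact (sup_le_sup_left (Subgroup.closure_mono hS) _ :
      (Φ.bnPair F).parabolic _ ≤ (Φ.bnPair F).parabolic _) hmem
  · rw [Φ.parabolic_eq_gen]
    refine sup_le (fun h hh => Φ.diag_mem_stabR _ hh) ((Subgroup.closure_le _).2 ?_)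
    rintro _ ⟨r, t, hr, rfl⟩
    refine Φ.xg_mem_stabR ?_ t
    rcases hr with hr | hr
    · exact Φ.wt_nonneg hx hr
    · exact (Φ.wt_sub_zero hr).ge
  · intro g hg
    exact (Φ.mem_parabolicSubgroup.1 hg).1

include Φ in
/-- An element acting trivially on the graded pieces lies in the unipotent radical. -/
theorem mem_radical_of_raises {x : Fin D.rank → ℝ} (hx : ∀ i, 0 ≤ x i) {g : GL D.Idx F}
    (hg : g ∈ D.parabolicSubgroup F (zeroSet x))
    (hr : RaisesP (Φ.wtIdx x) ((g : Matrix D.Idx D.Idx F) - 1)) :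
    g ∈ D.unipotentRadical F (zeroSet x) := by
  set J := zeroSet x
  have hU : D.unipotentRadical F J ≤ radP (Φ.wtIdx x) := by
    rw [Φ.unipotentRadical_eq, US, Subgroup.closure_le]
    rintro _ ⟨r, t, hr, rfl⟩
    refine ⟨Φ.raisesP_xg (Φ.wt_out_pos hx hr) t, ?_⟩
    rw [Φ.toAlg.xg_inv]
    exact Φ.raisesP_xg (Φ.wt_out_pos hx hr) (-t)
  have hL : D.leviSubgroup F J ≤ stabR (fun i => -Φ.wtIdx x i) := by
    rw [Φ.leviSubgroup_eq]
    refine sup_le (fun h hh => Φ.diag_mem_stabR _ hh) ((Subgroup.closure_le _).2 ?_)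
    rintro _ ⟨r, t, hr, rfl⟩
    have h0 := Φ.wt_sub_zero hr
    have key : ∀ t : F, RaisesR (fun i => -Φ.wtIdx x i) 0
        ((Φ.toAlg.xg r t : GL D.Idx F) : Matrix D.Idx D.Idx F) := by
      intro t
      refine RaisesR.of_sub_one _ le_rfl fun a b hab => ?_
      rw [Φ.toAlg.xg_val] at hab
      obtain ⟨k, -, hE⟩ := Φ.X_sub_one_entry hab
      simp [Φ.wt_E x k r a b hE, h0]
    exact ⟨key t, by rw [Φ.toAlg.xg_inv]; exact key (-t)⟩
  have hn : D.leviSubgroup F J ≤ Subgroup.normalizer (D.unipotentRadical F J : Set (GL D.Idx F)) :=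
    le_trans (by rw [← Φ.unipotentRadical_sup_levi]; exact le_sup_right) (Φ.parabolic_le_normalizer J)
  rw [← Φ.unipotentRadical_sup_levi, ← SetLike.mem_coe,
    Subgroup.coe_mul_of_right_le_normalizer_left _ _ hn] at hg
  obtain ⟨v, hv, l, hl, e⟩ := hg
  simp only at e
  have hl1 : l = 1 := by
    have hvs : RaisesR (Φ.wtIdx x) 0 (↑v⁻¹ : Matrix D.Idx D.Idx F) := by
      have := (hU hv).2.toR
      simpa using this.add _ (raisesR_one _)
    have h1 : RaisesP (Φ.wtIdx x) ((l : Matrix D.Idx D.Idx F) - 1) := by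
      have e2 : (l : Matrix D.Idx D.Idx F) - 1 =
          (↑v⁻¹ : Matrix D.Idx D.Idx F) * ((g : Matrix D.Idx D.Idx F) - 1) + ((↑v⁻¹ : Matrix D.Idx D.Idx F) - 1) := by
        rw [← e, Units.val_mul, mul_sub, mul_one, ← mul_assoc, Units.inv_mul, one_mul]
        abel
      rw [e2]
      exact (hvs.mul_strict _ hr).add _ (hU hv).2
    refine Units.ext (sub_eq_zero.1 (Matrix.ext fun a b => ?_))
    by_contra hne
    have u1 := h1 a b hne
    have hab : a ≠ b := by rintro rfl; exact lt_irrefl _ u1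
    have u2 := (hL hl).1 a b (by
      simpa [Matrix.sub_apply, Matrix.one_apply_ne hab] using hne)
    linarith
  rw [← e, hl1, mul_one]
  exact hv

include Φ in
/-- A grading of least norm exists, for a subgroup conjugate into `U`, and is not zero. -/
theorem exists_min_adm_of_conj {R : Subgroup (GL D.Idx F)} (hne : R ≠ ⊥)
    (hconj : ∃ g ∈ D.group F, ∀ r ∈ R, g⁻¹ * r * g ∈ D.posUnipotent F) :
    ∃ g ∈ D.group F, ∃ x : Fin D.rank → ℝ, (∀ i, 0 ≤ x i) ∧ Φ.Adm R g x ∧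
      (∀ g' ∈ D.group F, ∀ y : Fin D.rank → ℝ, (∀ i, 0 ≤ y i) → Φ.Adm R g' y → Φ.nsq x ≤ Φ.nsq y) ∧
      ∃ i, x i ≠ 0 := by
  classical
  -- a first admissible grading
  obtain ⟨g₀, hg₀, hU⟩ := hconj
  set x₀ : Fin D.rank → ℝ := fun _ => 1
  have hstart : Φ.Adm R g₀ x₀ := by
    have hr1 : ∀ u ∈ D.posUnipotent F, RaisesR (Φ.wtIdx x₀) 1 ((u : Matrix D.Idx D.Idx F) - 1) ∧
        RaisesR (Φ.wtIdx x₀) 1 ((↑u⁻¹ : Matrix D.Idx D.Idx F) - 1) := by
      intro u hu
      rw [Φ.posUnipotent_eq_US] at hu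
      have hge : ∀ r, Φ.toTables.Pos r → (1 : ℝ) ≤ Φ.wt x₀ r := by
        intro r hr
        obtain ⟨j, hj⟩ := Φ.exists_V_pos hr
        refine le_trans ?_ (Finset.single_le_sum (f := fun j => (Φ.V r j : ℝ) * x₀ j)
          (fun k _ => mul_nonneg (by exact_mod_cast Φ.V_nonneg r hr k) zero_le_one) (Finset.mem_univ j))
        simp only [x₀, mul_one]
        exact_mod_cast hj
      have hm : ∀ M N : Matrix D.Idx D.Idx F, RaisesR (Φ.wtIdx x₀) 1 (M - 1) →
          RaisesR (Φ.wtIdx x₀) 1 (N - 1) → RaisesR (Φ.wtIdx x₀) 1 (M * N - 1) := by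
        intro M N hM hN
        rw [mul_sub_one]
        have hMN : RaisesR (Φ.wtIdx x₀) 1 ((M - 1) * (N - 1)) := fun a b hab => by
          linarith [(hM.mul _ hN) a b hab]
        exact (hMN.add _ hM).add _ hN
      induction hu using Subgroup.closure_induction with
      | mem y hy =>
        obtain ⟨r, t, hr, rfl⟩ := hy
        exact ⟨Φ.raisesR_xg zero_le_one (hge r hr) t,
          by rw [Φ.toAlg.xg_inv]; exact Φ.raisesR_xg zero_le_one (hge r hr) (-t)⟩
      | one => simp [RaisesR]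
      | mul a b _ _ ha hb =>
        exact ⟨by rw [Units.val_mul]; exact hm _ _ ha.1 hb.1,
          by rw [_root_.mul_inv_rev, Units.val_mul]; exact hm _ _ hb.2 ha.2⟩
      | inv a _ ha => exact ⟨ha.2, by rw [inv_inv]; exact ha.1⟩
    exact fun r hr => (hr1 _ (hU r hr)).1
  -- the least one
  set X : Set (Fin D.rank → ℝ) := {y | (∀ i, 0 ≤ y i) ∧ ∃ g ∈ D.group F, Φ.Adm R g y} with hX
  set K := X ∩ {y | Φ.nsq y ≤ Φ.nsq x₀} with hK
  have hcw : ∀ a : D.Idx, Continuous fun y : Fin D.rank → ℝ => Φ.wtIdx y a := by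
    rintro (i | s)
    · exact continuous_const
    · show Continuous fun y : Fin D.rank → ℝ => ∑ j, (Φ.V s j : ℝ) * y j
      exact continuous_finsetSum _ fun j _ => continuous_const.mul (continuous_apply j)
  have hcn : Continuous fun y : Fin D.rank → ℝ => Φ.nsq y :=
    continuous_finsetSum _ fun r _ => (hcw (Sum.inr r)).pow 2
  have hXc : IsClosed X := by
    have e : X = (⋂ i, {y : Fin D.rank → ℝ | 0 ≤ y i}) ∩
        ⋃ P : {P : Set (D.Idx × D.Idx) // ∃ g ∈ D.group F, ∀ r ∈ R, ∀ a b,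
          (((g⁻¹ * r * g : GL D.Idx F) : Matrix D.Idx D.Idx F) - 1) a b ≠ 0 → (a, b) ∈ P},
          {y | ∀ ab ∈ P.1, Φ.wtIdx y ab.2 + 1 ≤ Φ.wtIdx y ab.1} := by
      ext y
      simp only [hX, Set.mem_ofPred_eq, Set.mem_inter_iff, Set.mem_iInter, Set.mem_iUnion]
      refine and_congr_right fun _ => ⟨?_, ?_⟩
      · rintro ⟨g, hg, hA⟩
        exact ⟨⟨{ab | Φ.wtIdx y ab.2 + 1 ≤ Φ.wtIdx y ab.1}, g, hg, fun r hr a b h => hA r hr a b h⟩,
          fun ab h => h⟩
      · rintro ⟨⟨P, g, hg, hP⟩, hy⟩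
        exact ⟨g, hg, fun r hr a b h => hy (a, b) (hP r hr a b h)⟩
    rw [e]
    refine (isClosed_iInter fun i => isClosed_le continuous_const (continuous_apply i)).inter
      (isClosed_iUnion_of_finite fun P => ?_)
    simp only [Set.ofPred_forall]
    exact isClosed_iInter fun ab => isClosed_iInter fun _ =>
        isClosed_le ((hcw ab.2).add continuous_const) (hcw ab.1)
  have hKc : IsCompact K := by
    refine Metric.isCompact_of_isClosed_isBounded (hXc.inter (isClosed_le hcn continuous_const)) ?_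
    refine (Metric.isBounded_closedBall (x := (0 : Fin D.rank → ℝ)) (r := Φ.nsq x₀ + 1)).subset ?_
    rintro y ⟨-, hy⟩
    have h0 : 0 ≤ Φ.nsq x₀ := Finset.sum_nonneg fun r _ => sq_nonneg _
    rw [Metric.mem_closedBall, dist_zero_right, pi_norm_le_iff_of_nonneg (by linarith)]
    intro i
    have h1 : y i ^ 2 ≤ Φ.nsq x₀ := (Φ.sq_le_nsq y i).trans hy
    rw [Real.norm_eq_abs, abs_le]
    constructor <;> nlinarith
  have hx₀ : x₀ ∈ K := ⟨⟨fun _ => zero_le_one, g₀, hg₀, hstart⟩, le_rfl (a := Φ.nsq x₀)⟩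
  obtain ⟨x, hxK, hxmin⟩ := hKc.exists_isMinOn ⟨x₀, hx₀⟩ hcn.continuousOn
  obtain ⟨⟨hx, g, hg, hgx⟩, hxle⟩ := hxK
  have hmin : ∀ g' ∈ D.group F, ∀ y : Fin D.rank → ℝ, (∀ i, 0 ≤ y i) → Φ.Adm R g' y →
      Φ.nsq x ≤ Φ.nsq y := by
    intro g' hg' y hy hA
    by_cases h : Φ.nsq y ≤ Φ.nsq x₀
    · exact hxmin ⟨⟨hy, g', hg', hA⟩, h⟩
    · exact hxle.trans (le_of_not_ge h)
  refine ⟨g, hg, x, hx, hgx, hmin, ?_⟩
  by_contra hall
  push Not at hall
  apply hne
  rw [Subgroup.eq_bot_iff_forall]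
  intro r hr
  have hzero : ∀ i, x i = 0 := hall
  have hw : ∀ a : D.Idx, Φ.wtIdx x a = 0 := by
    rintro (i | s) <;> simp [wtIdx, wt, hzero]
  have h1 : g⁻¹ * r * g = 1 := by
    refine Units.ext (sub_eq_zero.1 (Matrix.ext fun a b => ?_))
    by_contra hne
    have := hgx r hr a b hne
    rw [hw, hw] at this
    linarith
  rw [show r = g * (g⁻¹ * r * g) * g⁻¹ by group, h1]
  group

section finite

variable [Finite F] (p : ℕ) [Fact p.Prime] [CharP F p]

include Φ in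
/-- A `p`-subgroup is conjugate into `U`. -/
theorem exists_conj_le_U {R : Subgroup (GL D.Idx F)} (hRG : R ≤ D.group F) (hR : IsPGroup p ↥R) :
    ∃ g ∈ D.group F, ∀ r ∈ R, g⁻¹ * r * g ∈ D.posUnipotent F := by
  obtain ⟨m, k, hpm, hk, hcard⟩ := Φ.card_group_split (F := F) p
  have hle : D.posUnipotent F ≤ D.group F := fun x hx => Φ.B_le_group (U_le_B hx)
  have hU : Nat.card ↥((D.posUnipotent F).subgroupOf (D.group F)) =
      p ^ (Nat.card ↥(D.group F)).factorization p := by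
    have hp : p.Prime := Fact.out
    have hm0 : m ≠ 0 := fun h => hpm (h ▸ dvd_zero p)
    rw [Nat.card_congr (Subgroup.subgroupOfEquivOfLe hle).toEquiv, Φ.card_U, hcard, hk, ← pow_mul,
      Nat.factorization_mul (pow_ne_zero _ hp.ne_zero) hm0, hp.factorization_pow]
    simp [Nat.factorization_eq_zero_of_not_dvd hpm]
  let P : Sylow p ↥(D.group F) := Sylow.ofCard _ hU
  obtain ⟨Q, hQ⟩ := (hR.of_equiv (Subgroup.subgroupOfEquivOfLe hRG).symm).exists_le_sylow
  obtain ⟨g, hg⟩ := MulAction.exists_smul_eq ↥(D.group F) Q P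
  refine ⟨(g : GL D.Idx F)⁻¹, inv_mem g.2, fun r hr => ?_⟩
  have : MulAut.conj g ⟨r, hRG hr⟩ ∈ ((g • Q : Sylow p ↥(D.group F)) : Subgroup ↥(D.group F)) :=
    Subgroup.smul_mem_pointwise_smul _ _ _ (hQ (show (⟨r, hRG hr⟩ : ↥(D.group F)) ∈ R.subgroupOf _ from hr))
  rw [hg] at this
  rw [inv_inv]
  exact this

include Φ in
/-- A grading of least norm exists and is not zero. -/
theorem exists_min_adm {R : Subgroup (GL D.Idx F)} (hRG : R ≤ D.group F) (hR : IsPGroup p ↥R)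
    (hne : R ≠ ⊥) :
    ∃ g ∈ D.group F, ∃ x : Fin D.rank → ℝ, (∀ i, 0 ≤ x i) ∧ Φ.Adm R g x ∧
      (∀ g' ∈ D.group F, ∀ y : Fin D.rank → ℝ, (∀ i, 0 ≤ y i) → Φ.Adm R g' y → Φ.nsq x ≤ Φ.nsq y) ∧
      ∃ i, x i ≠ 0 :=
  Φ.exists_min_adm_of_conj hne (Φ.exists_conj_le_U p hRG hR)

include Φ in
/-- The theorem of Borel and Tits. -/
theorem borelTits {R : Subgroup (GL D.Idx F)} (hRG : R ≤ D.group F) (hR : IsPGroup p ↥R)
    (hne : R ≠ ⊥) :
    ∃ g ∈ D.group F, ∃ J : Set ℕ, (∃ i, i < D.rank ∧ i ∉ J) ∧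
      Subgroup.normalizer (R : Set (GL D.Idx F)) ⊓ D.group F ≤
        (D.parabolicSubgroup F J).map (MulAut.conj g).toMonoidHom ∧
      R ≤ (D.unipotentRadical F J).map (MulAut.conj g).toMonoidHom := by
  obtain ⟨g, hg, x, hx, hgx, hmin, i0, hi0⟩ := Φ.exists_min_adm p hRG hR hne
  refine ⟨g, hg, zeroSet x, ⟨i0.val, i0.isLt, fun h => hi0 (mem_natSet_zeroSet.1 h)⟩, ?_, ?_⟩
  · rintro k ⟨hk, hkG⟩
    rw [Subgroup.mem_map_equiv, MulAut.conj_symm_apply, ← Φ.stabR_inf_group hx]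
    refine Subgroup.mem_inf.2 ⟨?_, mul_mem (mul_mem (inv_mem hg) hkG) hg⟩
    rw [mul_assoc]
    refine Φ.adm_unique hg (mul_mem hkG hg) hx hgx (fun r hr => ?_) hmin
    have hr' : k⁻¹ * r * k ∈ R := by
      have := (Subgroup.mem_normalizer_iff''.1 hk r).1 hr
      exact this
    have := hgx _ hr'
    rwa [show g⁻¹ * (k⁻¹ * r * k) * g = (k * g)⁻¹ * r * (k * g) by group] at this
  · intro r hr
    rw [Subgroup.mem_map_equiv, MulAut.conj_symm_apply]
    refine Φ.mem_radical_of_raises hx ?_ (fun a b hab => by linarith [hgx r hr a b hab])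
    rw [← Φ.stabR_inf_group hx]
    refine Subgroup.mem_inf.2 ⟨⟨(hgx r hr).of_sub_one _ zero_le_one, ?_⟩, mul_mem (mul_mem (inv_mem hg) (hRG hr)) hg⟩
    have := (hgx r⁻¹ (inv_mem hr)).of_sub_one _ zero_le_one
    rwa [show (g⁻¹ * r * g)⁻¹ = g⁻¹ * r⁻¹ * g by group]

end finite

end Chev

end CfsgLib.Chev
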