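/-
The subgroup over a finite field inside a Chevalley group over a larger field: centralizer and normalizer.
-/
import Cfsg.Agent.Lib.Chev.FieldFixed
import Cfsg.Agent.Lib.Chev.Bruhat
import Cfsg.Agent.Lib.Chev.Longest
import Cfsg.Agent.Lib.Chev.Inst

namespace CfsgLib.Chev

open Cfsg.Lie Matrix

set_option linter.dupNamespace false
set_option linter.unusedSectionVars false

variable {D : ChevalleyDatum}

namespace Chev

variable (Φ : Chev D) {F : Type*} [Field F]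

theorem xg_p_mem_posNe {i : Fin D.rank} {a : F}
    (h : Φ.toAlg.xg (Φ.p i) a ∈ Φ.US F (Φ.PosNe i)) : a = 0 := by
  have h1 := Φ.posNe_le_U (Φ.nw_conj_posNe i h)
  obtain ⟨c, hc, hx, -⟩ := (Φ.nw_one_mono (F := F) i).1 (Φ.p i)
  rw [hx] at h1
  have hneg : ¬ Φ.toTables.Pos (Φ.refl i (Φ.p i)) := by
    rw [Φ.refl_p]
    exact fun hp => (Φ.pos_rev_iff _).1 hp (Φ.p_pos i)
  have h2 : Φ.toAlg.xg (Φ.reflPerm i (Φ.p i)) (c * a) ∈ D.borelSubgroup F ⊓ D.negUnipotent F :=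
    Subgroup.mem_inf.2 ⟨U_le_B h1, Φ.xg_mem_V hneg _⟩
  rw [Φ.B_inf_V, Subgroup.mem_bot, Φ.toAlg.xg_eq_one_iff] at h2
  exact (mul_eq_zero.1 h2).resolve_left hc

set_option maxHeartbeats 800000 in
include Φ in
/-- An element of the group commuting with every `x_r(1)` is trivial. -/
theorem eq_one_of_commute_all {g : GL D.Idx F} (hg : g ∈ D.group F)
    (hc : ∀ r, Commute g (Φ.toAlg.xg r (1 : F))) : g = 1 := by
  have step : ∀ {g : GL D.Idx F}, g ∈ D.group F → (∀ r, Commute g (Φ.toAlg.xg r (1 : F))) →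
      g ∈ D.borelSubgroup F := by
    intro g hg hc
    obtain ⟨b, hb, n, hn, π, hπ, hm, u, hu, rfl⟩ := Φ.exists_normal_form hg
    by_cases h1 : π = 1
    · subst h1
      have hnU : n * u * n⁻¹ ∈ D.borelSubgroup F ⊓ D.negUnipotent F := by
        have : Φ.Uneg F (1 : Equiv.Perm (Fin D.nroots)) ≤ ⊥ := by
          rw [Uneg, US, Subgroup.closure_le]
          rintro _ ⟨r, t, ⟨p1, p2⟩, rfl⟩
          exact absurd p1 p2
        rw [Subgroup.mem_bot.1 (this hu)]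
        simp
      obtain ⟨c, hc'⟩ := Φ.exists_torus_of_mem_H (Φ.inv_mul_mem_H (one_mem _) hn (Mono.one Φ) hm)
      have hnH : n ∈ D.diagonalSubgroup F := by
        have := Φ.inv_mul_mem_H (one_mem (D.monomialSubgroup F)) hn (Mono.one Φ) hm
        simpa using this
      exact mul_mem (mul_mem hb (H_le_B hnH)) (U_le_B (Φ.Uneg_le_U hu))
    exfalso
    obtain ⟨i, hi⟩ := Φ.exists_right_descent hπ h1
    have hu' := Φ.Uneg_le_U hu
    set y := Φ.toAlg.xg (Φ.p i) (1 : F) with hy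
    obtain ⟨c, w, hw, hcB, e⟩ := Φ.exists_factor_U hπ hn hm (mul_mem hu' (Φ.xg_mem_U (Φ.p_pos i) (1 : F)))
    have heq : b * (n * c * n⁻¹) * n * w = y * b * n * u := by
      have := (hc (Φ.p i)).eq
      rw [← hy] at this
      calc b * (n * c * n⁻¹) * n * w = b * n * (c * w) := by group
        _ = b * n * u * y := by rw [← e, ← hy]; simp only [mul_assoc]
        _ = y * (b * n * u) := this
        _ = _ := by group
    obtain ⟨-, hwu⟩ := Φ.normal_form_unique hm (mul_mem hb hcB)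
      (mul_mem (U_le_B (Φ.xg_mem_U (Φ.p_pos i) (1 : F))) hb) hw hu heq
    set z := u * y * u⁻¹ with hz
    have hzc : z = c := by
      rw [hz, hy, e, hwu, mul_inv_cancel_right]
    have hzB : n * z * n⁻¹ ∈ D.borelSubgroup F := hzc ▸ hcB
    obtain ⟨v, hv, a, rfl⟩ := Φ.exists_split i hu'
    set v' := v * (y * v⁻¹ * y⁻¹) with hv'
    have hzv : z = v' * y := by
      rw [hz, hv', hy]
      have := Φ.toAlg.xg_add (Φ.p i) a (1 : F)
      rw [add_comm, Φ.toAlg.xg_add] at this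
      calc v * Φ.toAlg.xg (Φ.p i) a * Φ.toAlg.xg (Φ.p i) 1 * (v * Φ.toAlg.xg (Φ.p i) a)⁻¹
          = v * (Φ.toAlg.xg (Φ.p i) a * Φ.toAlg.xg (Φ.p i) 1) * (Φ.toAlg.xg (Φ.p i) a)⁻¹ * v⁻¹ := by group
        _ = v * (Φ.toAlg.xg (Φ.p i) 1 * Φ.toAlg.xg (Φ.p i) a) * (Φ.toAlg.xg (Φ.p i) a)⁻¹ * v⁻¹ := by
          rw [this]
        _ = _ := by group
    have hv'm : v' ∈ Φ.US F (Φ.PosNe i) := by
      refine mul_mem hv ?_
      have := Φ.xg_p_conj_posNe i (-1 : F) (inv_mem hv)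
      rwa [Φ.toAlg.xg_neg, inv_inv] at this
    set s := Φ.nw (Φ.p i) (1 : Fˣ) with hs
    have hsi : Φ.Mono s⁻¹ (Φ.reflPerm i) := by
      have := Φ.mono_inv (Φ.nw_mem_N (Φ.p i) 1) (Φ.nw_one_mono (F := F) i)
      rwa [Φ.reflPerm_inv'] at this
    have hm' : Φ.Mono (n * s⁻¹) (π * Φ.reflPerm i) := Mono.mul Φ hm hsi
    obtain ⟨c', w', hw', hcB', e'⟩ := Φ.exists_factor_U (mul_mem hπ (Φ.reflPerm_mem_WL i))
      (mul_mem hn (inv_mem (Φ.nw_mem_N (Φ.p i) 1))) hm' (Φ.posNe_le_U (Φ.nw_conj_posNe i hv'm))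
    have hposne : ∀ r, Φ.toTables.Pos r ∧ ¬ Φ.toTables.Pos ((π * Φ.reflPerm i) r) → Φ.PosNe i r := by
      intro r hr
      refine ⟨hr.1, fun e => hr.2 ?_⟩
      subst e
      show Φ.toTables.Pos (π (Φ.refl i (Φ.p i)))
      rwa [Φ.refl_p, Φ.map_rev hπ, Φ.pos_rev_iff]
    have hw1 : s⁻¹ * w' * s * y = 1 := by
      refine mul_left_cancel (a := n) ?_
      rw [mul_one]
      have hB : n * (s⁻¹ * w' * s * y) * n⁻¹ ∈ D.borelSubgroup F := by
        have e2 : n * (s⁻¹ * w' * s * y) * n⁻¹ =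
            (n * s⁻¹ * c' * (n * s⁻¹)⁻¹)⁻¹ * (n * z * n⁻¹) := by
          rw [hzv, show v' = s⁻¹ * (c' * w') * s by rw [← e', ← hs]; group]
          group
        rw [e2]
        exact mul_mem (inv_mem hcB') hzB
      have hV : n * (s⁻¹ * w' * s * y) * n⁻¹ ∈ D.negUnipotent F := by
        rw [show n * (s⁻¹ * w' * s * y) * n⁻¹ =
          (n * s⁻¹) * w' * (n * s⁻¹)⁻¹ * (n * y * n⁻¹) by group]
        refine mul_mem (Φ.Uneg_conj_mem_V hm' hw') ?_
        obtain ⟨t, -, ht, -⟩ := hm.1 (Φ.p i)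
        rw [hy, ht]
        exact Φ.xg_mem_V hi _
      have : n * (s⁻¹ * w' * s * y) * n⁻¹ ∈ D.borelSubgroup F ⊓ D.negUnipotent F :=
        Subgroup.mem_inf.2 ⟨hB, hV⟩
      rw [Φ.B_inf_V, Subgroup.mem_bot, mul_inv_eq_one] at this
      exact this
    have hmem : Φ.toAlg.xg (Φ.p i) (-1 : F) ∈ Φ.US F (Φ.PosNe i) := by
      rw [Φ.toAlg.xg_neg, ← hy, ← eq_inv_of_mul_eq_one_left hw1]
      have h3 : w' ∈ Φ.US F (Φ.PosNe i) := Φ.US_mono hposne hw'
      have := Φ.mono_conj_US hsi (T := Φ.PosNe i) (fun r hr => Φ.refl_pos hr.1 hr.2) h3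
      simpa using this
    exact neg_ne_zero.2 one_ne_zero (Φ.xg_p_mem_posNe hmem)
  have hB := step hg hc
  -- conjugate by a representative of the longest element
  obtain ⟨w, hw, hlong⟩ := Φ.exists_longest
  have hwL : w ∈ Φ.WL := by
    refine (Subgroup.closure_le _).2 ?_ hw
    rintro _ ⟨i, rfl⟩
    exact Φ.reflPerm_mem_WL i
  obtain ⟨n0, hn0, hmono, hn0c⟩ : ∃ n0, n0 ∈ D.monomialSubgroup F ∧ Φ.Mono n0 w ∧ Commute g n0 := by
    clear hlong hw
    induction hwL using Subgroup.closure_induction with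
    | mem x hx =>
      obtain ⟨i, -, rfl⟩ := hx
      refine ⟨_, Φ.nw_mem_N (Φ.p i) 1, Φ.nw_one_mono i, ?_⟩
      have hneg : ∀ r, Commute g (Φ.toAlg.xg r (-1 : F)) := fun r => by
        rw [Φ.toAlg.xg_neg]; exact (hc r).inv_right
      have e : (-((1 : Fˣ) : F)⁻¹) = -1 := by rw [Units.val_one, _root_.inv_one]
      rw [nw, e, Units.val_one]
      with_reducible exact ((hc (Φ.p i)).mul_right (hneg (Φ.p i).rev)).mul_right (hc (Φ.p i))
    | one => exact ⟨1, one_mem _, Mono.one Φ, Commute.one_right g⟩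
    | mul x y _ _ hx hy =>
      obtain ⟨m, a1, a2, a3⟩ := hx
      obtain ⟨m', b1, b2, b3⟩ := hy
      exact ⟨m * m', mul_mem a1 b1, Mono.mul Φ a2 b2, a3.mul_right b3⟩
    | inv x _ hx =>
      obtain ⟨m, a1, a2, a3⟩ := hx
      exact ⟨m⁻¹, inv_mem a1, Φ.mono_inv a1 a2, a3.inv_right⟩
  obtain ⟨v, hv, h, hh, rfl⟩ := Φ.mem_B_iff.1 hB
  have hconj : n0 * v * n0⁻¹ ∈ D.negUnipotent F := by
    rw [Φ.posUnipotent_eq_US] at hv
    rw [Φ.negUnipotent_eq_US]
    exact Φ.mono_conj_US hmono (fun r hr h' => (hlong r).1 h' hr) hv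
  have hh0 := Φ.H_conj_mem hn0 hh
  have hvB : n0 * v * n0⁻¹ ∈ D.borelSubgroup F ⊓ D.negUnipotent F := by
    refine Subgroup.mem_inf.2 ⟨?_, hconj⟩
    have : n0 * v * n0⁻¹ = (v * h) * (n0 * h * n0⁻¹)⁻¹ := by
      calc n0 * v * n0⁻¹ = n0 * (v * h) * n0⁻¹ * (n0 * h * n0⁻¹)⁻¹ := by group
        _ = _ := by rw [hn0c.symm.eq, mul_inv_cancel_right]
    rw [this]
    exact mul_mem hB (inv_mem (H_le_B hh0))
  rw [Φ.B_inf_V, Subgroup.mem_bot, mul_inv_eq_one, mul_eq_left] at hvB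
  subst hvB
  rw [one_mul] at hc ⊢
  obtain ⟨c, rfl⟩ := Φ.exists_torus_of_mem_H hh
  have hc1 : c = 1 := funext fun i => by
    have := (hc (Φ.p i)).eq
    rw [← mul_inv_eq_iff_eq_mul, Φ.toAlg.torus_xg, mul_inv_cancel_right, mul_one] at this
    have h1 := Φ.toAlg.xg_injective _ this
    rw [← Φ.toSys.chi_simple c i]
    exact Units.ext (by simpa using h1)
  rw [hc1, map_one]

section Fixed

variable (σ : F ≃+* F)

/-- The group generated by the root elements over the fixed field. -/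
def fixedRootGroup : Subgroup (GL D.Idx F) :=
  Subgroup.closure {g | ∃ r t, σ t = t ∧ Φ.toAlg.xg r t = g}

theorem fixedRootGroup_conj {c : Fin D.rank → Fˣ} (hc : ∀ i, σ (c i : F) = c i) {x : GL D.Idx F}
    (hx : x ∈ Φ.fixedRootGroup σ) :
    Φ.toAlg.torus c * x * (Φ.toAlg.torus c)⁻¹ ∈ Φ.fixedRootGroup σ := by
  induction hx using Subgroup.closure_induction with
  | mem y hy =>
    obtain ⟨r, t, ht, rfl⟩ := hy
    rw [Φ.toAlg.torus_xg, mul_inv_cancel_right]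
    refine Subgroup.subset_closure ⟨r, _, ?_, rfl⟩
    rw [map_mul, ht]
    congr 1
    have hu : ∀ i, Units.map σ.toRingHom.toMonoidHom (c i) = c i := fun i => Units.ext (hc i)
    show ((Units.map σ.toRingHom.toMonoidHom (Φ.toSys.chi c r) : Fˣ) : F) = _
    simp only [Sys.chi, map_prod, map_zpow, hu]
  | one => simp
  | mul y z _ _ hy hz =>
    rw [show ∀ T : GL D.Idx F, T * (y * z) * T⁻¹ = (T * y * T⁻¹) * (T * z * T⁻¹) from fun T => by group]
    exact mul_mem hy hz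
  | inv y _ hy =>
    rw [show ∀ T : GL D.Idx F, T * y⁻¹ * T⁻¹ = (T * y * T⁻¹)⁻¹ from fun T => by group]
    exact inv_mem hy

/-- A fixed element is a fixed torus element times an element of the root group over the fixed field. -/
theorem fixed_decomp {g : GL D.Idx F} (hg : g ∈ D.group F)
    (hfix : Matrix.GeneralLinearGroup.map σ.toRingHom g = g) :
    ∃ x ∈ Φ.fixedRootGroup σ, ∃ c : Fin D.rank → Fˣ, (∀ i, σ (c i : F) = c i) ∧
      g = x * Φ.toAlg.torus c := by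
  classical
  let f := (RingHom.eqLocusField σ.toRingHom (RingHom.id F)).subtype
  have hf : ∀ x : F, σ x = x ↔ x ∈ Set.range f := fun x =>
    ⟨fun h => ⟨⟨x, h⟩, rfl⟩, fun ⟨y, hy⟩ => hy ▸ y.2⟩
  have hσf : σ.toRingHom.comp f = f := RingHom.ext fun a => (hf (f a)).2 ⟨a, rfl⟩
  have himg : ∀ {v : GL D.Idx (RingHom.eqLocusField σ.toRingHom (RingHom.id F))},
      v ∈ D.group _ → Matrix.GeneralLinearGroup.map f v ∈ Φ.fixedRootGroup σ := by
    intro v hv
    rw [Φ.toAlg.group_eq] at hv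
    induction hv using Subgroup.closure_induction with
    | mem y hy =>
      obtain ⟨r, t, rfl⟩ := hy
      rw [Φ.map_root_xg]
      exact Subgroup.subset_closure ⟨r, _, (hf _).2 ⟨t, rfl⟩, rfl⟩
    | one => rw [map_one]; exact one_mem _
    | mul y z _ _ hy hz => rw [map_mul]; exact mul_mem hy hz
    | inv y _ hy => rw [map_inv]; exact inv_mem hy
  obtain ⟨b, hb, n, hn, π, hW, hm, u, hu, rfl⟩ := Φ.exists_normal_form hg
  obtain ⟨g0, hg0, hn0, hm0⟩ := Φ.exists_preimage_map f hW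
  set n0 := Matrix.GeneralLinearGroup.map f g0 with hn0def
  have hH := Φ.inv_mul_mem_H hn0 hn hm0 hm
  set b' := b * (n0 * (n0⁻¹ * n) * n0⁻¹) with hb'def
  have hb' : b' ∈ D.borelSubgroup F := mul_mem hb (H_le_B (Φ.H_conj_mem hn0 hH))
  have e : b * n * u = b' * n0 * u := by rw [hb'def]; group
  rw [e] at hfix ⊢
  have hn0fix : Matrix.GeneralLinearGroup.map σ.toRingHom n0 = n0 := by
    conv_rhs => rw [hn0def, ← hσf, Matrix.GeneralLinearGroup.map_comp]
    rfl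
  obtain ⟨u1, hu1, h1, hh1, hb1⟩ := Φ.mem_B_iff.1 hb'
  have hsu1 : Matrix.GeneralLinearGroup.map σ.toRingHom u1 ∈ D.posUnipotent F := by
    rw [Φ.posUnipotent_eq_US] at hu1 ⊢
    exact Φ.map_mem_US _ hu1
  have hsh1 := Φ.map_mem_diagonal σ.toRingHom hh1
  rw [map_mul, map_mul, hn0fix] at hfix
  have hsb : Matrix.GeneralLinearGroup.map σ.toRingHom b' ∈ D.borelSubgroup F := by
    rw [hb1, map_mul]
    exact mul_mem (U_le_B hsu1) (H_le_B hsh1)
  obtain ⟨hbfix, hufix⟩ := Φ.normal_form_unique hm0 hsb hb' (Φ.map_mem_US _ hu) hu hfix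
  rw [hb1, map_mul] at hbfix
  have h2 : u1⁻¹ * Matrix.GeneralLinearGroup.map σ.toRingHom u1 =
      h1 * (Matrix.GeneralLinearGroup.map σ.toRingHom h1)⁻¹ := by
    rw [inv_mul_eq_iff_eq_mul, ← mul_assoc, eq_mul_inv_iff_mul_eq]
    exact hbfix
  have h3 := Φ.eq_one_of_mem_U_of_mem_N (mul_mem (inv_mem hu1) hsu1)
    (h2 ▸ H_le_N (mul_mem hh1 (inv_mem hsh1)))
  have hu1fix : Matrix.GeneralLinearGroup.map σ.toRingHom u1 = u1 := (inv_mul_eq_one.1 h3).symm
  rw [hu1fix] at hbfix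
  have hh1fix := mul_left_cancel hbfix
  rw [Φ.posUnipotent_eq_US] at hu1
  obtain ⟨v1, hv1, hv1e⟩ := Φ.exists_of_fixed_US σ f hf (fun _ h => h) Φ.closed_pos hu1 hu1fix
  obtain ⟨v3, hv3, hv3e⟩ := Φ.exists_of_fixed_US σ f hf (fun _ h => h.1) (Φ.closed_pos_neg hW) hu hufix
  obtain ⟨c, rfl⟩ := Φ.exists_torus_of_mem_H hh1
  rw [map_torus] at hh1fix
  have hc : ∀ i, σ (c i : F) = c i := fun i => congrArg Units.val (congrFun (Φ.torus_injective hh1fix) i)
  have hx : n0 * u ∈ Φ.fixedRootGroup σ := by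
    rw [hn0def, ← hv3e, ← map_mul]
    exact himg (mul_mem (Φ.N_le_group hg0) hv3)
  refine ⟨u1 * (Φ.toAlg.torus c * (n0 * u) * (Φ.toAlg.torus c)⁻¹),
    mul_mem (hv1e ▸ himg hv1) (Φ.fixedRootGroup_conj σ hc hx), c, hc, ?_⟩
  rw [hb1]; group

include Φ in
/-- A subgroup between the fixed root group and the fixed points is normalised by exactly the fixed points. -/
theorem mem_normalizer_iff_fixed {K : Subgroup (GL D.Idx F)} (hKG : K ≤ D.group F)
    (hLK : Φ.fixedRootGroup σ ≤ K)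
    (hK : ∀ g ∈ K, Matrix.GeneralLinearGroup.map σ.toRingHom g = g)
    {g : GL D.Idx F} (hg : g ∈ D.group F) :
    g ∈ Subgroup.normalizer (K : Set (GL D.Idx F)) ↔
      Matrix.GeneralLinearGroup.map σ.toRingHom g = g := by
  constructor
  · intro hn
    set φ := Matrix.GeneralLinearGroup.map (n := D.Idx) σ.toRingHom
    have hcm : ∀ r, Commute (g⁻¹ * φ g) (Φ.toAlg.xg r (1 : F)) := by
      intro r
      have hx : Φ.toAlg.xg r (1 : F) ∈ K := hLK (Subgroup.subset_closure ⟨r, 1, map_one σ, rfl⟩)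
      have h1 := hK _ ((Subgroup.mem_normalizer_iff.1 hn _).1 hx)
      rw [map_mul, map_mul, map_inv, hK _ hx] at h1
      show g⁻¹ * φ g * _ = _ * (g⁻¹ * φ g)
      calc g⁻¹ * φ g * Φ.toAlg.xg r 1
          = g⁻¹ * (φ g * Φ.toAlg.xg r 1 * (φ g)⁻¹) * φ g := by group
        _ = g⁻¹ * (g * Φ.toAlg.xg r 1 * g⁻¹) * φ g := by rw [h1]
        _ = _ := by group
    exact (inv_mul_eq_one.1 (Φ.eq_one_of_commute_all
      (mul_mem (inv_mem hg) (Φ.map_mem_group _ hg)) hcm)).symm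
  · have key : ∀ {g : GL D.Idx F}, g ∈ D.group F → Matrix.GeneralLinearGroup.map σ.toRingHom g = g →
        ∀ y ∈ K, g * y * g⁻¹ ∈ K := by
      intro g hg hfix y hy
      obtain ⟨x, hx, c, hc, rfl⟩ := Φ.fixed_decomp σ hg hfix
      obtain ⟨x', hx', c', hc', rfl⟩ := Φ.fixed_decomp σ (hKG hy) (hK _ hy)
      have hT : Φ.toAlg.torus c' ∈ K := by simpa using mul_mem (inv_mem (hLK hx')) hy
      have hcomm : Φ.toAlg.torus c * Φ.toAlg.torus c' = Φ.toAlg.torus c' * Φ.toAlg.torus c := by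
        rw [← map_mul, ← map_mul, mul_comm c c']
      have e : x * Φ.toAlg.torus c * (x' * Φ.toAlg.torus c') * (x * Φ.toAlg.torus c)⁻¹ =
          x * (Φ.toAlg.torus c * x' * (Φ.toAlg.torus c)⁻¹) *
            (Φ.toAlg.torus c * Φ.toAlg.torus c') * (Φ.toAlg.torus c)⁻¹ * x⁻¹ := by group
      rw [e, hcomm, ← mul_assoc _ (Φ.toAlg.torus c') (Φ.toAlg.torus c), mul_inv_cancel_right]
      exact mul_mem (mul_mem (mul_mem (hLK hx) (hLK (Φ.fixedRootGroup_conj σ hc hx'))) hT) (inv_mem (hLK hx))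
    intro hfix
    rw [Subgroup.mem_normalizer_iff]
    refine fun y => ⟨key hg hfix y, fun hy => ?_⟩
    have h2 := key (inv_mem hg) (by rw [map_inv, hfix]) _ hy
    simpa [mul_assoc] using h2

end Fixed

end Chev

end CfsgLib.Chev
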