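import Cfsg.Agent.Lib.Chev.Morph

/-!
# Collection of words in root elements with monomial parameters

A letter `(r, c, i, j)` stands for `x_r(c t^i u^j)`.  Words are sorted with the commutator formula.
-/

set_option autoImplicit false
set_option linter.dupNamespace false
set_option linter.unusedSectionVars false

namespace CfsgLib.Chev

open Cfsg.Lie Matrix

/-- A letter of a word. -/
abbrev Ltr := ℕ × ℤ × ℕ × ℕ

namespace Collect

/-- The sorting key of a letter. -/
def key (a : Ltr) : ℕ := (a.1 * 64 + a.2.2.1) * 64 + a.2.2.2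

/-- The product of the coefficient of a commutator term with the parameters of two letters. -/
def coefOf (x y : Ltr) (c : ℕ × ℤ × ℕ × ℕ) : ℤ := c.2.1 * (-y.2.1) ^ c.2.2.1 * x.2.1 ^ c.2.2.2

/-- The terms produced by moving `x` past `y`. -/
def terms (D : ChevalleyDatum) (p : ℕ) (x y : Ltr) : List Ltr :=
  (D.commTerms y.1 x.1).filterMap fun c =>
    if MorData.norm p (coefOf x y c) = 0 then none
    else some (c.1, MorData.norm p (coefOf x y c),
      y.2.2.1 * c.2.2.1 + x.2.2.1 * c.2.2.2, y.2.2.2 * c.2.2.1 + x.2.2.2 * c.2.2.2)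

/-- Insert a letter into a sorted word. -/
def ins (D : ChevalleyDatum) (p : ℕ) : ℕ → Ltr → List Ltr → List Ltr
  | 0, x, L => x :: L
  | _ + 1, x, [] => [x]
  | n + 1, x, y :: L =>
    if x.1 = y.1 ∧ x.2.2.1 = y.2.2.1 ∧ x.2.2.2 = y.2.2.2 then
      if MorData.norm p (x.2.1 + y.2.1) = 0 then L
      else (x.1, MorData.norm p (x.2.1 + y.2.1), x.2.2.1, x.2.2.2) :: L
    else if key x ≤ key y then x :: y :: L
    else if x.1 = y.1 then y :: ins D p n x L
    else if x.1 = D.neg y.1 ∨ D.nroots ≤ x.1 ∨ D.nroots ≤ y.1 then x :: y :: L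
    else ins D p n y (ins D p n x ((terms D p x y).foldr (ins D p n) L))

/-- The normal form of a word. -/
def normalize (D : ChevalleyDatum) (p n : ℕ) (w : List Ltr) : List Ltr := w.foldr (ins D p n) []

end Collect

variable {D : ChevalleyDatum}

namespace Chev

variable (Φ : Chev D) {F : Type*} [Field F]

/-- The value of a letter. -/
def ev (t u : F) (a : Ltr) : GL D.Idx F :=
  if h : a.1 < D.nroots then Φ.toAlg.xg ⟨a.1, h⟩ ((a.2.1 : F) * t ^ a.2.2.1 * u ^ a.2.2.2) else 1

/-- The value of a word. -/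
def evw (t u : F) (w : List Ltr) : GL D.Idx F := (w.map (Φ.ev t u)).prod

@[simp] theorem evw_nil (t u : F) : Φ.evw t u [] = 1 := rfl

@[simp] theorem evw_cons (t u : F) (a : Ltr) (w : List Ltr) :
    Φ.evw t u (a :: w) = Φ.ev t u a * Φ.evw t u w := by
  simp [evw]

theorem evw_append (t u : F) (w w' : List Ltr) : Φ.evw t u (w ++ w') = Φ.evw t u w * Φ.evw t u w' := by
  simp [evw]

theorem comm_pair {r s : Fin D.nroots} (hrs : s ≠ r) (hneg : s ≠ r.rev) (t u : F) :
    Φ.toAlg.xg s u * Φ.toAlg.xg r t =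
      Φ.toAlg.xg r t * Φ.toAlg.xg s u * Φ.tval t u (D.commTerms r.val s.val) := by
  refine Units.ext ?_
  simp only [Units.val_mul, Alg.xg_val, Φ.tval_val]
  exact Φ.commutator_formula hrs hneg t u

variable {p : ℕ}

theorem ev_terms (hF : MorOK F p) (t u : F) (x y : Ltr) :
    Φ.evw t u (Collect.terms D p x y) =
      Φ.tval ((y.2.1 : F) * t ^ y.2.2.1 * u ^ y.2.2.2) ((x.2.1 : F) * t ^ x.2.2.1 * u ^ x.2.2.2)
        (D.commTerms y.1 x.1) := by
  simp only [Collect.terms, tval]
  induction D.commTerms y.1 x.1 with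
  | nil => rfl
  | cons c L ih =>
    rw [List.map_cons, List.prod_cons, ← ih]
    have hval : ((Collect.coefOf x y c : ℤ) : F) *
        t ^ (y.2.2.1 * c.2.2.1 + x.2.2.1 * c.2.2.2) * u ^ (y.2.2.2 * c.2.2.1 + x.2.2.2 * c.2.2.2) =
        (c.2.1 : F) * (-((y.2.1 : F) * t ^ y.2.2.1 * u ^ y.2.2.2)) ^ c.2.2.1 *
          ((x.2.1 : F) * t ^ x.2.2.1 * u ^ x.2.2.2) ^ c.2.2.2 := by
      simp only [Collect.coefOf, Int.cast_mul, Int.cast_pow, Int.cast_neg]
      simp only [← neg_mul, mul_pow, pow_add, pow_mul]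
      ring
    by_cases h0 : MorData.norm p (Collect.coefOf x y c) = 0
    · have hc : ((Collect.coefOf x y c : ℤ) : F) = 0 := by
        rw [← hF.cast_norm, h0, Int.cast_zero]
      rw [hc, zero_mul, zero_mul] at hval
      rw [List.filterMap_cons, if_pos h0]
      by_cases h : c.1 < D.nroots
      · rw [dif_pos h, ← hval, Φ.toAlg.xg_zero, one_mul]
      · rw [dif_neg h, one_mul]
    · rw [List.filterMap_cons, if_neg h0, evw_cons]
      congr 1
      by_cases h : c.1 < D.nroots
      · simp only [ev]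
        rw [dif_pos h, dif_pos h, hF.cast_norm, hval]
      · simp only [ev]
        rw [dif_neg h, dif_neg h]

theorem ev_ins (hF : MorOK F p) (t u : F) : ∀ (n : ℕ) (x : Ltr) (L : List Ltr),
    Φ.evw t u (Collect.ins D p n x L) = Φ.ev t u x * Φ.evw t u L := by
  intro n
  induction n with
  | zero => intro x L; simp [Collect.ins]
  | succ n ih =>
    intro x L
    have hfold : ∀ T L : List Ltr,
        Φ.evw t u (T.foldr (Collect.ins D p n) L) = Φ.evw t u T * Φ.evw t u L := by
      intro T L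
      induction T with
      | nil => simp
      | cons a T hT => rw [List.foldr_cons, ih, hT, evw_cons, mul_assoc]
    cases L with
    | nil => simp [Collect.ins]
    | cons y L =>
      simp only [Collect.ins]
      split_ifs with h1 h2 h3 h4 h5
      · rw [evw_cons, ← mul_assoc]
        conv_lhs => rw [← one_mul (Φ.evw t u L)]
        congr 1
        obtain ⟨e1, e2, e3⟩ := h1
        simp only [ev]
        by_cases h : x.1 < D.nroots
        · rw [dif_pos h, dif_pos (e1 ▸ h : y.1 < D.nroots)]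
          have hr : (⟨y.1, e1 ▸ h⟩ : Fin D.nroots) = ⟨x.1, h⟩ := Fin.ext e1.symm
          rw [hr, ← Φ.toAlg.xg_add, ← e2, ← e3]
          have hc : ((x.2.1 + y.2.1 : ℤ) : F) = 0 := by rw [← hF.cast_norm, h2, Int.cast_zero]
          rw [Int.cast_add] at hc
          rw [← add_mul, ← add_mul, hc, zero_mul, zero_mul, Φ.toAlg.xg_zero]
        · rw [dif_neg h, dif_neg (e1 ▸ h : ¬ y.1 < D.nroots), one_mul]
      · rw [evw_cons, evw_cons, ← mul_assoc]
        congr 1
        obtain ⟨e1, e2, e3⟩ := h1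
        simp only [ev]
        by_cases h : x.1 < D.nroots
        · rw [dif_pos h, dif_pos h, dif_pos (e1 ▸ h : y.1 < D.nroots)]
          have hr : (⟨y.1, e1 ▸ h⟩ : Fin D.nroots) = ⟨x.1, h⟩ := Fin.ext e1.symm
          rw [hr, ← Φ.toAlg.xg_add, ← e2, ← e3, hF.cast_norm, Int.cast_add, add_mul, add_mul]
        · rw [dif_neg h, dif_neg h, dif_neg (e1 ▸ h : ¬ y.1 < D.nroots), one_mul]
      · simp
      · rw [evw_cons, ih, evw_cons, ← mul_assoc, ← mul_assoc]
        congr 1
        simp only [ev]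
        by_cases h : x.1 < D.nroots
        · rw [dif_pos h, dif_pos (h4 ▸ h : y.1 < D.nroots)]
          have hr : (⟨y.1, h4 ▸ h⟩ : Fin D.nroots) = ⟨x.1, h⟩ := Fin.ext h4.symm
          rw [hr, ← Φ.toAlg.xg_add, ← Φ.toAlg.xg_add, add_comm]
        · rw [dif_neg h, dif_neg (h4 ▸ h : ¬ y.1 < D.nroots)]
      · simp
      · push Not at h5
        obtain ⟨hn, hx, hy⟩ := h5
        rw [ih, ih, hfold, ev_terms Φ hF, evw_cons, ← mul_assoc, ← mul_assoc, ← mul_assoc]
        congr 1
        simp only [ev]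
        rw [dif_pos hx, dif_pos hy]
        exact (Φ.comm_pair (r := ⟨y.1, hy⟩) (s := ⟨x.1, hx⟩) (fun e => h4 (congrArg Fin.val e))
          (fun e => hn ((congrArg Fin.val e).trans (Φ.negIdx_eq ⟨y.1, hy⟩).symm)) _ _).symm

theorem ev_normalize (hF : MorOK F p) (t u : F) (n : ℕ) (w : List Ltr) :
    Φ.evw t u (Collect.normalize D p n w) = Φ.evw t u w := by
  induction w with
  | nil => rfl
  | cons a w ih =>
    show Φ.evw t u (Collect.ins D p n a (Collect.normalize D p n w)) = _
    rw [Φ.ev_ins hF, ih, evw_cons]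

theorem evw_eq_of_normalize (hF : MorOK F p) {n : ℕ} {w w' : List Ltr}
    (h : Collect.normalize D p n w = Collect.normalize D p n w') (t u : F) :
    Φ.evw t u w = Φ.evw t u w' := by
  rw [← Φ.ev_normalize hF t u n w, h, Φ.ev_normalize hF]

end Chev

end CfsgLib.Chev
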