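/-
Centralizers of root elements of dominant roots in characteristic two.
-/
import Cfsg.Agent.Lib.Chev.Aut.Types
import Cfsg.Agent.Lib.Chev.SL2Hom

namespace CfsgLib.Chev

open Cfsg.Lie Matrix

set_option linter.dupNamespace false
set_option linter.unusedSectionVars false

variable {D : ChevalleyDatum}

namespace Chev

variable (Φ : Chev D) {F : Type*} [Field F]

/-- The root `h` is dominant. -/
def Dominant (h : Fin D.nroots) : Prop := ∀ i, 0 ≤ Φ.A i h

theorem V_map_refl {π : Equiv.Perm (Fin D.nroots)} (hπ : π ∈ Φ.WL) (i : Fin D.rank)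
    (r : Fin D.nroots) (j : Fin D.rank) :
    Φ.V (π (Φ.refl i r)) j = Φ.V (π r) j - Φ.A i r * Φ.V (π (Φ.p i)) j := by
  rw [Φ.V_map hπ, Φ.V_map hπ r]
  simp only [Φ.V_refl, sub_mul, Finset.sum_sub_distrib, ite_mul, zero_mul, Finset.sum_ite_eq',
    Finset.mem_univ, if_true]

theorem reflPerm_reflPerm (i : Fin D.rank) (π : Equiv.Perm (Fin D.nroots)) :
    π * Φ.reflPerm i * Φ.reflPerm i = π := by
  rw [mul_assoc, Φ.reflPerm_mul_self', mul_one]

theorem pos_after_descent {π : Equiv.Perm (Fin D.nroots)} (hπ : π ∈ Φ.WL) {i : Fin D.rank}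
    (hi : ¬ Φ.toTables.Pos (π (Φ.p i))) : Φ.toTables.Pos ((π * Φ.reflPerm i) (Φ.p i)) := by
  show Φ.toTables.Pos (π (Φ.refl i (Φ.p i)))
  rwa [Φ.refl_p, Φ.map_rev hπ, Φ.pos_rev_iff]

theorem V_map_le {h : Fin D.nroots} (hd : Φ.Dominant h) :
    ∀ {π : Equiv.Perm (Fin D.nroots)}, π ∈ Φ.WL → ∀ j, Φ.V (π h) j ≤ Φ.V h j := by
  intro π
  induction e : Φ.inv π using Nat.strong_induction_on generalizing π with
  | _ k ih =>
    intro hπ j
    by_cases h1 : π = 1
    · subst h1; simp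
    obtain ⟨i, hi⟩ := Φ.exists_right_descent hπ h1
    have hπ' := mul_mem hπ (Φ.reflPerm_mem_WL i)
    have hle := ih _ (e ▸ Φ.inv_mul_refl_lt hπ hi) rfl hπ' j
    have hp := Φ.V_nonneg _ (Φ.pos_after_descent hπ hi) j
    have key : Φ.V (π h) j =
        Φ.V ((π * Φ.reflPerm i) h) j - Φ.A i h * Φ.V ((π * Φ.reflPerm i) (Φ.p i)) j := by
      rw [← Φ.V_map_refl hπ']
      show _ = Φ.V (π (Φ.refl i (Φ.refl i h))) j
      rw [Φ.refl_refl]
    have := mul_nonneg (hd i) hp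
    omega

/-- The stabiliser of a dominant root is generated by the fundamental reflections fixing it. -/
theorem mem_WK_of_map_eq {h : Fin D.nroots} (hd : Φ.Dominant h) :
    ∀ {π : Equiv.Perm (Fin D.nroots)}, π ∈ Φ.WL → π h = h → π ∈ Φ.WK {i | Φ.A i h = 0} := by
  intro π
  induction e : Φ.inv π using Nat.strong_induction_on generalizing π with
  | _ k ih =>
    intro hπ hfix
    by_cases h1 : π = 1
    · subst h1; exact one_mem _
    obtain ⟨i, hi⟩ := Φ.exists_right_descent hπ h1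
    have hπ' := mul_mem hπ (Φ.reflPerm_mem_WL i)
    have hp := Φ.pos_after_descent hπ hi
    have key : ∀ j, Φ.V h j =
        Φ.V ((π * Φ.reflPerm i) h) j - Φ.A i h * Φ.V ((π * Φ.reflPerm i) (Φ.p i)) j := fun j => by
      rw [← Φ.V_map_refl hπ']
      show _ = Φ.V (π (Φ.refl i (Φ.refl i h))) j
      rw [Φ.refl_refl, hfix]
    obtain ⟨j, hj⟩ := Φ.exists_V_pos hp
    have hle := Φ.V_map_le hd hπ' j
    have hkj := key j
    have hA : Φ.A i h = 0 := by
      have h0 : Φ.A i h * Φ.V ((π * Φ.reflPerm i) (Φ.p i)) j ≤ 0 := by omega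
      have : Φ.A i h ≤ 0 := nonpos_of_mul_nonpos_left h0 hj
      have := hd i
      omega
    have hfix' : (π * Φ.reflPerm i) h = h := by
      refine Φ.toSys.V_inj fun j => ?_
      have := key j
      rw [hA, zero_mul, sub_zero] at this
      exact this.symm
    have := mul_mem (ih _ (e ▸ Φ.inv_mul_refl_lt hπ hi) rfl hπ' hfix')
      (Φ.reflPerm_mem_WK (show i ∈ {i : Fin D.rank | Φ.A i h = 0} from hA))
    rwa [Φ.reflPerm_reflPerm] at this

theorem chi_coHom (c : Fin D.rank → Fˣ) (s : Fin D.nroots) :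
    Φ.toSys.chi (Φ.coHom F c) s = ∏ k, c k ^ Φ.A k s := by
  have hsum : ∀ (S : Finset (Fin D.rank)),
      Φ.toSys.chi (∏ k ∈ S, Φ.toAlg.cartanChar k (c k)) s = ∏ k ∈ S, c k ^ Φ.A k s := by
    intro S
    induction S using Finset.induction_on with
    | empty => simp [Sys.chi]
    | insert a S ha ih =>
      rw [Finset.prod_insert ha, Finset.prod_insert ha, Φ.toSys.chi_mul, ih, Φ.toAlg.chi_cartanChar]
  rw [Φ.coHom_apply]
  exact hsum _

/-- `x_h` commutes with `U` modulo two. -/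
def evenComm (D : ChevalleyDatum) (h : Fin D.nroots) : Bool :=
  (List.finRange D.nroots).all fun s =>
    decide (2 * s.val < D.nroots) || decide (s = h) || (D.commTerms h.val s.val).all fun c => c.2.1 % 2 == 0

section Two

variable [CharP F 2]

theorem cast_even {z : ℤ} (hz : z % 2 = 0) : (z : F) = 0 :=
  (CharP.intCast_eq_zero_iff F 2 z).2 (by exact_mod_cast Int.dvd_of_emod_eq_zero hz)

theorem tval_eq_one_of_even {L : List (ℕ × ℤ × ℕ × ℕ)} (hL : ∀ c ∈ L, c.2.1 % 2 = 0) (t u : F) :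
    Φ.tval t u L = 1 := by
  refine List.prod_eq_one fun g hg => ?_
  obtain ⟨c, hc, rfl⟩ := List.mem_map.1 hg
  split
  · rw [cast_even (hL c hc)]; simp
  · rfl

theorem commute_of_even {r s : Fin D.nroots} (hrs : s ≠ r) (hneg : s ≠ r.rev)
    (hL : ∀ c ∈ D.commTerms r.val s.val, c.2.1 % 2 = 0) (t u : F) :
    Commute (Φ.toAlg.xg r t) (Φ.toAlg.xg s u) := by
  refine Eq.symm ?_
  show Φ.toAlg.xg s u * Φ.toAlg.xg r t = _
  rw [Φ.comm_xg hrs hneg, Φ.tval_eq_one_of_even hL, mul_one]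

theorem commute_U {h : Fin D.nroots} (hpos : Φ.toTables.Pos h) (he : evenComm D h = true) (a : F)
    {x : GL D.Idx F} (hx : x ∈ D.posUnipotent F) : Commute (Φ.toAlg.xg h a) x := by
  rw [Φ.posUnipotent_eq_US] at hx
  induction hx using Subgroup.closure_induction with
  | mem y hy =>
    obtain ⟨s, u, hs, rfl⟩ := hy
    by_cases hsh : s = h
    · subst hsh
      show _ = _
      rw [← Φ.toAlg.xg_add, ← Φ.toAlg.xg_add, add_comm]
    refine Φ.commute_of_even hsh (fun e => (Φ.pos_rev_iff h).1 (e ▸ hs) hpos) ?_ a u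
    intro c hc
    have := List.all_eq_true.1 he s (List.mem_finRange s)
    simp only [Bool.or_eq_true, decide_eq_true_eq, hsh, or_false, List.all_eq_true, beq_iff_eq] at this
    rcases this with e | e
    · exact absurd hs (by show ¬ D.nroots ≤ 2 * s.val; omega)
    · exact e c hc
  | one => exact Commute.one_right _
  | mul y z _ _ hy hz => exact hy.mul_right hz
  | inv y _ hy => exact hy.inv_right

theorem neg_one_eq : (-1 : F) = 1 := CharTwo.neg_eq 1

theorem etaU_two (i : Fin D.rank) (s : Fin D.nroots) : (Φ.etaU F i s : F) = 1 := by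
  rw [Φ.etaU_val]
  rcases Φ.eta_unit i s with e | e <;> simp [e, neg_one_eq]

theorem nw_conj_two (i : Fin D.rank) (s : Fin D.nroots) (t : F) :
    Φ.nw (Φ.p i) 1 * Φ.toAlg.xg s t * (Φ.nw (Φ.p i) 1)⁻¹ = Φ.toAlg.xg (Φ.refl i s) t := by
  have h := Φ.etaU_two (F := F) i s
  rw [Φ.etaU_val] at h
  rw [Φ.nw_conj_xg, mul_inv_cancel_right, h, one_mul]

theorem refl_fix {h : Fin D.nroots} {i : Fin D.rank} (hi : Φ.A i h = 0) : Φ.refl i h = h :=
  Φ.toSys.V_inj fun j => by rw [Φ.V_refl, hi]; simp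

theorem nw_commute {h : Fin D.nroots} {i : Fin D.rank} (hi : Φ.A i h = 0) (a : F) :
    Commute (Φ.nw (Φ.p i) 1) (Φ.toAlg.xg h a) := by
  have := Φ.nw_conj_two (F := F) i h a
  rw [Φ.refl_fix hi, mul_inv_eq_iff_eq_mul] at this
  exact this

theorem neg_simple_commute {h : Fin D.nroots} (hpos : Φ.toTables.Pos h) (he : evenComm D h = true)
    {i : Fin D.rank} (hi : Φ.A i h = 0) (a c : F) :
    Commute (Φ.toAlg.xg h a) (Φ.toAlg.xg (Φ.p i).rev c) := by
  rw [← Φ.refl_p i, ← Φ.nw_conj_two (F := F) i (Φ.p i) c]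
  have hn := (Φ.nw_commute hi a).symm
  exact (hn.mul_right (Φ.commute_U hpos he a (Φ.xg_mem_U (Φ.p_pos i) c))).mul_right hn.inv_right

theorem nw_mem_of_le {M : Subgroup (GL D.Idx F)} {i : Fin D.rank} (hU : D.posUnipotent F ≤ M)
    (hN : ∀ c, Φ.toAlg.xg (Φ.p i).rev c ∈ M) (t : Fˣ) : Φ.nw (Φ.p i) t ∈ M :=
  mul_mem (mul_mem (hU (Φ.xg_mem_U (Φ.p_pos i) _)) (hN _)) (hU (Φ.xg_mem_U (Φ.p_pos i) _))

/-- An element fixing `x_h(1)` modulo `U` lies in the group generated by `U` and the negative fundamental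
root subgroups orthogonal to `h`. -/
theorem centralizer_le {h : Fin D.nroots} (hd : Φ.Dominant h) (hpos : Φ.toTables.Pos h)
    (he : evenComm D h = true) {i0 : Fin D.rank} (h1 : Φ.A i0 h = 1)
    (h0 : ∀ i, i ≠ i0 → Φ.A i h = 0) {M : Subgroup (GL D.Idx F)} (hU : D.posUnipotent F ≤ M)
    (hN : ∀ i, i ≠ i0 → ∀ c, Φ.toAlg.xg (Φ.p i).rev c ∈ M) :
    D.group F ⊓ Subgroup.centralizer {Φ.toAlg.xg h (1 : F)} ≤ M := by
  rintro g ⟨hg, hc⟩
  have hgt : g * Φ.toAlg.xg h 1 * g⁻¹ = Φ.toAlg.xg h (1 : F) := by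
    rw [Subgroup.mem_centralizer_singleton_iff.1 hc, mul_inv_cancel_right]
  obtain ⟨b, hb, n, hn, π, hπ, hm, u, hu, rfl⟩ := Φ.exists_normal_form hg
  obtain ⟨v, hv, d, hd', rfl⟩ := Φ.mem_B_iff.1 hb
  have hu' := Φ.Uneg_le_U hu
  have hdn : d * n * Φ.toAlg.xg h 1 * (d * n)⁻¹ = Φ.toAlg.xg h (1 : F) := by
    have hut : u * Φ.toAlg.xg h 1 * u⁻¹ = Φ.toAlg.xg h (1 : F) := by
      rw [(Φ.commute_U hpos he 1 hu').symm.eq, mul_inv_cancel_right]
    have hvt : v⁻¹ * Φ.toAlg.xg h 1 * v = Φ.toAlg.xg h (1 : F) := by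
      rw [mul_assoc, (Φ.commute_U hpos he 1 hv).eq, inv_mul_cancel_left]
    calc d * n * Φ.toAlg.xg h 1 * (d * n)⁻¹
        = v⁻¹ * (v * d * n * (u * Φ.toAlg.xg h 1 * u⁻¹) * (v * d * n)⁻¹) * v := by rw [hut]; group
      _ = v⁻¹ * (v * d * n * u * Φ.toAlg.xg h 1 * (v * d * n * u)⁻¹) * v := by group
      _ = _ := by rw [hgt, hvt]
  have hdnN : d * n ∈ D.monomialSubgroup F := mul_mem (H_le_N hd') hn
  obtain ⟨c, hc'⟩ := Φ.exists_torus_of_mem_H hd'
  have hm' : Φ.Mono (d * n) π := by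
    have := Mono.mul Φ (Φ.mono_torus c) hm
    rwa [← hc', one_mul] at this
  have hfix : π h = h := by
    obtain ⟨a, ha, ha', -⟩ := hm'.1 h
    rw [ha'] at hdn
    exact Φ.root_eq_of_xg_eq (mul_ne_zero ha one_ne_zero) hdn
  have hWK := Φ.mem_WK_of_map_eq hd hπ hfix
  obtain ⟨m, hmN, hmM, hmc, hmm⟩ : ∃ m ∈ D.monomialSubgroup F, m ∈ M ∧
      Commute m (Φ.toAlg.xg h (1 : F)) ∧ Φ.Mono m π := by
    clear hfix hm hm' hπ hu
    induction hWK using Subgroup.closure_induction with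
    | mem x hx =>
      obtain ⟨i, hi, rfl⟩ := hx
      have hne : i ≠ i0 := by
        rintro rfl
        rw [Set.mem_setOf_eq] at hi
        omega
      exact ⟨_, Φ.nw_mem_N (Φ.p i) 1, Φ.nw_mem_of_le hU (hN i hne) 1, Φ.nw_commute hi 1,
        Φ.nw_one_mono i⟩
    | one => exact ⟨1, one_mem _, one_mem _, Commute.one_left _, Mono.one Φ⟩
    | mul x y _ _ hx hy =>
      obtain ⟨m, a1, a2, a3, a4⟩ := hx
      obtain ⟨m', b1, b2, b3, b4⟩ := hy
      exact ⟨m * m', mul_mem a1 b1, mul_mem a2 b2, a3.mul_left b3, Mono.mul Φ a4 b4⟩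
    | inv x _ hx =>
      obtain ⟨m, a1, a2, a3, a4⟩ := hx
      exact ⟨m⁻¹, inv_mem a1, inv_mem a2, a3.inv_left, Φ.mono_inv a1 a4⟩
  have hH := Φ.inv_mul_mem_H hmN hdnN hmm hm'
  have hkt : (m⁻¹ * (d * n)) * Φ.toAlg.xg h 1 * (m⁻¹ * (d * n))⁻¹ = Φ.toAlg.xg h (1 : F) := by
    calc (m⁻¹ * (d * n)) * Φ.toAlg.xg h 1 * (m⁻¹ * (d * n))⁻¹
        = m⁻¹ * (d * n * Φ.toAlg.xg h 1 * (d * n)⁻¹) * m := by group
      _ = _ := by rw [hdn, mul_assoc, ← hmc.eq, inv_mul_cancel_left]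
  have hkM : m⁻¹ * (d * n) ∈ M := by
    rw [Φ.diagonalSubgroup_eq] at hH
    obtain ⟨e, he'⟩ := hH
    rw [MonoidHom.comp_apply] at he'
    rw [← he', Φ.toAlg.torus_xg, mul_inv_cancel_right] at hkt
    have hchi : Φ.toSys.chi (Φ.coHom F e) h = 1 := by
      have := Φ.toAlg.xg_injective h hkt
      exact Units.ext (by simpa using this)
    rw [Φ.chi_coHom, Fintype.prod_eq_single i0 (fun i hi => by rw [h0 i hi, zpow_zero]), h1,
      zpow_one] at hchi
    rw [← he', Φ.coHom_mem]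
    refine Subgroup.list_prod_mem _ fun x hx => ?_
    obtain ⟨k, -, rfl⟩ := List.mem_map.1 hx
    by_cases hk : k = i0
    · subst hk; rw [hchi, Φ.hw_one]; exact one_mem _
    · exact mul_mem (Φ.nw_mem_of_le hU (hN k hk) _) (Φ.nw_mem_of_le hU (hN k hk) _)
  have hdnM : d * n ∈ M := by
    have := mul_mem hmM hkM
    rwa [mul_inv_cancel_left] at this
  have : v * (d * n) * u ∈ M := mul_mem (mul_mem (hU hv) hdnM) (hU hu')
  rwa [← mul_assoc v d n] at this

theorem le_centralizer {h : Fin D.nroots} (hpos : Φ.toTables.Pos h) (he : evenComm D h = true) :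
    D.posUnipotent F ≤ D.group F ⊓ Subgroup.centralizer {Φ.toAlg.xg h (1 : F)} := fun x hx =>
  Subgroup.mem_inf.2 ⟨Φ.B_le_group (U_le_B hx),
    Subgroup.mem_centralizer_singleton_iff.2 (Φ.commute_U hpos he 1 hx).symm.eq⟩

end Two

/-- The hypotheses of `centralizer_eq_closure`, checked on the tables of the datum. -/
def centCheck (D : ChevalleyDatum) (h i0 : ℕ) (L : List ℕ) : Bool :=
  if hh : h < D.nroots then
    decide (D.nroots ≤ 2 * h) && evenComm D ⟨h, hh⟩ && decide (i0 < D.rank) &&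
      (List.range D.rank).all (fun i => decide (D.cartan i h = if i = i0 then 1 else 0)) &&
      (List.range D.rank).all (fun i => decide (i = i0) || L.contains (D.neg (D.simple i))) &&
      L.all (fun s => ((List.range D.rank).filter (fun i => decide (i ≠ i0))).any
        fun i => D.neg (D.simple i) == s)
  else false

/-- The negative fundamental root subgroups with index in `L`. -/
def negGens (D : ChevalleyDatum) (F : Type*) [Field F] (L : List ℕ) : Set (GL D.Idx F) :=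
  {g | ∃ s ∈ L, ∃ c : F, (g : Matrix D.Idx D.Idx F) = D.x F s c}

include Φ in
theorem centralizer_eq_closure [CharP F 2] {h i0 : ℕ} {L : List ℕ} (hok : centCheck D h i0 L = true)
    {t : GL D.Idx F} (ht : (t : Matrix D.Idx D.Idx F) = D.x F h 1) :
    D.group F ⊓ Subgroup.centralizer {t} = D.posUnipotent F ⊔ Subgroup.closure (negGens D F L) := by
  unfold centCheck at hok
  split at hok
  case isFalse => exact absurd hok Bool.false_ne_true
  case isTrue hh =>
  simp only [Bool.and_eq_true, decide_eq_true_eq, List.all_eq_true, List.mem_range, Bool.or_eq_true,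
    List.contains_iff_mem, List.any_eq_true, List.mem_filter, beq_iff_eq] at hok
  obtain ⟨⟨⟨⟨⟨hpos, he⟩, hi0⟩, hA⟩, hL1⟩, hL2⟩ := hok
  let r : Fin D.nroots := ⟨h, hh⟩
  obtain rfl : t = Φ.toAlg.xg r (1 : F) := (Φ.toAlg.eq_xg_iff (r := r)).1 ht
  have hA' : ∀ i : Fin D.rank, Φ.A i r = if i = ⟨i0, hi0⟩ then 1 else 0 := fun i => by
    rw [← Φ.cartan_val]
    simp only [Fin.ext_iff]
    exact hA i.val i.isLt
  have hneg : ∀ i : Fin D.rank, D.neg (D.simple i.val) = (Φ.p i).rev.val := fun i => by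
    rw [Φ.simple_val]; exact Φ.negIdx_eq _
  replace hpos : Φ.toTables.Pos r := hpos
  refine le_antisymm (Φ.centralizer_le (fun i => ?_) hpos he (by rw [hA', if_pos rfl])
    (fun i hi => by rw [hA', if_neg hi]) le_sup_left fun i hi c => ?_) (sup_le (Φ.le_centralizer hpos he)
    ((Subgroup.closure_le _).2 ?_))
  · rw [hA']; split <;> omega
  · refine Subgroup.mem_sup_right (Subgroup.subset_closure ⟨(Φ.p i).rev.val, ?_, c, (Φ.toAlg.x_val _ c).symm⟩)
    rw [← hneg]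
    exact (hL1 i.val i.isLt).resolve_left fun e => hi (Fin.ext e)
  · rintro g ⟨s, hs, c, hg⟩
    obtain ⟨i, ⟨hi, hine⟩, rfl⟩ := hL2 s hs
    rw [hneg ⟨i, hi⟩] at hg
    rw [(Φ.toAlg.eq_xg_iff (r := (Φ.p ⟨i, hi⟩).rev)).1 hg]
    exact Subgroup.mem_inf.2 ⟨Φ.toAlg.xg_mem_group _ _, Subgroup.mem_centralizer_singleton_iff.2
      (Φ.neg_simple_commute hpos he (by rw [hA', if_neg (fun e => hine (Fin.ext_iff.1 e))]) 1 c).symm.eq⟩

theorem closure_negGens (F : Type*) [Field F] : ∀ L : List ℕ,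
    Subgroup.closure (negGens D F L) = (L.map (D.rootSubgroup F)).foldr (· ⊔ ·) ⊥
  | [] => by
    simp [negGens]
  | a :: L => by
    rw [List.map_cons, List.foldr_cons, ← closure_negGens F L, ChevalleyDatum.rootSubgroup,
      ← Subgroup.closure_union]
    congr 1
    ext g
    simp [negGens]

end Chev

end CfsgLib.Chev
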