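/-
Elements of `p`-power order are conjugate into the unipotent group.
-/
import Cfsg.Agent.Lib.Chev.SteinbergChar
import Cfsg.Agent.Lib.Chev.RootCentralizer
import Mathlib.FieldTheory.Finite.Basic

namespace CfsgLib.Chev

open Cfsg.Lie Matrix

set_option linter.dupNamespace false
set_option linter.unusedSectionVars false
set_option maxRecDepth 100000

variable {D : ChevalleyDatum}

namespace Chev

variable (Φ : Chev D) {F : Type*} [Field F]

include Φ in
/-- Every element of `p`-power order is conjugate to an element of `U`. -/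
theorem exists_conj_mem_U [Finite F] (p : ℕ) [Fact p.Prime] [CharP F p] {g : GL D.Idx F}
    (hg : g ∈ D.group F) {k : ℕ} (hk : g ^ p ^ k = 1) :
    ∃ x ∈ D.group F, x * g * x⁻¹ ∈ D.posUnipotent F := by
  classical
  set U : Subgroup ↥(D.group F) := (D.posUnipotent F).subgroupOf (D.group F) with hUdef
  have hUG : D.posUnipotent F ≤ D.group F := fun v hv => Φ.B_le_group (U_le_B hv)
  have hcardU : Nat.card U = Nat.card F ^ (D.nroots / 2) := by
    rw [Nat.card_congr (Subgroup.subgroupOfEquivOfLe hUG).toEquiv, Φ.card_U]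
  obtain ⟨m, k', hm, hk', hc⟩ := Φ.card_group_split (F := F) p
  have hidx : ¬ p ∣ U.index := by
    have h2 := U.card_mul_index
    rw [hcardU, hc] at h2
    rw [Nat.eq_of_mul_eq_mul_left (pow_pos Nat.card_pos _) h2]
    exact hm
  have hp : IsPGroup p U := IsPGroup.of_card (n := k' * (D.nroots / 2)) (by rw [hcardU, hk', pow_mul])
  let P : Sylow p ↥(D.group F) := hp.toSylow hidx
  let g' : ↥(D.group F) := ⟨g, hg⟩
  have hz : IsPGroup p (Subgroup.zpowers g') := by
    have h1 : orderOf g' ∣ p ^ k := orderOf_dvd_of_pow_eq_one (Subtype.ext (by simpa [g'] using hk))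
    obtain ⟨j, -, hj⟩ := (Nat.dvd_prime_pow (Fact.out : p.Prime)).1 h1
    exact IsPGroup.of_card (n := j) (by rw [Nat.card_zpowers, hj])
  obtain ⟨Q, hQ⟩ := hz.exists_le_sylow
  obtain ⟨x, hx⟩ := MulAction.exists_smul_eq ↥(D.group F) Q P
  refine ⟨x, x.2, ?_⟩
  have : x * g' * x⁻¹ ∈ (P : Subgroup ↥(D.group F)) := by
    rw [← hx, Sylow.smul_def, Sylow.pointwise_smul_def]
    exact ⟨g', hQ (Subgroup.mem_zpowers g'), rfl⟩
  exact this

end Chev

end CfsgLib.Chev
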