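/-
Table checks for the type B₂ over the fields with three and four elements.
-/
import Cfsg.Agent.Lib.Chev.CoverSmallData

namespace CfsgLib.Chev

open Cfsg.Lie

set_option maxRecDepth 100000
set_option linter.dupNamespace false

/-- The root elements commute in characteristic two. -/
def evenCommN (D : ChevalleyDatum) (r s : ℕ) : Bool :=
  indepN D r s && (D.commTerms r s).all fun e => Nat.beq (e.2.1.natAbs % 2) 0

/-- The root `r` occurs in a commutator of two roots commuting with it. -/
def witnessN (D : ChevalleyDatum) (r : ℕ) : Bool :=
  (List.range D.nroots).any fun x => (List.range D.nroots).any fun y =>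
    indepN D x y && evenCommN D r x && evenCommN D r y &&
    match D.commTerms x y with
    | [(k₁, c₁, i₁, j₁), (k₂, c₂, i₂, j₂)] =>
      Nat.beq c₁.natAbs 1 && Nat.beq c₂.natAbs 1 && Nat.blt k₁ D.nroots && Nat.blt k₂ D.nroots &&
        ((Nat.beq k₁ r && evenCommN D r k₂ && (Nat.beq i₁ 1 || Nat.beq j₁ 1)) ||
          (Nat.beq k₂ r && evenCommN D r k₁ && (Nat.beq i₂ 1 || Nat.beq j₂ 1)))
    | _ => false

/-- Every fundamental root has a witness. -/
def witnessCheck (D : ChevalleyDatum) : Bool := (List.range D.rank).all fun i => witnessN D (D.simple i)

/-- Some coroot element of order two moves the root. -/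
def movedN (D : ChevalleyDatum) (r : ℕ) : Bool :=
  (List.range D.nroots).any fun w => decide (prN D w r % ((2 : ℕ) : ℤ) ≠ 0)

/-- The first pair whose commutator is a multiple of the unmoved root `k`. -/
def defPairN (D : ChevalleyDatum) (k : ℕ) : Option (ℕ × ℕ × ℤ) :=
  ((List.range D.nroots).flatMap fun r => (List.range D.nroots).filterMap fun s =>
    bif movedN D r && movedN D s && indepN D r s && indepN D r k && (D.commTerms r k).isEmpty &&
        scaledN D 2 r k then
      match D.commTerms r s with
      | [(k', c, 1, 1)] => bif Nat.beq k' k && Nat.beq c.natAbs 2 then some (r, s, c) else none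
      | _ => none
    else none).head?

/-- Orthogonality of unmoved roots through a commutator. -/
def chainN (D : ChevalleyDatum) (r s : ℕ) : Bool :=
  (List.range D.nroots).any fun x => (List.range D.nroots).any fun y =>
    indepN D x y && indepN D r x && (D.commTerms r x).isEmpty && scaledN D 2 r x && indepN D r y &&
    ((D.commTerms r y).all fun e => Nat.blt e.1 D.nroots &&
      (Nat.beq e.1 x || (indepN D e.1 x && (D.commTerms e.1 x).isEmpty && scaledN D 2 e.1 x))) &&
    match D.commTerms x y with
    | [(k, c, 1, 1)] => Nat.beq k s && Nat.beq c.natAbs 2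
    | _ => false

/-- The three kinds of pairs. -/
def classCheck (D : ChevalleyDatum) : Bool :=
  ((List.range D.nroots).all fun k => movedN D k || (defPairN D k).isSome) &&
  (List.range D.nroots).all fun r => (List.range D.nroots).all fun s =>
    !(indepN D r s) || scaledN D 2 r s || ((D.commTerms r s).isEmpty && chainN D r s) ||
      match D.commTerms r s with
      | [(k, c, 1, 1)] => Nat.blt k D.nroots && !(movedN D k) &&
          (defPairN D k == some (r, s, c) || defPairN D k == some (s, r, -c))
      | _ => false

theorem witnessB2 : witnessCheck Cfsg.Lie.chevB2 = true := by decide +kernel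
theorem classB2 : classCheck Cfsg.Lie.chevB2 = true := by decide +kernel

end CfsgLib.Chev
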