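/-
Central extensions of the presented cover of type B₂ split over the fields with three and four elements.
-/
import Cfsg.Agent.Lib.Chev.CoverSplit
import Cfsg.Agent.Lib.Chev.CoverB2Data
import Cfsg.Agent.Lib.Chev.SteinbergCoverRels

namespace CfsgLib.Chev

open Cfsg.Lie Matrix
open scoped commutatorElement

set_option linter.dupNamespace false
set_option linter.unusedSimpArgs false

universe u v

namespace Chev

variable {D : ChevalleyDatum} {Φ : Chev D} {F : Type*} [Field F] {E : Type*} [Group E]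
variable {π : E →* D.SteinbergCover F} (hπ : Function.Surjective π) (hc : π.ker ≤ Subgroup.center E)

/-- The relator word of a pair, in the presented cover. -/
theorem cgx_relator {x y : Fin D.nroots} (h1 : y ≠ x) (h2 : y ≠ x.rev) (t u : F) :
    (Φ.cgx y u)⁻¹ * (Φ.cgx x t)⁻¹ * Φ.cgx y u * Φ.cgx x t =
      PresentedGroup.mk (D.steinbergRelsAB F) (D.stWord (D.commWord F x.val y.val t u)) := by
  have h : PresentedGroup.mk (D.steinbergRelsAB F) ((D.stX y.val u)⁻¹ * (D.stX x.val t)⁻¹ *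
      D.stX y.val u * D.stX x.val t * (D.stWord (D.commWord F x.val y.val t u))⁻¹) = 1 :=
    PresentedGroup.one_of_mem (Or.inr ⟨x.val, y.val, t, u, x.isLt, y.isLt,
      fun e => h1 (Fin.ext e), fun e => h2 (Fin.ext (e.trans (Φ.negIdx_eq x))), rfl⟩)
  simp only [map_mul, map_inv] at h
  rw [mul_inv_eq_one] at h
  exact h

theorem commute_evenComm (h2F : (2 : F) = 0) {r s : Fin D.nroots} (h : evenCommN D r.val s.val = true)
    (t u : F) : Commute (Φ.cgx r t) (Φ.cgx s u) := by
  simp only [evenCommN, Bool.and_eq_true, List.all_eq_true, Nat.beq_eq] at h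
  obtain ⟨h1, h2⟩ := indepN_iff Φ h.1
  have e := cgx_relator (Φ := Φ) h1 h2 t u
  have hone : PresentedGroup.mk (D.steinbergRelsAB F) (D.stWord (D.commWord F r.val s.val t u)) = 1 := by
    rw [ChevalleyDatum.stWord, map_list_prod, List.map_map]
    refine List.prod_eq_one fun g hg => ?_
    simp only [ChevalleyDatum.commWord, List.map_map, List.mem_map] at hg
    obtain ⟨c, hc, rfl⟩ := hg
    have hd : (2 : ℤ) ∣ c.2.1 := Int.ofNat_dvd_left.mpr (Nat.dvd_of_mod_eq_zero (h.2 c hc))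
    obtain ⟨m, hm⟩ := hd
    simp only [Function.comp_apply, hm, Int.cast_mul, Int.cast_ofNat, h2F, zero_mul]
    by_cases hlt : c.1 < D.nroots
    · exact Φ.cgx_zero ⟨c.1, hlt⟩
    · simp [ChevalleyDatum.stX, hlt]
  rw [hone, mul_assoc, mul_assoc, inv_mul_eq_iff_eq_mul, mul_one, inv_mul_eq_iff_eq_mul] at e
  exact e.symm

include hπ hc in
theorem commPair_self_witness (hadj : Φ.Adj) (h2F : (2 : F) = 0) (b : Fˣ) (hb : orderOf b = 3)
    (hk : scaleCheck D 3 = true) (hw : witnessCheck D = true) (r : Fin D.nroots) : CommPair π Φ r r := by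
  induction r using Φ.root_induction with
  | hstep i r ih => exact commPair_refl hπ hc hadj i ih
  | hp i =>
    simp only [witnessCheck, witnessN, List.all_eq_true, List.any_eq_true, List.mem_range, Bool.and_eq_true] at hw
    obtain ⟨x, hx, y, hy, ⟨⟨hxy, hrx⟩, hry⟩, hm⟩ := hw i.val i.isLt
    rw [Φ.simple_val] at hrx hry hm
    split at hm
    swap
    · simp at hm
    rename_i k₁ c₁ i₁ j₁ k₂ c₂ i₂ j₂ heq
    simp only [Bool.or_eq_true, Bool.and_eq_true, Nat.beq_eq, Nat.blt_eq] at hm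
    obtain ⟨⟨⟨⟨hc1, hc2⟩, hk1⟩, hk2⟩, hcase⟩ := hm
    obtain ⟨a1, a2⟩ := indepN_iff Φ (r := ⟨x, hx⟩) (s := ⟨y, hy⟩) hxy
    have cp : ∀ s : Fin D.nroots, evenCommN D (Φ.p i).val s.val = true → CommPair π Φ (Φ.p i) s := by
      intro s hs
      have hs' := hs
      simp only [evenCommN, Bool.and_eq_true] at hs'
      obtain ⟨n1, n2⟩ := indepN_iff Φ hs'.1
      exact commPair_of_scaled hπ hc hadj (scaled_of_check b hb hk _ _ n1 n2) (commute_evenComm h2F hs)
    set ℓ : Fin D.nroots → F → E := fun r t => Function.surjInv hπ (Φ.cgx r t)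
    have πℓ : ∀ r t, π (ℓ r t) = Φ.cgx r t := fun r t => Function.surjInv_eq hπ _
    have πQ : ∀ t u, π ⁅(ℓ ⟨y, hy⟩ u)⁻¹, (ℓ ⟨x, hx⟩ t)⁻¹⁆ =
        Φ.cgx ⟨k₁, hk1⟩ ((c₁ : F) * (-t) ^ i₁ * u ^ j₁) * Φ.cgx ⟨k₂, hk2⟩ ((c₂ : F) * (-t) ^ i₂ * u ^ j₂) := by
      intro t u
      rw [map_commutatorElement, map_inv, map_inv, πℓ, πℓ, commutatorElement_def, inv_inv, inv_inv,
        cgx_relator a1 a2]
      simp [ChevalleyDatum.commWord, heq, ChevalleyDatum.stWord, cgx, ChevalleyDatum.scGen]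
    intro g p v v' hg hp
    have hgQ : ∀ t u, Commute g ⁅(ℓ ⟨y, hy⟩ u)⁻¹, (ℓ ⟨x, hx⟩ t)⁻¹⁆ := by
      intro t u
      have fy : π (g * (ℓ ⟨y, hy⟩ u)⁻¹ * g⁻¹) = π (ℓ ⟨y, hy⟩ u)⁻¹ := by
        rw [map_mul, map_mul, map_inv, map_inv, hg, πℓ,
          ((commute_evenComm (Φ := Φ) h2F (s := ⟨y, hy⟩) hry v u).inv_right).eq, mul_inv_cancel_right]
      have fx : π (g * (ℓ ⟨x, hx⟩ t)⁻¹ * g⁻¹) = π (ℓ ⟨x, hx⟩ t)⁻¹ := by
        rw [map_mul, map_mul, map_inv, map_inv, hg, πℓ,
          ((commute_evenComm (Φ := Φ) h2F (s := ⟨x, hx⟩) hrx v t).inv_right).eq, mul_inv_cancel_right]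
      have h := CentralComm.comm_congr hc fy fx
      rw [show ∀ a b : E, ⁅g * a * g⁻¹, g * b * g⁻¹⁆ = g * ⁅a, b⁆ * g⁻¹ from fun a b => by
        simp only [commutatorElement_def]; group, mul_inv_eq_iff_eq_mul] at h
      exact h
    have hval : ∀ (c : ℤ) (i j : ℕ), c.natAbs = 1 → (i = 1 ∨ j = 1) →
        ∃ t u : F, (c : F) * (-t) ^ i * u ^ j = v' := by
      intro c i j hcc hij
      have hcF := intCast_ne_zero_of_natAbs (F := F) hcc
      rcases hij with rfl | rfl
      · exact ⟨-(v' / c), 1, by rw [one_pow, neg_neg, pow_one, mul_one, mul_div_cancel₀ _ hcF]⟩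
      · exact ⟨-1, v' / c, by rw [neg_neg, one_pow, pow_one, mul_one, mul_div_cancel₀ _ hcF]⟩
    rw [← commutatorElement_eq_one_iff_commute]
    rcases hcase with ⟨⟨hk', he'⟩, hij⟩ | ⟨⟨hk', he'⟩, hij⟩
    · obtain ⟨t, u, htu⟩ := hval c₁ i₁ j₁ hc1 hij
      set z := ℓ ⟨k₂, hk2⟩ ((c₂ : F) * (-t) ^ i₂ * u ^ j₂)
      have e : π p = π (⁅(ℓ ⟨y, hy⟩ u)⁻¹, (ℓ ⟨x, hx⟩ t)⁻¹⁆ * z⁻¹) := by
        rw [map_mul, map_inv, πQ, πℓ, mul_inv_cancel_right, htu, hp]
        congr 1
        exact Fin.ext hk'.symm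
      rw [CentralComm.comm_congr hc (rfl : π g = π g) e, commutatorElement_eq_one_iff_commute]
      exact (hgQ t u).mul_right (cp ⟨k₂, hk2⟩ he' g z _ _ hg (πℓ _ _)).inv_right
    · obtain ⟨t, u, htu⟩ := hval c₂ i₂ j₂ hc2 hij
      set z := ℓ ⟨k₁, hk1⟩ ((c₁ : F) * (-t) ^ i₁ * u ^ j₁)
      have e : π p = π (z⁻¹ * ⁅(ℓ ⟨y, hy⟩ u)⁻¹, (ℓ ⟨x, hx⟩ t)⁻¹⁆) := by
        rw [map_mul, map_inv, πQ, πℓ, inv_mul_cancel_left, htu, hp]
        congr 1
        exact Fin.ext hk'.symm
      rw [CentralComm.comm_congr hc (rfl : π g = π g) e, commutatorElement_eq_one_iff_commute]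
      exact (cp ⟨k₁, hk1⟩ he' g z _ _ hg (πℓ _ _)).inv_right.mul_right (hgQ t u)

include hπ hc in
theorem section_four_B (hadj : Φ.Adj) (hperf : commutator (D.SteinbergCover F) = ⊤) (h2F : (2 : F) = 0)
    (b : Fˣ) (hb : orderOf b = 3) (ht : torusCheck D 3 = true) (hk : scaleCheck D 3 = true)
    (hw : witnessCheck D = true) : ∃ σ : D.SteinbergCover F →* E, π.comp σ = MonoidHom.id _ :=
  exists_section_gen hπ hc hadj hperf (torus_of_check b hb ht) (commPair_self_witness hπ hc hadj h2F b hb hk hw)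
    fun L _ r s h1 h2 hbil => exact_of_scaled L (scaled_of_check b hb hk r s h1 h2) hbil

include hπ hc in
theorem section_three_B [Finite F] (hadj : Φ.Adj) (hperf : commutator (D.SteinbergCover F) = ⊤) (h3 : (3 : F) = 0)
    (hF : ∀ t : F, ∃ n : ℕ, (n : F) = t) (hcl : classCheck D = true) :
    ∃ σ : D.SteinbergCover F →* E, π.comp σ = MonoidHom.id _ := by
  classical
  have hb : orderOf (-1 : Fˣ) = 2 := by
    refine orderOf_eq_prime (by simp) fun e => ?_
    have e' : (-1 : F) = 1 := by simpa using congrArg Units.val e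
    exact one_ne_zero (show (1 : F) = 0 by linear_combination h3 + e')
  have h2ne : ∀ c : ℤ, c.natAbs = 2 → (c : F) ≠ 0 := by
    intro c hc' e
    rcases Int.natAbs_eq c with q | q <;> rw [q, hc'] at e <;> push_cast at e
    · exact one_ne_zero (show (1 : F) = 0 by linear_combination h3 - e)
    · exact one_ne_zero (show (1 : F) = 0 by linear_combination h3 + e)
  have hself : ∀ r, CommPair π Φ r r := commPair_self_of_prime hπ hc hF
  have cps : ∀ {r s : Fin D.nroots}, indepN D r.val s.val = true → D.commTerms r.val s.val = [] →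
      scaledN D 2 r.val s.val = true → CommPair π Φ r s := fun {r s} hi he hs => by
    obtain ⟨n1, n2⟩ := indepN_iff Φ hi
    exact commPair_of_scaled hπ hc hadj (scaled_of_scaledN _ hb hs) (cgx_commute n1 n2 he)
  have hkey : ∀ k : ℤ, (((-1 : Fˣ) ^ k : Fˣ) : F) = 1 ↔ k % ((2 : ℕ) : ℤ) = 0 := fun k => by
    rw [Units.val_eq_one, ← orderOf_dvd_iff_zpow_eq_one, hb]
    exact Int.dvd_iff_emod_eq_zero
  have hmov : ∀ r : Fin D.nroots, movedN D r.val = true → ∃ w, (((-1 : Fˣ) ^ Φ.pr w r : Fˣ) : F) ≠ 1 := by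
    intro r h
    simp only [movedN, List.any_eq_true, List.mem_range, decide_eq_true_eq] at h
    obtain ⟨w, hw, h⟩ := h
    rw [prN_eq (Φ := Φ) ⟨w, hw⟩ r] at h
    exact ⟨⟨w, hw⟩, fun e => h ((hkey _).mp e)⟩
  have hstill : ∀ k : Fin D.nroots, movedN D k.val = false → ∀ w (b : Fˣ), ((b ^ Φ.pr w k : Fˣ) : F) = 1 := by
    intro k h w b
    have hp : Φ.pr w k % ((2 : ℕ) : ℤ) = 0 := by
      by_contra hne
      have : movedN D k.val = true := by
        simp only [movedN, List.any_eq_true, List.mem_range, decide_eq_true_eq]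
        exact ⟨w.val, w.isLt, by rw [prN_eq (Φ := Φ) w k]; exact hne⟩
      rw [this] at h
      simp at h
    have hb2 : b * b = 1 := by
      obtain ⟨n, hn⟩ := hF (b : F)
      refine Units.ext ?_
      have hn3 : ((n % 3 : ℕ) : F) = (b : F) := by
        rw [← hn]; nth_rw 2 [← Nat.mod_add_div n 3]; push_cast; rw [h3, zero_mul, add_zero]
      have h012 : n % 3 = 0 ∨ n % 3 = 1 ∨ n % 3 = 2 := by omega
      rw [Units.val_mul, Units.val_one, ← hn3]
      rcases h012 with e | e | e <;> rw [e] at hn3 ⊢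
      · exact absurd hn3.symm (by simp)
      · simp
      · push_cast; linear_combination h3
    obtain ⟨m, hm⟩ := Int.dvd_of_emod_eq_zero hp
    rw [hm, Nat.cast_ofNat, _root_.zpow_mul, zpow_two, hb2, _root_.one_zpow, Units.val_one]
  simp only [classCheck, Bool.and_eq_true, List.all_eq_true, List.mem_range, Bool.or_eq_true,
    List.isEmpty_iff, Option.isSome_iff_exists] at hcl
  have hdef : ∀ k : Fin D.nroots, ∃ (r s : Fin D.nroots) (c : ℤ), movedN D k.val = false →
      movedN D r.val = true ∧ movedN D s.val = true ∧ s ≠ r ∧ s ≠ r.rev ∧ CommPair π Φ r k ∧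
      D.commTerms r.val s.val = [(k.val, c, 1, 1)] ∧ (c : F) ≠ 0 ∧
      defPairN D k.val = some (r.val, s.val, c) := by
    intro k
    by_cases h : movedN D k.val = true
    · exact ⟨k, k, 0, fun e => by rw [h] at e; simp at e⟩
    rcases hcl.1 k.val k.isLt with e | ⟨⟨r, s, c⟩, e⟩
    · exact absurd e h
    have e0 := e
    have hm := List.mem_of_mem_head? (Option.mem_def.mpr e)
    simp only [List.mem_flatMap, List.mem_filterMap, List.mem_range] at hm
    obtain ⟨r', hr', s', hs', hm⟩ := hm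
    cases hq : (movedN D r' && movedN D s' && indepN D r' s' && indepN D r' k.val &&
        (D.commTerms r' k.val).isEmpty && scaledN D 2 r' k.val)
    · rw [hq] at hm; simp at hm
    rw [hq] at hm
    simp only [cond_true] at hm
    split at hm
    swap
    · simp at hm
    rename_i k' c' heq
    cases hq' : (Nat.beq k' k.val && Nat.beq c'.natAbs 2)
    · rw [hq'] at hm; simp at hm
    rw [hq'] at hm
    simp only [cond_true, Option.some.injEq, Prod.mk.injEq] at hm
    obtain ⟨rfl, rfl, rfl⟩ := hm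
    simp only [Bool.and_eq_true, List.isEmpty_iff, Nat.beq_eq] at hq hq'
    obtain ⟨⟨⟨⟨⟨q1, q2⟩, q3⟩, q4⟩, q5⟩, q6⟩ := hq
    obtain ⟨rfl, hc2⟩ := hq'
    obtain ⟨n1, n2⟩ := indepN_iff Φ (r := ⟨r', hr'⟩) (s := ⟨s', hs'⟩) q3
    exact ⟨⟨r', hr'⟩, ⟨s', hs'⟩, c', fun _ => ⟨q1, q2, n1, n2, cps (r := ⟨r', hr'⟩) q4 q5 q6, heq,
      h2ne _ hc2, e0⟩⟩
  choose P Q C hdef using hdef
  choose ww hq using fun r : {r : Fin D.nroots // movedN D r.val = true} => hmov r.1 r.2
  set W : Fin D.nroots → Fin D.nroots := fun r => if h : movedN D r.val = true then ww ⟨r, h⟩ else r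
  set q : Fin D.nroots → F := fun r => (((-1 : Fˣ) ^ Φ.pr (W r) r : Fˣ) : F) with hqd
  have hq1 : ∀ r, movedN D r.val = true → q r - 1 ≠ 0 := fun r h => sub_ne_zero.mpr (by
    show (((-1 : Fˣ) ^ Φ.pr (W r) r : Fˣ) : F) ≠ 1
    simp only [W, dif_pos h]
    exact hq ⟨r, h⟩)
  set H : Fin D.nroots → E := fun r => Function.surjInv hπ (Φ.cgh (W r) (-1 : Fˣ))
  set Y : Fin D.nroots → F → E := fun r v => Function.surjInv hπ (Φ.cgx r v)
  have πH : ∀ r, π (H r) = Φ.cgh (W r) (-1 : Fˣ) := fun r => Function.surjInv_eq hπ _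
  have πY : ∀ r v, π (Y r v) = Φ.cgx r v := fun r v => Function.surjInv_eq hπ _
  set Xm : Fin D.nroots → F → E := fun r t => ⁅H r, Y r (t / (q r - 1))⁆ with hXm
  have πXm : ∀ r, movedN D r.val = true → ∀ t, π (Xm r t) = Φ.cgx r t := by
    intro r h t
    rw [hXm, map_commutatorElement, πH, πY, commutatorElement_def, Φ.cgh_conj hadj, ← Φ.cgx_neg, ← Φ.cgx_add]
    congr 1
    have := hq1 r h
    rw [show ((((-1 : Fˣ)) ^ Φ.pr (W r) r : Fˣ) : F) = q r from rfl]
    field_simp
    ring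
  have addm : ∀ r, movedN D r.val = true → ∀ x y, Xm r (x + y) = Xm r x * Xm r y := by
    intro r h x y
    show ⁅H r, Y r ((x + y) / (q r - 1))⁆ = ⁅H r, Y r (x / (q r - 1))⁆ * ⁅H r, Y r (y / (q r - 1))⁆
    rw [CentralComm.comm_congr hc (rfl : π (H r) = π (H r))
      (show π (Y r ((x + y) / (q r - 1))) = π (Y r (x / (q r - 1)) * Y r (y / (q r - 1))) by
        rw [map_mul, πY, πY, πY, ← Φ.cgx_add, add_div])]
    rw [show ⁅H r, Y r (x / (q r - 1)) * Y r (y / (q r - 1))⁆ = ⁅H r, Y r (x / (q r - 1))⁆ *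
        (Y r (x / (q r - 1)) * ⁅H r, Y r (y / (q r - 1))⁆ * (Y r (x / (q r - 1)))⁻¹) by
      simp only [commutatorElement_def]; group]
    congr 1
    rw [(hself r (Y r (x / (q r - 1))) (Xm r y) _ _ (πY r _) (πXm r h y)).eq, mul_inv_cancel_right]
  set Xu : Fin D.nroots → F → E := fun k v =>
    (Xm (Q k) 1)⁻¹ * (Xm (P k) (-(v / C k)))⁻¹ * Xm (Q k) 1 * Xm (P k) (-(v / C k)) with hXu
  have πXu : ∀ k, movedN D k.val = false → ∀ v, π (Xu k v) = Φ.cgx k v := by
    intro k h v
    obtain ⟨mr, ms, n1, n2, -, ht, hcF, -⟩ := hdef k h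
    rw [hXu, map_mul, map_mul, map_mul, map_inv, map_inv, πXm _ mr, πXm _ ms, cgx_comm_single n1 n2 ht,
      neg_neg, mul_one, mul_div_cancel₀ _ hcF]
  have addu : ∀ k, movedN D k.val = false → ∀ v w, Xu k (v + w) = Xu k v * Xu k w := by
    intro k h v w
    obtain ⟨mr, ms, -, -, hcp, -, -, -⟩ := hdef k h
    have h1 : Commute (Xm (P k) (-(w / C k))) (Xu k v) := hcp _ _ _ _ (πXm _ mr _) (πXu k h v)
    have h2 : Commute (Xu k w) (Xu k v) := hself k _ _ _ _ (πXu k h w) (πXu k h v)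
    have e : Xm (P k) (-((v + w) / C k)) = Xm (P k) (-(v / C k)) * Xm (P k) (-(w / C k)) := by
      rw [← addm _ mr, add_div, neg_add]
    rw [← h2.eq]
    calc Xu k (v + w) = (Xm (Q k) 1)⁻¹ * (Xm (P k) (-(w / C k)))⁻¹ * Xm (Q k) 1 *
          (Xu k v * Xm (P k) (-(w / C k))) := by simp only [hXu, e]; group
      _ = (Xm (Q k) 1)⁻¹ * (Xm (P k) (-(w / C k)))⁻¹ * Xm (Q k) 1 *
          (Xm (P k) (-(w / C k)) * Xu k v) := by rw [h1.eq]
      _ = Xu k w * Xu k v := by simp only [hXu]; group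
  let L : Φ.Lift F E :=
    { π := π, surj := hπ, central := hc, X := fun r t => if movedN D r.val = true then Xm r t else Xu r t
      π_X := fun r t => by
        by_cases h : movedN D r.val = true
        · rw [if_pos h]; exact πXm r h t
        · rw [if_neg h]; exact πXu r (by simpa using h) t }
  have LXm : ∀ r, movedN D r.val = true → ∀ t, L.X r t = Xm r t := fun r h t => if_pos h
  have LXu : ∀ r, movedN D r.val = false → ∀ t, L.X r t = Xu r t := fun r h t => if_neg (by simp [h])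
  have hadd : L.Additive := by
    intro r x y
    by_cases h : movedN D r.val = true
    · simp only [LXm r h]; exact addm r h x y
    · simp only [LXu r (by simpa using h)]; exact addu r (by simpa using h) x y
  have hequ : L.Equivariant := by
    intro w b r t g hg
    change π g = Φ.cgh w b at hg
    by_cases h : movedN D r.val = true
    · simp only [LXm r h]
      show g * ⁅H r, Y r (t / (q r - 1))⁆ * g⁻¹ = ⁅H r, Y r (_ / (q r - 1))⁆
      rw [show g * ⁅H r, Y r (t / (q r - 1))⁆ * g⁻¹ = ⁅g * H r * g⁻¹, g * Y r (t / (q r - 1)) * g⁻¹⁆ by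
        simp only [commutatorElement_def]; group]
      obtain ⟨z, hz, e⟩ : ∃ z, π z ∈ Subgroup.center (D.SteinbergCover F) ∧ g * H r * g⁻¹ = z * H r := by
        refine ⟨g * H r * g⁻¹ * (H r)⁻¹, ?_, by group⟩
        refine (Φ.cker_proj hadj ?_).1
        have hH := fun x y => (Φ.H_comm (Φ.hw_mem_H (F := F) w x) (Φ.hw_mem_H (W r) y)).eq
        rw [map_mul π, map_mul π, map_mul π, map_inv π, map_inv π, hg, πH]
        rw [map_mul, map_mul, map_mul, map_inv, map_inv, Φ.cproj_gh, Φ.cproj_gh, hH, mul_inv_cancel_right,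
          mul_inv_cancel]
      have hzc : z ∈ Subgroup.center E := CentralComm.mem_center_of_perfect hc hπ hperf hz
      have hzz := Subgroup.mem_center_iff.mp hzc
      rw [e]
      rw [show ⁅z * H r, g * Y r (t / (q r - 1)) * g⁻¹⁆ = ⁅H r, g * Y r (t / (q r - 1)) * g⁻¹⁆ by
        simp only [commutatorElement_def]
        rw [← hzz (H r), _root_.mul_inv_rev]
        calc H r * z * (g * Y r (t / (q r - 1)) * g⁻¹) * (z⁻¹ * (H r)⁻¹) * (g * Y r (t / (q r - 1)) * g⁻¹)⁻¹
            = H r * (z * (g * Y r (t / (q r - 1)) * g⁻¹)) * z⁻¹ * (H r)⁻¹ * (g * Y r (t / (q r - 1)) * g⁻¹)⁻¹ := by group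
          _ = H r * ((g * Y r (t / (q r - 1)) * g⁻¹) * z) * z⁻¹ * (H r)⁻¹ * (g * Y r (t / (q r - 1)) * g⁻¹)⁻¹ := by rw [← hzz]
          _ = _ := by group]
      refine CentralComm.comm_congr hc rfl ?_
      rw [map_mul, map_mul, map_inv, hg, πY, πY, Φ.cgh_conj hadj, mul_div_assoc]
    · have hu : movedN D r.val = false := by simpa using h
      rw [hstill r hu w b, one_mul]
      set x := L.X r t
      have hx : π x = Φ.cgx r t := L.π_X r t
      have hcm : Commute (π g) (π x) := by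
        rw [hg, hx, Commute, SemiconjBy, ← mul_inv_eq_iff_eq_mul, Φ.cgh_conj hadj, hstill r hu w b, one_mul]
      have hb2 : b * b = 1 := by
        obtain ⟨n, hn⟩ := hF (b : F)
        refine Units.ext ?_
        have hn3 : ((n % 3 : ℕ) : F) = (b : F) := by
          rw [← hn]; nth_rw 2 [← Nat.mod_add_div n 3]; push_cast; rw [h3, zero_mul, add_zero]
        have h012 : n % 3 = 0 ∨ n % 3 = 1 ∨ n % 3 = 2 := by omega
        rw [Units.val_mul, Units.val_one, ← hn3]
        rcases h012 with e | e | e <;> rw [e] at hn3 ⊢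
        · exact absurd hn3.symm (by simp)
        · simp
        · push_cast; linear_combination h3
      have hone : Φ.cgh w (1 : Fˣ) = (1 : D.SteinbergCover F) := by
        have := Φ.cgh_mul (F := F) hadj w 1 1 one_ne_zero one_ne_zero
        simp only [mul_one] at this
        rw [show Units.mk0 (1 : F) one_ne_zero = 1 from Units.ext rfl] at this
        exact mul_left_cancel (this.trans (mul_one _).symm)
      have hgg : π (g * g) = 1 := by
        have := Φ.cgh_mul (F := F) hadj w (b : F) b b.ne_zero b.ne_zero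
        simp only [Units.mk0_val] at this
        rw [map_mul, hg, this, show Units.mk0 ((b : F) * b) (mul_ne_zero b.ne_zero b.ne_zero) = b * b from
          Units.ext rfl, hb2, hone]
      set θ := ⁅g, x⁆ with hθ
      have two : θ * θ = 1 := by
        rw [hθ, ← CentralComm.comm_mul_left hc hcm,
          CentralComm.comm_congr hc (hgg.trans (map_one π).symm) rfl, commutatorElement_one_left]
      have three : θ * (θ * θ) = 1 := by
        have hx3 : x * (x * x) = 1 := by
          rw [← hadd, ← hadd, show t + (t + t) = 0 by linear_combination t * h3, L.X_zero hadd]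
        rw [hθ, ← CentralComm.comm_mul_right hc hcm, ← CentralComm.comm_mul_right hc (by rw [map_mul]; exact hcm.mul_right hcm), hx3,
          commutatorElement_one_right]
      rw [two, mul_one] at three
      rw [hθ, commutatorElement_eq_one_iff_commute] at three
      rw [three.eq, mul_inv_cancel_right]
  refine L.exists_section hadd (L.exact_all hadd hadj hequ fun r s h1 h2 hbil => ?_)
  have hne : indepN D r.val s.val = true := by
    simp only [indepN, Bool.and_eq_true, Bool.not_eq_true', ← Bool.not_eq_true, Nat.beq_eq]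
    exact ⟨fun e => h1 (Fin.ext e), fun e => h2 (Fin.ext (e.trans (Φ.negIdx_eq r)))⟩
  rcases hcl.2 r.val r.isLt s.val s.isLt with ((h | h) | ⟨he, h⟩) | h
  · rw [hne] at h; simp at h
  · exact exact_of_scaled L (scaled_of_scaledN _ hb h) hbil
  · -- orthogonal unmoved roots
    refine exact_of_commPair L rfl ?_ he
    simp only [chainN, List.any_eq_true, List.mem_range, Bool.and_eq_true, List.all_eq_true, Nat.blt_eq,
      Bool.or_eq_true, Nat.beq_eq, List.isEmpty_iff] at h
    obtain ⟨x, hx, y, hy, ⟨⟨⟨⟨⟨nxy, nrx⟩, erx⟩, srx⟩, nry⟩, hterms⟩, hm⟩ := h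
    split at hm
    swap
    · simp at hm
    rename_i k c heq
    simp only [Bool.and_eq_true, Nat.beq_eq] at hm
    obtain ⟨rfl, hc2⟩ := hm
    have hcF := h2ne c hc2
    obtain ⟨a1, a2⟩ := indepN_iff Φ (r := ⟨x, hx⟩) (s := ⟨y, hy⟩) nxy
    obtain ⟨b1, b2⟩ := indepN_iff Φ (r := r) (s := ⟨x, hx⟩) nrx
    obtain ⟨d1, d2⟩ := indepN_iff Φ (r := r) (s := ⟨y, hy⟩) nry
    intro g p t v hg hp
    let L0 : Φ.Lift F E := { π := π, surj := hπ, central := hc, X := Y, π_X := πY }
    set A := Y ⟨x, hx⟩ (v / c) with hA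
    set B := Y ⟨y, hy⟩ (-1) with hB
    set Wd := wordE Y (D.commWord F r.val y (-t) (-1)) with hWd
    have πW : π Wd = PresentedGroup.mk (D.steinbergRelsAB F) (D.stWord (D.commWord F r.val y (-t) (-1))) :=
      L0.π_wordE _
    have e : π p = π ⁅B, A⁆ := by
      have h' := cgx_comm_single (Φ := Φ) a1 a2 heq (-(v / c)) (1 : F)
      rw [neg_neg, mul_one, mul_div_cancel₀ _ hcF] at h'
      rw [hp, map_commutatorElement, hA, hB, πY, πY, commutatorElement_def, ← h', Φ.cgx_neg ⟨y, hy⟩,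
        Φ.cgx_neg ⟨x, hx⟩, inv_inv, inv_inv]
    rw [← commutatorElement_eq_one_iff_commute, CentralComm.comm_congr hc (rfl : π g = π g) e,
      commutatorElement_eq_one_iff_commute]
    have fb : π (g * B * g⁻¹) = π (B * Wd) := by
      have h' := cgx_relator (Φ := Φ) d1 d2 (-t) (-1 : F)
      rw [map_mul, map_mul, map_mul, map_inv, hg, hB, πY, πW, ← h', Φ.cgx_neg r, inv_inv]
      group
    have fa : π (g * A * g⁻¹) = π A := by
      rw [map_mul, map_mul, map_inv, hg, hA, πY, (cgx_commute b1 b2 erx t _).eq, mul_inv_cancel_right]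
    have hWA : Commute Wd A := by
      refine Commute.list_prod_left _ _ fun z hz => ?_
      obtain ⟨e', he', rfl⟩ := List.mem_map.mp hz
      simp only [ChevalleyDatum.commWord, List.mem_map] at he'
      obtain ⟨d, hd, rfl⟩ := he'
      obtain ⟨hlt, hrel⟩ := hterms d hd
      rw [dif_pos hlt]
      rcases hrel with e1 | ⟨⟨e1, e2⟩, e3⟩
      · exact hself ⟨x, hx⟩ _ _ _ _ (by rw [πY]; congr 1; exact Fin.ext e1) (πY _ _)
      · exact cps (r := ⟨d.1, hlt⟩) (s := ⟨x, hx⟩) e1 e2 e3 _ _ _ _ (πY _ _) (πY _ _)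
    have key := CentralComm.comm_congr hc fb fa
    rw [show ⁅g * B * g⁻¹, g * A * g⁻¹⁆ = g * ⁅B, A⁆ * g⁻¹ by simp only [commutatorElement_def]; group,
      show ⁅B * Wd, A⁆ = B * (Wd * A * Wd⁻¹) * B⁻¹ * A⁻¹ by simp only [commutatorElement_def]; group,
      hWA.eq, mul_inv_cancel_right, ← commutatorElement_def, mul_inv_eq_iff_eq_mul] at key
    exact key
  · -- the defining pairs
    split at h
    swap
    · simp at h
    rename_i k c heq
    simp only [Bool.and_eq_true, Nat.blt_eq, Bool.not_eq_true', Bool.or_eq_true, beq_iff_eq] at h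
    obtain ⟨⟨hk, hku⟩, hpair⟩ := h
    set k' : Fin D.nroots := ⟨k, hk⟩
    obtain ⟨mr, ms, -, -, -, ht, hcF, hd⟩ := hdef k' hku
    have hone : L.defect r s 1 1 = 1 := by
      have hw : wordE L.X (D.commWord F r.val s.val 1 1) = L.X k' (-(c : F)) := by
        simp [wordE, ChevalleyDatum.commWord, heq, hk, k']
      rw [Lift.defect, hw]
      rcases hpair with e | e
      · rw [hd, Option.some.injEq, Prod.mk.injEq, Prod.mk.injEq] at e
        obtain ⟨er, es, ec⟩ := e
        rw [← Fin.ext er, ← Fin.ext es, LXm _ mr, LXm _ ms, LXu _ hku]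
        simp only [hXu, ← ec, neg_div, neg_neg, div_self hcF, mul_inv_cancel]
      · rw [hd, Option.some.injEq, Prod.mk.injEq, Prod.mk.injEq] at e
        obtain ⟨er, es, ec⟩ := e
        have hcc : (c : F) = -(C k' : F) := by rw [ec]; simp
        rw [← Fin.ext er, ← Fin.ext es, hcc, neg_neg, LXm _ mr, LXm _ ms, LXu _ hku]
        have hneg : Xu k' (C k' : F) = (Xu k' (-(C k' : F)))⁻¹ := by
          rw [← LXu k' hku (C k' : F), ← LXu k' hku (-(C k' : F))]
          exact (inv_inv (L.X k' (C k' : F))).symm.trans (congrArg Inv.inv (L.X_neg hadd k' (C k' : F)).symm)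
        rw [hneg, hXu]
        simp only [neg_div, neg_neg, div_self hcF]
        group
    have hzl : ∀ u, L.defect r s 0 u = 1 := fun u => by
      have := hbil.1 0 0 u
      rw [add_zero] at this
      exact mul_left_cancel (this.symm.trans (mul_one _).symm)
    have hzr : ∀ t, L.defect r s t 0 = 1 := fun t => by
      have := hbil.2.1 t 0 0
      rw [add_zero] at this
      exact mul_left_cancel (this.symm.trans (mul_one _).symm)
    have h1u : ∀ m : ℕ, L.defect r s 1 (m : F) = 1 := by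
      intro m
      induction m with
      | zero => rw [Nat.cast_zero]; exact hzr 1
      | succ m ih => rw [Nat.cast_succ, hbil.2.1, ih, hone, one_mul]
    intro t u
    obtain ⟨n, rfl⟩ := hF t
    induction n with
    | zero => rw [Nat.cast_zero]; exact hzl u
    | succ n ih =>
      obtain ⟨m, rfl⟩ := hF u
      rw [Nat.cast_succ, hbil.1, ih, h1u, one_mul]

end Chev

end CfsgLib.Chev
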