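/-
Trivial multipliers of the universal groups.
-/
import Cfsg.Agent.Lib.Chev.CoverB2
import Cfsg.Agent.Lib.Chev.CoverSplitE
import Cfsg.Agent.Lib.Chev.CoverFinite

namespace CfsgLib.Chev

open Cfsg.Lie
open scoped commutatorElement

set_option linter.dupNamespace false

universe u v

theorem split_B2 {F : Type u} [Field F] [Fintype F] (h3 : 3 ≤ Fintype.card F) :
    Split.{u, v} Cfsg.Lie.chevB2 F := by
  by_cases h5 : 4 < Fintype.card F
  · exact split_of_card (by simp) ⟨Finset.univ, h5⟩
  classical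
  obtain ⟨b, hb⟩ := IsCyclic.exists_generator (α := Fˣ)
  have hord : orderOf b = Fintype.card F - 1 := by
    rw [orderOf_eq_card_of_forall_mem_zpowers hb, Nat.card_units, Nat.card_eq_fintype_card]
  have hb1 : b ≠ 1 := fun e => by rw [e, orderOf_one] at hord; omega
  intro E _ π hπ hc
  have hperf : commutator (Cfsg.Lie.chevB2.SteinbergCover F) = ⊤ :=
    cover_perfect_of_mem (by simp) fun _ => exists_ne_one b hb1
  rcases (show Fintype.card F = 3 ∨ Fintype.card F = 4 by omega) with hcard | hcard
  · haveI : Fact (Nat.Prime 3) := ⟨Nat.prime_three⟩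
    haveI : CharP F 3 := charP_of_card_eq_prime hcard
    have h30 : (3 : F) = 0 := by simpa using CharP.cast_eq_zero F 3
    have hF : ∀ t : F, ∃ n : ℕ, (n : F) = t := fun t => by
      obtain ⟨x, hx⟩ := (ZMod.castHom_bijective F (n := 3) hcard).2 t
      exact ⟨x.val, by rw [← hx, ZMod.castHom_apply, ZMod.cast_eq_val]⟩
    exact Chev.section_three_B hπ hc (chevB2.adj_of_check adjB2) hperf h30 hF classB2
  · have h20 : (2 : F) = 0 := by
      have h4 : ((4 : ℕ) : F) = 0 := hcard ▸ Nat.cast_card_eq_zero F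
      have : (2 : F) * 2 = 0 := by rw [← h4]; norm_num
      exact mul_self_eq_zero.mp this
    rw [hcard] at hord
    exact Chev.section_four_B hπ hc (chevB2.adj_of_check adjB2) hperf h20 b hord torus3B2 scale3B2 witnessB2

/-- The universal group has trivial multiplier when central extensions of the cover split. -/
theorem hasCyclicMultiplier_universal {D : ChevalleyDatum} {F : Type u} [Field F] [Finite F] (Φ : Chev D)
    (hadj : Φ.Adj) (hsplit : Split.{u, u} D F) (hperf : commutator (D.SteinbergCover F) = ⊤) :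
    Cfsg.HasCyclicSchurMultiplier (D.SteinbergGroup F) 1 := by
  haveI := Φ.finite_steinbergGroup (F := F) hadj
  obtain ⟨e, -⟩ := Φ.cover_equiv (F := F) hadj
  refine ⟨⟨D.SteinbergGroup F, inferInstance, inferInstance, MonoidHom.id _, ⟨fun g => ⟨g, rfl⟩, ?_, ?_⟩, ?_⟩,
    fun Γ _ _ σ hσ => ?_⟩
  · rw [MonoidHom.ker_id]; exact bot_le
  · rw [MonoidHom.ker_id]; exact bot_le
  · haveI : Subsingleton (MonoidHom.id (D.SteinbergGroup F)).ker := by rw [MonoidHom.ker_id]; infer_instance
    haveI : Subsingleton (Multiplicative (ZMod 1)) := inferInstance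
    letI : Unique (MonoidHom.id (D.SteinbergGroup F)).ker := uniqueOfSubsingleton 1
    exact ⟨MulEquiv.ofUnique⟩
  obtain ⟨hsurj, hc, hcomm⟩ := hσ
  obtain ⟨s, hs⟩ := hsplit Γ (e.symm.toMonoidHom.comp σ) (e.symm.surjective.comp hsurj) (by
    intro g hg
    exact hc (by simpa using hg))
  have hs' : ∀ d, σ (s d) = e d := fun d => e.symm.injective (by
    rw [MulEquiv.symm_apply_apply]
    exact DFunLike.congr_fun hs d)
  have hsurjker : commutator Γ ≤ s.range := by
    rw [commutator_def, Subgroup.commutator_le]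
    intro a _ b _
    obtain ⟨a', ha⟩ := e.surjective (σ a)
    obtain ⟨b', hb⟩ := e.surjective (σ b)
    refine ⟨⁅a', b'⁆, ?_⟩
    rw [map_commutatorElement]
    exact CfsgLib.CentralComm.comm_congr hc ((hs' a').trans ha) ((hs' b').trans hb)
  refine ⟨1, fun y => ⟨1, Subtype.ext ?_⟩⟩
  obtain ⟨d, hd⟩ := hsurjker (hcomm y.2)
  have : e d = 1 := by rw [← hs', hd]; exact y.2
  rw [(map_eq_one_iff e e.injective).mp this, map_one] at hd
  simpa using hd

end CfsgLib.Chev
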