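import Cfsg.Agent.Lib.Chev.FoldData
import Cfsg.Agent.Lib.Chev.FoldAut
import Cfsg.Agent.Lib.Chev.Twist.TypeD4

/-!
# The centralizer of triality
-/

set_option autoImplicit false
set_option linter.dupNamespace false
set_option linter.unusedSectionVars false
set_option maxRecDepth 100000

namespace CfsgLib.Chev.TriG2

open Cfsg.Lie Matrix Chev
open CfsgLib.Chev.T3D4 (S ix ox orb0 orb1 tau3 tau_symm ker_sq)

variable {K : Type*} [Field K] [Fintype K]

/-- Triality as an endomorphism. -/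
noncomputable def tw (K : Type*) [Field K] : Tw S K :=
  symOKD4.tw (CfsgLib.Chev.chevD4.adj_of_check adjD4) (morOK_zero K) checkMorD4a (RingHom.id K) 1
    (fun x => (pow_one x).symm)

theorem k_p (i : Fin Cfsg.Lie.chevD4.rank) : (tw K).k (CfsgLib.Chev.chevD4.p i) = 1 := by
  show morD4a.l (CfsgLib.Chev.chevD4.p i).val * 1 = 1
  have : ∀ i : Fin Cfsg.Lie.chevD4.rank, morD4a.l (Cfsg.Lie.chevD4.simple i.val) = 1 := by decide +kernel
  rw [p_val, this, one_mul]

theorem k_all (x : Fin Cfsg.Lie.chevD4.nroots) : (tw K).k x = 1 := by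
  show morD4a.l x.val * 1 = 1
  have : ∀ x : Fin Cfsg.Lie.chevD4.nroots, morD4a.l x.val = 1 := by decide +kernel
  rw [this, one_mul]

theorem fixG2 : foldG2.fixOK Cfsg.Lie.chevD4 morD4a.ρ morD4a.e Cfsg.Lie.chevG2.nroots 0 60 = true := by
  decide +kernel

/-- The folding map. -/
noncomputable def β (K : Type*) [Field K] : Cfsg.Lie.chevG2.SteinbergCover K →* GL Cfsg.Lie.chevD4.Idx K :=
  foldHom CfsgLib.Chev.chevG2 CfsgLib.Chev.chevD4 foldG2 (morOK_zero K) addG2 commG2fold

theorem mem_range {w : List Ltr} {r : ℕ} (hr : r < Cfsg.Lie.chevG2.nroots)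
    (h : Collect.normalize Cfsg.Lie.chevD4 0 60 w =
      Collect.normalize Cfsg.Lie.chevD4 0 60 (foldG2.lw 0 r 1 1 0)) (c : K) :
    CfsgLib.Chev.chevD4.evw c c w ∈ (β K).range := by
  refine ⟨CfsgLib.Chev.chevG2.cgx ⟨r, hr⟩ c, ?_⟩
  rw [β, foldHom_gx, CfsgLib.Chev.chevD4.evw_eq_of_normalize (morOK_zero K) h c c,
    CfsgLib.Chev.chevD4.evw_lw _ (morOK_zero K)]
  simp

theorem one_gen (c : K) :
    CfsgLib.Chev.chevD4.toAlg.xg (CfsgLib.Chev.chevD4.p (ix 1)) c ∈ (β K).range ∧
      CfsgLib.Chev.chevD4.toAlg.xg (CfsgLib.Chev.chevD4.p (ix 1)).rev c ∈ (β K).range := by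
  rw [← T3D4.prev_eq (n := 9) (by decide) (ix 1) (by decide +kernel),
    ← T3D4.p_eq (n := 14) (by decide) (ix 1) (by decide +kernel)]
  constructor
  · have := mem_range (w := [(14, 1, 1, 0)]) (r := 6) (by decide) (by decide +kernel) c
    rw [evw_cons, evw_nil, mul_one, ev, dif_pos (by decide)] at this
    simpa using this
  · have := mem_range (w := [(9, 1, 1, 0)]) (r := 5) (by decide) (by decide +kernel) c
    rw [evw_cons, evw_nil, mul_one, ev, dif_pos (by decide)] at this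
    simpa using this

theorem three_gen (c : K) :
    Tw.X3 CfsgLib.Chev.chevD4 (CfsgLib.Chev.chevD4.p (ix 0)) (CfsgLib.Chev.chevD4.p (ix 2))
        (CfsgLib.Chev.chevD4.p (ix 3)) c c c ∈ (β K).range ∧
      Tw.X3 CfsgLib.Chev.chevD4 (CfsgLib.Chev.chevD4.p (ix 0)).rev (CfsgLib.Chev.chevD4.p (ix 2)).rev
        (CfsgLib.Chev.chevD4.p (ix 3)).rev c c c ∈ (β K).range := by
  rw [← T3D4.prev_eq (n := 5) (by decide) (ix 0) (by decide +kernel),
    ← T3D4.prev_eq (n := 10) (by decide) (ix 2) (by decide +kernel),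
    ← T3D4.prev_eq (n := 11) (by decide) (ix 3) (by decide +kernel),
    ← T3D4.p_eq (n := 18) (by decide) (ix 0) (by decide +kernel),
    ← T3D4.p_eq (n := 13) (by decide) (ix 2) (by decide +kernel),
    ← T3D4.p_eq (n := 12) (by decide) (ix 3) (by decide +kernel)]
  constructor
  · have := mem_range (w := [(18, 1, 1, 0), (13, 1, 1, 0), (12, 1, 1, 0)]) (r := 7) (by decide) (by decide +kernel) c
    rw [evw_cons, evw_cons, evw_cons, evw_nil, mul_one, ev, ev, ev, dif_pos (by decide), dif_pos (by decide),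
      dif_pos (by decide), ← mul_assoc] at this
    simpa [Tw.X3] using this
  · have := mem_range (w := [(5, 1, 1, 0), (10, 1, 1, 0), (11, 1, 1, 0)]) (r := 4) (by decide) (by decide +kernel) c
    rw [evw_cons, evw_cons, evw_cons, evw_nil, mul_one, ev, ev, ev, dif_pos (by decide), dif_pos (by decide),
      dif_pos (by decide), ← mul_assoc] at this
    simpa [Tw.X3] using this

theorem dmap_apply (d : Fin Cfsg.Lie.chevD4.rank → Kˣ) (j : Fin Cfsg.Lie.chevD4.rank) :
    (tw K).dmap d j = d (S.τ (S.τ j)) := by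
  simp only [Tw.dmap, k_p, tau_symm, pow_one]

theorem dmap3 (d : Fin Cfsg.Lie.chevD4.rank → Kˣ) : (tw K).dmap ((tw K).dmap ((tw K).dmap d)) = d :=
  funext fun j => by rw [dmap_apply, dmap_apply, dmap_apply, tau3, tau3]

theorem three_gen' (x y z : K) (hx : x ^ (tw K).k (CfsgLib.Chev.chevD4.p (ix 0)) = y)
    (hy : y ^ (tw K).k (CfsgLib.Chev.chevD4.p (ix 2)) = z) :
    Tw.X3 CfsgLib.Chev.chevD4 (CfsgLib.Chev.chevD4.p (ix 0)) (CfsgLib.Chev.chevD4.p (ix 2))
        (CfsgLib.Chev.chevD4.p (ix 3)) x y z ∈ (β K).range ∧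
      Tw.X3 CfsgLib.Chev.chevD4 (CfsgLib.Chev.chevD4.p (ix 0)).rev (CfsgLib.Chev.chevD4.p (ix 2)).rev
        (CfsgLib.Chev.chevD4.p (ix 3)).rev x y z ∈ (β K).range := by
  rw [k_p, pow_one] at hx hy
  subst hx hy
  exact three_gen x

theorem fold_gen : (tw K).Gen (β K).range where
  le_fix := by
    rintro _ ⟨g, rfl⟩
    refine CfsgLib.Chev.chevG2.cgen_induction (Q := fun g => β K g ∈ (tw K).fix) (by simp) (fun r t y hy => ?_) g
    rw [map_mul]
    refine mul_mem ?_ hy
    rw [β, foldHom_gx]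
    exact fX_mem_fix CfsgLib.Chev.chevD4 foldG2 (morOK_zero K) (tw K) (fun x => rfl) (fun x => rfl) k_all
      shapeG2 fixG2 r r.isLt t
  root_le a := by
    match a with
    | ⟨0, _⟩ => exact (orb0.facts (T := tw K) fun c _ => one_gen c).1
    | ⟨1, _⟩ => exact (orb1.facts (T := tw K) fun x y z hx hy _ => three_gen' x y z hx hy).1
  exists_n a := by
    match a with
    | ⟨0, _⟩ => exact (orb0.facts (T := tw K) fun c _ => one_gen c).2.1
    | ⟨1, _⟩ => exact (orb1.facts (T := tw K) fun x y z hx hy _ => three_gen' x y z hx hy).2.1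
  torus_le a := by
    match a with
    | ⟨0, _⟩ => exact (orb0.facts (T := tw K) fun c _ => one_gen c).2.2
    | ⟨1, _⟩ => exact (orb1.facts (T := tw K) fun x y z hx hy _ => three_gen' x y z hx hy).2.2
  lift d hd := by
    have hmul : ∀ x y : Fin Cfsg.Lie.chevD4.rank → Kˣ,
        (tw K).dmap (x * y) = (tw K).dmap x * (tw K).dmap y :=
      fun x y => funext fun j => by simp [dmap_apply]
    have hdiv : ∀ x y : Fin Cfsg.Lie.chevD4.rank → Kˣ,
        (tw K).dmap (x / y) = (tw K).dmap x / (tw K).dmap y :=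
      fun x y => funext fun j => by simp [dmap_apply]
    set A := (tw K).dmap d with hA
    set B := (tw K).dmap A with hB
    have hw : Tw.tor (Φ := CfsgLib.Chev.chevD4) (B / A) = 1 := by
      rw [map_div, hB, ← Tw.app_tor, hA, hd, Tw.app_tor, ← hA, hd, div_self']
    refine ⟨d * (B / A), ?_, by rw [map_mul, hw, mul_one]⟩
    rw [hmul, hdiv, ← hB, hB, dmap3, ← hB]
    funext j
    have h2 := ker_sq hw j
    rw [Pi.div_apply, div_pow, div_eq_one] at h2
    simp only [Pi.mul_apply, Pi.div_apply, ← hA]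
    rw [mul_div, mul_div, div_eq_div_iff_mul_eq_mul]
    calc A j * d j * A j = d j * A j ^ 2 := by rw [sq]; ac_rfl
      _ = d j * B j ^ 2 := by rw [h2]
      _ = d j * B j * B j := by rw [sq, mul_assoc]

theorem wit : (tw K).Wit := fun a => by
  match a with
  | ⟨0, _⟩ => exact orb0.wit
  | ⟨1, _⟩ => exact orb1.wit

end CfsgLib.Chev.TriG2
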