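/-
The centralizer of a short root involution in G2(q), q even.
-/
import Cfsg.Agent.Lib.Chev.RootCentralizer
import Cfsg.Agent.Lib.Chev.Inst

namespace CfsgLib.Chev

open Cfsg.Lie Matrix

set_option linter.dupNamespace false
set_option linter.unusedSectionVars false
set_option maxRecDepth 100000

variable {D : ChevalleyDatum}

namespace Chev

section General

variable (Φ : Chev D) {F : Type*} [Field F]

theorem prodL_eq_of_commute {L : List (Fin D.nroots)} (hL : L.Nodup) (f : Fin D.nroots → F)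
    (hpos : ∀ r ∈ L, Φ.toTables.Pos r)
    (hcomm : ∀ r ∈ L, ∀ s ∈ L, Commute (Φ.toAlg.xg r (f r)) (Φ.toAlg.xg s (f s))) :
    Φ.prodL L f = Φ.prodL (rootList Φ.toTables.Pos) (fun r => if r ∈ L then f r else 0) := by
  have hdrop : ∀ M : List (Fin D.nroots), Φ.prodL M (fun r => if r ∈ L then f r else 0) =
      Φ.prodL (M.filter (· ∈ L)) f := by
    intro M
    induction M with
    | nil => rfl
    | cons a M ih =>
      simp only [prodL, List.map_cons, List.prod_cons] at ih ⊢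
      by_cases ha : a ∈ L
      · simp [ha, ih]
      · simp [ha, ih]
  rw [hdrop]
  have hp : L.Perm ((rootList Φ.toTables.Pos).filter (· ∈ L)) := by
    refine (List.perm_ext_iff_of_nodup hL ?_).2 fun r => ?_
    · exact ((List.nodup_finRange _).filter _).filter _
    · simp only [List.mem_filter, decide_eq_true_eq, mem_rootList]
      exact ⟨fun h => ⟨hpos r h, h⟩, fun h => h.2⟩
  refine List.Perm.prod_eq' (hp.map _) ?_
  refine List.pairwise_map.2 (List.Pairwise.imp_of_mem (R := fun _ _ => True) ?_ ?_)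
  · intro a b ha hb _
    exact hcomm a ha b hb
  · exact List.pairwise_of_forall fun _ _ => trivial

theorem prodL_filter [DecidableEq F] (L : List (Fin D.nroots)) (f : Fin D.nroots → F) :
    Φ.prodL L f = Φ.prodL (L.filter fun r => f r ≠ 0) f := by
  induction L with
  | nil => rfl
  | cons a L ih =>
    simp only [prodL, List.map_cons, List.prod_cons] at ih ⊢
    by_cases ha : f a = 0
    · simp [ha, ih]
    · simp [ha, ih]

theorem prodL_eq_of_commute' {L : List (Fin D.nroots)} (hL : L.Nodup) (f : Fin D.nroots → F)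
    (hpos : ∀ r ∈ L, f r ≠ 0 → Φ.toTables.Pos r)
    (hcomm : ∀ r ∈ L, ∀ s ∈ L, Commute (Φ.toAlg.xg r (f r)) (Φ.toAlg.xg s (f s))) :
    Φ.prodL L f = Φ.prodL (rootList Φ.toTables.Pos) (fun r => if r ∈ L then f r else 0) := by
  classical
  rw [Φ.prodL_filter L f, Φ.prodL_eq_of_commute (hL.filter _) f
    (fun r hr => hpos r (List.mem_filter.1 hr).1 (by simpa using (List.mem_filter.1 hr).2))
    (fun r hr s hs => hcomm r (List.mem_filter.1 hr).1 s (List.mem_filter.1 hs).1)]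
  congr 1
  funext r
  by_cases h1 : r ∈ L <;> by_cases h2 : f r = 0 <;> simp [h1, h2]

theorem xg_mem_U_imp {r : Fin D.nroots} {a : F} (h : Φ.toAlg.xg r a ∈ D.posUnipotent F) (ha : a ≠ 0) :
    Φ.toTables.Pos r := by
  by_contra hn
  have : Φ.toAlg.xg r a ∈ D.borelSubgroup F ⊓ D.negUnipotent F :=
    Subgroup.mem_inf.2 ⟨U_le_B h, Φ.xg_mem_V hn a⟩
  rw [Φ.B_inf_V, Subgroup.mem_bot, Φ.toAlg.xg_eq_one_iff] at this
  exact ha this

include Φ in
theorem eq_one_of_U_of_V {g : GL D.Idx F} (hU : g ∈ D.posUnipotent F) (hV : g ∈ D.negUnipotent F) : g = 1 := by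
  have : g ∈ D.borelSubgroup F ⊓ D.negUnipotent F := Subgroup.mem_inf.2 ⟨U_le_B hU, hV⟩
  rwa [Φ.B_inf_V, Subgroup.mem_bot] at this

/-- The roots of a product of three commuting root elements lying in `U`. -/
theorem triple_in_U {r s u : Fin D.nroots} {a b c : F} (ha : a ≠ 0) (hrs : r ≠ s) (hru : r ≠ u) (hsu : s ≠ u)
    (c1 : Commute (Φ.toAlg.xg r a) (Φ.toAlg.xg s b)) (c2 : Commute (Φ.toAlg.xg r a) (Φ.toAlg.xg u c))
    (c3 : Commute (Φ.toAlg.xg s b) (Φ.toAlg.xg u c))
    (hall : ¬ (¬ Φ.toTables.Pos r ∧ ¬ Φ.toTables.Pos s ∧ ¬ Φ.toTables.Pos u))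
    (h : Φ.toAlg.xg r a * Φ.toAlg.xg s b * Φ.toAlg.xg u c ∈ D.posUnipotent F) :
    Φ.toTables.Pos r ∧ ∃ b' c' : F, (b' ≠ 0 → Φ.toTables.Pos s) ∧ (c' ≠ 0 → Φ.toTables.Pos u) ∧
      Φ.toAlg.xg r a * Φ.toAlg.xg s b * Φ.toAlg.xg u c =
        Φ.toAlg.xg r a * Φ.toAlg.xg s b' * Φ.toAlg.xg u c' := by
  by_cases hs : Φ.toTables.Pos s <;> by_cases hu : Φ.toTables.Pos u
  · refine ⟨?_, b, c, fun _ => hs, fun _ => hu, rfl⟩
    refine Φ.xg_mem_U_imp ?_ ha
    have := mul_mem h (inv_mem (mul_mem (Φ.xg_mem_U hs b) (Φ.xg_mem_U hu c)))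
    rwa [mul_assoc (Φ.toAlg.xg r a), mul_inv_cancel_right] at this
  · have hrc : Φ.toAlg.xg r a * Φ.toAlg.xg u c ∈ D.posUnipotent F := by
      have h' := mul_mem h (inv_mem (Φ.xg_mem_U hs b))
      rwa [mul_assoc _ (Φ.toAlg.xg s b), c3.eq, ← mul_assoc, mul_inv_cancel_right] at h'
    by_cases hr : Φ.toTables.Pos r
    · have hc : c = 0 := by
        by_contra hc
        apply hu
        refine Φ.xg_mem_U_imp ?_ hc
        have := mul_mem (inv_mem (Φ.xg_mem_U hr a)) hrc
        rwa [inv_mul_cancel_left] at this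
      exact ⟨hr, b, 0, fun _ => hs, fun e => absurd rfl e, by rw [hc]⟩
    · exfalso
      have := Φ.eq_one_of_U_of_V hrc (mul_mem (Φ.xg_mem_V hr a) (Φ.xg_mem_V hu c))
      rw [mul_eq_one_iff_eq_inv, Φ.toAlg.xg_inv] at this
      exact hru (Φ.root_eq_of_xg_eq ha this)
  · have hrb : Φ.toAlg.xg r a * Φ.toAlg.xg s b ∈ D.posUnipotent F := by
      have h' := mul_mem h (inv_mem (Φ.xg_mem_U hu c))
      rwa [mul_inv_cancel_right] at h'
    by_cases hr : Φ.toTables.Pos r
    · have hb : b = 0 := by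
        by_contra hb
        apply hs
        refine Φ.xg_mem_U_imp ?_ hb
        have := mul_mem (inv_mem (Φ.xg_mem_U hr a)) hrb
        rwa [inv_mul_cancel_left] at this
      exact ⟨hr, 0, c, fun e => absurd rfl e, fun _ => hu, by rw [hb]⟩
    · exfalso
      have := Φ.eq_one_of_U_of_V hrb (mul_mem (Φ.xg_mem_V hr a) (Φ.xg_mem_V hs b))
      rw [mul_eq_one_iff_eq_inv, Φ.toAlg.xg_inv] at this
      exact hrs (Φ.root_eq_of_xg_eq ha this)
  · by_cases hr : Φ.toTables.Pos r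
    · have hsu' : Φ.toAlg.xg s b * Φ.toAlg.xg u c = 1 := by
        refine Φ.eq_one_of_U_of_V ?_ (mul_mem (Φ.xg_mem_V hs b) (Φ.xg_mem_V hu c))
        have := mul_mem (inv_mem (Φ.xg_mem_U hr a)) h
        rwa [mul_assoc (Φ.toAlg.xg r a), inv_mul_cancel_left] at this
      refine ⟨hr, 0, 0, fun e => absurd rfl e, fun e => absurd rfl e, ?_⟩
      rw [mul_assoc, hsu']
      simp
    · exact absurd ⟨hr, hs, hu⟩ hall

end General

section ShortG2

variable (Φ : Chev Cfsg.Lie.chevG2) {F : Type*} [Field F] [CharP F 2]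

/-- Root indices of G2. -/
def rtG2 (k : ℕ) (hk : k < Cfsg.Lie.chevG2.nroots := by decide) : Fin Cfsg.Lie.chevG2.nroots := ⟨k, hk⟩

local notation "r5" => rtG2 5 (by decide)
local notation "r6" => rtG2 6 (by decide)
local notation "r7" => rtG2 7 (by decide)
local notation "r8" => rtG2 8 (by decide)
local notation "r9" => rtG2 9 (by decide)
local notation "r10" => rtG2 10 (by decide)
local notation "r11" => rtG2 11 (by decide)

/-- `t · X₁₀ X₁₁`. -/
def Q9 (a : F) : Set (GL Cfsg.Lie.chevG2.Idx F) :=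
  {g | ∃ β γ, g = Φ.toAlg.xg r9 a * Φ.toAlg.xg r10 β * Φ.toAlg.xg r11 γ}

/-- The pair of roots 10, 11. -/
def Top (r : Fin Cfsg.Lie.chevG2.nroots) : Prop := r = r10 ∨ r = r11

theorem two_nodes : ∀ k : Fin Cfsg.Lie.chevG2.rank, k = ⟨0, by decide⟩ ∨ k = ⟨1, by decide⟩ := by decide

theorem top_comm {a b : F} : Commute (Φ.toAlg.xg r10 a) (Φ.toAlg.xg r11 b) :=
  Φ.commute_of_even (by decide) (by decide) (by decide +kernel) a b

theorem nine_comm10 {a b : F} : Commute (Φ.toAlg.xg r9 a) (Φ.toAlg.xg r10 b) :=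
  Φ.commute_of_even (by decide) (by decide) (by decide +kernel) a b

theorem nine_comm11 {a b : F} : Commute (Φ.toAlg.xg r9 a) (Φ.toAlg.xg r11 b) :=
  Φ.commute_of_even (by decide) (by decide) (by decide +kernel) a b

theorem mem_top {x : GL Cfsg.Lie.chevG2.Idx F} (hx : x ∈ Φ.US F Top) :
    ∃ β γ, x = Φ.toAlg.xg r10 β * Φ.toAlg.xg r11 γ := by
  induction hx using Subgroup.closure_induction with
  | mem y hy =>
    obtain ⟨r, t, hr, rfl⟩ := hy
    rcases hr with rfl | rfl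
    · exact ⟨t, 0, by simp⟩
    · exact ⟨0, t, by simp⟩
  | one => exact ⟨0, 0, by simp⟩
  | mul y z _ _ hy hz =>
    obtain ⟨b1, c1, rfl⟩ := hy
    obtain ⟨b2, c2, rfl⟩ := hz
    refine ⟨b1 + b2, c1 + c2, ?_⟩
    rw [Φ.toAlg.xg_add, Φ.toAlg.xg_add]
    exact (Φ.top_comm (a := b2) (b := c1)).symm.mul_mul_mul_comm _ _
  | inv y _ hy =>
    obtain ⟨b1, c1, rfl⟩ := hy
    refine ⟨-b1, -c1, ?_⟩
    rw [_root_.mul_inv_rev, ← Φ.toAlg.xg_neg, ← Φ.toAlg.xg_neg]
    exact (Φ.top_comm).symm.eq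

theorem comm_target {s : Fin Cfsg.Lie.chevG2.nroots} (hs : 6 ≤ s.val) {r : Fin Cfsg.Lie.chevG2.nroots}
    (hr : 9 ≤ r.val) : ∀ c ∈ Cfsg.Lie.chevG2.commTerms r.val s.val,
      ∃ h : c.1 < Cfsg.Lie.chevG2.nroots, Top ⟨c.1, h⟩ := by
  have key : ∀ a : Fin Cfsg.Lie.chevG2.nroots, ∀ b : Fin Cfsg.Lie.chevG2.nroots, 9 ≤ a.val → 6 ≤ b.val →
      (Cfsg.Lie.chevG2.commTerms a.val b.val).all (fun c => c.1 == 10 || c.1 == 11) = true := by
    decide +kernel
  intro c hc
  have := List.all_eq_true.1 (key r s hr hs) c hc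
  simp only [Bool.or_eq_true, beq_iff_eq] at this
  rcases this with e | e
  · exact ⟨by rw [e]; decide, Or.inl (Fin.ext e)⟩
  · exact ⟨by rw [e]; decide, Or.inr (Fin.ext e)⟩

/-- `U` normalises `X₁₀ X₁₁` and fixes `x₉(a)` modulo it. -/
theorem U_conj {x : GL Cfsg.Lie.chevG2.Idx F} (hx : x ∈ Cfsg.Lie.chevG2.posUnipotent F) :
    (∀ q ∈ Φ.US F Top, x * q * x⁻¹ ∈ Φ.US F Top) ∧
      ∀ a, (Φ.toAlg.xg r9 a)⁻¹ * (x * Φ.toAlg.xg r9 a * x⁻¹) ∈ Φ.US F Top := by
  rw [Φ.posUnipotent_eq_US] at hx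
  suffices gen : ∀ (s : Fin Cfsg.Lie.chevG2.nroots) (u : F), Φ.toTables.Pos s →
      (∀ q ∈ Φ.US F Top, Φ.toAlg.xg s u * q * (Φ.toAlg.xg s u)⁻¹ ∈ Φ.US F Top) ∧
        ∀ a, (Φ.toAlg.xg r9 a)⁻¹ * (Φ.toAlg.xg s u * Φ.toAlg.xg r9 a * (Φ.toAlg.xg s u)⁻¹) ∈ Φ.US F Top by
    induction hx using Subgroup.closure_induction'' with
    | mem y hy =>
      obtain ⟨s, u, hs, rfl⟩ := hy
      exact gen s u hs
    | inv_mem y hy =>
      obtain ⟨s, u, hs, rfl⟩ := hy
      rw [Φ.toAlg.xg_inv]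
      exact gen s (-u) hs
    | one => exact ⟨fun q hq => by simpa using hq, fun a => by simp⟩
    | mul y z _ _ hy hz =>
      refine ⟨fun q hq => ?_, fun a => ?_⟩
      · rw [show y * z * q * (y * z)⁻¹ = y * (z * q * z⁻¹) * y⁻¹ by group]
        exact hy.1 _ (hz.1 q hq)
      · rw [show (Φ.toAlg.xg r9 a)⁻¹ * (y * z * Φ.toAlg.xg r9 a * (y * z)⁻¹) =
          ((Φ.toAlg.xg r9 a)⁻¹ * (y * Φ.toAlg.xg r9 a * y⁻¹)) *
            (y * ((Φ.toAlg.xg r9 a)⁻¹ * (z * Φ.toAlg.xg r9 a * z⁻¹)) * y⁻¹) by group]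
        exact mul_mem (hy.2 a) (hy.1 _ (hz.2 a))
  intro s u hs
  have hs6 : 6 ≤ s.val := by
    have : Cfsg.Lie.chevG2.nroots ≤ 2 * s.val := hs
    have e : Cfsg.Lie.chevG2.nroots = 12 := by decide
    omega
  have hW : ∀ r : Fin Cfsg.Lie.chevG2.nroots, 9 ≤ r.val → s ≠ r → ∀ t : F,
      ∃ W ∈ Φ.US F Top, Φ.toAlg.xg s u * Φ.toAlg.xg r t * (Φ.toAlg.xg s u)⁻¹ =
        Φ.toAlg.xg r t * (Φ.toAlg.xg s u * W * (Φ.toAlg.xg s u)⁻¹) := by
    intro r hr hsr t
    have hneg : s ≠ r.rev := fun e => by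
      have e12 : Cfsg.Lie.chevG2.nroots = 12 := by decide
      have := congrArg Fin.val e
      simp only [Fin.val_rev] at this
      omega
    obtain ⟨W, hW, hv⟩ := Φ.commWord_mem (comm_target hs6 hr) t u
    refine ⟨W, hW, ?_⟩
    have h : Φ.toAlg.xg s u * Φ.toAlg.xg r t = Φ.toAlg.xg r t * Φ.toAlg.xg s u * W :=
      Units.ext (by simp only [Units.val_mul, Alg.xg_val, hv]; exact Φ.commutator_formula hsr hneg t u)
    rw [h]; group
  have hQ : ∀ q ∈ Φ.US F Top, Φ.toAlg.xg s u * q * (Φ.toAlg.xg s u)⁻¹ ∈ Φ.US F Top := by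
    have h11 : ∀ t, Φ.toAlg.xg s u * Φ.toAlg.xg r11 t * (Φ.toAlg.xg s u)⁻¹ = Φ.toAlg.xg r11 t := by
      intro t
      by_cases e : s = r11
      · subst e; rw [← Φ.toAlg.xg_add, add_comm u t, Φ.toAlg.xg_add, mul_inv_cancel_right]
      have hneg : s ≠ (r11).rev := fun e' => by
        have := congrArg Fin.val e'
        simp [rtG2] at this
        have e12 : Cfsg.Lie.chevG2.nroots = 12 := by decide
        omega
      have key : ∀ b : Fin Cfsg.Lie.chevG2.nroots, 6 ≤ b.val →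
          Cfsg.Lie.chevG2.commTerms 11 b.val = [] := by decide +kernel
      have := Φ.commute_of_even e hneg (by rw [show (r11).val = 11 from rfl, key s hs6]; simp) t u
      rw [this.symm.eq, mul_inv_cancel_right]
    intro q hq
    induction hq using Subgroup.closure_induction with
    | mem z hz =>
      obtain ⟨r, t, hr, rfl⟩ := hz
      rcases hr with rfl | rfl
      · by_cases e : s = r10
        · subst e
          rw [← Φ.toAlg.xg_add, add_comm u t, Φ.toAlg.xg_add, mul_inv_cancel_right]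
          exact Φ.xg_mem_US (Or.inl rfl) t
        · have key : ∀ b : Fin Cfsg.Lie.chevG2.nroots, 6 ≤ b.val →
              (Cfsg.Lie.chevG2.commTerms 10 b.val).all (fun c => c.1 == 11) = true := by
            decide +kernel
          have hneg : s ≠ (r10).rev := fun e' => by
            have := congrArg Fin.val e'
            simp [rtG2] at this
            have e12 : Cfsg.Lie.chevG2.nroots = 12 := by decide
            omega
          obtain ⟨W, hW', hv⟩ := Φ.commWord_mem (S := fun r => r = r11) (r := r10) (s := s)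
            (fun c hc => by
              have := List.all_eq_true.1 (key s hs6) c hc
              simp only [beq_iff_eq] at this
              exact ⟨by rw [this]; decide, Fin.ext this⟩) t u
          have h : Φ.toAlg.xg s u * Φ.toAlg.xg r10 t = Φ.toAlg.xg r10 t * Φ.toAlg.xg s u * W :=
            Units.ext (by simp only [Units.val_mul, Alg.xg_val, hv]; exact Φ.commutator_formula e hneg t u)
          have hWc : Φ.toAlg.xg s u * W * (Φ.toAlg.xg s u)⁻¹ = W := by
            clear h hv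
            induction hW' using Subgroup.closure_induction with
            | mem w hw =>
              obtain ⟨r, t, hr, rfl⟩ := hw
              rw [hr]; exact h11 t
            | one => group
            | mul a b _ _ ha hb =>
              conv_rhs => rw [← ha, ← hb]
              group
            | inv a _ ha =>
              conv_rhs => rw [← ha]
              group
          rw [h, show Φ.toAlg.xg r10 t * Φ.toAlg.xg s u * W * (Φ.toAlg.xg s u)⁻¹ =
            Φ.toAlg.xg r10 t * (Φ.toAlg.xg s u * W * (Φ.toAlg.xg s u)⁻¹) by group, hWc]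
          exact mul_mem (Φ.xg_mem_US (Or.inl rfl) t) (Φ.US_mono (fun r hr => Or.inr hr) hW')
      · rw [h11]; exact Φ.xg_mem_US (Or.inr rfl) t
    | one => simp
    | mul a b _ _ ha hb =>
      rw [show ∀ x : GL Cfsg.Lie.chevG2.Idx F, x * (a * b) * x⁻¹ = (x * a * x⁻¹) * (x * b * x⁻¹) from
        fun x => by group]
      exact mul_mem ha hb
    | inv a _ ha =>
      rw [show ∀ x : GL Cfsg.Lie.chevG2.Idx F, x * a⁻¹ * x⁻¹ = (x * a * x⁻¹)⁻¹ from fun x => by group]
      exact inv_mem ha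
  refine ⟨hQ, fun a => ?_⟩
  by_cases e : s = r9
  · subst e
    rw [← Φ.toAlg.xg_add, add_comm u a, Φ.toAlg.xg_add, mul_inv_cancel_right, inv_mul_cancel]
    exact one_mem _
  · obtain ⟨W, hW', h⟩ := hW r9 le_rfl e a
    rw [h, inv_mul_cancel_left]
    exact hQ W hW'

theorem inj3 {a b c a' b' c' : F}
    (h : Φ.toAlg.xg r9 a * Φ.toAlg.xg r10 b * Φ.toAlg.xg r11 c =
      Φ.toAlg.xg r9 a' * Φ.toAlg.xg r10 b' * Φ.toAlg.xg r11 c') : a = a' ∧ b = b' ∧ c = c' := by
  have key := Φ.prodL_injective (F := F) (L := [r9, r10, r11]) (by decide) (by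
    intro r hr
    simp only [List.mem_cons, List.not_mem_nil, or_false] at hr
    rcases hr with rfl | rfl | rfl <;> (show Cfsg.Lie.chevG2.nroots ≤ _; decide))
    (t := fun r => if r = r9 then a else if r = r10 then b else c)
    (u := fun r => if r = r9 then a' else if r = r10 then b' else c') (by
      simpa [prodL, mul_assoc, rtG2] using h)
  refine ⟨?_, ?_, ?_⟩
  · simpa [rtG2, Fin.ext_iff] using key r9 (by simp)
  · simpa [rtG2, Fin.ext_iff] using key r10 (by simp)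
  · simpa [rtG2, Fin.ext_iff] using key r11 (by simp)

/-- The short roots. -/
def isShort (r : Fin Cfsg.Lie.chevG2.nroots) : Bool := [2, 3, 4, 7, 8, 9].contains r.val

theorem short_map {π : Equiv.Perm (Fin Cfsg.Lie.chevG2.nroots)} (hπ : π ∈ Φ.WL) :
    ∀ r, isShort r = true → isShort (π r) = true := by
  have hgen : ∀ (i : Fin Cfsg.Lie.chevG2.rank) (r : Fin Cfsg.Lie.chevG2.nroots), isShort r = true →
      isShort (Φ.refl i r) = true := by
    intro i r hr
    have key : ∀ (i : Fin Cfsg.Lie.chevG2.rank) (r : Fin Cfsg.Lie.chevG2.nroots), isShort r = true →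
        [2, 3, 4, 7, 8, 9].contains (Cfsg.Lie.chevG2.reflectRoot i.val r.val) = true := by
      decide +kernel
    have := key i r hr
    rwa [Φ.reflectRoot_eq] at this
  induction hπ using Subgroup.closure_induction'' with
  | mem x hx => obtain ⟨i, -, rfl⟩ := hx; exact hgen i
  | inv_mem x hx => obtain ⟨i, -, rfl⟩ := hx; rw [Φ.reflPerm_inv']; exact hgen i
  | one => exact fun r hr => hr
  | mul x y _ _ hx hy => exact fun r hr => hx _ (hy r hr)

theorem p_eq_g2 : Φ.p ⟨0, by decide⟩ = r7 ∧ Φ.p ⟨1, by decide⟩ = r6 := by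
  constructor
  · exact Fin.ext ((Φ.simple_val ⟨0, by decide⟩).symm.trans (by decide +kernel))
  · exact Fin.ext ((Φ.simple_val ⟨1, by decide⟩).symm.trans (by decide +kernel))

theorem nine_dominant : Φ.Dominant r9 ∧ Φ.A ⟨0, by decide⟩ r9 = 1 ∧ Φ.A ⟨1, by decide⟩ r9 = 0 := by
  refine ⟨fun i => ?_, ?_, ?_⟩ <;> rw [← Φ.cartan_val]
  · revert i
    decide +kernel
  · decide +kernel
  · decide +kernel

theorem stab_nine {π : Equiv.Perm (Fin Cfsg.Lie.chevG2.nroots)} (hπ : π ∈ Φ.WL) (h : π r9 = r9) :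
    π = 1 ∨ π = Φ.reflPerm ⟨1, by decide⟩ := by
  obtain ⟨hd, h0, -⟩ := Φ.nine_dominant
  have hw := Φ.mem_WK_of_map_eq hd hπ h
  have hi : ∀ i : Fin Cfsg.Lie.chevG2.rank, Φ.A i r9 = 0 → i = ⟨1, by decide⟩ := by
    intro i
    rw [← Φ.cartan_val]
    revert i
    decide +kernel
  clear hπ h
  induction hw using Subgroup.closure_induction with
  | mem x hx => obtain ⟨i, hA, rfl⟩ := hx; rw [hi i hA]; exact Or.inr rfl
  | one => exact Or.inl rfl
  | mul x y _ _ hx hy =>
    rcases hx with rfl | rfl <;> rcases hy with rfl | rfl <;> simp [Φ.reflPerm_mul_self']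
  | inv x _ hx => rcases hx with rfl | rfl <;> simp [Φ.reflPerm_inv']

set_option maxHeartbeats 2000000 in
/-- The centralizer of a short root involution of G2(q), q even. -/
theorem short_centralizer :
    Cfsg.Lie.chevG2.group F ⊓ Subgroup.centralizer {Φ.toAlg.xg r9 (1 : F)} =
      Cfsg.Lie.chevG2.rootSubgroup F 9 ⊔ Cfsg.Lie.chevG2.rootSubgroup F 10 ⊔
        Cfsg.Lie.chevG2.rootSubgroup F 11 ⊔ Cfsg.Lie.chevG2.rootSubgroup F 6 ⊔
        Cfsg.Lie.chevG2.rootSubgroup F 5 := by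
  set M := Cfsg.Lie.chevG2.rootSubgroup F 9 ⊔ Cfsg.Lie.chevG2.rootSubgroup F 10 ⊔
        Cfsg.Lie.chevG2.rootSubgroup F 11 ⊔ Cfsg.Lie.chevG2.rootSubgroup F 6 ⊔
        Cfsg.Lie.chevG2.rootSubgroup F 5 with hM
  have m9 : ∀ a, Φ.toAlg.xg r9 a ∈ M := fun a => Subgroup.mem_sup_left (Subgroup.mem_sup_left
    (Subgroup.mem_sup_left (Subgroup.mem_sup_left ((Φ.toAlg.mem_rootSubgroup (r := r9)).2 ⟨a, rfl⟩))))
  have m10 : ∀ a, Φ.toAlg.xg r10 a ∈ M := fun a => Subgroup.mem_sup_left (Subgroup.mem_sup_left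
    (Subgroup.mem_sup_left (Subgroup.mem_sup_right ((Φ.toAlg.mem_rootSubgroup (r := r10)).2 ⟨a, rfl⟩))))
  have m11 : ∀ a, Φ.toAlg.xg r11 a ∈ M := fun a => Subgroup.mem_sup_left (Subgroup.mem_sup_left
    (Subgroup.mem_sup_right ((Φ.toAlg.mem_rootSubgroup (r := r11)).2 ⟨a, rfl⟩)))
  have m6 : ∀ a, Φ.toAlg.xg r6 a ∈ M := fun a => Subgroup.mem_sup_left
    (Subgroup.mem_sup_right ((Φ.toAlg.mem_rootSubgroup (r := r6)).2 ⟨a, rfl⟩))
  have m5 : ∀ a, Φ.toAlg.xg r5 a ∈ M := fun a =>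
    Subgroup.mem_sup_right ((Φ.toAlg.mem_rootSubgroup (r := r5)).2 ⟨a, rfl⟩)
  have hroot : ∀ r : Fin Cfsg.Lie.chevG2.nroots,
      (r = r9 ∨ (r ≠ (r9).rev ∧ ∀ c ∈ Cfsg.Lie.chevG2.commTerms 9 r.val, c.2.1 % 2 = 0)) →
      Cfsg.Lie.chevG2.rootSubgroup F r.val ≤
        Cfsg.Lie.chevG2.group F ⊓ Subgroup.centralizer {Φ.toAlg.xg r9 (1 : F)} := by
    intro r hr x hx
    obtain ⟨a, rfl⟩ := Φ.toAlg.mem_rootSubgroup.1 hx
    refine Subgroup.mem_inf.2 ⟨Φ.toAlg.xg_mem_group _ _, Subgroup.mem_centralizer_singleton_iff.2 ?_⟩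
    by_cases e : r = r9
    · subst e; rw [← Φ.toAlg.xg_add, ← Φ.toAlg.xg_add, add_comm]
    · obtain ⟨hne, hev⟩ := hr.resolve_left e
      exact (Φ.commute_of_even e hne hev 1 a).symm.eq
  have hle : M ≤ Cfsg.Lie.chevG2.group F ⊓ Subgroup.centralizer {Φ.toAlg.xg r9 (1 : F)} :=
    sup_le (sup_le (sup_le (sup_le (hroot r9 (by decide +kernel)) (hroot r10 (by decide +kernel)))
      (hroot r11 (by decide +kernel))) (hroot r6 (by decide +kernel))) (hroot r5 (by decide +kernel))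
  have hcM : ∀ x ∈ M, Commute x (Φ.toAlg.xg r9 (1 : F)) := fun x hx =>
    Subgroup.mem_centralizer_singleton_iff.1 (hle hx).2
  refine le_antisymm ?_ hle
  rintro g ⟨hg, hc⟩
  have hgc : Commute g (Φ.toAlg.xg r9 (1 : F)) := Subgroup.mem_centralizer_singleton_iff.1 hc
  obtain ⟨b, hb, n, hn, π, hπ, hm, u, hu, rfl⟩ := Φ.exists_normal_form hg
  obtain ⟨v, hv, d, hd', rfl⟩ := Φ.mem_B_iff.1 hb
  have hu' := Φ.Uneg_le_U hu
  obtain ⟨β, γ, hq⟩ := Φ.mem_top ((Φ.U_conj hu').2 1)
  obtain ⟨β', γ', hq'⟩ := Φ.mem_top ((Φ.U_conj (inv_mem hv)).2 1)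
  rw [inv_mul_eq_iff_eq_mul, ← mul_assoc] at hq hq'
  rw [inv_inv] at hq'
  have hmain : d * n * (Φ.toAlg.xg r9 1 * Φ.toAlg.xg r10 β * Φ.toAlg.xg r11 γ) * (d * n)⁻¹ =
      Φ.toAlg.xg r9 1 * Φ.toAlg.xg r10 β' * Φ.toAlg.xg r11 γ' := by
    rw [← hq, ← hq']
    calc d * n * (u * Φ.toAlg.xg r9 1 * u⁻¹) * (d * n)⁻¹
        = v⁻¹ * ((v * d * n * u) * Φ.toAlg.xg r9 1 * (v * d * n * u)⁻¹) * v := by group
      _ = _ := by rw [hgc.eq, mul_inv_cancel_right]
  have hdnN : d * n ∈ Cfsg.Lie.chevG2.monomialSubgroup F := mul_mem (H_le_N hd') hn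
  obtain ⟨c, hc'⟩ := Φ.exists_torus_of_mem_H hd'
  have hm' : Φ.Mono (d * n) π := by
    have := Mono.mul Φ (Φ.mono_torus c) hm
    rwa [← hc', one_mul] at this
  obtain ⟨a9, ha9, e9, -⟩ := hm'.1 r9
  obtain ⟨a10, ha10, e10, -⟩ := hm'.1 r10
  obtain ⟨a11, ha11, e11, -⟩ := hm'.1 r11
  have hfix : π r9 = r9 := by
    classical
    let cj := (MulAut.conj (d * n)).toMonoidHom
    have hsplit : Φ.toAlg.xg (π r9) (a9 * 1) * Φ.toAlg.xg (π r10) (a10 * β) * Φ.toAlg.xg (π r11) (a11 * γ) =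
        Φ.toAlg.xg r9 1 * Φ.toAlg.xg r10 β' * Φ.toAlg.xg r11 γ' := by
      rw [← hmain, ← e9, ← e10, ← e11]; group
    have cc : ∀ {x y : GL Cfsg.Lie.chevG2.Idx F}, Commute x y →
        Commute (d * n * x * (d * n)⁻¹) (d * n * y * (d * n)⁻¹) := fun h => h.map cj
    have hU : Φ.toAlg.xg r9 1 * Φ.toAlg.xg r10 β' * Φ.toAlg.xg r11 γ' ∈
        Cfsg.Lie.chevG2.posUnipotent F :=
      mul_mem (mul_mem (Φ.xg_mem_U (show Cfsg.Lie.chevG2.nroots ≤ _ by decide) _)
        (Φ.xg_mem_U (show Cfsg.Lie.chevG2.nroots ≤ _ by decide) _))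
        (Φ.xg_mem_U (show Cfsg.Lie.chevG2.nroots ≤ _ by decide) _)
    have c1 : Commute (Φ.toAlg.xg (π r9) (a9 * 1)) (Φ.toAlg.xg (π r10) (a10 * β)) := by
      rw [← e9, ← e10]; exact cc Φ.nine_comm10
    have c2 : Commute (Φ.toAlg.xg (π r9) (a9 * 1)) (Φ.toAlg.xg (π r11) (a11 * γ)) := by
      rw [← e9, ← e11]; exact cc Φ.nine_comm11
    have c3 : Commute (Φ.toAlg.xg (π r10) (a10 * β)) (Φ.toAlg.xg (π r11) (a11 * γ)) := by
      rw [← e10, ← e11]; exact cc Φ.top_comm
    have n1 : π r9 ≠ π r10 := π.injective.ne (by decide)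
    have n2 : π r9 ≠ π r11 := π.injective.ne (by decide)
    have n3 : π r10 ≠ π r11 := π.injective.ne (by decide)
    have hall : ¬ (¬ Φ.toTables.Pos (π r9) ∧ ¬ Φ.toTables.Pos (π r10) ∧ ¬ Φ.toTables.Pos (π r11)) := by
      rintro ⟨h9, h10, h11⟩
      have h1 := Φ.eq_one_of_U_of_V (by rw [hsplit]; exact hU)
        (mul_mem (mul_mem (Φ.xg_mem_V h9 _) (Φ.xg_mem_V h10 _)) (Φ.xg_mem_V h11 _))
      rw [hsplit] at h1
      exact (one_ne_zero : (1 : F) ≠ 0)
        (Φ.inj3 (a := (1 : F)) (b := β') (c := γ') (a' := 0) (b' := 0) (c' := 0) (by simpa using h1)).1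
    obtain ⟨hp, b', c', hb', hc'', eq'⟩ :=
      Φ.triple_in_U (mul_ne_zero ha9 one_ne_zero) n1 n2 n3 c1 c2 c3 hall (by rw [hsplit]; exact hU)
    rw [eq'] at hsplit
    -- compare coordinates in the ordered product over all positive roots
    have cX : ∀ {r s : Fin Cfsg.Lie.chevG2.nroots}, (∀ x y : F, Commute (Φ.toAlg.xg r x) (Φ.toAlg.xg s y)) →
        ∀ (x y : F), Commute (Φ.toAlg.xg (π r) x) (Φ.toAlg.xg (π s) y) := by
      intro r s h x y
      obtain ⟨ar, har, er, -⟩ := hm'.1 r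
      obtain ⟨as, has, es, -⟩ := hm'.1 s
      have := cc (h (x / ar) (y / as))
      rwa [er, es, mul_div_cancel₀ _ har, mul_div_cancel₀ _ has] at this
    have k910 := cX (r := r9) (s := r10) (fun x y => Φ.nine_comm10)
    have k911 := cX (r := r9) (s := r11) (fun x y => Φ.nine_comm11)
    have k1011 := cX (r := r10) (s := r11) (fun x y => Φ.top_comm)
    let f : Fin Cfsg.Lie.chevG2.nroots → F := fun r =>
      if r = π r9 then a9 * 1 else if r = π r10 then b' else c'
    let f' : Fin Cfsg.Lie.chevG2.nroots → F := fun r =>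
      if r = r9 then (1 : F) else if r = r10 then β' else γ'
    have hl : Φ.prodL [π r9, π r10, π r11] f = Φ.prodL [r9, r10, r11] f' := by
      simp only [prodL, List.map_cons, List.map_nil, List.prod_cons, List.prod_nil, mul_one, f, f',
        if_true, if_neg n1.symm, if_neg n2.symm, if_neg n3.symm, ← mul_assoc]
      rw [if_neg (show ¬ (r10) = r9 by decide), if_neg (show ¬ (r11) = r9 by decide),
        if_neg (show ¬ (r11) = r10 by decide)]
      simpa only [mul_one] using hsplit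
    rw [Φ.prodL_eq_of_commute' (by simp [n1, n2, n3]) f (by
        intro r hr hne
        simp only [List.mem_cons, List.not_mem_nil, or_false] at hr
        rcases hr with rfl | rfl | rfl
        · exact hp
        · exact hb' (by simpa [f, n1.symm] using hne)
        · exact hc'' (by simpa [f, n2.symm, n3.symm] using hne))
      (by
        intro r hr s hs
        simp only [List.mem_cons, List.not_mem_nil, or_false] at hr hs
        rcases hr with rfl | rfl | rfl <;> rcases hs with rfl | rfl | rfl <;>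
          first
            | with_reducible exact Commute.refl _
            | with_reducible exact k910 _ _
            | with_reducible exact (k910 _ _).symm
            | with_reducible exact k911 _ _
            | with_reducible exact (k911 _ _).symm
            | with_reducible exact k1011 _ _
            | with_reducible exact (k1011 _ _).symm),
      Φ.prodL_eq_of_commute' (L := [r9, r10, r11]) (by decide) f' (by
        intro r hr _
        simp only [List.mem_cons, List.not_mem_nil, or_false] at hr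
        rcases hr with rfl | rfl | rfl <;> (show Cfsg.Lie.chevG2.nroots ≤ _; decide))
      (by
        intro r hr s hs
        simp only [List.mem_cons, List.not_mem_nil, or_false] at hr hs
        rcases hr with rfl | rfl | rfl <;> rcases hs with rfl | rfl | rfl <;>
          first
            | with_reducible exact Commute.refl _
            | with_reducible exact Φ.nine_comm10
            | with_reducible exact (Φ.nine_comm10).symm
            | with_reducible exact Φ.nine_comm11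
            | with_reducible exact (Φ.nine_comm11).symm
            | with_reducible exact Φ.top_comm
            | with_reducible exact (Φ.top_comm).symm)] at hl
    have := Φ.prodL_injective (pairwise_rootList _) (fun r hr => mem_rootList.1 hr) hl (π r9)
      (mem_rootList.2 hp)
    simp only [List.mem_cons, List.not_mem_nil, or_false, true_or, if_true, f] at this
    have hmem : π r9 ∈ [r9, r10, r11] := by
      by_contra hnot
      simp only [List.mem_cons, List.not_mem_nil, or_false] at hnot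
      rw [if_neg hnot] at this
      exact mul_ne_zero ha9 one_ne_zero this
    have hsh := Φ.short_map hπ r9 (by decide)
    simp only [List.mem_cons, List.not_mem_nil, or_false] at hmem
    rcases hmem with e | e | e
    · exact e
    · rw [e] at hsh; exact absurd hsh (by decide)
    · rw [e] at hsh; exact absurd hsh (by decide)
  have hp1 := Φ.p_eq_g2.2
  have hA1 := Φ.nine_dominant.2.2
  have hnwM : ∀ t : Fˣ, Φ.nw (Φ.p ⟨1, by decide⟩) t ∈ M := fun t => by
    rw [nw, hp1, show (r6).rev = r5 by decide]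
    exact mul_mem (mul_mem (m6 _) (m5 _)) (m6 _)
  obtain ⟨m, hmN, hmM, hmX, hmm, hum⟩ : ∃ m ∈ Cfsg.Lie.chevG2.monomialSubgroup F, m ∈ M ∧
      (∀ a, Commute m (Φ.toAlg.xg r9 a)) ∧ Φ.Mono m π ∧ u ∈ M := by
    rcases Φ.stab_nine hπ hfix with rfl | rfl
    · refine ⟨1, one_mem _, one_mem _, fun a => Commute.one_left _, Mono.one Φ, ?_⟩
      have : Φ.Uneg F (1 : Equiv.Perm (Fin Cfsg.Lie.chevG2.nroots)) ≤ ⊥ := by
        rw [Uneg, US, Subgroup.closure_le]
        rintro x ⟨r, t, ⟨h1, h2⟩, rfl⟩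
        exact absurd h1 h2
      rw [Subgroup.mem_bot.1 (this hu)]
      exact one_mem _
    · refine ⟨_, Φ.nw_mem_N (Φ.p ⟨1, by decide⟩) 1, hnwM 1, fun a => Φ.nw_commute hA1 a,
        Φ.nw_one_mono _, ?_⟩
      have : Φ.Uneg F (Φ.reflPerm ⟨1, by decide⟩) ≤ M := by
        rw [Uneg, US, Subgroup.closure_le]
        rintro x ⟨r, t, ⟨h1, h2⟩, rfl⟩
        have : r = Φ.p ⟨1, by decide⟩ := by
          by_contra e
          exact h2 (Φ.refl_pos h1 e).1
        rw [this, hp1]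
        exact m6 t
      exact this hu
  have hut : u * Φ.toAlg.xg r9 1 * u⁻¹ = Φ.toAlg.xg r9 (1 : F) := by
    rw [(hcM u hum).eq, mul_inv_cancel_right]
  have hk := Φ.inv_mul_mem_H hmN hdnN hmm hm'
  rw [Φ.diagonalSubgroup_eq] at hk
  obtain ⟨e, he⟩ := hk
  rw [MonoidHom.comp_apply] at he
  set χ := Φ.toSys.chi (Φ.coHom F e) r9 with hχdef
  have hconj : d * n * Φ.toAlg.xg r9 1 * (d * n)⁻¹ = Φ.toAlg.xg r9 (χ : F) := by
    rw [show d * n = m * Φ.toAlg.torus (Φ.coHom F e) by rw [he, mul_inv_cancel_left],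
      show ∀ x y z : GL Cfsg.Lie.chevG2.Idx F, x * y * z * (x * y)⁻¹ = x * (y * z * y⁻¹) * x⁻¹ from
        fun x y z => by group,
      Φ.toAlg.torus_xg, mul_inv_cancel_right, mul_one, (hmX _).eq, mul_inv_cancel_right]
  have hvd : v⁻¹ * Φ.toAlg.xg r9 1 * v = Φ.toAlg.xg r9 (χ : F) := by
    rw [← hconj]
    calc v⁻¹ * Φ.toAlg.xg r9 1 * v
        = v⁻¹ * ((v * d * n * u) * Φ.toAlg.xg r9 1 * (v * d * n * u)⁻¹) * v := by
          rw [hgc.eq, mul_inv_cancel_right]
      _ = d * n * (u * Φ.toAlg.xg r9 1 * u⁻¹) * (d * n)⁻¹ := by group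
      _ = _ := by rw [hut]
  have hχ : (χ : F) = 1 := by
    rw [hvd] at hq'
    exact (Φ.inj3 (b := 0) (c := 0) (by simpa using hq')).1
  have hdnM : d * n ∈ M := by
    have : Φ.toAlg.torus (Φ.coHom F e) ∈ M := by
      rw [Φ.coHom_mem]
      refine Subgroup.list_prod_mem _ fun x hx => ?_
      obtain ⟨k, -, rfl⟩ := List.mem_map.1 hx
      have hk : k = ⟨0, by decide⟩ ∨ k = ⟨1, by decide⟩ := two_nodes k
      rcases hk with rfl | rfl
      · have hu1 : χ = 1 := Units.ext hχ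
        rw [hχdef, Φ.chi_coHom] at hu1
        rw [Fintype.prod_eq_single ⟨0, by decide⟩ (fun i hi => by
          have : i = ⟨1, by decide⟩ := (two_nodes i).resolve_left hi
          rw [this, hA1, zpow_zero]), Φ.nine_dominant.2.1, zpow_one] at hu1
        rw [hu1, Φ.hw_one]
        exact one_mem _
      · exact mul_mem (hnwM _) (hnwM _)
    have := mul_mem hmM this
    rwa [he, mul_inv_cancel_left] at this
  have hvM : v ∈ M := by
    have hvc : Commute v (Φ.toAlg.xg r9 (1 : F)) := by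
      rw [hχ] at hvd
      calc v * Φ.toAlg.xg r9 1 = v * (v⁻¹ * Φ.toAlg.xg r9 1 * v) := by rw [hvd]
        _ = _ := by group
    rw [Φ.posUnipotent_eq_US] at hv
    obtain ⟨t, rfl⟩ := (Φ.mem_US_iff (fun _ h => h) Φ.closed_pos).1 hv
    have hlist : rootList Φ.toTables.Pos = [r6, r7, r8, r9, r10, r11] :=
      (show _ = (List.finRange Cfsg.Lie.chevG2.nroots).filter
        (fun r => decide (Cfsg.Lie.chevG2.nroots ≤ 2 * r.val)) from rfl).trans (by decide +kernel)
    rw [hlist] at hvc ⊢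
    simp only [prodL, List.map_cons, List.map_nil, List.prod_cons, List.prod_nil, mul_one] at hvc ⊢
    have hy : Commute (Φ.toAlg.xg r7 (t r7) * Φ.toAlg.xg r8 (t r8)) (Φ.toAlg.xg r9 (1 : F)) := by
      have := ((hcM _ (inv_mem (m6 (t r6)))).mul_left hvc).mul_left
        (hcM _ (inv_mem (mul_mem (m9 (t r9)) (mul_mem (m10 (t r10)) (m11 (t r11))))))
      rwa [inv_mul_cancel_left, ← mul_assoc (Φ.toAlg.xg r7 (t r7)), mul_inv_cancel_right] at this
    have three : (3 : F) = 1 := by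
      have : (2 : F) = 0 := CharTwo.two_eq_zero
      linear_combination this
    have k7 : Φ.toAlg.xg r7 (t r7) * Φ.toAlg.xg r9 1 =
        Φ.toAlg.xg r9 1 * Φ.toAlg.xg r7 (t r7) * Φ.toAlg.xg r10 (t r7) := by
      rw [Φ.comm_xg (r := r9) (s := r7) (by decide) (by decide) 1 (t r7),
        show Cfsg.Lie.chevG2.commTerms (r9).val (r7).val = [(10, -3, 1, 1)] by decide +kernel]
      congr 1
      simp [tval, rtG2, three, neg_one_eq, show (10 : ℕ) < Cfsg.Lie.chevG2.nroots by decide]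
    have k8 : Φ.toAlg.xg r8 (t r8) * Φ.toAlg.xg r9 1 =
        Φ.toAlg.xg r9 1 * Φ.toAlg.xg r8 (t r8) * Φ.toAlg.xg r11 (t r8) := by
      rw [Φ.comm_xg (r := r9) (s := r8) (by decide) (by decide) 1 (t r8),
        show Cfsg.Lie.chevG2.commTerms (r9).val (r8).val = [(11, -3, 1, 1)] by decide +kernel]
      congr 1
      simp [tval, rtG2, three, neg_one_eq, show (11 : ℕ) < Cfsg.Lie.chevG2.nroots by decide]
    have c810 : Commute (Φ.toAlg.xg r8 (t r8)) (Φ.toAlg.xg r10 (t r7)) :=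
      Φ.commute_of_even (by decide) (by decide) (by decide +kernel) _ _
    have h1 : Φ.toAlg.xg r10 (t r7) * Φ.toAlg.xg r11 (t r8) = 1 := by
      have e := hy.eq
      rw [mul_assoc, k8, ← mul_assoc, ← mul_assoc, k7] at e
      have e' : Φ.toAlg.xg r9 1 * (Φ.toAlg.xg r7 (t r7) * (Φ.toAlg.xg r10 (t r7) *
          Φ.toAlg.xg r8 (t r8) * Φ.toAlg.xg r11 (t r8))) =
          Φ.toAlg.xg r9 1 * (Φ.toAlg.xg r7 (t r7) * Φ.toAlg.xg r8 (t r8)) := by
        simp only [← mul_assoc] at e ⊢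
        exact e
      have e'' := mul_left_cancel (mul_left_cancel e')
      rw [c810.symm.eq, mul_assoc] at e''
      exact mul_eq_left.1 e''
    obtain ⟨-, z7, z8⟩ := Φ.inj3 (a := (0 : F)) (a' := 0) (b' := 0) (c' := 0) (by simpa using h1)
    rw [z7, z8]
    simp only [Alg.xg_zero, one_mul]
    exact mul_mem (m6 _) (mul_mem (m9 _) (mul_mem (m10 _) (m11 _)))
  rw [mul_assoc v d n]
  exact mul_mem (mul_mem hvM hdnM) hum

end ShortG2

end Chev

end CfsgLib.Chev
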