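/-
The classes of involutions of G2(q), q even.
-/
import Cfsg.Agent.Lib.Chev.RootCentralizerG2
import Cfsg.Agent.Lib.Chev.ConjMemU
import Mathlib.FieldTheory.Finite.Basic

namespace CfsgLib.Chev

open Cfsg.Lie Matrix

set_option linter.dupNamespace false
set_option linter.unusedSectionVars false
set_option maxRecDepth 100000

variable {D : ChevalleyDatum}

namespace Chev

section G2Involutions

variable (Φ : Chev Cfsg.Lie.chevG2) {F : Type*} [Field F]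

local notation "r6" => rtG2 6 (by decide)
local notation "r7" => rtG2 7 (by decide)
local notation "r8" => rtG2 8 (by decide)
local notation "r9" => rtG2 9 (by decide)
local notation "r10" => rtG2 10 (by decide)
local notation "r11" => rtG2 11 (by decide)

/-- The coordinates of an element of `U`. -/
def word (b a c d e f : F) : GL Cfsg.Lie.chevG2.Idx F :=
  Φ.toAlg.xg r6 b * Φ.toAlg.xg r7 a * Φ.toAlg.xg r8 c * Φ.toAlg.xg r9 d * Φ.toAlg.xg r10 e * Φ.toAlg.xg r11 f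

theorem word_inj {b a c d e f b' a' c' d' e' f' : F}
    (h : Φ.word b a c d e f = Φ.word b' a' c' d' e' f') :
    b = b' ∧ a = a' ∧ c = c' ∧ d = d' ∧ e = e' ∧ f = f' := by
  let fn : F → F → F → F → F → F → Fin Cfsg.Lie.chevG2.nroots → F := fun u v w x y z r =>
    if r = r6 then u else if r = r7 then v else if r = r8 then w else if r = r9 then x
      else if r = r10 then y else z
  have key := Φ.prodL_injective (F := F) (L := [r6, r7, r8, r9, r10, r11]) (by decide) (by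
    intro r hr
    simp only [List.mem_cons, List.not_mem_nil, or_false] at hr
    rcases hr with rfl | rfl | rfl | rfl | rfl | rfl <;> (show Cfsg.Lie.chevG2.nroots ≤ _; decide))
    (t := fn b a c d e f) (u := fn b' a' c' d' e' f') (by
      simpa [prodL, word, fn, mul_assoc, rtG2, Fin.ext_iff] using h)
  refine ⟨?_, ?_, ?_, ?_, ?_, ?_⟩
  · simpa [fn, rtG2, Fin.ext_iff] using key r6 (by simp)
  · simpa [fn, rtG2, Fin.ext_iff] using key r7 (by simp)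
  · simpa [fn, rtG2, Fin.ext_iff] using key r8 (by simp)
  · simpa [fn, rtG2, Fin.ext_iff] using key r9 (by simp)
  · simpa [fn, rtG2, Fin.ext_iff] using key r10 (by simp)
  · simpa [fn, rtG2, Fin.ext_iff] using key r11 (by simp)

theorem word_zero : Φ.word (0 : F) 0 0 0 0 0 = 1 := by simp [word]

variable [CharP F 2]

theorem c68 (x y : F) : Φ.toAlg.xg r8 x * Φ.toAlg.xg r6 y = Φ.toAlg.xg r6 y * Φ.toAlg.xg r8 x :=
  (Φ.commute_of_even (by decide) (by decide) (by decide +kernel) y x).symm.eq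

theorem c69 (x y : F) : Φ.toAlg.xg r9 x * Φ.toAlg.xg r6 y = Φ.toAlg.xg r6 y * Φ.toAlg.xg r9 x :=
  (Φ.commute_of_even (by decide) (by decide) (by decide +kernel) y x).symm.eq

theorem c6e (x y : F) : Φ.toAlg.xg r11 x * Φ.toAlg.xg r6 y = Φ.toAlg.xg r6 y * Φ.toAlg.xg r11 x :=
  (Φ.commute_of_even (by decide) (by decide) (by decide +kernel) y x).symm.eq

theorem c7t (x y : F) : Φ.toAlg.xg r10 x * Φ.toAlg.xg r7 y = Φ.toAlg.xg r7 y * Φ.toAlg.xg r10 x :=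
  (Φ.commute_of_even (by decide) (by decide) (by decide +kernel) y x).symm.eq

theorem c7e (x y : F) : Φ.toAlg.xg r11 x * Φ.toAlg.xg r7 y = Φ.toAlg.xg r7 y * Φ.toAlg.xg r11 x :=
  (Φ.commute_of_even (by decide) (by decide) (by decide +kernel) y x).symm.eq

theorem c8t (x y : F) : Φ.toAlg.xg r10 x * Φ.toAlg.xg r8 y = Φ.toAlg.xg r8 y * Φ.toAlg.xg r10 x :=
  (Φ.commute_of_even (by decide) (by decide) (by decide +kernel) y x).symm.eq

theorem c8e (x y : F) : Φ.toAlg.xg r11 x * Φ.toAlg.xg r8 y = Φ.toAlg.xg r8 y * Φ.toAlg.xg r11 x :=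
  (Φ.commute_of_even (by decide) (by decide) (by decide +kernel) y x).symm.eq

theorem c9t (x y : F) : Φ.toAlg.xg r10 x * Φ.toAlg.xg r9 y = Φ.toAlg.xg r9 y * Φ.toAlg.xg r10 x :=
  (Φ.nine_comm10).symm.eq

theorem c9e (x y : F) : Φ.toAlg.xg r11 x * Φ.toAlg.xg r9 y = Φ.toAlg.xg r9 y * Φ.toAlg.xg r11 x :=
  (Φ.nine_comm11).symm.eq

theorem cte (x y : F) : Φ.toAlg.xg r11 x * Φ.toAlg.xg r10 y = Φ.toAlg.xg r10 y * Φ.toAlg.xg r11 x :=
  (Φ.top_comm).symm.eq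

theorem three_eq : (3 : F) = 1 := by
  have : (2 : F) = 0 := CharTwo.two_eq_zero
  linear_combination this

theorem r76 (u t : F) : Φ.toAlg.xg r7 u * Φ.toAlg.xg r6 t = Φ.toAlg.xg r6 t * Φ.toAlg.xg r7 u *
    (Φ.toAlg.xg r8 (t * u) * Φ.toAlg.xg r9 (t * u ^ 2) * Φ.toAlg.xg r10 (t * u ^ 3)) := by
  rw [Φ.comm_xg (r := r6) (s := r7) (by decide) (by decide) t u]
  congr 1
  rcases h : Cfsg.Lie.chevG2.commTerms (r6).val (r7).val with _ | ⟨a, L⟩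
  · exact absurd h (by decide +kernel)
  rw [← h]
  have hc : ∀ (z : ℤ), z % 2 = 1 → (z : F) = 1 := fun z hz => by
    rw [← Int.emod_add_ediv_mul z 2, hz]
    simp [CharTwo.two_eq_zero]
  obtain ⟨z1, z2, z3, z4, hterm, o1, o2, o3, o4⟩ : ∃ z1 z2 z3 z4 : ℤ,
      Cfsg.Lie.chevG2.commTerms (r6).val (r7).val = [(8, z1, 1, 1), (9, z2, 1, 2), (10, z3, 1, 3), (11, z4, 2, 3)] ∧
        z1 % 2 = 1 ∧ z2 % 2 = 1 ∧ z3 % 2 = 1 ∧ z4 % 2 = 0 := by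
    refine ⟨(((Cfsg.Lie.chevG2.commTerms 6 7).getD 0 (0, 0, 0, 0)).2.1), (((Cfsg.Lie.chevG2.commTerms 6 7).getD 1 (0, 0, 0, 0)).2.1),
      (((Cfsg.Lie.chevG2.commTerms 6 7).getD 2 (0, 0, 0, 0)).2.1), (((Cfsg.Lie.chevG2.commTerms 6 7).getD 3 (0, 0, 0, 0)).2.1), ?_⟩
    decide +kernel
  rw [hterm]
  simp [tval, rtG2, neg_one_eq, hc _ o1, hc _ o2, hc _ o3, cast_even (F := F) o4, CharTwo.neg_eq, mul_assoc,
    show (8 : ℕ) < Cfsg.Lie.chevG2.nroots by decide, show (9 : ℕ) < Cfsg.Lie.chevG2.nroots by decide,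
    show (10 : ℕ) < Cfsg.Lie.chevG2.nroots by decide, show (11 : ℕ) < Cfsg.Lie.chevG2.nroots by decide]

theorem r06 (u t : F) : Φ.toAlg.xg r10 u * Φ.toAlg.xg r6 t =
    Φ.toAlg.xg r6 t * Φ.toAlg.xg r10 u * Φ.toAlg.xg r11 (t * u) := by
  rw [Φ.comm_xg (r := r6) (s := r10) (by decide) (by decide) t u]
  congr 1
  obtain ⟨z, hterm, o⟩ : ∃ z : ℤ, Cfsg.Lie.chevG2.commTerms (r6).val (r10).val = [(11, z, 1, 1)] ∧ z % 2 = 1 := by
    refine ⟨(((Cfsg.Lie.chevG2.commTerms 6 10).getD 0 (0, 0, 0, 0)).2.1), ?_⟩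
    decide +kernel
  have hz : (z : F) = 1 := by
    rw [← Int.emod_add_ediv_mul z 2, o]
    simp [CharTwo.two_eq_zero]
  rw [hterm]
  simp [tval, rtG2, hz, CharTwo.neg_eq, show (11 : ℕ) < Cfsg.Lie.chevG2.nroots by decide]

theorem r87 (u t : F) : Φ.toAlg.xg r8 u * Φ.toAlg.xg r7 t = Φ.toAlg.xg r7 t * Φ.toAlg.xg r8 u *
    (Φ.toAlg.xg r10 (t ^ 2 * u) * Φ.toAlg.xg r11 (t * u ^ 2)) := by
  rw [Φ.comm_xg (r := r7) (s := r8) (by decide) (by decide) t u]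
  congr 1
  obtain ⟨z1, z2, z3, hterm, o1, o2, o3⟩ : ∃ z1 z2 z3 : ℤ, Cfsg.Lie.chevG2.commTerms (r7).val (r8).val =
      [(9, z1, 1, 1), (10, z2, 2, 1), (11, z3, 1, 2)] ∧ z1 % 2 = 0 ∧ z2 % 2 = 1 ∧ z3 % 2 = 1 := by
    refine ⟨(((Cfsg.Lie.chevG2.commTerms 7 8).getD 0 (0, 0, 0, 0)).2.1), (((Cfsg.Lie.chevG2.commTerms 7 8).getD 1 (0, 0, 0, 0)).2.1),
      (((Cfsg.Lie.chevG2.commTerms 7 8).getD 2 (0, 0, 0, 0)).2.1), ?_⟩
    decide +kernel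
  have hc : ∀ (z : ℤ), z % 2 = 1 → (z : F) = 1 := fun z hz => by
    rw [← Int.emod_add_ediv_mul z 2, hz]
    simp [CharTwo.two_eq_zero]
  rw [hterm]
  simp [tval, rtG2, hc _ o2, hc _ o3, cast_even (F := F) o1, CharTwo.neg_eq,
    show (10 : ℕ) < Cfsg.Lie.chevG2.nroots by decide, show (11 : ℕ) < Cfsg.Lie.chevG2.nroots by decide]

theorem r97 (u t : F) : Φ.toAlg.xg r9 u * Φ.toAlg.xg r7 t =
    Φ.toAlg.xg r7 t * Φ.toAlg.xg r9 u * Φ.toAlg.xg r10 (t * u) := by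
  rw [Φ.comm_xg (r := r7) (s := r9) (by decide) (by decide) t u]
  congr 1
  obtain ⟨z, hterm, o⟩ : ∃ z : ℤ, Cfsg.Lie.chevG2.commTerms (r7).val (r9).val = [(10, z, 1, 1)] ∧ z % 2 = 1 := by
    refine ⟨(((Cfsg.Lie.chevG2.commTerms 7 9).getD 0 (0, 0, 0, 0)).2.1), ?_⟩
    decide +kernel
  have hz : (z : F) = 1 := by
    rw [← Int.emod_add_ediv_mul z 2, o]
    simp [CharTwo.two_eq_zero]
  rw [hterm]
  simp [tval, rtG2, hz, CharTwo.neg_eq, show (10 : ℕ) < Cfsg.Lie.chevG2.nroots by decide]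

theorem r98 (u t : F) : Φ.toAlg.xg r9 u * Φ.toAlg.xg r8 t =
    Φ.toAlg.xg r8 t * Φ.toAlg.xg r9 u * Φ.toAlg.xg r11 (t * u) := by
  rw [Φ.comm_xg (r := r8) (s := r9) (by decide) (by decide) t u]
  congr 1
  obtain ⟨z, hterm, o⟩ : ∃ z : ℤ, Cfsg.Lie.chevG2.commTerms (r8).val (r9).val = [(11, z, 1, 1)] ∧ z % 2 = 1 := by
    refine ⟨(((Cfsg.Lie.chevG2.commTerms 8 9).getD 0 (0, 0, 0, 0)).2.1), ?_⟩
    decide +kernel
  have hz : (z : F) = 1 := by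
    rw [← Int.emod_add_ediv_mul z 2, o]
    simp [CharTwo.two_eq_zero]
  rw [hterm]
  simp [tval, rtG2, hz, CharTwo.neg_eq, show (11 : ℕ) < Cfsg.Lie.chevG2.nroots by decide]

variable (b a c d e f t : F)

theorem step11 : Φ.word b a c d e f * Φ.toAlg.xg r11 t = Φ.word b a c d e (f + t) := by
  simp only [word, Φ.toAlg.xg_add, mul_assoc]

theorem step10 : Φ.word b a c d e f * Φ.toAlg.xg r10 t = Φ.word b a c d (e + t) f := by
  simp only [word, mul_assoc, Φ.cte]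
  simp only [← mul_assoc, Φ.toAlg.xg_add]

theorem step9 : Φ.word b a c d e f * Φ.toAlg.xg r9 t = Φ.word b a c (d + t) e f := by
  simp only [word, Φ.toAlg.xg_add]
  calc _ = Φ.toAlg.xg r6 b * Φ.toAlg.xg r7 a * Φ.toAlg.xg r8 c * Φ.toAlg.xg r9 d * Φ.toAlg.xg r10 e *
        (Φ.toAlg.xg r11 f * Φ.toAlg.xg r9 t) := by group
    _ = Φ.toAlg.xg r6 b * Φ.toAlg.xg r7 a * Φ.toAlg.xg r8 c * Φ.toAlg.xg r9 d *
        (Φ.toAlg.xg r10 e * Φ.toAlg.xg r9 t) * Φ.toAlg.xg r11 f := by rw [Φ.c9e]; group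
    _ = _ := by rw [Φ.c9t]; group

theorem step8 : Φ.word b a c d e f * Φ.toAlg.xg r8 t = Φ.word b a (c + t) d e (f + t * d) := by
  simp only [word, Φ.toAlg.xg_add]
  calc _ = Φ.toAlg.xg r6 b * Φ.toAlg.xg r7 a * Φ.toAlg.xg r8 c * Φ.toAlg.xg r9 d * Φ.toAlg.xg r10 e *
        (Φ.toAlg.xg r11 f * Φ.toAlg.xg r8 t) := by group
    _ = Φ.toAlg.xg r6 b * Φ.toAlg.xg r7 a * Φ.toAlg.xg r8 c * Φ.toAlg.xg r9 d *
        (Φ.toAlg.xg r10 e * Φ.toAlg.xg r8 t) * Φ.toAlg.xg r11 f := by rw [Φ.c8e]; group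
    _ = Φ.toAlg.xg r6 b * Φ.toAlg.xg r7 a * Φ.toAlg.xg r8 c * (Φ.toAlg.xg r9 d * Φ.toAlg.xg r8 t) *
        Φ.toAlg.xg r10 e * Φ.toAlg.xg r11 f := by rw [Φ.c8t]; group
    _ = Φ.toAlg.xg r6 b * Φ.toAlg.xg r7 a * Φ.toAlg.xg r8 c * Φ.toAlg.xg r8 t * Φ.toAlg.xg r9 d *
        (Φ.toAlg.xg r11 (t * d) * Φ.toAlg.xg r10 e) * Φ.toAlg.xg r11 f := by rw [Φ.r98]; group
    _ = _ := by
      rw [Φ.cte, mul_assoc _ _ (Φ.toAlg.xg r11 f), mul_assoc (Φ.toAlg.xg r10 e),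
        ← Φ.toAlg.xg_add r11, add_comm (t * d) f, Φ.toAlg.xg_add]
      group

theorem step7 : Φ.word b a c d e f * Φ.toAlg.xg r7 t =
    Φ.word b (a + t) c d (e + t * d + t ^ 2 * c) (f + t * c ^ 2) := by
  simp only [word]
  calc _ = Φ.toAlg.xg r6 b * Φ.toAlg.xg r7 a * Φ.toAlg.xg r8 c * Φ.toAlg.xg r9 d * Φ.toAlg.xg r10 e *
        (Φ.toAlg.xg r11 f * Φ.toAlg.xg r7 t) := by group
    _ = Φ.toAlg.xg r6 b * Φ.toAlg.xg r7 a * Φ.toAlg.xg r8 c * Φ.toAlg.xg r9 d *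
        (Φ.toAlg.xg r10 e * Φ.toAlg.xg r7 t) * Φ.toAlg.xg r11 f := by rw [Φ.c7e]; group
    _ = Φ.toAlg.xg r6 b * Φ.toAlg.xg r7 a * Φ.toAlg.xg r8 c * (Φ.toAlg.xg r9 d * Φ.toAlg.xg r7 t) *
        Φ.toAlg.xg r10 e * Φ.toAlg.xg r11 f := by rw [Φ.c7t]; group
    _ = Φ.toAlg.xg r6 b * Φ.toAlg.xg r7 a * (Φ.toAlg.xg r8 c * Φ.toAlg.xg r7 t) * Φ.toAlg.xg r9 d *
        (Φ.toAlg.xg r10 (t * d) * Φ.toAlg.xg r10 e) * Φ.toAlg.xg r11 f := by rw [Φ.r97]; group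
    _ = Φ.toAlg.xg r6 b * (Φ.toAlg.xg r7 a * Φ.toAlg.xg r7 t) * Φ.toAlg.xg r8 c *
        (Φ.toAlg.xg r10 (t ^ 2 * c) * (Φ.toAlg.xg r11 (t * c ^ 2) * Φ.toAlg.xg r9 d)) *
        (Φ.toAlg.xg r10 (t * d) * Φ.toAlg.xg r10 e) * Φ.toAlg.xg r11 f := by rw [Φ.r87]; group
    _ = Φ.toAlg.xg r6 b * (Φ.toAlg.xg r7 a * Φ.toAlg.xg r7 t) * Φ.toAlg.xg r8 c * Φ.toAlg.xg r9 d *
        (Φ.toAlg.xg r10 (t ^ 2 * c) * (Φ.toAlg.xg r11 (t * c ^ 2) *
        (Φ.toAlg.xg r10 (t * d) * Φ.toAlg.xg r10 e))) * Φ.toAlg.xg r11 f := by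
      rw [Φ.c9e, ← mul_assoc (Φ.toAlg.xg r10 (t ^ 2 * c)), Φ.c9t]; group
    _ = Φ.toAlg.xg r6 b * (Φ.toAlg.xg r7 a * Φ.toAlg.xg r7 t) * Φ.toAlg.xg r8 c * Φ.toAlg.xg r9 d *
        (Φ.toAlg.xg r10 (t ^ 2 * c) * Φ.toAlg.xg r10 (t * d + e)) *
        (Φ.toAlg.xg r11 (t * c ^ 2) * Φ.toAlg.xg r11 f) := by
      rw [← Φ.toAlg.xg_add r10, Φ.cte]; group
    _ = _ := by
      rw [← Φ.toAlg.xg_add r10, ← Φ.toAlg.xg_add r11, ← Φ.toAlg.xg_add r7,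
        show t ^ 2 * c + (t * d + e) = e + t * d + t ^ 2 * c by ring, add_comm (t * c ^ 2) f]

theorem step6 : Φ.word b a c d e f * Φ.toAlg.xg r6 t =
    Φ.word (b + t) a (c + t * a) (d + t * a ^ 2) (e + t * a ^ 3) (f + t * e + t * a ^ 2 * c) := by
  have e1 : Φ.word b a c d e f * Φ.toAlg.xg r6 t =
      Φ.toAlg.xg r6 (b + t) * Φ.toAlg.xg r7 a * Φ.toAlg.xg r8 (t * a) * Φ.toAlg.xg r9 (t * a ^ 2) *
        Φ.toAlg.xg r10 (t * a ^ 3) * Φ.toAlg.xg r8 c * Φ.toAlg.xg r9 d * Φ.toAlg.xg r10 e *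
        Φ.toAlg.xg r11 (t * e) * Φ.toAlg.xg r11 f := by
    rw [word]
    calc _ = Φ.toAlg.xg r6 b * Φ.toAlg.xg r7 a * Φ.toAlg.xg r8 c * Φ.toAlg.xg r9 d * Φ.toAlg.xg r10 e *
          (Φ.toAlg.xg r11 f * Φ.toAlg.xg r6 t) := by group
      _ = Φ.toAlg.xg r6 b * Φ.toAlg.xg r7 a * Φ.toAlg.xg r8 c * Φ.toAlg.xg r9 d *
          (Φ.toAlg.xg r10 e * Φ.toAlg.xg r6 t) * Φ.toAlg.xg r11 f := by rw [Φ.c6e]; group
      _ = Φ.toAlg.xg r6 b * Φ.toAlg.xg r7 a * Φ.toAlg.xg r8 c * (Φ.toAlg.xg r9 d * Φ.toAlg.xg r6 t) *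
          Φ.toAlg.xg r10 e * Φ.toAlg.xg r11 (t * e) * Φ.toAlg.xg r11 f := by rw [Φ.r06]; group
      _ = Φ.toAlg.xg r6 b * Φ.toAlg.xg r7 a * (Φ.toAlg.xg r8 c * Φ.toAlg.xg r6 t) * Φ.toAlg.xg r9 d *
          Φ.toAlg.xg r10 e * Φ.toAlg.xg r11 (t * e) * Φ.toAlg.xg r11 f := by rw [Φ.c69]; group
      _ = Φ.toAlg.xg r6 b * (Φ.toAlg.xg r7 a * Φ.toAlg.xg r6 t) * Φ.toAlg.xg r8 c * Φ.toAlg.xg r9 d *
          Φ.toAlg.xg r10 e * Φ.toAlg.xg r11 (t * e) * Φ.toAlg.xg r11 f := by rw [Φ.c68]; group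
      _ = _ := by rw [Φ.r76, Φ.toAlg.xg_add r6]; group
  have e0 : Φ.toAlg.xg r6 (b + t) * Φ.toAlg.xg r7 a * Φ.toAlg.xg r8 (t * a) * Φ.toAlg.xg r9 (t * a ^ 2) *
      Φ.toAlg.xg r10 (t * a ^ 3) = Φ.word (b + t) a (t * a) (t * a ^ 2) (t * a ^ 3) 0 := by
    simp [word]
  rw [e1, e0, Φ.step8, Φ.step9, Φ.step10, Φ.step11, Φ.step11]
  rw [show t * a + c = c + t * a by ring, show t * a ^ 2 + d = d + t * a ^ 2 by ring,
    show t * a ^ 3 + e = e + t * a ^ 3 by ring,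
    show 0 + c * (t * a ^ 2) + t * e + f = f + t * e + t * a ^ 2 * c by ring]

theorem word_mul {b' a' c' d' e' f' : F} :
    Φ.word b a c d e f * Φ.word b' a' c' d' e' f' = Φ.word b a c d e f * Φ.toAlg.xg r6 b' *
      Φ.toAlg.xg r7 a' * Φ.toAlg.xg r8 c' * Φ.toAlg.xg r9 d' * Φ.toAlg.xg r10 e' * Φ.toAlg.xg r11 f' := by
  simp only [word, mul_assoc]

theorem square_eq (hg : Φ.word b a c d e f * Φ.word b a c d e f = 1) :
    a * b = 0 ∧ a * d + a ^ 2 * c + a ^ 3 * b = 0 ∧ b * e + a * c ^ 2 + c * d + a ^ 3 * b ^ 2 = 0 := by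
  rw [Φ.word_mul, Φ.step6, Φ.step7, Φ.step8, Φ.step9, Φ.step10, Φ.step11, ← Φ.word_zero] at hg
  obtain ⟨-, -, h3, -, h5, h6⟩ := Φ.word_inj hg
  have h2 : (2 : F) = 0 := CharTwo.two_eq_zero
  refine ⟨?_, ?_, ?_⟩
  · linear_combination h3 - c * h2
  · linear_combination h5 - (a ^ 3 * b / 1 + e) * h2
  · linear_combination h6 - (f + a ^ 2 * b * c + a ^ 2 * b * c) * h2

/-- Conjugate in the group. -/
def CongG2 (g y : GL Cfsg.Lie.chevG2.Idx F) : Prop :=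
  ∃ h ∈ Cfsg.Lie.chevG2.group F, h * g * h⁻¹ = y

omit [CharP F 2] in
theorem CongG2.trans {g y z : GL Cfsg.Lie.chevG2.Idx F} (h1 : CongG2 g y) (h2 : CongG2 y z) : CongG2 g z := by
  obtain ⟨h, hh, rfl⟩ := h1
  obtain ⟨k, hk, rfl⟩ := h2
  exact ⟨k * h, mul_mem hk hh, by group⟩

/-- Conjugation by a root element. -/
theorem cong_xg (r : Fin Cfsg.Lie.chevG2.nroots) (s : F) {g y : GL Cfsg.Lie.chevG2.Idx F}
    (h : Φ.toAlg.xg r s * g * Φ.toAlg.xg r s = y) : CongG2 g y :=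
  ⟨_, Φ.toAlg.xg_mem_group r s, by rw [Φ.toAlg.xg_inv, CharTwo.neg_eq, h]⟩

/-- Conjugation by a fundamental reflection. -/
theorem cong_nw (i : Fin Cfsg.Lie.chevG2.rank) {g y : GL Cfsg.Lie.chevG2.Idx F}
    (h : Φ.nw (Φ.p i) 1 * g * (Φ.nw (Φ.p i) 1)⁻¹ = y) : CongG2 g y :=
  ⟨_, Φ.N_le_group (Φ.nw_mem_N _ _), h⟩

theorem refl_eq (i : Fin Cfsg.Lie.chevG2.rank) (r k : Fin Cfsg.Lie.chevG2.nroots)
    (h : Cfsg.Lie.chevG2.reflectRoot i.val r.val = k.val) : Φ.refl i r = k :=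
  Fin.ext ((Φ.reflectRoot_eq i r).symm.trans h)

theorem sqrt_two [Finite F] (x : F) : ∃ s : F, s ^ 2 = x := by
  haveI : Fact (Nat.Prime 2) := ⟨Nat.prime_two⟩
  exact perfect_finite 2 x

theorem word_congr {b' a' c' d' e' f' : F} (h1 : b = b') (h2 : a = a') (h3 : c = c') (h4 : d = d')
    (h5 : e = e') (h6 : f = f') : Φ.word b a c d e f = Φ.word b' a' c' d' e' f' := by
  subst h1 h2 h3 h4 h5 h6; rfl

theorem conj6 (s : F) : Φ.toAlg.xg r6 s * Φ.word b a c d e f * Φ.toAlg.xg r6 s =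
    Φ.word b a (c + s * a) (d + s * a ^ 2) (e + s * a ^ 3) (f + s * e + s * a ^ 2 * c) := by
  conv_lhs => enter [1, 1]; rw [show Φ.toAlg.xg r6 s = Φ.word s 0 0 0 0 0 by simp [word]]
  rw [Φ.word_mul, Φ.step6, Φ.step7, Φ.step8, Φ.step9, Φ.step10, Φ.step11, Φ.step6]
  apply Φ.word_congr <;> ring_nf <;> simp [CharTwo.two_eq_zero]

theorem conj7 (s : F) : Φ.toAlg.xg r7 s * Φ.word b a c d e f * Φ.toAlg.xg r7 s =
    Φ.word b a (c + b * s) (d + b * s ^ 2)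
      (e + b * s ^ 3 + a * b * s ^ 2 + a ^ 2 * b * s + s * d + s ^ 2 * c)
      (f + a * b ^ 2 * s ^ 2 + b * c * s ^ 2 + s * c ^ 2 + b ^ 2 * s ^ 3) := by
  conv_lhs => enter [1, 1]; rw [show Φ.toAlg.xg r7 s = Φ.word 0 s 0 0 0 0 by simp [word]]
  rw [Φ.word_mul, Φ.step6, Φ.step7, Φ.step8, Φ.step9, Φ.step10, Φ.step11, Φ.step7]
  have h2 : (2 : F) = 0 := CharTwo.two_eq_zero
  have h3 : (3 : F) = 1 := three_eq
  have h4 : (4 : F) = 0 := by linear_combination (2 : F) * h2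
  apply Φ.word_congr <;> ring_nf <;> simp [h2, h3, h4] <;> ring_nf

theorem conj8 (s : F) : Φ.toAlg.xg r8 s * Φ.word b a c d e f * Φ.toAlg.xg r8 s =
    Φ.word b a c d (e + a ^ 2 * s) (f + a * s ^ 2 + s * d) := by
  conv_lhs => enter [1, 1]; rw [show Φ.toAlg.xg r8 s = Φ.word 0 0 s 0 0 0 by simp [word]]
  rw [Φ.word_mul, Φ.step6, Φ.step7, Φ.step8, Φ.step9, Φ.step10, Φ.step11, Φ.step8]
  apply Φ.word_congr <;> ring_nf <;> simp [CharTwo.two_eq_zero]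

theorem conj9 (s : F) : Φ.toAlg.xg r9 s * Φ.word b a c d e f * Φ.toAlg.xg r9 s =
    Φ.word b a c d (e + a * s) (f + c * s) := by
  conv_lhs => enter [1, 1]; rw [show Φ.toAlg.xg r9 s = Φ.word 0 0 0 s 0 0 by simp [word]]
  rw [Φ.word_mul, Φ.step6, Φ.step7, Φ.step8, Φ.step9, Φ.step10, Φ.step11, Φ.step9]
  apply Φ.word_congr <;> ring_nf <;> simp [CharTwo.two_eq_zero]

theorem conj10 (s : F) : Φ.toAlg.xg r10 s * Φ.word b a c d e f * Φ.toAlg.xg r10 s =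
    Φ.word b a c d e (f + b * s) := by
  conv_lhs => enter [1, 1]; rw [show Φ.toAlg.xg r10 s = Φ.word 0 0 0 0 s 0 by simp [word]]
  rw [Φ.word_mul, Φ.step6, Φ.step7, Φ.step8, Φ.step9, Φ.step10, Φ.step11, Φ.step10]
  apply Φ.word_congr <;> ring_nf <;> simp [CharTwo.two_eq_zero]

theorem cong6 (s : F) {b' a' c' d' e' f' : F} (h1 : b = b') (h2 : a = a') (h3 : c + s * a = c')
    (h4 : d + s * a ^ 2 = d') (h5 : e + s * a ^ 3 = e') (h6 : f + s * e + s * a ^ 2 * c = f') :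
    CongG2 (Φ.word b a c d e f) (Φ.word b' a' c' d' e' f') :=
  Φ.cong_xg r6 s ((Φ.conj6 b a c d e f s).trans (Φ.word_congr _ _ _ _ _ _ h1 h2 h3 h4 h5 h6))

theorem cong7 (s : F) {b' a' c' d' e' f' : F} (h1 : b = b') (h2 : a = a') (h3 : c + b * s = c')
    (h4 : d + b * s ^ 2 = d')
    (h5 : e + b * s ^ 3 + a * b * s ^ 2 + a ^ 2 * b * s + s * d + s ^ 2 * c = e')
    (h6 : f + a * b ^ 2 * s ^ 2 + b * c * s ^ 2 + s * c ^ 2 + b ^ 2 * s ^ 3 = f') :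
    CongG2 (Φ.word b a c d e f) (Φ.word b' a' c' d' e' f') :=
  Φ.cong_xg r7 s ((Φ.conj7 b a c d e f s).trans (Φ.word_congr _ _ _ _ _ _ h1 h2 h3 h4 h5 h6))

theorem cong8 (s : F) {b' a' c' d' e' f' : F} (h1 : b = b') (h2 : a = a') (h3 : c = c') (h4 : d = d')
    (h5 : e + a ^ 2 * s = e') (h6 : f + a * s ^ 2 + s * d = f') :
    CongG2 (Φ.word b a c d e f) (Φ.word b' a' c' d' e' f') :=
  Φ.cong_xg r8 s ((Φ.conj8 b a c d e f s).trans (Φ.word_congr _ _ _ _ _ _ h1 h2 h3 h4 h5 h6))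

theorem cong9 (s : F) {b' a' c' d' e' f' : F} (h1 : b = b') (h2 : a = a') (h3 : c = c') (h4 : d = d')
    (h5 : e + a * s = e') (h6 : f + c * s = f') :
    CongG2 (Φ.word b a c d e f) (Φ.word b' a' c' d' e' f') :=
  Φ.cong_xg r9 s ((Φ.conj9 b a c d e f s).trans (Φ.word_congr _ _ _ _ _ _ h1 h2 h3 h4 h5 h6))

theorem cong10 (s : F) {b' a' c' d' e' f' : F} (h1 : b = b') (h2 : a = a') (h3 : c = c') (h4 : d = d')
    (h5 : e = e') (h6 : f + b * s = f') :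
    CongG2 (Φ.word b a c d e f) (Φ.word b' a' c' d' e' f') :=
  Φ.cong_xg r10 s ((Φ.conj10 b a c d e f s).trans (Φ.word_congr _ _ _ _ _ _ h1 h2 h3 h4 h5 h6))

/-- `y` is a long or a short standard root element with non-zero coefficient. -/
def StdG2 (y : GL Cfsg.Lie.chevG2.Idx F) : Prop :=
  ∃ x : F, x ≠ 0 ∧ (y = Φ.toAlg.xg r9 x ∨ y = Φ.toAlg.xg r11 x)

/-- `g` is conjugate to a standard element. -/
def HasStd (g : GL Cfsg.Lie.chevG2.Idx F) : Prop := ∃ y, Φ.StdG2 y ∧ CongG2 g y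

theorem HasStd.of_cong {g g' : GL Cfsg.Lie.chevG2.Idx F} (h : CongG2 g g') (h' : Φ.HasStd g') : Φ.HasStd g :=
  let ⟨y, hy, h''⟩ := h'
  ⟨y, hy, h.trans h''⟩

theorem p0_eq : Φ.p ⟨0, by decide⟩ = r7 := Φ.p_eq_g2.1

theorem p1_eq : Φ.p ⟨1, by decide⟩ = r6 := Φ.p_eq_g2.2

theorem nw0 (r k : Fin Cfsg.Lie.chevG2.nroots) (x : F) (h : Cfsg.Lie.chevG2.reflectRoot 0 r.val = k.val) :
    Φ.nw (Φ.p ⟨0, by decide⟩) 1 * Φ.toAlg.xg r x * (Φ.nw (Φ.p ⟨0, by decide⟩) 1)⁻¹ = Φ.toAlg.xg k x := by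
  rw [Φ.nw_conj_two, Φ.refl_eq ⟨0, by decide⟩ r k h]

theorem nw1 (r k : Fin Cfsg.Lie.chevG2.nroots) (x : F) (h : Cfsg.Lie.chevG2.reflectRoot 1 r.val = k.val) :
    Φ.nw (Φ.p ⟨1, by decide⟩) 1 * Φ.toAlg.xg r x * (Φ.nw (Φ.p ⟨1, by decide⟩) 1)⁻¹ = Φ.toAlg.xg k x := by
  rw [Φ.nw_conj_two, Φ.refl_eq ⟨1, by decide⟩ r k h]

variable [Finite F]

/-- Case `x₉` leading. -/
theorem std9 (hd : d ≠ 0) : Φ.HasStd (Φ.word 0 0 0 d e f) := by
  refine HasStd.of_cong Φ (g' := Φ.word 0 0 0 d 0 f) (Φ.cong7 _ _ _ _ _ _ (e / d) rfl rfl ?_ ?_ ?_ ?_) ?_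
  · simp
  · simp
  · simp only [zero_mul, mul_zero, add_zero]; rw [div_mul_cancel₀ _ hd, CharTwo.add_self_eq_zero]
  · simp
  refine HasStd.of_cong Φ (g' := Φ.word 0 0 0 d 0 0) (Φ.cong8 _ _ _ _ _ _ (f / d) rfl rfl rfl rfl ?_ ?_) ?_
  · simp
  · simp only [zero_mul, mul_zero, add_zero]; rw [div_mul_cancel₀ _ hd, CharTwo.add_self_eq_zero]
  exact ⟨_, ⟨d, hd, Or.inl rfl⟩, 1, one_mem _, by simp [word]⟩

/-- Case `x₈` leading. -/
theorem std8 (hc : c ≠ 0) : Φ.HasStd (Φ.word 0 0 c 0 e f) := by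
  obtain ⟨s, hs⟩ := sqrt_two (F := F) (e / c)
  refine HasStd.of_cong Φ (g' := Φ.word 0 0 c 0 0 (f + s * c ^ 2))
    (Φ.cong7 _ _ _ _ _ _ s rfl rfl ?_ ?_ ?_ ?_) ?_
  · simp
  · simp
  · rw [hs]; simp only [zero_mul, mul_zero, add_zero]; rw [div_mul_cancel₀ _ hc, CharTwo.add_self_eq_zero]
  · simp
  refine HasStd.of_cong Φ (g' := Φ.word 0 0 c 0 0 0)
    (Φ.cong9 _ _ _ _ _ _ ((f + s * c ^ 2) / c) rfl rfl rfl rfl ?_ ?_) ?_
  · simp
  · rw [mul_div_cancel₀ _ hc, CharTwo.add_self_eq_zero]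
  refine ⟨_, ⟨c, hc, Or.inl rfl⟩, ?_⟩
  refine Φ.cong_nw ⟨0, by decide⟩ ?_
  rw [show Φ.word 0 0 c 0 0 0 = Φ.toAlg.xg r8 c by simp [word]]
  exact Φ.nw0 r8 r9 c (by decide +kernel)

/-- Case `a = b = 0`. -/
theorem stdA (h : c * d = 0) (hne : ¬ (c = 0 ∧ d = 0 ∧ e = 0 ∧ f = 0)) : Φ.HasStd (Φ.word 0 0 c d e f) := by
  rcases mul_eq_zero.1 h with rfl | rfl
  · by_cases hd : d = 0
    · subst hd
      by_cases he : e = 0
      · subst he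
        have hf : f ≠ 0 := fun hf => hne ⟨rfl, rfl, rfl, hf⟩
        exact ⟨_, ⟨f, hf, Or.inr rfl⟩, 1, one_mem _, by simp [word]⟩
      · refine HasStd.of_cong Φ (g' := Φ.word 0 0 0 0 e 0)
          (Φ.cong6 _ _ _ _ _ _ (f / e) rfl rfl ?_ ?_ ?_ ?_) ?_
        · simp
        · simp
        · simp
        · simp only [mul_zero, add_zero]; rw [div_mul_cancel₀ _ he, CharTwo.add_self_eq_zero]
        refine ⟨_, ⟨e, he, Or.inr rfl⟩, Φ.cong_nw ⟨1, by decide⟩ ?_⟩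
        rw [show Φ.word 0 0 0 0 e 0 = Φ.toAlg.xg r10 e by simp [word]]
        exact Φ.nw1 r10 r11 e (by decide +kernel)
    · exact Φ.std9 _ _ _ hd
  · by_cases hc : c = 0
    · subst hc
      by_cases he : e = 0
      · subst he
        have hf : f ≠ 0 := fun hf => hne ⟨rfl, rfl, rfl, hf⟩
        exact ⟨_, ⟨f, hf, Or.inr rfl⟩, 1, one_mem _, by simp [word]⟩
      · refine HasStd.of_cong Φ (g' := Φ.word 0 0 0 0 e 0)
          (Φ.cong6 _ _ _ _ _ _ (f / e) rfl rfl ?_ ?_ ?_ ?_) ?_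
        · simp
        · simp
        · simp
        · simp only [mul_zero, add_zero]; rw [div_mul_cancel₀ _ he, CharTwo.add_self_eq_zero]
        refine ⟨_, ⟨e, he, Or.inr rfl⟩, Φ.cong_nw ⟨1, by decide⟩ ?_⟩
        rw [show Φ.word 0 0 0 0 e 0 = Φ.toAlg.xg r10 e by simp [word]]
        exact Φ.nw1 r10 r11 e (by decide +kernel)
    · exact Φ.std8 _ _ _ hc

/-- The orthogonal pair `x₆ x₉`. -/
theorem std69 (hb : b ≠ 0) : Φ.HasStd (Φ.word b 0 0 d 0 f) := by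
  refine HasStd.of_cong Φ (g' := Φ.word b 0 0 d 0 0) (Φ.cong10 _ _ _ _ _ _ (f / b) rfl rfl rfl rfl rfl ?_) ?_
  · rw [mul_div_cancel₀ _ hb, CharTwo.add_self_eq_zero]
  by_cases hd : d = 0
  · subst hd
    refine HasStd.of_cong Φ (g' := Φ.toAlg.xg r10 b) (Φ.cong_nw ⟨0, by decide⟩ ?_) ?_
    · rw [show Φ.word b 0 0 0 0 0 = Φ.toAlg.xg r6 b by simp [word]]
      exact Φ.nw0 r6 r10 b (by decide +kernel)
    exact ⟨_, ⟨b, hb, Or.inr rfl⟩, Φ.cong_nw ⟨1, by decide⟩ (Φ.nw1 r10 r11 b (by decide +kernel))⟩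
  obtain ⟨s, hs⟩ := sqrt_two (F := F) (d / b)
  have h2 : (2 : F) = 0 := CharTwo.two_eq_zero
  have hbs : b * s ^ 2 = d := by rw [hs, mul_div_cancel₀ _ hb]
  refine HasStd.of_cong Φ (g' := Φ.word b 0 (b * s) 0 0 (b ^ 2 * s ^ 3))
    (Φ.cong7 _ _ _ _ _ _ s rfl rfl ?_ ?_ ?_ ?_) ?_
  · simp
  · rw [hbs, CharTwo.add_self_eq_zero]
  · rw [← hbs]; linear_combination (b * s ^ 3) * h2
  · simp
  refine HasStd.of_cong Φ (g' := Φ.word b 0 (b * s) 0 0 0)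
    (Φ.cong10 _ _ _ _ _ _ (b * s ^ 3) rfl rfl rfl rfl rfl ?_) ?_
  · linear_combination (b ^ 2 * s ^ 3) * h2
  have hs0 : s ≠ 0 := fun e => hd (by rw [← hbs, e]; simp)
  refine HasStd.of_cong Φ (g' := Φ.word 0 0 0 (b * s) b 0) (Φ.cong_nw ⟨0, by decide⟩ ?_) ?_
  · rw [show Φ.word b 0 (b * s) 0 0 0 = Φ.toAlg.xg r6 b * Φ.toAlg.xg r8 (b * s) by simp [word],
      show Φ.word 0 0 0 (b * s) b 0 = Φ.toAlg.xg r9 (b * s) * Φ.toAlg.xg r10 b by simp [word],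
      ← Φ.c9t, ← Φ.nw0 r6 r10 b (by decide +kernel), ← Φ.nw0 r8 r9 (b * s) (by decide +kernel)]
    group
  exact Φ.std9 _ _ _ (mul_ne_zero hb hs0)

theorem hasStd (hg : Φ.word b a c d e f * Φ.word b a c d e f = 1)
    (hne : Φ.word b a c d e f ≠ 1) : Φ.HasStd (Φ.word b a c d e f) := by
  obtain ⟨hab, h5, h6⟩ := Φ.square_eq _ _ _ _ _ _ hg
  have h2 : (2 : F) = 0 := CharTwo.two_eq_zero
  rcases mul_eq_zero.1 hab with rfl | rfl
  · by_cases hb : b = 0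
    · subst hb
      refine Φ.stdA _ _ _ _ ?_ ?_
      · linear_combination h6
      · rintro ⟨rfl, rfl, rfl, rfl⟩; exact hne Φ.word_zero
    · -- `b ≠ 0`, `a = 0`
      have key : b * e + c * d = 0 := by linear_combination h6
      set s := c / b with hs
      have hbs : b * s = c := by rw [hs, mul_div_cancel₀ _ hb]
      refine HasStd.of_cong Φ (g' := Φ.word b 0 0 (d + b * s ^ 2) 0
        (f + b * c * s ^ 2 + s * c ^ 2 + b ^ 2 * s ^ 3))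
        (Φ.cong7 _ _ _ _ _ _ s rfl rfl ?_ rfl ?_ ?_) (Φ.std69 _ _ _ hb)
      · rw [hbs, CharTwo.add_self_eq_zero]
      · have : b * (e + s * d) = 0 := by linear_combination key + d * hbs
        have he : e + s * d = 0 := (mul_eq_zero.1 this).resolve_left hb
        rw [← hbs]; linear_combination he + (b * s ^ 3) * h2
      · simp
  · -- `b = 0`
    by_cases ha : a = 0
    · subst ha
      refine Φ.stdA _ _ _ _ ?_ ?_
      · linear_combination h6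
      · rintro ⟨rfl, rfl, rfl, rfl⟩; exact hne Φ.word_zero
    have hd : d = a * c := by
      have : a * (d + a * c) = 0 := by linear_combination h5
      have := (mul_eq_zero.1 this).resolve_left ha
      linear_combination this - (a * c) * h2
    subst hd
    set s := c / a with hs
    have hsa : s * a = c := by rw [hs, div_mul_cancel₀ _ ha]
    set f1 := f + s * e + s * a ^ 2 * c with hf1
    set e1 := e + s * a ^ 3 with he1
    refine HasStd.of_cong Φ (g' := Φ.word 0 a 0 0 e1 f1) (Φ.cong6 _ _ _ _ _ _ s rfl rfl ?_ ?_ rfl rfl) ?_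
    · rw [hsa, CharTwo.add_self_eq_zero]
    · rw [← hsa]; linear_combination (s * a ^ 2) * h2
    refine HasStd.of_cong Φ (g' := Φ.word 0 a 0 0 0 f1)
      (Φ.cong9 _ _ _ _ _ _ (e1 / a) rfl rfl rfl rfl ?_ ?_) ?_
    · rw [mul_div_cancel₀ _ ha, CharTwo.add_self_eq_zero]
    · simp
    refine HasStd.of_cong Φ (g' := Φ.word 0 0 a 0 f1 0) (Φ.cong_nw ⟨1, by decide⟩ ?_) ?_
    · rw [show Φ.word 0 a 0 0 0 f1 = Φ.toAlg.xg r7 a * Φ.toAlg.xg r11 f1 by simp [word],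
        show Φ.word 0 0 a 0 f1 0 = Φ.toAlg.xg r8 a * Φ.toAlg.xg r10 f1 by simp [word],
        ← Φ.nw1 r7 r8 a (by decide +kernel), ← Φ.nw1 r11 r10 f1 (by decide +kernel)]
      group
    exact Φ.std8 _ _ _ ha

theorem node_conj (r : Fin Cfsg.Lie.chevG2.nroots) (i : Fin Cfsg.Lie.chevG2.rank) (h1 : Φ.A i r = 1)
    (h0 : ∀ j, j ≠ i → Φ.A j r = 0) {x : F} (hx : x ≠ 0) :
    CongG2 (Φ.toAlg.xg r x) (Φ.toAlg.xg r 1) := by
  refine ⟨Φ.toAlg.torus (Φ.coHom F (Function.update 1 i (Units.mk0 x hx)⁻¹)),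
    Φ.B_le_group (H_le_B (by rw [Φ.diagonalSubgroup_eq]; exact ⟨_, rfl⟩)), ?_⟩
  rw [Φ.toAlg.torus_xg, mul_inv_cancel_right, Φ.chi_coHom,
    Fintype.prod_eq_single i (fun j hj => by rw [h0 j hj, zpow_zero]), h1, zpow_one, Function.update_self]
  simp [hx]

/-- Every involution is conjugate to one of the two standard involutions. -/
theorem involution_cases {g : GL Cfsg.Lie.chevG2.Idx F} (hg : g ∈ Cfsg.Lie.chevG2.group F)
    (h2 : g * g = 1) (hne : g ≠ 1) :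
    CongG2 g (Φ.toAlg.xg r9 1) ∨ CongG2 g (Φ.toAlg.xg r11 1) := by
  haveI : Fact (Nat.Prime 2) := ⟨Nat.prime_two⟩
  obtain ⟨x, hx, hu⟩ := Φ.exists_conj_mem_U 2 hg (k := 1) (by rw [pow_one, pow_two, h2])
  obtain ⟨t, ht⟩ := (Φ.mem_US_iff (fun _ h => h) Φ.closed_pos).1 (Φ.posUnipotent_eq_US (F := F) ▸ hu)
  have hlist : rootList Φ.toTables.Pos = [r6, r7, r8, r9, r10, r11] :=
    (show _ = (List.finRange Cfsg.Lie.chevG2.nroots).filter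
      (fun r => decide (Cfsg.Lie.chevG2.nroots ≤ 2 * r.val)) from rfl).trans (by decide +kernel)
  have hw : x * g * x⁻¹ = Φ.word (t r6) (t r7) (t r8) (t r9) (t r10) (t r11) := by
    rw [ht, hlist]; simp [prodL, word, mul_assoc]
  obtain ⟨y, ⟨z, hz, hy⟩, hcy⟩ := Φ.hasStd (t r6) (t r7) (t r8) (t r9) (t r10) (t r11)
    (by rw [← hw, show x * g * x⁻¹ * (x * g * x⁻¹) = x * (g * g) * x⁻¹ by group, h2]; group)
    (by rw [← hw]; simpa [mul_inv_eq_one] using hne)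
  have h0 : CongG2 g y := CongG2.trans ⟨x, hx, hw⟩ hcy
  obtain ⟨hA, hA0, hA1⟩ := Φ.nine_dominant
  rcases hy with rfl | rfl
  · refine Or.inl (h0.trans (Φ.node_conj r9 ⟨0, by decide⟩ hA0 (fun j hj => ?_) hz))
    rw [(two_nodes j).resolve_left hj]; exact hA1
  · refine Or.inr (h0.trans (Φ.node_conj r11 ⟨1, by decide⟩ ?_ (fun j hj => ?_) hz))
    · rw [← Φ.cartan_val]; decide +kernel
    · rw [(two_nodes j).resolve_right hj, ← Φ.cartan_val]; decide +kernel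

/-- The two standard involutions are not conjugate. -/
theorem long_not_short (h : CongG2 (Φ.toAlg.xg r11 (1 : F)) (Φ.toAlg.xg r9 1)) : False := by
  obtain ⟨g, hg, hgt⟩ := h
  obtain ⟨b0, hb, n, hn, π, hπ, hm, u, hu, rfl⟩ := Φ.exists_normal_form hg
  obtain ⟨v, hv, k, hk, rfl⟩ := Φ.mem_B_iff.1 hb
  have hu' := Φ.Uneg_le_U hu
  have hcu := Φ.commute_U (h := r11) (show Cfsg.Lie.chevG2.nroots ≤ _ by decide) (by decide +kernel) (1 : F) hu'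
  obtain ⟨β, γ, hq⟩ := Φ.mem_top ((Φ.U_conj (inv_mem hv)).2 1)
  rw [inv_mul_eq_iff_eq_mul, ← mul_assoc] at hq
  obtain ⟨a11, ha, e, -⟩ := hm.1 r11
  obtain ⟨ch, rfl⟩ := Φ.exists_torus_of_mem_H hk
  have h1 : Φ.toAlg.xg (π r11) ((Φ.toSys.chi ch (π r11) : F) * (a11 * 1)) =
      Φ.word 0 0 0 1 β γ := by
    rw [show Φ.word 0 0 0 1 β γ = Φ.toAlg.xg r9 1 * Φ.toAlg.xg r10 β * Φ.toAlg.xg r11 γ by simp [word],
      ← hq, ← hgt]
    have ht := Φ.toAlg.torus_xg ch (π r11) (a11 * 1)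
    rw [← e] at ht
    calc Φ.toAlg.xg (π r11) ((Φ.toSys.chi ch (π r11) : F) * (a11 * 1))
        = Φ.toAlg.torus ch * (n * Φ.toAlg.xg r11 1 * n⁻¹) * (Φ.toAlg.torus ch)⁻¹ := by
          rw [ht, mul_inv_cancel_right]
      _ = Φ.toAlg.torus ch * n * (u * Φ.toAlg.xg r11 1 * u⁻¹) * (Φ.toAlg.torus ch * n)⁻¹ := by
          rw [hcu.symm.eq, mul_inv_cancel_right]; group
      _ = _ := by group
  have hc : (Φ.toSys.chi ch (π r11) : F) * (a11 * 1) ≠ 0 := by simp [ha]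
  have hUmem : Φ.toAlg.xg (π r11) ((Φ.toSys.chi ch (π r11) : F) * (a11 * 1)) ∈
      Cfsg.Lie.chevG2.posUnipotent F := by
    rw [h1, word]
    refine mul_mem (mul_mem (mul_mem (mul_mem (mul_mem ?_ ?_) ?_) ?_) ?_) ?_ <;>
      exact Φ.xg_mem_U (show Cfsg.Lie.chevG2.nroots ≤ _ by decide) _
  have hpos := Φ.xg_mem_U_imp hUmem hc
  have hlong : [0, 1, 5, 6, 10, 11].contains (π r11).val = true := by
    have hgen : ∀ (i : Fin Cfsg.Lie.chevG2.rank) (r : Fin Cfsg.Lie.chevG2.nroots),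
        [0, 1, 5, 6, 10, 11].contains r.val = true → [0, 1, 5, 6, 10, 11].contains (Φ.refl i r).val = true := by
      intro i r hr
      have key : ∀ (i : Fin Cfsg.Lie.chevG2.rank) (r : Fin Cfsg.Lie.chevG2.nroots),
          [0, 1, 5, 6, 10, 11].contains r.val = true →
            [0, 1, 5, 6, 10, 11].contains (Cfsg.Lie.chevG2.reflectRoot i.val r.val) = true := by
        decide +kernel
      have := key i r hr
      rwa [Φ.reflectRoot_eq] at this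
    clear h1 hc hUmem hpos e ha hm hgt hu hu' hcu hg hb
    revert hπ
    intro hπ
    suffices ∀ r : Fin Cfsg.Lie.chevG2.nroots, [0, 1, 5, 6, 10, 11].contains r.val = true →
        [0, 1, 5, 6, 10, 11].contains (π r).val = true from this r11 (by decide)
    induction hπ using Subgroup.closure_induction'' with
    | mem x hx => obtain ⟨i, -, rfl⟩ := hx; exact hgen i
    | inv_mem x hx => obtain ⟨i, -, rfl⟩ := hx; rw [Φ.reflPerm_inv']; exact hgen i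
    | one => exact fun r hr => hr
    | mul x y _ _ hx hy => exact fun r hr => hx _ (hy r hr)
  have hcases : ∀ r : Fin Cfsg.Lie.chevG2.nroots, Cfsg.Lie.chevG2.nroots ≤ 2 * r.val →
      [0, 1, 5, 6, 10, 11].contains r.val = true → r = r6 ∨ r = r10 ∨ r = r11 := by decide +kernel
  generalize hx : (Φ.toSys.chi ch (π r11) : F) * (a11 * 1) = x at h1
  rcases hcases _ hpos hlong with er | er | er <;> rw [er] at h1
  · rw [show Φ.toAlg.xg r6 x = Φ.word x 0 0 0 0 0 by simp [word]] at h1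
    exact zero_ne_one (Φ.word_inj h1).2.2.2.1
  · rw [show Φ.toAlg.xg r10 x = Φ.word 0 0 0 0 x 0 by simp [word]] at h1
    exact zero_ne_one (Φ.word_inj h1).2.2.2.1
  · rw [show Φ.toAlg.xg r11 x = Φ.word 0 0 0 0 0 x by simp [word]] at h1
    exact zero_ne_one (Φ.word_inj h1).2.2.2.1

end G2Involutions

end Chev

end CfsgLib.Chev
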