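/-
Generation by the monomial subgroup and fundamental root subgroups.
-/
import Cfsg.Agent.Lib.Chev.Perfect
import Cfsg.Agent.Lib.Chev.Inst
import Cfsg.Prelude.Def_ChevAutomorphisms

namespace CfsgLib.Chev

open Cfsg.Lie Matrix

/-- Fundamental indices reached from `i` by pairs of reflections. -/
def reachN (D : ChevalleyDatum) (i : ℕ) : ℕ → List ℕ
  | 0 => [i]
  | n + 1 =>
    let L := reachN D i n
    L ++ (List.range D.rank).filter fun j => !(L.contains j) &&
      L.any fun a => Nat.beq (D.reflectRoot a (D.reflectRoot j (D.simple a))) (D.simple j)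

/-- Roots reached from the fundamental root `i`. -/
def orbitN (D : ChevalleyDatum) (i : ℕ) : ℕ → List ℕ
  | 0 => [D.simple i]
  | n + 1 =>
    let L := orbitN D i n
    (List.range D.rank).foldl (fun L j => (L ++ L.map (D.reflectRoot j)).dedup) L

namespace Chev

variable {D : ChevalleyDatum} (Φ : Chev D) {F : Type*} [Field F] (M : Subgroup (GL D.Idx F))

/-- The root subgroup of index `r` lies in `M`. -/
def InM (r : ℕ) : Prop := ∀ (h : r < D.nroots) (v : F), Φ.toAlg.xg ⟨r, h⟩ v ∈ M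

variable {M} (hN : D.monomialSubgroup F ≤ M)

include hN in
theorem inM_reflect {j r : ℕ} (hj : j < D.rank) (hr : r < D.nroots) (h : Φ.InM M r) :
    D.reflectRoot j r < D.nroots ∧ Φ.InM M (D.reflectRoot j r) := by
  have e : D.reflectRoot j r = (Φ.refl ⟨j, hj⟩ ⟨r, hr⟩).val := Φ.reflectRoot_eq ⟨j, hj⟩ ⟨r, hr⟩
  refine ⟨e ▸ Fin.isLt _, ?_⟩
  rw [e]
  intro _ v
  set i : Fin D.rank := ⟨j, hj⟩
  set n := Φ.nw (Φ.p i) (1 : Fˣ)
  have hn : n ∈ M := hN (Φ.nw_mem_N _ _)
  have hc : (Φ.eta i ⟨r, hr⟩ : F) * (Φ.eta i ⟨r, hr⟩ : F) = 1 := by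
    rcases Φ.eta_unit i ⟨r, hr⟩ with e | e <;> simp [e]
  have := Φ.nw_conj_xg i ⟨r, hr⟩ ((Φ.eta i ⟨r, hr⟩ : F) * v)
  rw [← mul_assoc, hc, one_mul] at this
  rw [show Φ.toAlg.xg (Φ.refl i ⟨r, hr⟩) v = n * Φ.toAlg.xg ⟨r, hr⟩ ((Φ.eta i ⟨r, hr⟩ : F) * v) * n⁻¹ by
    rw [this, mul_inv_cancel_right]]
  exact mul_mem (mul_mem hn (h hr _)) (inv_mem hn)

include hN in
theorem inM_reach {i : ℕ} (hi : i < D.rank) (h : Φ.InM M (D.simple i)) :
    ∀ n, ∀ j ∈ reachN D i n, j < D.rank ∧ Φ.InM M (D.simple j) := by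
  intro n
  induction n with
  | zero => intro j hj; simp [reachN] at hj; subst hj; exact ⟨hi, h⟩
  | succ n ih =>
    intro j hj
    simp only [reachN, List.mem_append, List.mem_filter, List.mem_range, Bool.and_eq_true,
      List.any_eq_true, Nat.beq_eq] at hj
    rcases hj with hj | ⟨hjr, -, a, ha, e⟩
    · exact ih j hj
    · obtain ⟨har, haM⟩ := ih a ha
      refine ⟨hjr, ?_⟩
      have hlt : D.simple a < D.nroots := (Φ.simple_val ⟨a, har⟩) ▸ Fin.isLt _
      obtain ⟨h1, h2⟩ := Φ.inM_reflect hN hjr hlt haM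
      rw [← e]
      exact (Φ.inM_reflect hN har h1 h2).2

include hN in
theorem inM_orbit {i : ℕ} (hi : i < D.rank) (h : Φ.InM M (D.simple i)) :
    ∀ n, ∀ r ∈ orbitN D i n, r < D.nroots ∧ Φ.InM M r := by
  intro n
  induction n with
  | zero =>
    intro r hr
    simp [orbitN] at hr
    subst hr
    exact ⟨(Φ.simple_val ⟨i, hi⟩) ▸ Fin.isLt _, h⟩
  | succ n ih =>
    intro r hr
    rw [orbitN] at hr
    have key : ∀ (Js : List ℕ) (L : List ℕ), (∀ j ∈ Js, j < D.rank) →
        (∀ r ∈ L, r < D.nroots ∧ Φ.InM M r) →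
        ∀ r ∈ Js.foldl (fun L j => (L ++ L.map (D.reflectRoot j)).dedup) L, r < D.nroots ∧ Φ.InM M r := by
      intro Js
      induction Js with
      | nil => intro L _ hL r hr; exact hL r hr
      | cons j Js ihJ =>
        intro L hJs hL r hr
        refine ihJ _ (fun j' hj' => hJs j' (List.mem_cons_of_mem _ hj')) (fun s hs => ?_) r hr
        rw [List.mem_dedup, List.mem_append, List.mem_map] at hs
        rcases hs with hs | ⟨a, ha, rfl⟩
        · exact hL s hs
        · exact Φ.inM_reflect hN (hJs j List.mem_cons_self) (hL a ha).1 (hL a ha).2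
    exact key _ _ (fun j hj => List.mem_range.mp hj) ih r hr

include hN in
theorem group_le_of_simple (h : ∀ j, j < D.rank → Φ.InM M (D.simple j)) : D.group F ≤ M := by
  have hall : ∀ r : Fin D.nroots, Φ.InM M r.val := by
    intro r
    induction r using Φ.root_induction with
    | hp i => rw [← Φ.simple_val i]; exact h i.val i.isLt
    | hstep i r ih =>
      have := (Φ.inM_reflect hN i.isLt r.isLt ih).2
      rwa [show D.reflectRoot i.val r.val = (Φ.refl i r).val from Φ.reflectRoot_eq i r] at this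
  refine (Subgroup.closure_le _).mpr ?_
  rintro g ⟨r, t, hg⟩
  have : g = Φ.toAlg.xg r t := (Φ.toAlg.eq_xg_iff (r := r)).mp (by
    rw [hg, ChevalleyDatum.x, dif_pos r.isLt])
  rw [this]
  exact hall r r.isLt t

theorem inM_single {allow : ℤ → Bool} (hallow : ∀ c, allow c = true → (c : F) ≠ 0) {k : ℕ}
    {p : ℕ × ℕ} (h : isSingle D allow k p = true) (h1M : Φ.InM M p.1) (h2M : Φ.InM M p.2) :
    Φ.InM M k := by
  simp only [isSingle, Bool.and_eq_true, Nat.blt_eq, Bool.not_eq_true', Nat.beq_eq] at h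
  obtain ⟨⟨⟨⟨h1, h2⟩, h3⟩, h4⟩, h5⟩ := h
  have e1 : (⟨p.2, h2⟩ : Fin D.nroots) ≠ ⟨p.1, h1⟩ := fun e => by simp [Fin.ext_iff] at e; simp [e] at h3
  have e2 : (⟨p.2, h2⟩ : Fin D.nroots) ≠ (⟨p.1, h1⟩ : Fin D.nroots).rev := fun e => by
    have : p.2 = D.neg p.1 := (congrArg Fin.val e).trans (Φ.negIdx_eq ⟨p.1, h1⟩).symm
    simp [this] at h4
  split at h5
  · rename_i k' c heq
    simp only [Bool.and_eq_true, Nat.beq_eq] at h5
    obtain ⟨rfl, hc⟩ := h5
    intro hk v
    have hc' := hallow c hc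
    set r : Fin D.nroots := ⟨p.1, h1⟩
    set s : Fin D.nroots := ⟨p.2, h2⟩
    set t : F := -(v / c)
    have hform : (Φ.toAlg.xg s (1 : F))⁻¹ * (Φ.toAlg.xg r t)⁻¹ * Φ.toAlg.xg s 1 * Φ.toAlg.xg r t =
        Φ.toAlg.xg ⟨k', hk⟩ v := by
      rw [mul_assoc, mul_assoc, inv_mul_eq_iff_eq_mul, inv_mul_eq_iff_eq_mul]
      refine Units.ext ?_
      have hval : (c : F) * (-t) ^ 1 * 1 ^ 1 = v := by
        simp only [t, neg_neg, pow_one, mul_one]; field_simp
      simp only [Units.val_mul, Alg.xg_val]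
      rw [Φ.commutator_formula e1 e2 t 1, heq, mul_assoc]
      simp only [Sys.termProd, List.map_cons, List.map_nil, List.prod_cons, List.prod_nil, mul_one,
        Sys.XN, dif_pos hk]
      rw [← hval]
    rw [← hform]
    exact mul_mem (mul_mem (mul_mem (inv_mem (h2M h2 _)) (inv_mem (h1M h1 _))) (h2M h2 _)) (h1M h1 _)
  · simp at h5

end Chev

/-- Certificate: every fundamental root is reached from `L`, or is a single commutator of reached roots. -/
def genCert (D : ChevalleyDatum) (allow : ℤ → Bool) (i fuel : ℕ) : Bool :=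
  (List.range D.rank).all fun k => (reachN D i fuel).contains k ||
    (orbitN D i fuel).any fun r => (orbitN D i fuel).any fun s => isSingle D allow (D.simple k) (r, s)

theorem group_le_of_genCert {D : ChevalleyDatum} (Φ : Chev D) {F : Type*} [Field F]
    {allow : ℤ → Bool} (hallow : ∀ c, allow c = true → (c : F) ≠ 0) {i fuel : ℕ} (hi : i < D.rank)
    (hc : genCert D allow i fuel = true) :
    D.group F ≤ D.monomialSubgroup F ⊔ D.rootSubgroup F (D.simple i) := by
  set M := D.monomialSubgroup F ⊔ D.rootSubgroup F (D.simple i)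
  have hN : D.monomialSubgroup F ≤ M := le_sup_left
  have h0 : Φ.InM M (D.simple i) := fun h v =>
    Subgroup.mem_sup_right (Φ.toAlg.mem_rootSubgroup (r := ⟨D.simple i, h⟩) |>.mpr ⟨v, rfl⟩)
  refine Φ.group_le_of_simple hN fun k hk => ?_
  simp only [genCert, List.all_eq_true, List.mem_range, Bool.or_eq_true, List.contains_iff_mem,
    List.any_eq_true] at hc
  rcases hc k hk with h | ⟨r, hr, s, hs, h⟩
  · exact (Φ.inM_reach hN hi h0 fuel k h).2
  · exact Φ.inM_single hallow h (Φ.inM_orbit hN hi h0 fuel r hr).2 (Φ.inM_orbit hN hi h0 fuel s hs).2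

theorem group_le_of_pairCert {D : ChevalleyDatum} (Φ : Chev D) {F : Type*} [Field F]
    {i j fuel : ℕ} (hi : i < D.rank) (hj : j < D.rank)
    (hc : (List.range D.rank).all (fun k => (reachN D i fuel).contains k || (reachN D j fuel).contains k) = true) :
    D.group F ≤ D.monomialSubgroup F ⊔ D.rootSubgroup F (D.simple i) ⊔ D.rootSubgroup F (D.simple j) := by
  set M := D.monomialSubgroup F ⊔ D.rootSubgroup F (D.simple i) ⊔ D.rootSubgroup F (D.simple j)
  have hN : D.monomialSubgroup F ≤ M := le_sup_left.trans le_sup_left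
  have hi0 : Φ.InM M (D.simple i) := fun h v => Subgroup.mem_sup_left (Subgroup.mem_sup_right
    (Φ.toAlg.mem_rootSubgroup (r := ⟨D.simple i, h⟩) |>.mpr ⟨v, rfl⟩))
  have hj0 : Φ.InM M (D.simple j) := fun h v =>
    Subgroup.mem_sup_right (Φ.toAlg.mem_rootSubgroup (r := ⟨D.simple j, h⟩) |>.mpr ⟨v, rfl⟩)
  refine Φ.group_le_of_simple hN fun k hk => ?_
  simp only [List.all_eq_true, List.mem_range, Bool.or_eq_true, List.contains_iff_mem] at hc
  rcases hc k hk with h | h
  · exact (Φ.inM_reach hN hi hi0 fuel k h).2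
  · exact (Φ.inM_reach hN hj hj0 fuel k h).2

end CfsgLib.Chev
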