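/-
Orbit certificate for the Poincaré polynomial of the Weyl group of type D4.
-/
import Cfsg.Agent.Lib.Chev.PoincareCert
import Cfsg.Prelude.Def_ChevD4
import Cfsg.Prelude.Def_ChevStructure

namespace CfsgLib.Chev.Cert

open Cfsg.Lie

set_option maxRecDepth 100000

/-- The Cartan matrix. -/
def cmD4 (i j : Fin 4) : ℤ :=
  ([[2, -1, 0, 0], [-1, 2, -1, -1], [0, -1, 2, 0], [0, -1, 0, 2]].getD i.val []).getD j.val 0

/-- An orbit. -/
def orbD4_0 : Orbit :=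
  [([1, 0, 0, 0], 0),
   ([-1, 1, 0, 0], 1),
   ([0, -1, 1, 1], 2),
   ([0, 0, -1, 1], 3),
   ([0, 0, 1, -1], 3),
   ([0, 1, -1, -1], 4),
   ([1, -1, 0, 0], 5),
   ([-1, 0, 0, 0], 6)]

/-- An orbit. -/
def orbD4_1 : Orbit :=
  [([0, 0, 1, 0], 0),
   ([0, 1, -1, 0], 1),
   ([1, -1, 0, 1], 2),
   ([1, 0, 0, -1], 3)]

/-- An orbit. -/
def orbD4_2 : Orbit :=
  [([0, 1, 0, 0], 0),
   ([1, -1, 1, 1], 1),
   ([1, 0, 1, -1], 2)]

/-- An orbit. -/
def orbD4_3 : Orbit :=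
  [([0, 0, 0, 1], 0),
   ([0, 1, 0, -1], 1)]

/-- The chain. -/
def chainD4 : List (Fin 4 × Orbit) :=
  [(0, orbD4_0), (2, orbD4_1), (1, orbD4_2), (3, orbD4_3)]

theorem cartanD4 : ∀ a b : Fin 4,
    chevD4.cartan a.val (chevD4.simple b.val) = cmD4 a b := by
  decide +kernel

theorem chainD4_ok : chainOK cmD4 (List.finRange 4) chainD4 = true := by
  decide +kernel

theorem chainD4_deg : eqP (chainP chainD4) (degP [2, 4, 4, 6]) = true := by
  decide +kernel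

end CfsgLib.Chev.Cert
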