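/-
Centralizers of products of two commuting root elements; the F4 case in characteristic two.
-/
import Cfsg.Agent.Lib.Chev.RootCentralizerG2
import Cfsg.Agent.Lib.Chev.Inst

namespace CfsgLib.Chev

open Cfsg.Lie Matrix

set_option linter.dupNamespace false
set_option linter.unusedSectionVars false
set_option maxRecDepth 100000

variable {D : ChevalleyDatum}

namespace Chev

section General

variable (Φ : Chev D) {F : Type*} [Field F]

/-- The stabiliser of the roots of a dominant combination lies in the reflection group orthogonal to it. -/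
theorem mem_WK_of_fix {c : Fin D.nroots → ℤ} (hd : ∀ i, 0 ≤ ∑ r, c r * Φ.A i r) :
    ∀ {π : Equiv.Perm (Fin D.nroots)}, π ∈ Φ.WL → (∀ r, c r ≠ 0 → π r = r) →
      π ∈ Φ.WK {i | ∑ r, c r * Φ.A i r = 0} := by
  set wt : Equiv.Perm (Fin D.nroots) → Fin D.rank → ℤ := fun π j => ∑ r, c r * Φ.V (π r) j with hwt
  have step : ∀ {π : Equiv.Perm (Fin D.nroots)}, π ∈ Φ.WL → ∀ i j,
      wt (π * Φ.reflPerm i) j = wt π j - (∑ r, c r * Φ.A i r) * Φ.V (π (Φ.p i)) j := by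
    intro π hπ i j
    simp only [hwt]
    rw [Finset.sum_mul, ← Finset.sum_sub_distrib]
    refine Finset.sum_congr rfl fun r _ => ?_
    show c r * Φ.V (π (Φ.refl i r)) j = _
    rw [Φ.V_map_refl hπ]
    ring
  have hle : ∀ {π : Equiv.Perm (Fin D.nroots)}, π ∈ Φ.WL → ∀ j, wt π j ≤ wt 1 j := by
    intro π
    induction e : Φ.inv π using Nat.strong_induction_on generalizing π with
    | _ k ih =>
      intro hπ j
      by_cases h1 : π = 1
      · subst h1; exact le_rfl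
      obtain ⟨i, hi⟩ := Φ.exists_right_descent hπ h1
      have hπ' := mul_mem hπ (Φ.reflPerm_mem_WL i)
      have hle := ih _ (e ▸ Φ.inv_mul_refl_lt hπ hi) rfl hπ' j
      have hp := Φ.V_nonneg _ (Φ.pos_after_descent hπ hi) j
      have key := step hπ' i j
      rw [Φ.reflPerm_reflPerm] at key
      have := mul_nonneg (hd i) hp
      omega
  suffices key : ∀ {π : Equiv.Perm (Fin D.nroots)}, π ∈ Φ.WL → (∀ j, wt π j = wt 1 j) →
      π ∈ Φ.WK {i | ∑ r, c r * Φ.A i r = 0} by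
    intro π hπ hfix
    refine key hπ fun j => ?_
    simp only [hwt]
    refine Finset.sum_congr rfl fun r _ => ?_
    by_cases hr : c r = 0
    · rw [hr, zero_mul, zero_mul]
    · rw [hfix r hr]; rfl
  intro π
  induction e : Φ.inv π using Nat.strong_induction_on generalizing π with
  | _ k ih =>
    intro hπ hfix
    by_cases h1 : π = 1
    · subst h1; exact one_mem _
    obtain ⟨i, hi⟩ := Φ.exists_right_descent hπ h1
    have hπ' := mul_mem hπ (Φ.reflPerm_mem_WL i)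
    have hp := Φ.pos_after_descent hπ hi
    obtain ⟨j, hj⟩ := Φ.exists_V_pos hp
    have key := step hπ' i j
    rw [Φ.reflPerm_reflPerm, hfix] at key
    have hA : (∑ r, c r * Φ.A i r) = 0 := by
      have h0 : (∑ r, c r * Φ.A i r) * Φ.V ((π * Φ.reflPerm i) (Φ.p i)) j ≤ 0 := by
        have := hle hπ' j
        omega
      have := nonpos_of_mul_nonpos_left h0 hj
      have := hd i
      omega
    have hfix' : ∀ j, wt (π * Φ.reflPerm i) j = wt 1 j := fun m => by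
      rw [step hπ, hA, zero_mul, sub_zero, hfix]
    have := mul_mem (ih _ (e ▸ Φ.inv_mul_refl_lt hπ hi) rfl hπ' hfix')
      (Φ.reflPerm_mem_WK (show i ∈ {i : Fin D.rank | ∑ r, c r * Φ.A i r = 0} from hA))
    rwa [Φ.reflPerm_reflPerm] at this

/-- A product of root elements of pairwise commuting negative roots is trivial only with zero coefficients. -/
theorem coef_zero_of_neg {M : List (Fin D.nroots)} (hM : M.Nodup) (g : Fin D.nroots → F)
    (hneg : ∀ r ∈ M, ¬ Φ.toTables.Pos r)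
    (hcomm : ∀ r ∈ M, ∀ s ∈ M, ∀ a b : F, Commute (Φ.toAlg.xg r a) (Φ.toAlg.xg s b))
    (h : Φ.prodL M g = 1) : ∀ r ∈ M, g r = 0 := by
  classical
  obtain ⟨w, hwW, hlong⟩ := Φ.exists_longest
  have hwL : w ∈ Φ.WL := by
    refine (Subgroup.closure_le _).2 ?_ hwW
    rintro _ ⟨i, rfl⟩
    exact Φ.reflPerm_mem_WL i
  obtain ⟨n, -, hn⟩ := Φ.exists_preimage F hwL
  choose a ha hconj _ using hn.1
  set g' : Fin D.nroots → F := fun s => a (w.symm s) * g (w.symm s) with hg'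
  have hprod : Φ.prodL (M.map w) g' = n * Φ.prodL M g * n⁻¹ := by
    clear h hM hneg hcomm
    induction M with
    | nil => simp [prodL]
    | cons r M ih =>
      simp only [prodL, List.map_cons, List.prod_cons] at ih ⊢
      rw [ih, hg', show ∀ y z : GL D.Idx F, n * (y * z) * n⁻¹ = n * y * n⁻¹ * (n * z * n⁻¹) from
        fun y z => by group, hconj]
      simp
  have hz : ∀ N : List (Fin D.nroots), Φ.prodL N (fun _ => (0 : F)) = 1 := fun N => by
    refine List.prod_eq_one fun x hx => ?_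
    obtain ⟨r, -, rfl⟩ := List.mem_map.1 hx
    exact Φ.toAlg.xg_zero r
  rw [h, mul_one, mul_inv_cancel] at hprod
  have hc : ∀ r ∈ M.map w, ∀ s ∈ M.map w, Commute (Φ.toAlg.xg r (g' r)) (Φ.toAlg.xg s (g' s)) := by
    intro r hr s hs
    obtain ⟨r', hr', rfl⟩ := List.mem_map.1 hr
    obtain ⟨s', hs', rfl⟩ := List.mem_map.1 hs
    simp only [hg', Equiv.symm_apply_apply]
    rw [← hconj, ← hconj]
    exact (hcomm r' hr' s' hs' _ _).map (MulAut.conj n).toMonoidHom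
  have hpos : ∀ r ∈ M.map w, g' r ≠ 0 → Φ.toTables.Pos r := by
    intro r hr _
    obtain ⟨r', hr', rfl⟩ := List.mem_map.1 hr
    exact (hlong r').2 (hneg r' hr')
  rw [Φ.prodL_eq_of_commute' (hM.map w.injective) g' hpos hc, ← hz (rootList Φ.toTables.Pos)] at hprod
  intro r hr
  have hm : w r ∈ M.map w := List.mem_map.2 ⟨r, hr, rfl⟩
  have := Φ.prodL_injective (pairwise_rootList _) (fun r hr => mem_rootList.1 hr) hprod (w r)
    (mem_rootList.2 ((hlong r).2 (hneg r hr)))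
  rw [if_pos hm] at this
  simp only [hg', Equiv.symm_apply_apply] at this
  exact (mul_eq_zero.1 this).resolve_left (ha r)

/-- A monomial element carrying one product of pairwise commuting positive root elements to another permutes
the roots with nonzero coefficients, and moves the factors accordingly. -/
theorem mem_of_conj_prodL {n : GL D.Idx F} {π : Equiv.Perm (Fin D.nroots)} (hm : Φ.Mono n π)
    {L : List (Fin D.nroots)} (hL : L.Nodup) (hpos : ∀ r ∈ L, Φ.toTables.Pos r)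
    (hcomm : ∀ r ∈ L, ∀ s ∈ L, ∀ a b : F, Commute (Φ.toAlg.xg r a) (Φ.toAlg.xg s b))
    {f f' : Fin D.nroots → F} (h : n * Φ.prodL L f * n⁻¹ = Φ.prodL L f') :
    ∀ r ∈ L, f r ≠ 0 → π r ∈ L ∧ n * Φ.toAlg.xg r (f r) * n⁻¹ = Φ.toAlg.xg (π r) (f' (π r)) := by
  classical
  choose a ha hconj _ using hm.1
  set g : Fin D.nroots → F := fun s => a (π.symm s) * f (π.symm s) with hg
  set L1 := L.map π with hL1
  have hprod : Φ.prodL L1 g = Φ.prodL L f' := by
    rw [← h, hL1]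
    clear h hL hpos hcomm hL1 L1
    induction L with
    | nil => simp [prodL]
    | cons r L ih =>
      simp only [prodL, List.map_cons, List.prod_cons] at ih ⊢
      rw [ih, hg, show ∀ y z : GL D.Idx F, n * (y * z) * n⁻¹ = n * y * n⁻¹ * (n * z * n⁻¹) from
        fun y z => by group, hconj]
      simp
  have hc : ∀ r ∈ L1, ∀ s ∈ L1, ∀ x y : F, Commute (Φ.toAlg.xg r x) (Φ.toAlg.xg s y) := by
    intro r hr s hs x y
    obtain ⟨r', hr', rfl⟩ := List.mem_map.1 hr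
    obtain ⟨s', hs', rfl⟩ := List.mem_map.1 hs
    have := (hcomm r' hr' s' hs' (x / a r') (y / a s')).map (MulAut.conj n).toMonoidHom
    simpa [hconj, mul_div_cancel₀ _ (ha r'), mul_div_cancel₀ _ (ha s')] using this
  have hL1n : L1.Nodup := hL.map π.injective
  set P := L1.filter (fun r => decide (Φ.toTables.Pos r)) with hP
  set N := L1.filter (fun r => !decide (Φ.toTables.Pos r)) with hN
  have hperm : (P ++ N).Perm L1 := List.filter_append_perm _ L1
  have hsplit : Φ.prodL L1 g = Φ.prodL P g * Φ.prodL N g := by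
    have e : Φ.prodL (P ++ N) g = Φ.prodL L1 g := by
      refine List.Perm.prod_eq' (hperm.map _) ?_
      refine List.pairwise_map.2 (List.Pairwise.imp_of_mem (R := fun _ _ => True) ?_ ?_)
      · intro x y hx hy _
        exact hc x (hperm.subset hx) y (hperm.subset hy) _ _
      · exact List.pairwise_of_forall fun _ _ => trivial
    rw [← e]; simp [prodL]
  have hU : ∀ (M : List (Fin D.nroots)) (t : Fin D.nroots → F), (∀ r ∈ M, Φ.toTables.Pos r) →
      Φ.prodL M t ∈ D.posUnipotent F := by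
    intro M t hM
    refine Subgroup.list_prod_mem _ fun x hx => ?_
    obtain ⟨r, hr, rfl⟩ := List.mem_map.1 hx
    exact Φ.xg_mem_U (hM r hr) _
  have hPpos : ∀ r ∈ P, Φ.toTables.Pos r := fun r hr => by simpa [hP] using (List.mem_filter.1 hr).2
  have hNneg : ∀ r ∈ N, ¬ Φ.toTables.Pos r := fun r hr => by simpa [hN] using (List.mem_filter.1 hr).2
  have hN1 : Φ.prodL N g = 1 := by
    refine Φ.eq_one_of_U_of_V ?_ (Subgroup.list_prod_mem _ fun x hx => ?_)
    · rw [eq_inv_mul_of_mul_eq (hsplit.symm.trans hprod)]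
      exact mul_mem (inv_mem (hU P g hPpos)) (hU L f' hpos)
    · obtain ⟨r, hr, rfl⟩ := List.mem_map.1 hx
      exact Φ.xg_mem_V (hNneg r hr) _
  have hzero : ∀ r ∈ N, g r = 0 :=
    Φ.coef_zero_of_neg (hL1n.filter _) g hNneg
      (fun r hr s hs => hc r (List.mem_filter.1 hr).1 s (List.mem_filter.1 hs).1) hN1
  rw [hsplit, hN1, mul_one, Φ.prodL_eq_of_commute (hL1n.filter _) g hPpos
    (fun r hr s hs => hc r (List.mem_filter.1 hr).1 s (List.mem_filter.1 hs).1 _ _),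
    Φ.prodL_eq_of_commute hL f' hpos (fun r hr s hs => hcomm r hr s hs _ _)] at hprod
  intro r hr hf
  have hgr : g (π r) = a r * f r := by simp [hg]
  have hne : g (π r) ≠ 0 := hgr ▸ mul_ne_zero (ha r) hf
  have hm1 : π r ∈ L1 := List.mem_map.2 ⟨r, hr, rfl⟩
  have hpr : Φ.toTables.Pos (π r) := by
    by_contra hn
    exact hne (hzero _ (List.mem_filter.2 ⟨hm1, by simpa using hn⟩))
  have := Φ.prodL_injective (pairwise_rootList _) (fun r hr => mem_rootList.1 hr) hprod (π r)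
    (mem_rootList.2 hpr)
  rw [if_pos (show π r ∈ P from List.mem_filter.2 ⟨hm1, by simpa using hpr⟩)] at this
  have hmem : π r ∈ L := by
    by_contra hn
    rw [if_neg hn] at this
    exact hne this
  rw [if_pos hmem, hgr] at this
  exact ⟨hmem, by rw [hconj, this]⟩

/-- A monomial element fixing the root elements of some roots lies in the group generated by the
fundamental `SL₂`-subgroups orthogonal to them. -/
theorem mono_mem [CharP F 2] {K : Set (Fin D.rank)} {M : Subgroup (GL D.Idx F)}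
    {H : List (Fin D.nroots)} (hA : ∀ i ∈ K, ∀ h ∈ H, Φ.A i h = 0)
    (hnw : ∀ i ∈ K, ∀ t : Fˣ, Φ.nw (Φ.p i) t ∈ M)
    (hind : ∀ e : Fin D.rank → Fˣ, (∀ h ∈ H, ∏ k, e k ^ Φ.A k h = 1) → ∀ k ∉ K, e k = 1)
    {n : GL D.Idx F} (hnN : n ∈ D.monomialSubgroup F) {π : Equiv.Perm (Fin D.nroots)} (hm : Φ.Mono n π)
    (hπ : π ∈ Φ.WK K) (hfix : ∀ h ∈ H, n * Φ.toAlg.xg h 1 * n⁻¹ = Φ.toAlg.xg h (1 : F)) : n ∈ M := by
  classical
  obtain ⟨m, hmN, hmM, hmc, hmm⟩ : ∃ m ∈ D.monomialSubgroup F, m ∈ M ∧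
      (∀ h ∈ H, Commute m (Φ.toAlg.xg h (1 : F))) ∧ Φ.Mono m π := by
    clear hm hfix
    induction hπ using Subgroup.closure_induction with
    | mem x hx =>
      obtain ⟨i, hi, rfl⟩ := hx
      exact ⟨_, Φ.nw_mem_N (Φ.p i) 1, hnw i hi 1, fun h hh => Φ.nw_commute (hA i hi h hh) 1,
        Φ.nw_one_mono i⟩
    | one => exact ⟨1, one_mem _, one_mem _, fun h _ => Commute.one_left _, Mono.one Φ⟩
    | mul x y _ _ hx hy =>
      obtain ⟨m, a1, a2, a3, a4⟩ := hx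
      obtain ⟨m', b1, b2, b3, b4⟩ := hy
      exact ⟨m * m', mul_mem a1 b1, mul_mem a2 b2, fun h hh => (a3 h hh).mul_left (b3 h hh),
        Mono.mul Φ a4 b4⟩
    | inv x _ hx =>
      obtain ⟨m, a1, a2, a3, a4⟩ := hx
      exact ⟨m⁻¹, inv_mem a1, inv_mem a2, fun h hh => (a3 h hh).inv_left, Φ.mono_inv a1 a4⟩
  have hH := Φ.inv_mul_mem_H hmN hnN hmm hm
  rw [Φ.diagonalSubgroup_eq] at hH
  obtain ⟨e, he⟩ := hH
  rw [MonoidHom.comp_apply] at he
  have hchi : ∀ h ∈ H, ∏ k, e k ^ Φ.A k h = 1 := by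
    intro h hh
    have hk : (m⁻¹ * n) * Φ.toAlg.xg h 1 * (m⁻¹ * n)⁻¹ = Φ.toAlg.xg h (1 : F) := by
      calc (m⁻¹ * n) * Φ.toAlg.xg h 1 * (m⁻¹ * n)⁻¹
          = m⁻¹ * (n * Φ.toAlg.xg h 1 * n⁻¹) * m := by group
        _ = _ := by rw [hfix h hh, mul_assoc, ← (hmc h hh).eq, inv_mul_cancel_left]
    rw [← he, Φ.toAlg.torus_xg, mul_inv_cancel_right] at hk
    have := Φ.toAlg.xg_injective h hk
    rw [← Φ.chi_coHom]
    exact Units.ext (by simpa using this)
  have hkM : m⁻¹ * n ∈ M := by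
    rw [← he, Φ.coHom_mem]
    refine Subgroup.list_prod_mem _ fun x hx => ?_
    obtain ⟨k, -, rfl⟩ := List.mem_map.1 hx
    by_cases hk : k ∈ K
    · exact mul_mem (hnw k hk _) (hnw k hk _)
    · rw [hind e hchi k hk, Φ.hw_one]; exact one_mem _
  simpa using mul_mem hmM hkM

/-- Conjugation by a root element, when one commutator term is odd. -/
theorem conj_one_term [CharP F 2] {r s k : Fin D.nroots} (hrs : s ≠ r) (hneg : s ≠ r.rev) {c : ℤ}
    (hc : c % 2 = 1) (hL : D.commTerms r.val s.val = [(k.val, c, 1, 1)])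
    (hsk : ∀ x y : F, Commute (Φ.toAlg.xg s x) (Φ.toAlg.xg k y)) (t u : F) :
    Φ.toAlg.xg s u * Φ.toAlg.xg r t * (Φ.toAlg.xg s u)⁻¹ = Φ.toAlg.xg r t * Φ.toAlg.xg k (t * u) := by
  have hc' : (c : F) = 1 := by
    have : ((c - 1 : ℤ) : F) = 0 := cast_even (by omega)
    rwa [Int.cast_sub, Int.cast_one, sub_eq_zero] at this
  rw [Φ.comm_xg hrs hneg, hL]
  simp only [tval, List.map_cons, List.map_nil, List.prod_cons, List.prod_nil, mul_one, dif_pos k.isLt,
    Fin.eta, hc', one_mul, pow_one, CharTwo.neg_eq]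
  rw [mul_assoc (Φ.toAlg.xg r t), (hsk u (t * u)).eq, ← mul_assoc, mul_inv_cancel_right]

end General

section F4

variable (Φ : Chev Cfsg.Lie.chevF4) {F : Type*} [Field F]

/-- A root index of F4. -/
def f4 (k : ℕ) (hk : k < Cfsg.Lie.chevF4.nroots := by decide) : Fin Cfsg.Lie.chevF4.nroots := ⟨k, hk⟩

/-- The invariant form in weight coordinates. -/
def form4 (a b : Fin 4 → ℤ) : ℤ :=
  a 0 * (2 * b 0 + 3 * b 1 + 4 * b 2 + 2 * b 3) + a 1 * (3 * b 0 + 6 * b 1 + 8 * b 2 + 4 * b 3) +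
    a 2 * (4 * b 0 + 8 * b 1 + 12 * b 2 + 6 * b 3) + a 3 * (2 * b 0 + 4 * b 1 + 6 * b 2 + 4 * b 3)

/-- The form on two roots. -/
def ip4 (r s : ℕ) : ℤ :=
  form4 (fun i => Cfsg.Lie.chevF4.cartan i.val r) (fun i => Cfsg.Lie.chevF4.cartan i.val s)

theorem four_nodes : ∀ k : Fin Cfsg.Lie.chevF4.rank, k = ⟨0, by decide⟩ ∨ k = ⟨1, by decide⟩ ∨
    k = ⟨2, by decide⟩ ∨ k = ⟨3, by decide⟩ := by decide

theorem ip4_refl (i : Fin Cfsg.Lie.chevF4.rank) (r s : Fin Cfsg.Lie.chevF4.nroots) :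
    ip4 (Φ.refl i r).val (Φ.refl i s).val = ip4 r.val s.val := by
  have hi : i.val < 4 := lt_of_lt_of_eq i.isLt (by decide)
  have h4 : ∀ j : Fin 4, j.val < Cfsg.Lie.chevF4.rank := fun j => lt_of_lt_of_eq j.isLt (by decide)
  have hA : ∀ (t : Fin Cfsg.Lie.chevF4.nroots) (j : Fin 4), Cfsg.Lie.chevF4.cartan j.val (Φ.refl i t).val =
      Cfsg.Lie.chevF4.cartan j.val t.val - Cfsg.Lie.chevF4.cartan i.val t.val *
        Cfsg.Lie.chevF4.cartan j.val (Cfsg.Lie.chevF4.simple i.val) := fun t j => by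
    have := Φ.A_refl i t ⟨j.val, h4 j⟩
    rw [← Φ.cartan_val, ← Φ.cartan_val, ← Φ.cartan_val, ← Φ.cartan_val, ← Φ.simple_val] at this
    exact this
  have c : ∀ a b : Fin 4, Cfsg.Lie.chevF4.cartan a.val (Cfsg.Lie.chevF4.simple b.val) =
      ![![2, -1, 0, 0], ![-1, 2, -2, 0], ![0, -1, 2, -1], ![0, 0, -1, 2]] a b := by decide +kernel
  simp only [ip4, form4, hA, show Cfsg.Lie.chevF4.simple i.val = Cfsg.Lie.chevF4.simple (⟨i.val, hi⟩ : Fin 4).val
    from rfl, c]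
  rcases four_nodes i with rfl | rfl | rfl | rfl <;> simp <;> ring

theorem ip4_map {π : Equiv.Perm (Fin Cfsg.Lie.chevF4.nroots)} (hπ : π ∈ Φ.WL) :
    ∀ r s, ip4 (π r).val (π s).val = ip4 r.val s.val := by
  induction hπ using Subgroup.closure_induction'' with
  | mem x hx => obtain ⟨i, -, rfl⟩ := hx; exact fun r s => Φ.ip4_refl i r s
  | inv_mem x hx => obtain ⟨i, -, rfl⟩ := hx; rw [Φ.reflPerm_inv']; exact fun r s => Φ.ip4_refl i r s
  | one => exact fun r s => rfl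
  | mul x y _ _ hx hy => exact fun r s => (hx (y r) (y s)).trans (hy r s)

variable [CharP F 2]

theorem commute_f4 {r s : Fin Cfsg.Lie.chevF4.nroots}
    (h : r = s ∨ (s ≠ r.rev ∧ ∀ c ∈ Cfsg.Lie.chevF4.commTerms r.val s.val, c.2.1 % 2 = 0)) (a b : F) :
    Commute (Φ.toAlg.xg r a) (Φ.toAlg.xg s b) := by
  by_cases e : s = r
  · subst e
    show _ = _
    rw [← Φ.toAlg.xg_add, ← Φ.toAlg.xg_add, add_comm]
  · obtain ⟨h1, h2⟩ := h.resolve_left (Ne.symm e)
    exact Φ.commute_of_even e h1 h2 a b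

theorem mem_root {k : ℕ} {hk : k < Cfsg.Lie.chevF4.nroots} (a : F) :
    Φ.toAlg.xg (f4 k hk) a ∈ Cfsg.Lie.chevF4.rootSubgroup F k :=
  (Φ.toAlg.mem_rootSubgroup (r := f4 k hk)).2 ⟨a, rfl⟩

theorem p_f4 : Φ.p ⟨0, by decide⟩ = f4 33 ∧ Φ.p ⟨1, by decide⟩ = f4 27 ∧ Φ.p ⟨2, by decide⟩ = f4 25 ∧
    Φ.p ⟨3, by decide⟩ = f4 24 := by
  refine ⟨Fin.ext ?_, Fin.ext ?_, Fin.ext ?_, Fin.ext ?_⟩ <;>
    (rw [← Φ.simple_val]; decide +kernel)

theorem dn_normal {g : GL Cfsg.Lie.chevF4.Idx F} (hg : g ∈ Cfsg.Lie.chevF4.group F) :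
    ∃ v ∈ Cfsg.Lie.chevF4.posUnipotent F, ∃ n ∈ Cfsg.Lie.chevF4.monomialSubgroup F, ∃ π ∈ Φ.WL,
      Φ.Mono n π ∧ ∃ u ∈ Φ.Uneg F π, g = v * n * u := by
  obtain ⟨b, hb, n, hn, π, hπ, hm, u, hu, rfl⟩ := Φ.exists_normal_form hg
  obtain ⟨v, hv, d, hd', rfl⟩ := Φ.mem_B_iff.1 hb
  obtain ⟨c, hc'⟩ := Φ.exists_torus_of_mem_H hd'
  refine ⟨v, hv, d * n, mul_mem (H_le_N hd') hn, π, hπ, ?_, u, hu, by group⟩
  have := Mono.mul Φ (Φ.mono_torus c) hm
  rwa [← hc', one_mul] at this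

/-- The centralizer of the product of the highest long and short root elements. -/
theorem high_pair_centralizer :
    Cfsg.Lie.chevF4.group F ⊓ Subgroup.centralizer {Φ.toAlg.xg (f4 47) (1 : F) * Φ.toAlg.xg (f4 44) 1} =
      Cfsg.Lie.chevF4.posUnipotent F ⊔ Cfsg.Lie.chevF4.rootSubgroup F 20 ⊔
        Cfsg.Lie.chevF4.rootSubgroup F 22 := by
  classical
  set M := Cfsg.Lie.chevF4.posUnipotent F ⊔ Cfsg.Lie.chevF4.rootSubgroup F 20 ⊔
        Cfsg.Lie.chevF4.rootSubgroup F 22 with hM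
  have hU : Cfsg.Lie.chevF4.posUnipotent F ≤ M := le_trans le_sup_left le_sup_left
  obtain ⟨p0, p1, p2, p3⟩ := Φ.p_f4
  have hN1 : ∀ c, Φ.toAlg.xg (Φ.p ⟨1, by decide⟩).rev c ∈ M := fun c => by
    rw [p1, show (f4 27).rev = f4 20 by decide]
    exact Subgroup.mem_sup_left (Subgroup.mem_sup_right (Φ.mem_root c))
  have hN2 : ∀ c, Φ.toAlg.xg (Φ.p ⟨2, by decide⟩).rev c ∈ M := fun c => by
    rw [p2, show (f4 25).rev = f4 22 by decide]
    exact Subgroup.mem_sup_right (Φ.mem_root c)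
  have e47 : evenComm Cfsg.Lie.chevF4 (f4 47) = true := by decide +kernel
  have e44 : evenComm Cfsg.Lie.chevF4 (f4 44) = true := by decide +kernel
  have q47 : Φ.toTables.Pos (f4 47) := show Cfsg.Lie.chevF4.nroots ≤ _ by decide
  have q44 : Φ.toTables.Pos (f4 44) := show Cfsg.Lie.chevF4.nroots ≤ _ by decide
  have hUw : ∀ x ∈ Cfsg.Lie.chevF4.posUnipotent F,
      Commute x (Φ.toAlg.xg (f4 47) (1 : F) * Φ.toAlg.xg (f4 44) 1) := fun x hx =>
    ((Φ.commute_U q47 e47 1 hx).mul_left (Φ.commute_U q44 e44 1 hx)).symm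
  have hA : ∀ i : Fin Cfsg.Lie.chevF4.rank, i = ⟨1, by decide⟩ ∨ i = ⟨2, by decide⟩ →
      ∀ h ∈ [f4 47, f4 44], Φ.A i h = 0 := by
    have key : ∀ i : Fin Cfsg.Lie.chevF4.rank, i = ⟨1, by decide⟩ ∨ i = ⟨2, by decide⟩ →
        ∀ h ∈ [f4 47, f4 44], Cfsg.Lie.chevF4.cartan i.val h.val = 0 := by decide +kernel
    intro i hi h hh
    rw [← Φ.cartan_val]
    exact key i hi h hh
  refine le_antisymm ?_ ?_
  · rintro g ⟨hg, hc⟩
    have hgc := Subgroup.mem_centralizer_singleton_iff.1 hc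
    obtain ⟨v, hv, n, hn, π, hπ, hm, u, hu, rfl⟩ := Φ.dn_normal hg
    have hu' := Φ.Uneg_le_U hu
    set w := Φ.toAlg.xg (f4 47) (1 : F) * Φ.toAlg.xg (f4 44) 1 with hw
    have hnw : n * w * n⁻¹ = w := by
      calc n * w * n⁻¹ = v⁻¹ * ((v * n * u) * (u⁻¹ * (w * u)) * (v * n * u)⁻¹) * v := by
            rw [show u⁻¹ * (w * u) = u⁻¹ * (u * w) by rw [(hUw u hu').eq], inv_mul_cancel_left]
            conv_lhs => rw [show w = u * w * u⁻¹ by rw [(hUw u hu').eq, mul_inv_cancel_right]]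
            group
        _ = v⁻¹ * ((v * n * u) * w * (v * n * u)⁻¹) * v := by
          rw [show u⁻¹ * (w * u) = u⁻¹ * (u * w) by rw [(hUw u hu').eq], inv_mul_cancel_left]
        _ = v⁻¹ * w * v := by rw [hgc, mul_inv_cancel_right]
        _ = w := by rw [mul_assoc, ← (hUw v hv).eq, inv_mul_cancel_left]
    have hL : ∀ r ∈ [f4 47, f4 44], ∀ s ∈ [f4 47, f4 44], ∀ a b : F,
        Commute (Φ.toAlg.xg r a) (Φ.toAlg.xg s b) := fun r hr s hs a b => Φ.commute_f4 (by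
          have key : ∀ r ∈ [f4 47, f4 44], ∀ s ∈ [f4 47, f4 44],
              (decide (r = s) || (decide (s ≠ r.rev) && (Cfsg.Lie.chevF4.commTerms r.val s.val).all
                fun c => decide (c.2.1 % 2 = 0))) = true := by decide +kernel
          have := key r hr s hs
          simpa [List.all_eq_true] using this) a b
    have hmem := Φ.mem_of_conj_prodL hm (L := [f4 47, f4 44]) (by decide) (by
        intro r hr; simp only [List.mem_cons, List.not_mem_nil, or_false] at hr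
        rcases hr with rfl | rfl <;> assumption) hL (f := fun _ => (1 : F)) (f' := fun _ => (1 : F)) (by
      simpa [prodL] using hnw)
    obtain ⟨m47, f47⟩ := hmem (f4 47) (by simp) one_ne_zero
    obtain ⟨m44, f44⟩ := hmem (f4 44) (by simp) one_ne_zero
    have s47 : π (f4 47) = f4 47 := by
      have key : ∀ a ∈ [f4 47, f4 44], ip4 a.val a.val = ip4 47 47 → a = f4 47 := by decide +kernel
      exact key _ m47 (Φ.ip4_map hπ _ _)
    have s44 : π (f4 44) = f4 44 := by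
      have key : ∀ a ∈ [f4 47, f4 44], ip4 a.val a.val = ip4 44 44 → a = f4 44 := by decide +kernel
      exact key _ m44 (Φ.ip4_map hπ _ _)
    rw [s47] at f47
    rw [s44] at f44
    let c : Fin Cfsg.Lie.chevF4.nroots → ℤ := fun r => if r = f4 47 ∨ r = f4 44 then 1 else 0
    have hsum : ∀ i : Fin Cfsg.Lie.chevF4.rank,
        (∑ r, c r * Φ.A i r) = if i = ⟨0, by decide⟩ ∨ i = ⟨3, by decide⟩ then 1 else 0 := by
      have key : ∀ i : Fin Cfsg.Lie.chevF4.rank,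
          Cfsg.Lie.chevF4.cartan i.val 47 + Cfsg.Lie.chevF4.cartan i.val 44 =
            if i = ⟨0, by decide⟩ ∨ i = ⟨3, by decide⟩ then 1 else 0 := by decide +kernel
      intro i
      rw [Finset.sum_eq_add (f4 47) (f4 44) (by decide) (fun r _ hr => by simp [c, hr.1, hr.2]) (by simp)
        (by simp), ← key i]
      simp [c, f4, ← Φ.cartan_val]
    have hWK := Φ.mem_WK_of_fix (c := c) (fun i => by rw [hsum]; split <;> omega) hπ (fun r hr => by
      by_cases e : r = f4 47 ∨ r = f4 44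
      · rcases e with rfl | rfl
        · exact s47
        · exact s44
      · simp [c, e] at hr)
    have hK : ∀ i, (∑ r, c r * Φ.A i r) = 0 → i = ⟨1, by decide⟩ ∨ i = ⟨2, by decide⟩ := by
      intro i hi
      rw [hsum] at hi
      rcases four_nodes i with rfl | rfl | rfl | rfl
      · simp at hi
      · exact Or.inl rfl
      · exact Or.inr rfl
      · simp at hi
    have hnM : n ∈ M := by
      refine Φ.mono_mem (H := [f4 47, f4 44]) (fun i hi h hh => hA i (hK i hi) h hh) (fun i hi t => ?_)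
        (fun e he k hk => ?_) hn hm hWK (fun h hh => ?_)
      · rcases hK i hi with rfl | rfl
        · exact Φ.nw_mem_of_le hU hN1 t
        · exact Φ.nw_mem_of_le hU hN2 t
      · have h47 := he (f4 47) (by simp)
        have h44 := he (f4 44) (by simp)
        have a47 : ∀ k : Fin Cfsg.Lie.chevF4.rank, Cfsg.Lie.chevF4.cartan k.val 47 =
            if k = ⟨3, by decide⟩ then 1 else 0 := by decide +kernel
        have a44 : ∀ k : Fin Cfsg.Lie.chevF4.rank, Cfsg.Lie.chevF4.cartan k.val 44 =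
            if k = ⟨0, by decide⟩ then 1 else 0 := by decide +kernel
        rw [Fintype.prod_eq_single ⟨3, by decide⟩ (fun j hj => by
          rw [← Φ.cartan_val]; show e j ^ Cfsg.Lie.chevF4.cartan j.val 47 = 1
          rw [a47, if_neg hj, zpow_zero])] at h47
        rw [← Φ.cartan_val, show (f4 47).val = 47 from rfl, a47, if_pos rfl, zpow_one] at h47
        rw [Fintype.prod_eq_single ⟨0, by decide⟩ (fun j hj => by
          rw [← Φ.cartan_val]; show e j ^ Cfsg.Lie.chevF4.cartan j.val 44 = 1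
          rw [a44, if_neg hj, zpow_zero])] at h44
        rw [← Φ.cartan_val, show (f4 44).val = 44 from rfl, a44, if_pos rfl, zpow_one] at h44
        replace hk : (∑ r, c r * Φ.A k r) ≠ 0 := hk
        rw [hsum] at hk
        rcases four_nodes k with rfl | rfl | rfl | rfl
        · exact h44
        · simp at hk
        · simp at hk
        · exact h47
      · simp only [List.mem_cons, List.not_mem_nil, or_false] at hh
        rcases hh with rfl | rfl
        · exact f47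
        · exact f44
    exact mul_mem (mul_mem (hU hv) hnM) (hU hu')
  · refine sup_le (sup_le (fun x hx => Subgroup.mem_inf.2 ⟨Φ.B_le_group (U_le_B hx),
      Subgroup.mem_centralizer_singleton_iff.2 (hUw x hx).eq⟩) ?_) ?_
    · intro x hx
      obtain ⟨a, rfl⟩ := (Φ.toAlg.mem_rootSubgroup (r := f4 20)).1 hx
      have h := fun (k : Fin Cfsg.Lie.chevF4.nroots) (hk : Φ.toTables.Pos k)
        (he : evenComm Cfsg.Lie.chevF4 k = true) (hh : k ∈ [f4 47, f4 44]) =>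
        Φ.neg_simple_commute (F := F) hk he (hA ⟨1, by decide⟩ (Or.inl rfl) k hh) 1 a
      refine Subgroup.mem_inf.2 ⟨Φ.toAlg.xg_mem_group _ _, Subgroup.mem_centralizer_singleton_iff.2 ?_⟩
      rw [show f4 20 = (Φ.p ⟨1, by decide⟩).rev by rw [p1]; decide]
      exact ((h _ q47 e47 (by simp)).mul_left (h _ q44 e44 (by simp))).symm.eq
    · intro x hx
      obtain ⟨a, rfl⟩ := (Φ.toAlg.mem_rootSubgroup (r := f4 22)).1 hx
      have h := fun (k : Fin Cfsg.Lie.chevF4.nroots) (hk : Φ.toTables.Pos k)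
        (he : evenComm Cfsg.Lie.chevF4 k = true) (hh : k ∈ [f4 47, f4 44]) =>
        Φ.neg_simple_commute (F := F) hk he (hA ⟨2, by decide⟩ (Or.inr rfl) k hh) 1 a
      refine Subgroup.mem_inf.2 ⟨Φ.toAlg.xg_mem_group _ _, Subgroup.mem_centralizer_singleton_iff.2 ?_⟩
      rw [show f4 22 = (Φ.p ⟨2, by decide⟩).rev by rw [p2]; decide]
      exact ((h _ q47 e47 (by simp)).mul_left (h _ q44 e44 (by simp))).symm.eq

/-- The six roots involved in the second class. -/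
def six : List (Fin Cfsg.Lie.chevF4.nroots) := [f4 39, f4 45, f4 40, f4 44, f4 46, f4 47]

theorem six_comm {r s : Fin Cfsg.Lie.chevF4.nroots} (hr : r ∈ six) (hs : s ∈ six) (a b : F) :
    Commute (Φ.toAlg.xg r a) (Φ.toAlg.xg s b) := Φ.commute_f4 (by
  have key : ∀ r ∈ six, ∀ s ∈ six, (decide (r = s) || (decide (s ≠ r.rev) &&
      (Cfsg.Lie.chevF4.commTerms r.val s.val).all fun c => decide (c.2.1 % 2 = 0))) = true := by
    decide +kernel
  have := key r hr s hs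
  simpa [List.all_eq_true] using this) a b

/-- The elements `x₃₉(1) x₄₅(1) X₄₀ X₄₄ X₄₆ X₄₇`. -/
def Orb : Set (GL Cfsg.Lie.chevF4.Idx F) :=
  {g | ∃ a b c d, g = Φ.prodL six (fun r => if r = f4 40 then a else if r = f4 44 then b else
    if r = f4 46 then c else if r = f4 47 then d else 1)}

theorem orb_iff {g : GL Cfsg.Lie.chevF4.Idx F} : g ∈ Φ.Orb ↔ ∃ a b c d, g =
    Φ.toAlg.xg (f4 39) 1 * Φ.toAlg.xg (f4 45) 1 * Φ.toAlg.xg (f4 40) a * Φ.toAlg.xg (f4 44) b *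
      Φ.toAlg.xg (f4 46) c * Φ.toAlg.xg (f4 47) d := by
  simp [Orb, prodL, six, mul_assoc, show (f4 39) ≠ f4 40 by decide, show (f4 39) ≠ f4 44 by decide,
    show (f4 39) ≠ f4 46 by decide, show (f4 39) ≠ f4 47 by decide, show (f4 45) ≠ f4 40 by decide,
    show (f4 45) ≠ f4 44 by decide, show (f4 45) ≠ f4 46 by decide, show (f4 45) ≠ f4 47 by decide,
    show (f4 44) ≠ f4 40 by decide, show (f4 46) ≠ f4 40 by decide, show (f4 46) ≠ f4 44 by decide,
    show (f4 47) ≠ f4 40 by decide, show (f4 47) ≠ f4 44 by decide, show (f4 47) ≠ f4 46 by decide]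

/-- The four roots above 39 and 45. -/
def Four (r : Fin Cfsg.Lie.chevF4.nroots) : Prop := r = f4 40 ∨ r = f4 44 ∨ r = f4 46 ∨ r = f4 47

/-- The two central ones. -/
def Two44 (r : Fin Cfsg.Lie.chevF4.nroots) : Prop := r = f4 44 ∨ r = f4 47

theorem two_commute {x : GL Cfsg.Lie.chevF4.Idx F} (hx : x ∈ Cfsg.Lie.chevF4.posUnipotent F)
    {q : GL Cfsg.Lie.chevF4.Idx F} (hq : q ∈ Φ.US F Two44) : Commute x q := by
  induction hq using Subgroup.closure_induction with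
  | mem y hy =>
    obtain ⟨r, t, hr, rfl⟩ := hy
    rcases hr with rfl | rfl
    · exact (Φ.commute_U (show Cfsg.Lie.chevF4.nroots ≤ _ by decide) (by decide +kernel) t hx).symm
    · exact (Φ.commute_U (show Cfsg.Lie.chevF4.nroots ≤ _ by decide) (by decide +kernel) t hx).symm
  | one => exact Commute.one_right _
  | mul y z _ _ hy hz => exact hy.mul_right hz
  | inv y _ hy => exact hy.inv_right

theorem tval_mem_odd {S : Fin Cfsg.Lie.chevF4.nroots → Prop} {L : List (ℕ × ℤ × ℕ × ℕ)}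
    (hL : ∀ c ∈ L, c.2.1 % 2 = 0 ∨ ∃ h : c.1 < Cfsg.Lie.chevF4.nroots, S ⟨c.1, h⟩) (t u : F) :
    Φ.tval t u L ∈ Φ.US F S := by
  refine Subgroup.list_prod_mem _ fun g hg => ?_
  obtain ⟨c, hc, rfl⟩ := List.mem_map.1 hg
  split
  · rename_i h
    rcases hL c hc with e | ⟨h', hS⟩
    · rw [cast_even e]; simp
    · exact Φ.xg_mem_US hS _
  · exact one_mem _

/-- A positive root element moves `x_r` by an element over `S`. -/
theorem move {S : Fin Cfsg.Lie.chevF4.nroots → Prop} {r s : Fin Cfsg.Lie.chevF4.nroots}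
    (hr : Φ.toTables.Pos r) (hs : Φ.toTables.Pos s)
    (hS : ∀ c ∈ Cfsg.Lie.chevF4.commTerms r.val s.val,
      c.2.1 % 2 = 0 ∨ ∃ h : c.1 < Cfsg.Lie.chevF4.nroots, S ⟨c.1, h⟩) (t u : F) :
    ∃ W ∈ Φ.US F S, Φ.toAlg.xg s u * Φ.toAlg.xg r t * (Φ.toAlg.xg s u)⁻¹ =
      Φ.toAlg.xg r t * (Φ.toAlg.xg s u * W * (Φ.toAlg.xg s u)⁻¹) := by
  by_cases e : s = r
  · subst e
    refine ⟨1, one_mem _, ?_⟩
    rw [mul_one, mul_inv_cancel, mul_one, ← Φ.toAlg.xg_add, add_comm u t, Φ.toAlg.xg_add,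
      mul_inv_cancel_right]
  · refine ⟨_, Φ.tval_mem_odd hS t u, ?_⟩
    rw [Φ.comm_xg e (fun e' => (Φ.pos_rev_iff r).1 (e' ▸ hs) hr) t u]
    group

theorem pos_six : ∀ r ∈ six, Φ.toTables.Pos r := by
  intro r hr
  simp only [six, List.mem_cons, List.not_mem_nil, or_false] at hr
  rcases hr with rfl | rfl | rfl | rfl | rfl | rfl <;> (show Cfsg.Lie.chevF4.nroots ≤ _; decide)

theorem odd_terms : ∀ r ∈ six, ∀ s : Fin Cfsg.Lie.chevF4.nroots, Cfsg.Lie.chevF4.nroots ≤ 2 * s.val →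
    (Cfsg.Lie.chevF4.commTerms r.val s.val).all (fun c => decide (c.2.1 % 2 = 0) ||
      (if r = f4 39 ∨ r = f4 45 then [40, 44, 46, 47] else [44, 47]).contains c.1) = true := by
  decide +kernel

theorem odd_terms' {r s : Fin Cfsg.Lie.chevF4.nroots} (hr : r ∈ six) (hs : Φ.toTables.Pos s) :
    ∀ c ∈ Cfsg.Lie.chevF4.commTerms r.val s.val, c.2.1 % 2 = 0 ∨
      ∃ h : c.1 < Cfsg.Lie.chevF4.nroots, (if r = f4 39 ∨ r = f4 45 then Four else Two44) ⟨c.1, h⟩ := by
  intro c hc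
  have := List.all_eq_true.1 (odd_terms r hr s hs) c hc
  simp only [Bool.or_eq_true, decide_eq_true_eq] at this
  rcases this with e | e
  · exact Or.inl e
  · refine Or.inr ?_
    split_ifs at e ⊢
    · simp only [List.contains_iff_mem, List.mem_cons, List.not_mem_nil, or_false] at e
      rcases e with e | e | e | e
      · exact ⟨by rw [e]; decide, Or.inl (Fin.ext e)⟩
      · exact ⟨by rw [e]; decide, Or.inr (Or.inl (Fin.ext e))⟩
      · exact ⟨by rw [e]; decide, Or.inr (Or.inr (Or.inl (Fin.ext e)))⟩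
      · exact ⟨by rw [e]; decide, Or.inr (Or.inr (Or.inr (Fin.ext e)))⟩
    · simp only [List.contains_iff_mem, List.mem_cons, List.not_mem_nil, or_false] at e
      rcases e with e | e
      · exact ⟨by rw [e]; decide, Or.inl (Fin.ext e)⟩
      · exact ⟨by rw [e]; decide, Or.inr (Fin.ext e)⟩

theorem four_six {r : Fin Cfsg.Lie.chevF4.nroots} (hr : Four r) :
    r ∈ six ∧ ¬ (r = f4 39 ∨ r = f4 45) := by
  rcases hr with rfl | rfl | rfl | rfl <;> decide

theorem four_conj {x q : GL Cfsg.Lie.chevF4.Idx F} (hx : x ∈ Cfsg.Lie.chevF4.posUnipotent F)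
    (hq : q ∈ Φ.US F Four) : x * q * x⁻¹ ∈ Φ.US F Four := by
  suffices gen : ∀ (s : Fin Cfsg.Lie.chevF4.nroots) (u : F), Φ.toTables.Pos s → ∀ q ∈ Φ.US F Four,
      Φ.toAlg.xg s u * q * (Φ.toAlg.xg s u)⁻¹ ∈ Φ.US F Four by
    rw [Φ.posUnipotent_eq_US] at hx
    induction hx using Subgroup.closure_induction'' generalizing q with
    | mem y hy => obtain ⟨s, u, hs, rfl⟩ := hy; exact gen s u hs q hq
    | inv_mem y hy => obtain ⟨s, u, hs, rfl⟩ := hy; rw [Φ.toAlg.xg_inv]; exact gen s (-u) hs q hq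
    | one => simpa using hq
    | mul y z _ _ hy hz =>
      rw [show y * z * q * (y * z)⁻¹ = y * (z * q * z⁻¹) * y⁻¹ by group]
      exact hy (hz hq)
  intro s u hs q hq
  induction hq using Subgroup.closure_induction with
  | mem z hz =>
    obtain ⟨r, t, hr, rfl⟩ := hz
    obtain ⟨h6, h2⟩ := four_six hr
    have hS := Φ.odd_terms' h6 hs
    rw [if_neg h2] at hS
    obtain ⟨W, hW, e⟩ := Φ.move (Φ.pos_six r h6) hs hS t u
    rw [e, (Φ.two_commute (Φ.xg_mem_U hs u) hW).eq, mul_inv_cancel_right]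
    exact mul_mem (Φ.xg_mem_US hr t) (Φ.US_mono (fun r h => by
      rcases h with h | h
      · exact Or.inr (Or.inl h)
      · exact Or.inr (Or.inr (Or.inr h))) hW)
  | one => simp
  | mul a b _ _ ha hb =>
    rw [show ∀ x : GL Cfsg.Lie.chevF4.Idx F, x * (a * b) * x⁻¹ = (x * a * x⁻¹) * (x * b * x⁻¹) from
      fun x => by group]
    exact mul_mem ha hb
  | inv a _ ha =>
    rw [show ∀ x : GL Cfsg.Lie.chevF4.Idx F, x * a⁻¹ * x⁻¹ = (x * a * x⁻¹)⁻¹ from fun x => by group]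
    exact inv_mem ha

theorem mem_four {q : GL Cfsg.Lie.chevF4.Idx F} (hq : q ∈ Φ.US F Four) :
    ∃ a b c d, q = Φ.toAlg.xg (f4 40) a * Φ.toAlg.xg (f4 44) b * Φ.toAlg.xg (f4 46) c *
      Φ.toAlg.xg (f4 47) d := by
  induction hq using Subgroup.closure_induction with
  | mem y hy =>
    obtain ⟨r, t, hr, rfl⟩ := hy
    rcases hr with rfl | rfl | rfl | rfl
    · exact ⟨t, 0, 0, 0, by simp⟩
    · exact ⟨0, t, 0, 0, by simp⟩
    · exact ⟨0, 0, t, 0, by simp⟩
    · exact ⟨0, 0, 0, t, by simp⟩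
  | one => exact ⟨0, 0, 0, 0, by simp⟩
  | mul y z _ _ hy hz =>
    obtain ⟨a, b, c, d, rfl⟩ := hy
    obtain ⟨a', b', c', d', rfl⟩ := hz
    refine ⟨a + a', b + b', c + c', d + d', ?_⟩
    simp only [Φ.toAlg.xg_add]
    have hc : ∀ {r s : Fin Cfsg.Lie.chevF4.nroots}, Four r → Four s → ∀ x y : F,
        Commute (Φ.toAlg.xg r x) (Φ.toAlg.xg s y) := fun hr hs x y =>
      Φ.six_comm (four_six hr).1 (four_six hs).1 x y
    have h40 : Four (f4 40) := Or.inl rfl
    have h44 : Four (f4 44) := Or.inr (Or.inl rfl)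
    have h46 : Four (f4 46) := Or.inr (Or.inr (Or.inl rfl))
    have h47 : Four (f4 47) := Or.inr (Or.inr (Or.inr rfl))
    have k1 : Commute (Φ.toAlg.xg (f4 44) b * Φ.toAlg.xg (f4 46) c * Φ.toAlg.xg (f4 47) d)
        (Φ.toAlg.xg (f4 40) a') := ((hc h44 h40 _ _).mul_left (hc h46 h40 _ _)).mul_left (hc h47 h40 _ _)
    have k2 : Commute (Φ.toAlg.xg (f4 46) c * Φ.toAlg.xg (f4 47) d)
        (Φ.toAlg.xg (f4 44) b') := (hc h46 h44 _ _).mul_left (hc h47 h44 _ _)
    have k3 := hc h47 h46 d c'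
    calc Φ.toAlg.xg (f4 40) a * Φ.toAlg.xg (f4 44) b * Φ.toAlg.xg (f4 46) c * Φ.toAlg.xg (f4 47) d *
          (Φ.toAlg.xg (f4 40) a' * Φ.toAlg.xg (f4 44) b' * Φ.toAlg.xg (f4 46) c' * Φ.toAlg.xg (f4 47) d')
        = Φ.toAlg.xg (f4 40) a * ((Φ.toAlg.xg (f4 44) b * Φ.toAlg.xg (f4 46) c * Φ.toAlg.xg (f4 47) d) *
          Φ.toAlg.xg (f4 40) a') * Φ.toAlg.xg (f4 44) b' * Φ.toAlg.xg (f4 46) c' *
            Φ.toAlg.xg (f4 47) d' := by simp only [mul_assoc]
      _ = Φ.toAlg.xg (f4 40) a * Φ.toAlg.xg (f4 40) a' * Φ.toAlg.xg (f4 44) b *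
          ((Φ.toAlg.xg (f4 46) c * Φ.toAlg.xg (f4 47) d) * Φ.toAlg.xg (f4 44) b') *
            Φ.toAlg.xg (f4 46) c' * Φ.toAlg.xg (f4 47) d' := by rw [k1.eq]; simp only [mul_assoc]
      _ = Φ.toAlg.xg (f4 40) a * Φ.toAlg.xg (f4 40) a' * (Φ.toAlg.xg (f4 44) b * Φ.toAlg.xg (f4 44) b') *
          Φ.toAlg.xg (f4 46) c * (Φ.toAlg.xg (f4 47) d * Φ.toAlg.xg (f4 46) c') *
            Φ.toAlg.xg (f4 47) d' := by rw [k2.eq]; simp only [mul_assoc]
      _ = _ := by rw [k3.eq]; simp only [mul_assoc]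
  | inv y _ hy =>
    obtain ⟨a, b, c, d, rfl⟩ := hy
    refine ⟨-a, -b, -c, -d, ?_⟩
    simp only [CharTwo.neg_eq]
    refine inv_eq_of_mul_eq_one_left ?_
    have hc : ∀ {r s : Fin Cfsg.Lie.chevF4.nroots}, Four r → Four s → ∀ x y : F,
        Commute (Φ.toAlg.xg r x) (Φ.toAlg.xg s y) := fun hr hs x y =>
      Φ.six_comm (four_six hr).1 (four_six hs).1 x y
    have h40 : Four (f4 40) := Or.inl rfl
    have h44 : Four (f4 44) := Or.inr (Or.inl rfl)
    have h46 : Four (f4 46) := Or.inr (Or.inr (Or.inl rfl))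
    have h47 : Four (f4 47) := Or.inr (Or.inr (Or.inr rfl))
    have sq : ∀ (r : Fin Cfsg.Lie.chevF4.nroots) (x : F), Φ.toAlg.xg r x ^ 2 = 1 := fun r x => by
      rw [pow_two, ← Φ.toAlg.xg_add, CharTwo.add_self_eq_zero, Φ.toAlg.xg_zero]
    rw [← pow_two, (((hc h40 h47 a d).mul_left (hc h44 h47 b d)).mul_left (hc h46 h47 c d)).mul_pow,
      ((hc h40 h46 a c).mul_left (hc h44 h46 b c)).mul_pow, (hc h40 h44 a b).mul_pow, sq, sq, sq, sq]
    simp

/-- `U` moves `x₃₉(1) x₄₅(1)` inside its orbit set. -/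
theorem U_orbit {x : GL Cfsg.Lie.chevF4.Idx F} (hx : x ∈ Cfsg.Lie.chevF4.posUnipotent F) :
    x * (Φ.toAlg.xg (f4 39) (1 : F) * Φ.toAlg.xg (f4 45) 1) * x⁻¹ ∈ Φ.Orb := by
  set w := Φ.toAlg.xg (f4 39) (1 : F) * Φ.toAlg.xg (f4 45) 1 with hw
  suffices h : w⁻¹ * (x * w * x⁻¹) ∈ Φ.US F Four by
    obtain ⟨a, b, c, d, e⟩ := Φ.mem_four h
    rw [inv_mul_eq_iff_eq_mul] at e
    exact Φ.orb_iff.2 ⟨a, b, c, d, by rw [e, hw]; simp only [mul_assoc]⟩
  have gen : ∀ (s : Fin Cfsg.Lie.chevF4.nroots) (u : F), Φ.toTables.Pos s →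
      w⁻¹ * (Φ.toAlg.xg s u * w * (Φ.toAlg.xg s u)⁻¹) ∈ Φ.US F Four := by
    intro s u hs
    have h39 : f4 39 ∈ six := by decide
    have h45 : f4 45 ∈ six := by decide
    have S39 := Φ.odd_terms' h39 hs
    have S45 := Φ.odd_terms' h45 hs
    rw [if_pos (Or.inl rfl)] at S39
    rw [if_pos (Or.inr rfl)] at S45
    obtain ⟨W1, hW1, e1⟩ := Φ.move (Φ.pos_six _ h39) hs S39 1 u
    obtain ⟨W2, hW2, e2⟩ := Φ.move (Φ.pos_six _ h45) hs S45 1 u
    set W1' := Φ.toAlg.xg s u * W1 * (Φ.toAlg.xg s u)⁻¹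
    have hW1' : W1' ∈ Φ.US F Four := Φ.four_conj (Φ.xg_mem_U hs u) hW1
    have hc : Commute W1' (Φ.toAlg.xg (f4 45) (1 : F)) := by
      obtain ⟨a, b, c, d, e⟩ := Φ.mem_four hW1'
      rw [e]
      exact (((Φ.six_comm (by decide) h45 a 1).mul_left (Φ.six_comm (by decide) h45 b 1)).mul_left
        (Φ.six_comm (by decide) h45 c 1)).mul_left (Φ.six_comm (by decide) h45 d 1)
    have e3 : Φ.toAlg.xg s u * w * (Φ.toAlg.xg s u)⁻¹ =
        w * (W1' * (Φ.toAlg.xg s u * W2 * (Φ.toAlg.xg s u)⁻¹)) := by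
      rw [hw, show Φ.toAlg.xg s u * (Φ.toAlg.xg (f4 39) 1 * Φ.toAlg.xg (f4 45) 1) * (Φ.toAlg.xg s u)⁻¹ =
        (Φ.toAlg.xg s u * Φ.toAlg.xg (f4 39) 1 * (Φ.toAlg.xg s u)⁻¹) *
          (Φ.toAlg.xg s u * Φ.toAlg.xg (f4 45) 1 * (Φ.toAlg.xg s u)⁻¹) by group, e1, e2]
      calc Φ.toAlg.xg (f4 39) 1 * W1' * (Φ.toAlg.xg (f4 45) 1 *
            (Φ.toAlg.xg s u * W2 * (Φ.toAlg.xg s u)⁻¹))
          = Φ.toAlg.xg (f4 39) 1 * (W1' * Φ.toAlg.xg (f4 45) 1) *
            (Φ.toAlg.xg s u * W2 * (Φ.toAlg.xg s u)⁻¹) := by simp only [mul_assoc]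
        _ = _ := by rw [hc.eq]; simp only [mul_assoc]
    rw [e3, inv_mul_cancel_left]
    exact mul_mem hW1' (Φ.four_conj (Φ.xg_mem_U hs u) hW2)
  rw [Φ.posUnipotent_eq_US] at hx
  induction hx using Subgroup.closure_induction'' with
  | mem y hy => obtain ⟨s, u, hs, rfl⟩ := hy; exact gen s u hs
  | inv_mem y hy => obtain ⟨s, u, hs, rfl⟩ := hy; rw [Φ.toAlg.xg_inv]; exact gen s (-u) hs
  | one => simp
  | mul y z hy' _ hy hz =>
    rw [show w⁻¹ * (y * z * w * (y * z)⁻¹) =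
      (w⁻¹ * (y * w * y⁻¹)) * (y * (w⁻¹ * (z * w * z⁻¹)) * y⁻¹) by group]
    refine mul_mem hy (Φ.four_conj ?_ hz)
    rw [Φ.posUnipotent_eq_US]; exact hy'

theorem gap_eq : rootList Φ.toTables.Pos = [f4 24, f4 25, f4 26, f4 27, f4 28, f4 29, f4 30, f4 31, f4 32,
    f4 33, f4 34, f4 35, f4 36, f4 37, f4 38, f4 39, f4 40, f4 41, f4 42, f4 43, f4 44, f4 45, f4 46, f4 47] :=
  (show _ = (List.finRange Cfsg.Lie.chevF4.nroots).filter
    (fun r => decide (Cfsg.Lie.chevF4.nroots ≤ 2 * r.val)) from rfl).trans (by decide +kernel)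

set_option maxHeartbeats 4000000 in
/-- The centralizer of `x₃₉(1) x₄₅(1)`. -/
theorem mid_pair_centralizer :
    Cfsg.Lie.chevF4.group F ⊓ Subgroup.centralizer {Φ.toAlg.xg (f4 39) (1 : F) * Φ.toAlg.xg (f4 45) 1} =
      Cfsg.Lie.chevF4.rootSubgroup F 33 ⊔ Cfsg.Lie.chevF4.rootSubgroup F 14 ⊔
        Cfsg.Lie.chevF4.rootSubgroup F 24 ⊔ Cfsg.Lie.chevF4.rootSubgroup F 23 ⊔
          Subgroup.closure {g : GL Cfsg.Lie.chevF4.Idx F | ∃ (r : ℕ) (c : F), Cfsg.Lie.chevF4.IsPosRoot r ∧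
            r ∉ [27, 25, 34, 26] ∧
            (g : Matrix Cfsg.Lie.chevF4.Idx Cfsg.Lie.chevF4.Idx F) = Cfsg.Lie.chevF4.x F r c} := by
  classical
  set w := Φ.toAlg.xg (f4 39) (1 : F) * Φ.toAlg.xg (f4 45) 1 with hw
  set M := Cfsg.Lie.chevF4.rootSubgroup F 33 ⊔ Cfsg.Lie.chevF4.rootSubgroup F 14 ⊔
        Cfsg.Lie.chevF4.rootSubgroup F 24 ⊔ Cfsg.Lie.chevF4.rootSubgroup F 23 ⊔
          Subgroup.closure {g : GL Cfsg.Lie.chevF4.Idx F | ∃ (r : ℕ) (c : F), Cfsg.Lie.chevF4.IsPosRoot r ∧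
            r ∉ [27, 25, 34, 26] ∧
            (g : Matrix Cfsg.Lie.chevF4.Idx Cfsg.Lie.chevF4.Idx F) = Cfsg.Lie.chevF4.x F r c} with hM
  have m14 : ∀ a, Φ.toAlg.xg (f4 14) a ∈ M := fun a => Subgroup.mem_sup_left (Subgroup.mem_sup_left
    (Subgroup.mem_sup_left (Subgroup.mem_sup_right (Φ.mem_root a))))
  have m23 : ∀ a, Φ.toAlg.xg (f4 23) a ∈ M := fun a => Subgroup.mem_sup_left
    (Subgroup.mem_sup_right (Φ.mem_root a))
  have mpos : ∀ r : Fin Cfsg.Lie.chevF4.nroots, Φ.toTables.Pos r → r.val ∉ [27, 25, 34, 26] → ∀ a,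
      Φ.toAlg.xg r a ∈ M := fun r hr hn a =>
    Subgroup.mem_sup_right (Subgroup.subset_closure ⟨r.val, a, (Φ.toSys.posRoot_iff r).2 hr, hn, (Φ.toAlg.x_val r a).symm⟩)
  -- the generators commute with `w`
  have hcomm : ∀ r : Fin Cfsg.Lie.chevF4.nroots, (r = f4 14 ∨ r = f4 23 ∨
      (Φ.toTables.Pos r ∧ r.val ∉ [27, 25, 34, 26])) → ∀ a, Commute (Φ.toAlg.xg r a) w := by
    have key : ∀ r : Fin Cfsg.Lie.chevF4.nroots, (r = f4 14 ∨ r = f4 23 ∨
        (Cfsg.Lie.chevF4.nroots ≤ 2 * r.val ∧ r.val ∉ [27, 25, 34, 26])) →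
        ∀ s ∈ [f4 39, f4 45], (decide (r = s) || (decide (s ≠ r.rev) &&
          (Cfsg.Lie.chevF4.commTerms r.val s.val).all fun c => decide (c.2.1 % 2 = 0))) = true := by
      decide +kernel
    intro r hr a
    refine Commute.mul_right ?_ ?_
    · refine Φ.commute_f4 ?_ a 1
      have := key r hr (f4 39) (by simp)
      simpa [List.all_eq_true] using this
    · refine Φ.commute_f4 ?_ a 1
      have := key r hr (f4 45) (by simp)
      simpa [List.all_eq_true] using this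
  have hle : M ≤ Cfsg.Lie.chevF4.group F ⊓ Subgroup.centralizer {w} := by
    have hr : ∀ r : Fin Cfsg.Lie.chevF4.nroots, (r = f4 14 ∨ r = f4 23 ∨
        (Φ.toTables.Pos r ∧ r.val ∉ [27, 25, 34, 26])) → ∀ a,
        Φ.toAlg.xg r a ∈ Cfsg.Lie.chevF4.group F ⊓ Subgroup.centralizer {w} := fun r hr a =>
      Subgroup.mem_inf.2 ⟨Φ.toAlg.xg_mem_group r a,
        Subgroup.mem_centralizer_singleton_iff.2 (hcomm r hr a).eq⟩
    refine sup_le (sup_le (sup_le (sup_le ?_ ?_) ?_) ?_) ((Subgroup.closure_le _).2 ?_)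
    · intro x hx
      obtain ⟨a, rfl⟩ := (Φ.toAlg.mem_rootSubgroup (r := f4 33)).1 hx
      exact hr _ (Or.inr (Or.inr ⟨show Cfsg.Lie.chevF4.nroots ≤ _ by decide, by decide⟩)) a
    · intro x hx
      obtain ⟨a, rfl⟩ := (Φ.toAlg.mem_rootSubgroup (r := f4 14)).1 hx
      exact hr _ (Or.inl rfl) a
    · intro x hx
      obtain ⟨a, rfl⟩ := (Φ.toAlg.mem_rootSubgroup (r := f4 24)).1 hx
      exact hr _ (Or.inr (Or.inr ⟨show Cfsg.Lie.chevF4.nroots ≤ _ by decide, by decide⟩)) a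
    · intro x hx
      obtain ⟨a, rfl⟩ := (Φ.toAlg.mem_rootSubgroup (r := f4 23)).1 hx
      exact hr _ (Or.inr (Or.inl rfl)) a
    · rintro g ⟨r, c, hr12, hn, hg⟩
      have hr1 : r < Cfsg.Lie.chevF4.nroots := hr12.1
      have hr2 := (Φ.toSys.posRoot_iff ⟨r, hr1⟩).1 hr12
      rw [(Φ.toAlg.eq_xg_iff (r := ⟨r, hr1⟩)).1 hg]
      exact hr ⟨r, hr1⟩ (Or.inr (Or.inr ⟨hr2, hn⟩)) c
  have hMw : ∀ x ∈ M, Commute x w := fun x hx => Subgroup.mem_centralizer_singleton_iff.1 (hle hx).2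
  refine le_antisymm ?_ hle
  rintro g ⟨hg, hc⟩
  have hgc : Commute g w := Subgroup.mem_centralizer_singleton_iff.1 hc
  obtain ⟨v, hv, n, hn, π, hπ, hm, u, hu, rfl⟩ := Φ.dn_normal hg
  have hu' := Φ.Uneg_le_U hu
  obtain ⟨a, b, c, d, hsrc⟩ := Φ.U_orbit hu' (x := u)
  obtain ⟨a', b', c', d', htgt⟩ := Φ.U_orbit (inv_mem hv)
  set f : Fin Cfsg.Lie.chevF4.nroots → F := fun r => if r = f4 40 then a else if r = f4 44 then b else
    if r = f4 46 then c else if r = f4 47 then d else 1 with hf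
  set f' : Fin Cfsg.Lie.chevF4.nroots → F := fun r => if r = f4 40 then a' else if r = f4 44 then b' else
    if r = f4 46 then c' else if r = f4 47 then d' else 1 with hf'
  have hmain : n * Φ.prodL six f * n⁻¹ = Φ.prodL six f' := by
    rw [← hsrc, ← htgt, inv_inv]
    calc n * (u * w * u⁻¹) * n⁻¹ = v⁻¹ * ((v * n * u) * w * (v * n * u)⁻¹) * v := by group
      _ = _ := by rw [hgc.eq, mul_inv_cancel_right]
  have hmem := Φ.mem_of_conj_prodL hm (L := six) (by decide) Φ.pos_six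
    (fun r hr s hs => Φ.six_comm hr hs) hmain
  have f39 : f (f4 39) = 1 := by simp [hf, f4]
  have f45 : f (f4 45) = 1 := by simp [hf, f4]
  obtain ⟨m39, e39⟩ := hmem (f4 39) (by decide) (by rw [f39]; exact one_ne_zero)
  obtain ⟨m45, e45⟩ := hmem (f4 45) (by decide) (by rw [f45]; exact one_ne_zero)
  obtain ⟨s39, s45⟩ : π (f4 39) = f4 39 ∧ π (f4 45) = f4 45 := by
    have key : ∀ x ∈ six, ∀ y ∈ six, ip4 x.val x.val = ip4 39 39 → ip4 y.val y.val = ip4 45 45 →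
        ip4 x.val y.val = ip4 39 45 → x = f4 39 ∧ y = f4 45 := by decide +kernel
    exact key _ m39 _ m45 (Φ.ip4_map hπ _ _) (Φ.ip4_map hπ _ _) (Φ.ip4_map hπ _ _)
  rw [s39, f39, show f' (f4 39) = 1 by simp [hf', f4]] at e39
  rw [s45, f45, show f' (f4 45) = 1 by simp [hf', f4]] at e45
  let cc : Fin Cfsg.Lie.chevF4.nroots → ℤ := fun r => if r = f4 39 then 3 else if r = f4 45 then 2 else 0
  have hsum : ∀ i : Fin Cfsg.Lie.chevF4.rank,
      (∑ r, cc r * Φ.A i r) = if i = ⟨1, by decide⟩ ∨ i = ⟨2, by decide⟩ then 1 else 0 := by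
    have key : ∀ i : Fin Cfsg.Lie.chevF4.rank,
        3 * Cfsg.Lie.chevF4.cartan i.val 39 + 2 * Cfsg.Lie.chevF4.cartan i.val 45 =
          if i = ⟨1, by decide⟩ ∨ i = ⟨2, by decide⟩ then 1 else 0 := by decide +kernel
    intro i
    rw [Finset.sum_eq_add (f4 39) (f4 45) (by decide) (fun r _ hr => by simp [cc, hr.1, hr.2]) (by simp)
      (by simp), ← key i]
    simp [cc, f4, ← Φ.cartan_val]
  have hWK := Φ.mem_WK_of_fix (c := cc) (fun i => by rw [hsum]; split <;> omega) hπ (fun r hr => by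
    by_cases e : r = f4 39
    · rw [e]; exact s39
    · by_cases e' : r = f4 45
      · rw [e']; exact s45
      · simp [cc, e, e'] at hr)
  have hK : ∀ i, (∑ r, cc r * Φ.A i r) = 0 → i = ⟨0, by decide⟩ ∨ i = ⟨3, by decide⟩ := by
    intro i hi
    rw [hsum] at hi
    rcases four_nodes i with rfl | rfl | rfl | rfl
    · exact Or.inl rfl
    · simp at hi
    · simp at hi
    · exact Or.inr rfl
  obtain ⟨p0, p1, p2, p3⟩ := Φ.p_f4
  have hnM : n ∈ M := by
    refine Φ.mono_mem (H := [f4 39, f4 45]) (fun i hi h hh => ?_) (fun i hi t => ?_)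
      (fun e he k hk => ?_) hn hm hWK (fun h hh => ?_)
    · have key : ∀ i : Fin Cfsg.Lie.chevF4.rank, i = ⟨0, by decide⟩ ∨ i = ⟨3, by decide⟩ →
          ∀ h ∈ [f4 39, f4 45], Cfsg.Lie.chevF4.cartan i.val h.val = 0 := by decide +kernel
      rw [← Φ.cartan_val]
      exact key i (hK i hi) h hh
    · rcases hK i hi with rfl | rfl
      · rw [nw, p0, show (f4 33).rev = f4 14 by decide]
        exact mul_mem (mul_mem (mpos _ (show Cfsg.Lie.chevF4.nroots ≤ _ by decide) (by decide) _) (m14 _))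
          (mpos _ (show Cfsg.Lie.chevF4.nroots ≤ _ by decide) (by decide) _)
      · rw [nw, p3, show (f4 24).rev = f4 23 by decide]
        exact mul_mem (mul_mem (mpos _ (show Cfsg.Lie.chevF4.nroots ≤ _ by decide) (by decide) _) (m23 _))
          (mpos _ (show Cfsg.Lie.chevF4.nroots ≤ _ by decide) (by decide) _)
    · have a39 : ∀ j : Fin Cfsg.Lie.chevF4.rank, Cfsg.Lie.chevF4.cartan j.val 39 =
          if j = ⟨1, by decide⟩ then -1 else if j = ⟨2, by decide⟩ then 1 else 0 := by decide +kernel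
      have a45 : ∀ j : Fin Cfsg.Lie.chevF4.rank, Cfsg.Lie.chevF4.cartan j.val 45 =
          if j = ⟨1, by decide⟩ then 2 else if j = ⟨2, by decide⟩ then -1 else 0 := by decide +kernel
      have h39 := he (f4 39) (by simp)
      have h45 := he (f4 45) (by simp)
      rw [Fintype.prod_eq_mul ⟨1, by decide⟩ ⟨2, by decide⟩
        (show (⟨1, by decide⟩ : Fin Cfsg.Lie.chevF4.rank) ≠ ⟨2, by decide⟩ by decide) (fun j hj => by
        rw [← Φ.cartan_val]; show e j ^ Cfsg.Lie.chevF4.cartan j.val 39 = 1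
        rw [a39, if_neg hj.1, if_neg hj.2, zpow_zero])] at h39
      rw [Fintype.prod_eq_mul ⟨1, by decide⟩ ⟨2, by decide⟩
        (show (⟨1, by decide⟩ : Fin Cfsg.Lie.chevF4.rank) ≠ ⟨2, by decide⟩ by decide) (fun j hj => by
        rw [← Φ.cartan_val]; show e j ^ Cfsg.Lie.chevF4.cartan j.val 45 = 1
        rw [a45, if_neg hj.1, if_neg hj.2, zpow_zero])] at h45
      simp only [← Φ.cartan_val, show (f4 39).val = 39 from rfl, show (f4 45).val = 45 from rfl,
        show Cfsg.Lie.chevF4.cartan 1 39 = -1 by decide +kernel, show Cfsg.Lie.chevF4.cartan 2 39 = 1 by decide +kernel,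
        show Cfsg.Lie.chevF4.cartan 1 45 = 2 by decide +kernel, show Cfsg.Lie.chevF4.cartan 2 45 = -1 by decide +kernel,
        zpow_one, _root_.zpow_neg, zpow_ofNat, pow_one] at h39 h45
      rw [inv_mul_eq_one] at h39
      rw [← h39, pow_two, mul_assoc, mul_inv_cancel, mul_one] at h45
      replace hk : (∑ r, cc r * Φ.A k r) ≠ 0 := hk
      rw [hsum] at hk
      rcases four_nodes k with rfl | rfl | rfl | rfl
      · simp at hk
      · exact h45
      · rw [← h39]; exact h45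
      · simp at hk
    · simp only [List.mem_cons, List.not_mem_nil, or_false] at hh
      rcases hh with rfl | rfl
      · exact e39
      · exact e45
  have huM : u ∈ M := by
    have hle' : Φ.Uneg F π ≤ M := by
      rw [Uneg, US, Subgroup.closure_le]
      rintro x ⟨r, t, ⟨h1, h2⟩, rfl⟩
      have key : ∀ x y : Fin Cfsg.Lie.chevF4.nroots, Cfsg.Lie.chevF4.nroots ≤ 2 * x.val →
          ¬ Cfsg.Lie.chevF4.nroots ≤ 2 * y.val → ip4 y.val 39 = ip4 x.val 39 → ip4 y.val 45 = ip4 x.val 45 →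
          x.val ∉ [27, 25, 34, 26] := by decide +kernel
      have i39 := Φ.ip4_map hπ r (f4 39)
      have i45 := Φ.ip4_map hπ r (f4 45)
      rw [s39] at i39
      rw [s45] at i45
      exact mpos r h1 (key r (π r) h1 h2 i39 i45) t
    exact hle' hu
  have hvw : Commute v w := by
    have h1 : v * n * u * w * (v * n * u)⁻¹ = w := by rw [hgc.eq, mul_inv_cancel_right]
    have h2 : n * u * w * (n * u)⁻¹ = w := by rw [(hMw _ (mul_mem hnM huM)).eq, mul_inv_cancel_right]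
    show v * w = w * v
    calc v * w = v * (n * u * w * (n * u)⁻¹) * v⁻¹ * v := by rw [h2]; group
      _ = v * n * u * w * (v * n * u)⁻¹ * v := by group
      _ = w * v := by rw [h1]
  suffices hvM : v ∈ M from mul_mem (mul_mem hvM hnM) huM
  have hv2 := hv
  rw [Φ.posUnipotent_eq_US] at hv2
  obtain ⟨t, rfl⟩ := (Φ.mem_US_iff (fun _ h => h) Φ.closed_pos).1 hv2
  rw [Φ.gap_eq] at hvw ⊢
  have hsplit : Φ.prodL [f4 24, f4 25, f4 26, f4 27, f4 28, f4 29, f4 30, f4 31, f4 32, f4 33, f4 34,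
      f4 35, f4 36, f4 37, f4 38, f4 39, f4 40, f4 41, f4 42, f4 43, f4 44, f4 45, f4 46, f4 47] t =
      Φ.toAlg.xg (f4 24) (t (f4 24)) * (Φ.toAlg.xg (f4 25) (t (f4 25)) * Φ.toAlg.xg (f4 26) (t (f4 26)) *
        Φ.toAlg.xg (f4 27) (t (f4 27)) * Φ.prodL [f4 28, f4 29, f4 30, f4 31, f4 32, f4 33] t *
        Φ.toAlg.xg (f4 34) (t (f4 34))) * Φ.prodL [f4 35, f4 36, f4 37, f4 38, f4 39, f4 40, f4 41, f4 42,
          f4 43, f4 44, f4 45, f4 46, f4 47] t := by
    simp only [prodL, List.map_cons, List.map_nil, List.prod_cons, List.prod_nil, mul_one, mul_assoc]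
  rw [hsplit] at hvw ⊢
  set A := Φ.toAlg.xg (f4 24) (t (f4 24))
  set P := Φ.prodL [f4 28, f4 29, f4 30, f4 31, f4 32, f4 33] t
  set Q := Φ.prodL [f4 35, f4 36, f4 37, f4 38, f4 39, f4 40, f4 41, f4 42,
          f4 43, f4 44, f4 45, f4 46, f4 47] t
  have hL : ∀ L : List (Fin Cfsg.Lie.chevF4.nroots),
      (∀ r ∈ L, Cfsg.Lie.chevF4.nroots ≤ 2 * r.val ∧ r.val ∉ [27, 25, 34, 26]) → Φ.prodL L t ∈ M := by
    intro L hL
    refine Subgroup.list_prod_mem _ fun x hx => ?_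
    obtain ⟨r, hr, rfl⟩ := List.mem_map.1 hx
    exact mpos r (hL r hr).1 (hL r hr).2 _
  have hAM : A ∈ M := mpos _ (show Cfsg.Lie.chevF4.nroots ≤ _ by decide) (by decide) _
  have hPM : P ∈ M := hL _ (by decide)
  have hQM : Q ∈ M := hL _ (by decide)
  set X25 := Φ.toAlg.xg (f4 25) (t (f4 25))
  set X26 := Φ.toAlg.xg (f4 26) (t (f4 26))
  set X27 := Φ.toAlg.xg (f4 27) (t (f4 27))
  set X34 := Φ.toAlg.xg (f4 34) (t (f4 34))
  have hy : Commute (X25 * X26 * X27 * P * X34) w := by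
    have := ((hMw _ (inv_mem hAM)).mul_left hvw).mul_left (hMw _ (inv_mem hQM))
    rwa [mul_assoc A (X25 * X26 * X27 * P * X34) Q, inv_mul_cancel_left, mul_inv_cancel_right] at this
  -- the effect of the four remaining factors
  set Y39 := Φ.toAlg.xg (f4 39) (1 : F)
  set Y45 := Φ.toAlg.xg (f4 45) (1 : F)
  have o39 : f4 39 ∈ six := by decide
  have one27 : X27 * Y39 * X27⁻¹ = Y39 * Φ.toAlg.xg (f4 40) (t (f4 27)) := by
    have := Φ.conj_one_term (F := F) (r := f4 39) (s := f4 27) (k := f4 40) (by decide) (by decide)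
      (c := -1) (by decide) (by decide +kernel) (fun x y => Φ.commute_f4 (by decide +kernel) x y) 1 (t (f4 27))
    rwa [one_mul] at this
  have one34 : X34 * Y39 * X34⁻¹ = Y39 * Φ.toAlg.xg (f4 44) (t (f4 34)) := by
    have := Φ.conj_one_term (F := F) (r := f4 39) (s := f4 34) (k := f4 44) (by decide) (by decide)
      (c := -1) (by decide) (by decide +kernel) (fun x y => Φ.commute_f4 (by decide +kernel) x y) 1 (t (f4 34))
    rwa [one_mul] at this
  have one25 : X25 * Y45 * X25⁻¹ = Y45 * Φ.toAlg.xg (f4 46) (t (f4 25)) := by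
    have := Φ.conj_one_term (F := F) (r := f4 45) (s := f4 25) (k := f4 46) (by decide) (by decide)
      (c := -1) (by decide) (by decide +kernel) (fun x y => Φ.commute_f4 (by decide +kernel) x y) 1 (t (f4 25))
    rwa [one_mul] at this
  have one26 : X26 * Y45 * X26⁻¹ = Y45 * Φ.toAlg.xg (f4 47) (t (f4 26)) := by
    have := Φ.conj_one_term (F := F) (r := f4 45) (s := f4 26) (k := f4 47) (by decide) (by decide)
      (c := -1) (by decide) (by decide +kernel) (fun x y => Φ.commute_f4 (by decide +kernel) x y) 1 (t (f4 26))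
    rwa [one_mul] at this
  have cj : ∀ {x y : GL Cfsg.Lie.chevF4.Idx F}, Commute x y → x * y * x⁻¹ = y := fun h => by
    rw [h.eq, mul_inv_cancel_right]
  have hP44 : P * Φ.toAlg.xg (f4 44) (t (f4 34)) * P⁻¹ = Φ.toAlg.xg (f4 44) (t (f4 34)) := by
    refine cj ((Φ.commute_U (show Cfsg.Lie.chevF4.nroots ≤ _ by decide) (by decide +kernel) _ ?_).symm)
    refine Subgroup.list_prod_mem _ fun x hx => ?_
    obtain ⟨r, hr, rfl⟩ := List.mem_map.1 hx
    exact Φ.xg_mem_U ((show ∀ r ∈ [f4 28, f4 29, f4 30, f4 31, f4 32, f4 33],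
      Cfsg.Lie.chevF4.nroots ≤ 2 * r.val by decide) r hr) _
  have c34 : X34 * Y45 * X34⁻¹ = Y45 := cj (Φ.commute_f4 (by decide +kernel) _ _)
  have c27 : X27 * Y45 * X27⁻¹ = Y45 := cj (Φ.commute_f4 (by decide +kernel) _ _)
  have c26 : X26 * Y39 * X26⁻¹ = Y39 := cj (Φ.commute_f4 (by decide +kernel) _ _)
  have c25 : X25 * Y39 * X25⁻¹ = Y39 := cj (Φ.commute_f4 (by decide +kernel) _ _)
  have d27 : ∀ z, X27 * Φ.toAlg.xg (f4 44) z * X27⁻¹ = Φ.toAlg.xg (f4 44) z := fun z =>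
    cj (Φ.commute_f4 (by decide +kernel) _ _)
  have d26a : ∀ z, X26 * Φ.toAlg.xg (f4 40) z * X26⁻¹ = Φ.toAlg.xg (f4 40) z := fun z =>
    cj (Φ.commute_f4 (by decide +kernel) _ _)
  have d26b : ∀ z, X26 * Φ.toAlg.xg (f4 44) z * X26⁻¹ = Φ.toAlg.xg (f4 44) z := fun z =>
    cj (Φ.commute_f4 (by decide +kernel) _ _)
  have d25a : ∀ z, X25 * Φ.toAlg.xg (f4 40) z * X25⁻¹ = Φ.toAlg.xg (f4 40) z := fun z =>
    cj (Φ.commute_f4 (by decide +kernel) _ _)
  have d25b : ∀ z, X25 * Φ.toAlg.xg (f4 44) z * X25⁻¹ = Φ.toAlg.xg (f4 44) z := fun z =>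
    cj (Φ.commute_f4 (by decide +kernel) _ _)
  have d25c : ∀ z, X25 * Φ.toAlg.xg (f4 47) z * X25⁻¹ = Φ.toAlg.xg (f4 47) z := fun z =>
    cj (Φ.commute_f4 (by decide +kernel) _ _)
  have hPw : P * w * P⁻¹ = w := cj (hMw _ hPM)
  have dist : ∀ (x y z : GL Cfsg.Lie.chevF4.Idx F), x * (y * z) * x⁻¹ = x * y * x⁻¹ * (x * z * x⁻¹) :=
    fun x y z => by group
  have step1 : X34 * w * X34⁻¹ = w * Φ.toAlg.xg (f4 44) (t (f4 34)) := by
    rw [hw, dist, one34, c34, mul_assoc,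
      (Φ.six_comm (show f4 44 ∈ six by decide) (show f4 45 ∈ six by decide) _ _).eq, ← mul_assoc]
  have step2 : P * (w * Φ.toAlg.xg (f4 44) (t (f4 34))) * P⁻¹ = w * Φ.toAlg.xg (f4 44) (t (f4 34)) := by
    rw [dist, hPw, hP44]
  have step3 : X27 * (w * Φ.toAlg.xg (f4 44) (t (f4 34))) * X27⁻¹ =
      Y39 * Φ.toAlg.xg (f4 40) (t (f4 27)) * Y45 * Φ.toAlg.xg (f4 44) (t (f4 34)) := by
    rw [hw, dist, dist, one27, c27, d27]
  have step4 : X26 * (Y39 * Φ.toAlg.xg (f4 40) (t (f4 27)) * Y45 * Φ.toAlg.xg (f4 44) (t (f4 34))) * X26⁻¹ =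
      Y39 * Φ.toAlg.xg (f4 40) (t (f4 27)) * (Y45 * Φ.toAlg.xg (f4 47) (t (f4 26))) *
        Φ.toAlg.xg (f4 44) (t (f4 34)) := by
    rw [dist, dist, dist, c26, d26a, one26, d26b]
  have step5 : X25 * (Y39 * Φ.toAlg.xg (f4 40) (t (f4 27)) * (Y45 * Φ.toAlg.xg (f4 47) (t (f4 26))) *
        Φ.toAlg.xg (f4 44) (t (f4 34))) * X25⁻¹ =
      Y39 * Φ.toAlg.xg (f4 40) (t (f4 27)) * (Y45 * Φ.toAlg.xg (f4 46) (t (f4 25)) *
        Φ.toAlg.xg (f4 47) (t (f4 26))) * Φ.toAlg.xg (f4 44) (t (f4 34)) := by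
    rw [dist, dist, dist, dist, c25, d25a, one25, d25b, d25c]
  have total : (X25 * X26 * X27 * P * X34) * w * (X25 * X26 * X27 * P * X34)⁻¹ =
      Y39 * Φ.toAlg.xg (f4 40) (t (f4 27)) * (Y45 * Φ.toAlg.xg (f4 46) (t (f4 25)) *
        Φ.toAlg.xg (f4 47) (t (f4 26))) * Φ.toAlg.xg (f4 44) (t (f4 34)) := by
    rw [← step5, ← step4, ← step3, ← step2, ← step1]
    group
  rw [cj hy, hw] at total
  let L6 : List (Fin Cfsg.Lie.chevF4.nroots) := [f4 39, f4 40, f4 45, f4 46, f4 47, f4 44]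
  let g1 : Fin Cfsg.Lie.chevF4.nroots → F := fun r => if r = f4 39 ∨ r = f4 45 then 1 else 0
  let g2 : Fin Cfsg.Lie.chevF4.nroots → F := fun r => if r = f4 40 then t (f4 27) else if r = f4 44 then
    t (f4 34) else if r = f4 46 then t (f4 25) else if r = f4 47 then t (f4 26) else 1
  have hg : Φ.prodL L6 g1 = Φ.prodL L6 g2 := by
    simpa [prodL, L6, g1, g2, f4, mul_assoc, Y39, Y45] using total
  have hc6 : ∀ r ∈ L6, ∀ s ∈ L6, ∀ x y : F, Commute (Φ.toAlg.xg r x) (Φ.toAlg.xg s y) := by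
    have key : ∀ r ∈ L6, r ∈ six := by decide
    exact fun r hr s hs => Φ.six_comm (key r hr) (key s hs)
  have hp6 : ∀ r ∈ L6, Φ.toTables.Pos r := fun r hr => Φ.pos_six r ((show ∀ r ∈ L6, r ∈ six by decide) r hr)
  rw [Φ.prodL_eq_of_commute (by decide) g1 hp6 (fun r hr s hs => hc6 r hr s hs _ _),
    Φ.prodL_eq_of_commute (by decide) g2 hp6 (fun r hr s hs => hc6 r hr s hs _ _)] at hg
  have hz : ∀ r ∈ L6, g1 r = g2 r := fun r hr => by
    have := Φ.prodL_injective (pairwise_rootList _) (fun r hr => mem_rootList.1 hr) hg r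
      (mem_rootList.2 (hp6 r hr))
    rwa [if_pos hr, if_pos hr] at this
  have z27 : t (f4 27) = 0 := by simpa [g1, g2, f4, Fin.ext_iff] using (hz (f4 40) (by simp [L6])).symm
  have z34 : t (f4 34) = 0 := by simpa [g1, g2, f4, Fin.ext_iff] using (hz (f4 44) (by simp [L6])).symm
  have z25 : t (f4 25) = 0 := by simpa [g1, g2, f4, Fin.ext_iff] using (hz (f4 46) (by simp [L6])).symm
  have z26 : t (f4 26) = 0 := by simpa [g1, g2, f4, Fin.ext_iff] using (hz (f4 47) (by simp [L6])).symm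
  have hX : X25 = 1 ∧ X26 = 1 ∧ X27 = 1 ∧ X34 = 1 := by
    refine ⟨?_, ?_, ?_, ?_⟩ <;> simp [X25, X26, X27, X34, z25, z26, z27, z34]
  obtain ⟨h1, h2, h3, h4⟩ := hX
  rw [h1, h2, h3, h4]
  simpa using mul_mem (mul_mem hAM hPM) hQM

end F4

end Chev

end CfsgLib.Chev
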