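/-
Two conjugates of the subgroup of the highest root in characteristic two.
-/
import Cfsg.Agent.Lib.Chev.RootCentralizer
import Mathlib.GroupTheory.PGroup

namespace CfsgLib.Chev

open Cfsg.Lie Matrix

set_option linter.dupNamespace false
set_option linter.unusedSectionVars false

variable {D : ChevalleyDatum}

namespace Chev

variable (Φ : Chev D) {F : Type*} [Field F]

/-- The commutator terms of `r` and `s` are even. -/
def evenTerms (D : ChevalleyDatum) (r s : ℕ) : Bool := (D.commTerms r s).all fun c => c.2.1 % 2 == 0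

/-- The commutator terms of `h` and `s` are central in `⟨X_h, X_s⟩` modulo two. -/
def pairCheck (D : ChevalleyDatum) (h s : ℕ) : Bool :=
  let T := D.commTerms h s
  T.all fun c =>
    decide (c.1 < D.nroots) && decide (c.1 ≠ h) && decide (c.1 ≠ D.neg h) && decide (c.1 ≠ s) &&
      decide (c.1 ≠ D.neg s) && evenTerms D h c.1 && evenTerms D s c.1 &&
      T.all fun d => decide (d.1 = c.1) || (decide (d.1 ≠ D.neg c.1) && evenTerms D c.1 d.1)

/-- `L` contains the orbit of `h`, and `h` with each other member of `L` other than `±h` passes `pairCheck`. -/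
def orbitCheck (D : ChevalleyDatum) (h : ℕ) (L : List ℕ) : Bool :=
  L.contains h &&
    L.all (fun s => (List.range D.rank).all (fun i => L.contains (D.reflectRoot i s)) &&
      (decide (s = h) || decide (s = D.neg h) || pairCheck D h s))

theorem orbit_mem {h : Fin D.nroots} {L : List ℕ} (hok : orbitCheck D h.val L = true)
    {π : Equiv.Perm (Fin D.nroots)} (hπ : π ∈ Φ.WL) : (π h).val ∈ L := by
  simp only [orbitCheck, Bool.and_eq_true, List.all_eq_true, List.contains_iff_mem, List.mem_range] at hok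
  obtain ⟨hh, hL⟩ := hok
  have hgen : ∀ (i : Fin D.rank) (r : Fin D.nroots), r.val ∈ L → (Φ.refl i r).val ∈ L := by
    intro i r hr
    have := (hL r.val hr).1 i.val i.isLt
    rwa [Φ.reflectRoot_eq] at this
  suffices ∀ r : Fin D.nroots, r.val ∈ L → (π r).val ∈ L from this h hh
  induction hπ using Subgroup.closure_induction'' with
  | mem x hx => obtain ⟨i, -, rfl⟩ := hx; exact hgen i
  | inv_mem x hx => obtain ⟨i, -, rfl⟩ := hx; rw [Φ.reflPerm_inv']; exact hgen i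
  | one => exact fun r hr => hr
  | mul x y _ _ hx hy => exact fun r hr => hx _ (hy r hr)

section Two

variable [CharP F 2]

theorem xg_add_self (r : Fin D.nroots) (a : F) : Φ.toAlg.xg r a * Φ.toAlg.xg r a = 1 := by
  rw [← Φ.toAlg.xg_add, CharTwo.add_self_eq_zero, Φ.toAlg.xg_zero]

include Φ in
/-- The subgroup generated by the two root subgroups is a two-group. -/
theorem isPGroup_pair {h s : Fin D.nroots} (hsh : s ≠ h) (hneg : s ≠ h.rev)
    (hok : pairCheck D h.val s.val = true) :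
    IsPGroup 2 ↥(D.rootSubgroup F h.val ⊔ D.rootSubgroup F s.val) := by
  simp only [pairCheck, evenTerms, Bool.and_eq_true, List.all_eq_true, decide_eq_true_eq, Bool.or_eq_true,
    beq_iff_eq] at hok
  let T : Fin D.nroots → Prop := fun r => ∃ c ∈ D.commTerms h.val s.val, c.1 = r.val
  have hc_h : ∀ r, T r → ∀ a b : F, Commute (Φ.toAlg.xg h a) (Φ.toAlg.xg r b) := by
    rintro r ⟨c, hc, hcr⟩ a b
    obtain ⟨⟨⟨⟨⟨⟨⟨-, h1⟩, h2⟩, -⟩, -⟩, h5⟩, -⟩, -⟩ := hok c hc
    rw [hcr] at h1 h2 h5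
    refine Φ.commute_of_even (fun e => h1 (congrArg Fin.val e)) (fun e => h2 ?_) h5 a b
    rw [show D.neg h.val = h.rev.val from Φ.negIdx_eq h]
    exact congrArg Fin.val e
  have hc_s : ∀ r, T r → ∀ a b : F, Commute (Φ.toAlg.xg s a) (Φ.toAlg.xg r b) := by
    rintro r ⟨c, hc, hcr⟩ a b
    obtain ⟨⟨⟨⟨⟨-, h3⟩, h4⟩, -⟩, h6⟩, -⟩ := hok c hc
    rw [hcr] at h3 h4 h6
    refine Φ.commute_of_even (fun e => h3 (congrArg Fin.val e)) (fun e => h4 ?_) h6 a b
    rw [show D.neg s.val = s.rev.val from Φ.negIdx_eq s]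
    exact congrArg Fin.val e
  have hc_T : ∀ r r', T r → T r' → ∀ a b : F, Commute (Φ.toAlg.xg r a) (Φ.toAlg.xg r' b) := by
    rintro r r' ⟨c, hc, hcr⟩ ⟨d, hd, hdr⟩ a b
    by_cases e : r' = r
    · subst e
      show _ = _
      rw [← Φ.toAlg.xg_add, ← Φ.toAlg.xg_add, add_comm]
    obtain ⟨-, h7⟩ := hok c hc
    rcases h7 d hd with e' | ⟨h8, h9⟩
    · exact absurd (Fin.ext (hdr.symm.trans (e'.trans hcr))) e
    rw [hcr, hdr] at h8 h9
    refine Φ.commute_of_even e (fun e' => h8 ?_) h9 a b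
    rw [show D.neg r.val = r.rev.val from Φ.negIdx_eq r]
    exact congrArg Fin.val e'
  set Z := Φ.US F T with hZ
  have hgenZ : ∀ {x : GL D.Idx F}, (∀ r t, T r → Commute x (Φ.toAlg.xg r t)) → ∀ z ∈ Z, Commute x z := by
    intro x hx z hz
    induction hz using Subgroup.closure_induction with
    | mem y hy => obtain ⟨r, t, hr, rfl⟩ := hy; exact hx r t hr
    | one => exact Commute.one_right _
    | mul y w _ _ hy hw => exact hy.mul_right hw
    | inv y _ hy => exact hy.inv_right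
  have zh : ∀ a, ∀ z ∈ Z, Commute (Φ.toAlg.xg h a) z := fun a => hgenZ fun r t hr => hc_h r hr a t
  have zs : ∀ a, ∀ z ∈ Z, Commute (Φ.toAlg.xg s a) z := fun a => hgenZ fun r t hr => hc_s r hr a t
  have zsq : ∀ z ∈ Z, z * z = 1 := by
    intro z hz
    induction hz using Subgroup.closure_induction with
    | mem y hy => obtain ⟨r, t, _, rfl⟩ := hy; exact Φ.xg_add_self r t
    | one => exact one_mul 1
    | mul y w hy hw ihy ihw =>
      have hyw : Commute y w := by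
        refine hgenZ (fun r t hr => ?_) w hw
        exact (hgenZ (fun r' t' hr' => hc_T r r' hr hr' t t') y hy).symm
      rw [hyw.symm.mul_mul_mul_comm, ihy, ihw, one_mul]
    | inv y _ ihy => rw [← _root_.mul_inv_rev, ihy, _root_.inv_one]
  have hW : ∀ a b : F, ∃ z ∈ Z, Φ.toAlg.xg s b * Φ.toAlg.xg h a = Φ.toAlg.xg h a * Φ.toAlg.xg s b * z := by
    intro a b
    have hS : ∀ c ∈ D.commTerms h.val s.val, ∃ hlt : c.1 < D.nroots, T ⟨c.1, hlt⟩ := fun c hc =>
      ⟨(hok c hc).1.1.1.1.1.1.1, c, hc, rfl⟩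
    obtain ⟨W, hW, hv⟩ := Φ.commWord_mem hS a b
    exact ⟨W, hW, Units.ext (by
      simp only [Units.val_mul, Alg.xg_val, hv]; exact Φ.commutator_formula hsh hneg a b)⟩
  have hmem : ∀ g ∈ D.rootSubgroup F h.val ⊔ D.rootSubgroup F s.val,
      ∃ a b, ∃ z ∈ Z, g = Φ.toAlg.xg h a * Φ.toAlg.xg s b * z := by
    intro g hg
    rw [ChevalleyDatum.rootSubgroup, ChevalleyDatum.rootSubgroup, ← Subgroup.closure_union] at hg
    have hgen : ∀ x ∈ ({g | ∃ t : F, (g : Matrix D.Idx D.Idx F) = D.x F h.val t} ∪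
        {g | ∃ t : F, (g : Matrix D.Idx D.Idx F) = D.x F s.val t} : Set (GL D.Idx F)),
        (∃ a, x = Φ.toAlg.xg h a) ∨ ∃ b, x = Φ.toAlg.xg s b := by
      rintro x (⟨t, ht⟩ | ⟨t, ht⟩)
      · exact Or.inl ⟨t, (Φ.toAlg.eq_xg_iff).1 ht⟩
      · exact Or.inr ⟨t, (Φ.toAlg.eq_xg_iff).1 ht⟩
    induction hg using Subgroup.closure_induction'' with
    | mem x hx =>
      rcases hgen x hx with ⟨a, rfl⟩ | ⟨b, rfl⟩
      · exact ⟨a, 0, 1, one_mem _, by simp⟩
      · exact ⟨0, b, 1, one_mem _, by simp⟩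
    | inv_mem x hx =>
      rcases hgen x hx with ⟨a, rfl⟩ | ⟨b, rfl⟩
      · exact ⟨-a, 0, 1, one_mem _, by simp [Φ.toAlg.xg_inv]⟩
      · exact ⟨0, -b, 1, one_mem _, by simp [Φ.toAlg.xg_inv]⟩
    | one => exact ⟨0, 0, 1, one_mem _, by simp⟩
    | mul x y _ _ hx hy =>
      obtain ⟨a, b, z, hz, rfl⟩ := hx
      obtain ⟨a', b', z', hz', rfl⟩ := hy
      obtain ⟨w, hw, e⟩ := hW a' b
      refine ⟨a + a', b + b', w * z * z', mul_mem (mul_mem hw hz) hz', ?_⟩
      rw [Φ.toAlg.xg_add, Φ.toAlg.xg_add]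
      have c1 := (zh a' z hz).eq
      have c2 := (zs b' z hz).eq
      have c3 := (zs b' w hw).eq
      calc Φ.toAlg.xg h a * Φ.toAlg.xg s b * z * (Φ.toAlg.xg h a' * Φ.toAlg.xg s b' * z')
          = Φ.toAlg.xg h a * Φ.toAlg.xg s b * (z * Φ.toAlg.xg h a') * Φ.toAlg.xg s b' * z' := by group
        _ = Φ.toAlg.xg h a * (Φ.toAlg.xg s b * Φ.toAlg.xg h a') * (z * Φ.toAlg.xg s b') * z' := by
            rw [← c1]; group
        _ = Φ.toAlg.xg h a * Φ.toAlg.xg h a' * Φ.toAlg.xg s b * (w * Φ.toAlg.xg s b') * z * z' := by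
            rw [e, ← c2]; group
        _ = _ := by rw [← c3]; group
  refine fun g => ⟨2, ?_⟩
  obtain ⟨a, b, z, hz, hg⟩ := hmem g.1 g.2
  obtain ⟨w, hw, e⟩ := hW a b
  have hsq : g.1 * g.1 = w * z * z := by
    rw [hg]
    calc Φ.toAlg.xg h a * Φ.toAlg.xg s b * z * (Φ.toAlg.xg h a * Φ.toAlg.xg s b * z)
        = Φ.toAlg.xg h a * Φ.toAlg.xg s b * (z * Φ.toAlg.xg h a) * Φ.toAlg.xg s b * z := by group
      _ = Φ.toAlg.xg h a * (Φ.toAlg.xg s b * Φ.toAlg.xg h a) * (z * Φ.toAlg.xg s b) * z := by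
          rw [← (zh a z hz).eq]; group
      _ = Φ.toAlg.xg h a * Φ.toAlg.xg h a * Φ.toAlg.xg s b * (w * Φ.toAlg.xg s b) * z * z := by
          rw [e, ← (zs b z hz).eq]; group
      _ = Φ.toAlg.xg h a * Φ.toAlg.xg h a * (Φ.toAlg.xg s b * Φ.toAlg.xg s b) * w * z * z := by
          rw [← (zs b w hw).eq]; group
      _ = _ := by rw [Φ.xg_add_self, Φ.xg_add_self, one_mul, one_mul]
  refine Subtype.ext ?_
  rw [SubmonoidClass.coe_pow, show (2 : ℕ) ^ 2 = 2 * 2 from rfl, pow_mul, pow_two, pow_two, hsq,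
    mul_assoc w, zsq z hz, mul_one, zsq w hw]
  rfl

theorem two_conjugates {h : Fin D.nroots} (hpos : Φ.toTables.Pos h) (he : evenComm D h = true)
    {L : List ℕ} (hok : orbitCheck D h.val L = true) {g : GL D.Idx F} (hg : g ∈ D.group F) :
    IsPGroup 2 ↥(D.rootSubgroup F h.val ⊔ (D.rootSubgroup F h.val).map (MulAut.conj g).toMonoidHom) ∨
    ∃ k ∈ D.group F, (D.rootSubgroup F h.val ⊔
        (D.rootSubgroup F h.val).map (MulAut.conj g).toMonoidHom).map (MulAut.conj k).toMonoidHom =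
      D.rootSubgroup F h.val ⊔ D.rootSubgroup F h.rev.val := by
  obtain ⟨b, hb, n, hn, π, hπ, hm, u, hu, rfl⟩ := Φ.exists_normal_form hg
  have hu' := Φ.Uneg_le_U hu
  set X := D.rootSubgroup F h.val with hX
  have hXh : ∀ x ∈ X, ∃ a, x = Φ.toAlg.xg h a := fun x hx => by
    obtain ⟨a, e⟩ := Φ.toAlg.mem_rootSubgroup.1 hx; exact ⟨a, e.symm⟩
  have hU : ∀ v ∈ D.posUnipotent F, X.map (MulAut.conj v).toMonoidHom = X := by
    intro v hv
    ext x
    constructor
    · rintro ⟨y, hy, rfl⟩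
      obtain ⟨a, rfl⟩ := hXh y hy
      show v * _ * v⁻¹ ∈ X
      rwa [(Φ.commute_U hpos he a hv).symm.eq, mul_inv_cancel_right]
    · intro hx
      obtain ⟨a, rfl⟩ := hXh x hx
      refine ⟨_, hx, ?_⟩
      show v * _ * v⁻¹ = _
      rw [(Φ.commute_U hpos he a hv).symm.eq, mul_inv_cancel_right]
  have hmap : ∀ x y : GL D.Idx F, ∀ K : Subgroup (GL D.Idx F),
      (K.map (MulAut.conj y).toMonoidHom).map (MulAut.conj x).toMonoidHom =
        K.map (MulAut.conj (x * y)).toMonoidHom := by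
    intro x y K
    rw [Subgroup.map_map]
    congr 1
    ext z
    simp
  have hnX : X.map (MulAut.conj n).toMonoidHom = D.rootSubgroup F (π h).val := by
    obtain ⟨a, ha, ha', -⟩ := hm.1 h
    ext x
    constructor
    · rintro ⟨y, hy, rfl⟩
      obtain ⟨t, rfl⟩ := hXh y hy
      show n * _ * n⁻¹ ∈ _
      rw [ha']
      exact Φ.toAlg.mem_rootSubgroup.2 ⟨_, rfl⟩
    · intro hx
      obtain ⟨t, rfl⟩ := Φ.toAlg.mem_rootSubgroup.1 hx
      refine ⟨Φ.toAlg.xg h (t / a), Φ.toAlg.mem_rootSubgroup.2 ⟨_, rfl⟩, ?_⟩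
      show n * _ * n⁻¹ = _
      rw [ha', mul_div_cancel₀ _ ha]
  have hbX : X.map (MulAut.conj b).toMonoidHom = X := by
    obtain ⟨v, hv, d, hd, rfl⟩ := Φ.mem_B_iff.1 hb
    rw [← hmap]
    obtain ⟨c, rfl⟩ := Φ.exists_torus_of_mem_H hd
    have : X.map (MulAut.conj (Φ.toAlg.torus c)).toMonoidHom = X := by
      ext x
      constructor
      · rintro ⟨y, hy, rfl⟩
        obtain ⟨t, rfl⟩ := hXh y hy
        show Φ.toAlg.torus c * _ * (Φ.toAlg.torus c)⁻¹ ∈ X
        rw [Φ.toAlg.torus_xg, mul_inv_cancel_right]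
        exact Φ.toAlg.mem_rootSubgroup.2 ⟨_, rfl⟩
      · intro hx
        obtain ⟨t, rfl⟩ := hXh x hx
        refine ⟨Φ.toAlg.xg h ((Φ.toSys.chi c h : F)⁻¹ * t), Φ.toAlg.mem_rootSubgroup.2 ⟨_, rfl⟩, ?_⟩
        show Φ.toAlg.torus c * _ * (Φ.toAlg.torus c)⁻¹ = _
        rw [Φ.toAlg.torus_xg, mul_inv_cancel_right, mul_inv_cancel_left₀ (Units.ne_zero _)]
    rw [this, hU v hv]
  have hjoin : X ⊔ X.map (MulAut.conj (b * n * u)).toMonoidHom =
      (X ⊔ D.rootSubgroup F (π h).val).map (MulAut.conj b).toMonoidHom := by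
    rw [Subgroup.map_sup, hbX, ← hmap (b * n) u, hU u hu', ← hmap b n, hnX]
  rw [hjoin]
  by_cases hrev : π h = h.rev
  · refine Or.inr ⟨b⁻¹, inv_mem (Φ.B_le_group hb), ?_⟩
    rw [hmap, inv_mul_cancel, hrev]
    ext x
    simp
  · left
    refine IsPGroup.map ?_ _
    by_cases hsame : π h = h
    · rw [hsame, sup_idem]
      intro x
      obtain ⟨a, ha⟩ := hXh x.1 x.2
      exact ⟨1, Subtype.ext (by rw [pow_one, pow_two, Subgroup.coe_mul, ha, Φ.xg_add_self]; rfl)⟩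
    · refine Φ.isPGroup_pair hsame hrev ?_
      have hmem := Φ.orbit_mem hok hπ
      simp only [orbitCheck, Bool.and_eq_true, List.all_eq_true, Bool.or_eq_true, decide_eq_true_eq] at hok
      rcases (hok.2 _ hmem).2 with (e | e) | e
      · exact absurd (Fin.ext e) hsame
      · exact absurd (Fin.ext (e.trans (Φ.negIdx_eq h))) hrev
      · exact e

end Two

end Chev

end CfsgLib.Chev
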