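/-
The values of the Steinberg character at elements of order prime to the characteristic.
-/
import Cfsg.Agent.Lib.Chev.BorelTits
import Cfsg.Agent.Lib.Chev.UnipCount
import Cfsg.Agent.Lib.Chev.Longest
import Cfsg.Agent.Lib.BN.EllipticSum
import Cfsg.Agent.Lib.Coprime

set_option autoImplicit false
set_option linter.dupNamespace false
set_option linter.unusedSectionVars false

namespace CfsgLib.Chev

open Cfsg.Lie Matrix
open CfsgLib.BN (cls cell σ len lset LMin)

/-- An element of order prime to `p` in a coset of a normalised `p`-subgroup is conjugate by it. -/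
theorem exists_conj_of_coset {G : Type*} [Group G] [Finite G] {p : ℕ} [Fact p.Prime] {U : Subgroup G}
    (hU : IsPGroup p ↥U) {g : G} (hn : g ∈ Subgroup.normalizer (U : Set G)) (hg : ¬ p ∣ orderOf g)
    {u : G} (hu : u ∈ U) (hgu : ¬ p ∣ orderOf (g * u)) :
    ∃ v ∈ U, g * u = v * g * v⁻¹ := by
  have hpr : p.Prime := Fact.out
  have hA : Subgroup.zpowers g ≤ Subgroup.normalizer (U : Set G) := by
    rw [Subgroup.zpowers_le]; exact hn
  set M := U ⊔ Subgroup.zpowers g with hM
  have hUn : (U.subgroupOf M).Normal :=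
    (Subgroup.normal_subgroupOf_iff_le_normalizer le_sup_left).mpr (sup_le Subgroup.le_normalizer hA)
  set N := U.subgroupOf M with hN
  set q := QuotientGroup.mk' N with hq
  let a : ↥M := ⟨g, Subgroup.mem_sup_right (Subgroup.mem_zpowers g)⟩
  let b : ↥M := ⟨g * u, mul_mem a.2 (Subgroup.mem_sup_left hu)⟩
  have hNp : IsPGroup p ↥N := hU.of_equiv (Subgroup.subgroupOfEquivOfLe (le_sup_left : U ≤ M)).symm
  have hab : q b = q a := by
    rw [hq, QuotientGroup.mk'_eq_mk']
    refine ⟨⟨u⁻¹, Subgroup.mem_sup_left (inv_mem hu)⟩, ?_, Subtype.ext ?_⟩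
    · exact inv_mem hu
    · simp [a, b]
  -- an element of order prime to `p` meets `N` trivially
  have hcop : ∀ c : ↥M, ¬ p ∣ orderOf c → ∀ x ∈ Subgroup.zpowers c, x ∈ N → x = 1 := by
    intro c hc x hx hxN
    obtain ⟨k, hk⟩ := hNp ⟨x, hxN⟩
    have hk' : x ^ p ^ k = 1 := congrArg Subtype.val hk
    have h1 : orderOf x ∣ p ^ k := orderOf_dvd_of_pow_eq_one hk'
    have h2 : orderOf x ∣ orderOf c := by
      obtain ⟨i, rfl⟩ := Subgroup.mem_zpowers_iff.1 hx
      exact orderOf_dvd_of_mem_zpowers (Subgroup.zpow_mem _ (Subgroup.mem_zpowers c) i)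
    have h3 : Nat.Coprime (p ^ k) (orderOf c) := (Nat.Coprime.pow_left k (hpr.coprime_iff_not_dvd.2 hc))
    exact orderOf_eq_one_iff.1 (Nat.eq_one_of_dvd_coprimes h3 h1 h2)
  have ha : ¬ p ∣ orderOf a := by
    rwa [← orderOf_injective M.subtype M.subtype_injective a]
  have hb : ¬ p ∣ orderOf b := by
    rwa [← orderOf_injective M.subtype M.subtype_injective b]
  have hgen : ∀ y : ↥M, ∃ i : ℤ, q y = q a ^ i := by
    intro y
    obtain ⟨w, hw, x, hx, hwx⟩ := CfsgLib.mem_sup_of_le_normalizer hA y.2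
    obtain ⟨i, hi⟩ := Subgroup.mem_zpowers_iff.1 hx
    refine ⟨i, ?_⟩
    rw [← map_zpow, hq, QuotientGroup.mk'_eq_mk']
    refine ⟨⟨x⁻¹ * w⁻¹ * x, ?_⟩, ?_, Subtype.ext ?_⟩
    · exact mul_mem (mul_mem (inv_mem (Subgroup.mem_sup_right hx)) (Subgroup.mem_sup_left (inv_mem hw)))
        (Subgroup.mem_sup_right hx)
    · exact (Subgroup.mem_normalizer_iff''.1 (hA hx) _).1 (inv_mem hw)
    · simp [a, hi, ← hwx, mul_assoc]
  have hcompl : ∀ c : ↥M, ¬ p ∣ orderOf c → q c = q a → Subgroup.IsComplement' N (Subgroup.zpowers c) := by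
    intro c hc hca
    refine Subgroup.isComplement'_of_disjoint_and_mul_eq_univ ?_ ?_
    · rw [Subgroup.disjoint_def]
      exact fun hx hx' => hcop c hc _ hx' hx
    · refine Set.eq_univ_of_forall fun y => ?_
      obtain ⟨i, hi⟩ := hgen y
      rw [← hca, ← map_zpow] at hi
      refine Set.mem_mul.2 ⟨y * (c ^ i)⁻¹, ?_, c ^ i, Subgroup.zpow_mem _ (Subgroup.mem_zpowers c) i, by group⟩
      show y * (c ^ i)⁻¹ ∈ N
      rw [← QuotientGroup.eq_one_iff]
      show q (y * (c ^ i)⁻¹) = 1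
      rw [map_mul, map_inv, hi, mul_inv_cancel]
  have hH := hcompl a ha rfl
  have hK := hcompl b hb hab
  have hNc : (Nat.card ↥N).Coprime N.index := by
    obtain ⟨k, hk⟩ := IsPGroup.iff_card.1 hNp
    rw [hk, hH.symm.index_eq_card, Nat.card_zpowers]
    exact Nat.Coprime.pow_left k (hpr.coprime_iff_not_dvd.2 ha)
  have hsol : Group.IsSolvable ↥N := by
    have := hNp.isNilpotent
    infer_instance
  obtain ⟨v, hv, hvK⟩ := CfsgLib.complements_conj_mem hNc (Or.inl hsol) hH hK
  have hmem : v * a * v⁻¹ ∈ Subgroup.zpowers b := by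
    rw [← hvK]
    exact Subgroup.smul_mem_pointwise_smul a (MulAut.conj v) _ (Subgroup.mem_zpowers a)
  have hx : (v * a * v⁻¹) * b⁻¹ = 1 := by
    refine hcop b hb _ (mul_mem hmem (inv_mem (Subgroup.mem_zpowers b))) ?_
    rw [← QuotientGroup.eq_one_iff]
    show q (v * a * v⁻¹ * b⁻¹) = 1
    have hv1 : q v = 1 := (QuotientGroup.eq_one_iff v).2 hv
    rw [map_mul, map_mul, map_mul, map_inv, map_inv, hv1, hab]
    group
  refine ⟨v, hv, ?_⟩
  have := congrArg Subtype.val (mul_inv_eq_one.1 hx)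
  simpa [a, b] using this.symm

variable {D : ChevalleyDatum}

namespace Chev

variable (Φ : Chev D) {F : Type*} [Field F]

theorem natSet_mono_out {J K : Set ℕ} (h : natSet (D := D) J ⊆ natSet K) {r : Fin D.nroots}
    (hr : Φ.Out (natSet K) r) : Φ.Out (natSet J) r := by
  obtain ⟨j, hj, hV⟩ := hr
  exact ⟨j, fun e => hj (h e), hV⟩

include Φ in
theorem parabolic_congr {J K : Set ℕ} (h : natSet (D := D) J = natSet K) :
    D.parabolicSubgroup F J = D.parabolicSubgroup F K := by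
  rw [Φ.parabolic_eq_gen, Φ.parabolic_eq_gen, h]

include Φ in
theorem radical_congr {J K : Set ℕ} (h : natSet (D := D) J = natSet K) :
    D.unipotentRadical F J = D.unipotentRadical F K := by
  rw [Φ.unipotentRadical_eq, Φ.unipotentRadical_eq, h]

/-- A representative of a coset of shortest length keeps the positive roots of `Φ_K` positive. -/
theorem pos_inv_of_lmin {K : Finset (Φ.bnPair (F := F)).S} {n : (Φ.bnPair (F := F)).N}
    (hn : LMin (Φ.bnPair (F := F)) (lset _ K) (cls (Φ.bnPair (F := F)) n))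
    {π : Equiv.Perm (Fin D.nroots)} (hπ : π ∈ Φ.WL)
    (hm : Φ.Mono ((n : ↥(D.group F)) : GL D.Idx F) π) {r : Fin D.nroots} (hr : Φ.toTables.Pos r)
    (hs : Φ.Sub (natSet (Φ.nodeSet K)) r) : Φ.toTables.Pos (π⁻¹ r) := by
  have hsimple : ∀ i, i ∈ natSet (Φ.nodeSet K) → Φ.toTables.Pos (π⁻¹ (Φ.p i)) := by
    intro i hi
    by_contra hneg
    set s := Φ.sEquiv F i with hs'
    set m : (Φ.bnPair (F := F)).N := ⟨s.1, (Φ.bnPair (F := F)).subset s.2⟩ * n with hm'
    have hmono : Φ.Mono ((m.1 : ↥(D.group F)) : GL D.Idx F) (Φ.reflPerm i * π) :=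
      Mono.mul Φ (Φ.nw_one_mono i) hm
    have hp : Φ.toTables.Pos ((Φ.reflPerm i * π)⁻¹ (Φ.p i)) := by
      rw [_root_.mul_inv_rev, Φ.reflPerm_inv', Equiv.Perm.mul_apply]
      show Φ.toTables.Pos (π⁻¹ (Φ.refl i (Φ.p i)))
      rw [Φ.refl_p, Φ.map_rev (inv_mem hπ), Φ.pos_rev_iff]
      exact hneg
    have h := Φ.len_lt_of_pos (n := m.1) m.2 hmono i hp
    have e : cls (Φ.bnPair (F := F)) ⟨m.1, m.2⟩ = σ (Φ.bnPair (F := F)) s * cls (Φ.bnPair (F := F)) n := rfl
    rw [e, CfsgLib.BN.σ_mul_σ_mul] at h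
    have := hn s ((CfsgLib.BN.mem_lset (Φ.bnPair (F := F))).2 (Φ.natSet_nodeSet.1 hi))
    omega
  rw [Φ.pos_iff_V_nonneg]
  intro j
  rw [Φ.V_map (inv_mem hπ)]
  refine Finset.sum_nonneg fun k _ => ?_
  by_cases hk : k ∈ natSet (Φ.nodeSet K)
  · exact mul_nonneg (Φ.V_nonneg r hr k) (Φ.V_nonneg _ (hsimple k hk) j)
  · simp [hs k hk]

/-- The Borel subgroup is the radical times a part fixed by a shortest representative. -/
theorem borel_split {K : Finset (Φ.bnPair (F := F)).S} {n : (Φ.bnPair (F := F)).N}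
    (hn : LMin (Φ.bnPair (F := F)) (lset _ K) (cls (Φ.bnPair (F := F)) n)) {b : ↥(D.group F)}
    (hb : b ∈ (Φ.bnPair (F := F)).B) :
    ∃ u ∈ (D.unipotentRadical F (Φ.nodeSet K)).subgroupOf (D.group F),
      (n : ↥(D.group F))⁻¹ * (u⁻¹ * b) * n ∈ (Φ.bnPair (F := F)).B := by
  classical
  set g := ((n : ↥(D.group F)) : GL D.Idx F) with hg
  have hgN : g ∈ D.monomialSubgroup F := n.2
  obtain ⟨π, hW, hm, -⟩ := Φ.exists_mono_W hgN
  obtain ⟨u, hu, h, hh, e⟩ := Φ.mem_B_iff.1 (show (b : GL D.Idx F) ∈ D.borelSubgroup F from hb)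
  rw [Φ.posUnipotent_eq_US, ← Φ.US_rootList] at hu
  obtain ⟨v, hv, m, hm', e'⟩ := Φ.exists_splitList (A := fun r => ¬ Φ.Sub (natSet (Φ.nodeSet K)) r)
    (pairwise_rootList _) (fun r hr => mem_rootList.mp hr)
    (fun r s hr hs hN => mem_rootList.mpr (Φ.closed_pos r s (mem_rootList.mp hr) (mem_rootList.mp hs) hN)) hu
  have hvR : v ∈ D.unipotentRadical F (Φ.nodeSet K) := by
    rw [Φ.unipotentRadical_eq]
    exact Φ.US_mono (F := F) (S := fun r => r ∈ rootList Φ.toTables.Pos ∧ ¬ Φ.Sub (natSet (Φ.nodeSet K)) r)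
      (fun r hr => Φ.out_iff_pos_and_not_sub.mpr ⟨mem_rootList.mp hr.1, hr.2⟩) hv
  have hvG : v ∈ D.group F := Φ.B_le_group (U_le_B (Φ.radical_le_U _ hvR))
  refine ⟨⟨v, hvG⟩, hvR, ?_⟩
  show g⁻¹ * (v⁻¹ * (b : GL D.Idx F)) * g ∈ D.borelSubgroup F
  rw [e, e', show g⁻¹ * (v⁻¹ * (v * m * h)) * g = (g⁻¹ * m * g) * (g⁻¹ * h * g) by group]
  refine mul_mem (U_le_B ?_) (H_le_B (Φ.H_conj_mem' hgN hh))
  rw [Φ.posUnipotent_eq_US]
  have := Φ.mono_conj_US (T := Φ.toTables.Pos) (Φ.mono_inv hgN hm)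
    (S := fun r => r ∈ rootList Φ.toTables.Pos ∧ ¬¬ Φ.Sub (natSet (Φ.nodeSet K)) r)
    (fun r hr => Φ.pos_inv_of_lmin hn hW hm (mem_rootList.mp hr.1) (not_not.1 hr.2)) hm'
  rwa [inv_inv] at this

section finite

variable [Finite F] (p : ℕ) [Fact p.Prime] [CharP F p]

set_option maxHeartbeats 4000000 in
include Φ in
/-- The value of the Steinberg character at an element of order prime to `p`. -/
theorem steinberg_regular
    (hvan : ∀ g : ↥(D.group F), p ∣ orderOf g → D.steinbergCharacter F g = 0)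
    (g : ↥(D.group F)) (hg : ¬ p ∣ orderOf g) :
    ∃ k : ℕ, D.steinbergCharacter F g = (-1 : ℂ) ^ k *
      ((p ^ (Nat.card ↥(Subgroup.centralizer ({g} : Set ↥(D.group F)))).factorization p : ℕ) : ℂ) := by
  classical
  have : Finite (Φ.bnPair (F := F)).S := Finite.of_equiv _ (Φ.sEquiv F)
  have : Fintype (Φ.bnPair (F := F)).S := Fintype.ofFinite _
  set P := Φ.bnPair (F := F) with hP
  set C := Subgroup.centralizer ({g} : Set ↥(D.group F)) with hC
  set R : Sylow p ↥C := default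
  set R' := (R : Subgroup ↥C).map C.subtype with hR'
  let rad : Finset P.S → Subgroup ↥(D.group F) := fun K =>
    (D.unipotentRadical F (Φ.nodeSet K)).subgroupOf (D.group F)
  have hrad_norm : ∀ K, P.parabolic (lset P K) ≤ Subgroup.normalizer (rad K : Set ↥(D.group F)) := by
    intro K a ha
    have h1 := Φ.parabolic_le_normalizer _ ((Φ.mem_parabolic_lset K a).1 ha)
    rw [Subgroup.mem_normalizer_iff] at h1 ⊢
    intro x
    exact h1 (x : GL D.Idx F)
  let Good : Finset P.S → Prop := fun K =>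
    ∃ h : ↥(D.group F), h⁻¹ * g * h ∈ P.parabolic (lset P K) ∧ ∀ r ∈ R', h⁻¹ * r * h ∈ rad K
  have hex : ∃ K, Good K := by
    by_cases hbot : R' = ⊥
    · refine ⟨Finset.univ, 1, ?_, fun r hr => ?_⟩
      · obtain ⟨w, hw⟩ := CfsgLib.BN.bruhat P (1⁻¹ * g * 1)
        obtain ⟨l, rfl⟩ := CfsgLib.BN.exists_word P w
        exact CfsgLib.BN.mem_parabolic_of_mem_cell P
          ⟨l, fun s _ => (CfsgLib.BN.mem_lset P).2 (Finset.mem_univ s), rfl⟩ hw
      · rw [hbot, Subgroup.mem_bot] at hr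
        simp [hr]
    · set R₀ := R'.map (D.group F).subtype with hR₀
      have hR₀G : R₀ ≤ D.group F := Subgroup.map_subtype_le _
      have hne : R₀ ≠ ⊥ := by
        rwa [hR₀, Ne, Subgroup.map_eq_bot_iff_of_injective _ (D.group F).subtype_injective]
      obtain ⟨h, hh, J, -, hnorm, hle⟩ := Φ.borelTits p hR₀G ((R.2.map _).map _) hne
      have hgn : (g : GL D.Idx F) ∈ Subgroup.normalizer (R₀ : Set (GL D.Idx F)) ⊓ D.group F := by
        refine Subgroup.mem_inf.2 ⟨?_, g.2⟩
        have hcomm : ∀ x ∈ R₀, (g : GL D.Idx F) * x = x * g := by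
          rintro _ ⟨x, ⟨c, -, rfl⟩, rfl⟩
          exact (congrArg Subtype.val (Subgroup.mem_centralizer_singleton_iff.1 c.2)).symm
        rw [Subgroup.mem_normalizer_iff]
        intro x
        constructor
        · intro hx
          rwa [hcomm x hx, mul_inv_cancel_right]
        · intro hx
          have h2 := hcomm _ hx
          have : x = (g : GL D.Idx F) * x * (g : GL D.Idx F)⁻¹ := by
            have h3 := congrArg (fun y => (g : GL D.Idx F)⁻¹ * y) h2
            simp only [← mul_assoc, inv_mul_cancel, one_mul, inv_mul_cancel_right] at h3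
            exact h3.symm
          rwa [this]
      set K : Finset P.S := Finset.univ.filter fun s => ((Φ.sEquiv F).symm s).val ∈ J with hK
      have hnat : natSet (D := D) (Φ.nodeSet K) = natSet J := by
        ext i
        rw [Φ.natSet_nodeSet]
        simp [hK, natSet]
      refine ⟨K, ⟨h, hh⟩, ?_, fun r hr => ?_⟩
      · rw [Φ.mem_parabolic_lset, Φ.parabolic_congr hnat]
        have := hnorm hgn
        rw [Subgroup.mem_map_equiv, MulAut.conj_symm_apply] at this
        exact this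
      · refine Subgroup.mem_subgroupOf.2 ?_
        rw [Φ.radical_congr hnat]
        have := hle ⟨r, hr, rfl⟩
        rw [Subgroup.mem_map_equiv, MulAut.conj_symm_apply] at this
        exact this
  obtain ⟨K, hK, hmin⟩ := Finset.exists_min_image (Finset.univ.filter Good) Finset.card
    (by obtain ⟨K, hK⟩ := hex; exact ⟨K, by simp [hK]⟩)
  simp only [Finset.mem_filter, Finset.mem_univ, true_and] at hK hmin
  obtain ⟨h, hgK, hRK⟩ := hK
  set g' := h⁻¹ * g * h with hg'
  -- no conjugate lies in a smaller parabolic subgroup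
  have hell : ∀ K' : Finset P.S, K' ⊂ K → ∀ a ∈ P.parabolic (lset P K),
      a⁻¹ * g' * a ∉ P.parabolic (lset P K') := by
    intro K' hK' a ha hmem
    have := hmin K' ⟨h * a, by rwa [show (h * a)⁻¹ * g * (h * a) = a⁻¹ * g' * a by rw [hg']; group],
      fun r hr => by
        rw [show (h * a)⁻¹ * r * (h * a) = a⁻¹ * (h⁻¹ * r * h) * a by group]
        have h1 := (Subgroup.mem_normalizer_iff''.1 (hrad_norm K ha) _).1 (hRK r hr)
        have h2 : ((a⁻¹ * (h⁻¹ * r * h) * a : ↥(D.group F)) : GL D.Idx F) ∈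
            D.unipotentRadical F (Φ.nodeSet K) := h1
        refine Subgroup.mem_subgroupOf.2 ?_
        rw [Φ.unipotentRadical_eq] at h2 ⊢
        refine Φ.US_mono (fun s hs => Φ.natSet_mono_out (fun i hi => ?_) hs) h2
        exact Φ.natSet_nodeSet.2 (hK'.1 (Φ.natSet_nodeSet.1 hi))⟩
    exact absurd this (not_le.2 (Finset.card_lt_card hK'))
  have : Fintype ↥(rad K) := Fintype.ofFinite _
  have hUB : rad K ≤ P.B := fun x hx => U_le_B (Φ.radical_le_U _ hx)
  obtain ⟨n, hlong, -⟩ := Φ.exists_isLong F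
  have hsum := CfsgLib.BN.sum_altChar_coset P hUB (hrad_norm K)
    (fun m hm b hb => Φ.borel_split hm hb) hgK hell hlong
  replace hsum := (Finset.sum_congr rfl fun (u : ↥(rad K)) _ => Φ.steinberg_eq (g' * (u : ↥(D.group F)))).trans hsum
  -- conjugation invariance
  obtain ⟨d, ρ, -, hχ⟩ := Φ.steinberg_irr (F := F)
  have hclass : ∀ x y : ↥(D.group F), D.steinbergCharacter F (x * y * x⁻¹) = D.steinbergCharacter F y := by
    intro x y
    rw [← hχ]
    exact ρ.char_conj y x
  have hord : ¬ p ∣ orderOf g' := by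
    rwa [hg', show h⁻¹ * g * h = MulAut.conj h⁻¹ g by simp,
      show orderOf (MulAut.conj h⁻¹ g) = orderOf g from
        orderOf_injective (MulAut.conj h⁻¹).toMonoidHom (MulAut.conj h⁻¹).injective g]
  have hgn : g' ∈ Subgroup.normalizer (rad K : Set ↥(D.group F)) := hrad_norm K hgK
  have hUp : IsPGroup p ↥(rad K) := by
    have hle : rad K ≤ (D.posUnipotent F).subgroupOf (D.group F) := fun x hx => Φ.radical_le_U _ hx
    refine IsPGroup.to_le ?_ hle
    obtain ⟨m, k', -, hk', -⟩ := Φ.card_group_split (F := F) p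
    have hle' : D.posUnipotent F ≤ D.group F := fun x hx => Φ.B_le_group (U_le_B hx)
    exact IsPGroup.of_card (n := k' * (D.nroots / 2))
      (by rw [Nat.card_congr (Subgroup.subgroupOfEquivOfLe hle').toEquiv, Φ.card_U, hk', pow_mul])
  -- the elements of order prime to `p` in the coset
  let φ : ↥(rad K) → ↥(rad K) := fun v => ⟨g'⁻¹ * ((v : ↥(D.group F)) * g' * (v : ↥(D.group F))⁻¹), by
    rw [show g'⁻¹ * ((v : ↥(D.group F)) * g' * (v : ↥(D.group F))⁻¹) =
      (g'⁻¹ * (v : ↥(D.group F)) * g') * (v : ↥(D.group F))⁻¹ by group]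
    exact mul_mem ((Subgroup.mem_normalizer_iff''.1 hgn _).1 v.2) (inv_mem v.2)⟩
  have hφ : ∀ v, g' * (φ v : ↥(D.group F)) = (v : ↥(D.group F)) * g' * (v : ↥(D.group F))⁻¹ := by
    intro v; simp [φ]
  set Ω := Finset.univ.image φ with hΩ
  set CU := rad K ⊓ Subgroup.centralizer ({g'} : Set ↥(D.group F)) with hCU
  have hfib : ∀ w ∈ Ω, (Finset.univ.filter fun v => φ v = w).card = Nat.card ↥CU := by
    intro w hw
    obtain ⟨v₀, -, rfl⟩ := Finset.mem_image.1 hw
    rw [← Fintype.card_subtype, ← Nat.card_eq_fintype_card]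
    refine Nat.card_congr
      { toFun := fun v => ⟨(v₀ : ↥(D.group F))⁻¹ * (v.1 : ↥(D.group F)), ?_⟩
        invFun := fun c => ⟨v₀ * ⟨c.1, c.2.1⟩, ?_⟩
        left_inv := fun v => Subtype.ext (Subtype.ext (by simp))
        right_inv := fun c => Subtype.ext (by simp) }
    · refine Subgroup.mem_inf.2 ⟨mul_mem (inv_mem v₀.2) v.1.2, ?_⟩
      rw [Subgroup.mem_centralizer_singleton_iff]
      have e := congrArg (fun x : ↥(rad K) => g' * (x : ↥(D.group F))) v.2
      simp only [hφ] at e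
      calc (v₀ : ↥(D.group F))⁻¹ * v.1 * g' =
            (v₀ : ↥(D.group F))⁻¹ * ((v.1 : ↥(D.group F)) * g' * (v.1 : ↥(D.group F))⁻¹) * v.1 := by group
        _ = _ := by rw [e]; group
    · have hc := Subgroup.mem_centralizer_singleton_iff.1 c.2.2
      refine Subtype.ext ?_
      simp only [φ, Subgroup.coe_mul]
      rw [mul_assoc (v₀ : ↥(D.group F)) c.1 g', hc]
      group
  have hcount : Nat.card ↥(rad K) = Ω.card * Nat.card ↥CU := by
    rw [Nat.card_eq_fintype_card, ← Finset.card_univ,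
      Finset.card_eq_sum_card_image φ, Finset.sum_congr rfl hfib, Finset.sum_const, smul_eq_mul]
  have hzero : ∀ u : ↥(rad K), u ∉ Ω → D.steinbergCharacter F (g' * (u : ↥(D.group F))) = 0 := by
    intro u hu
    refine hvan _ ?_
    by_contra hdvd
    obtain ⟨v, hv, e⟩ := exists_conj_of_coset hUp hgn hord u.2 hdvd
    refine hu (Finset.mem_image.2 ⟨⟨v, hv⟩, Finset.mem_univ _, Subtype.ext ?_⟩)
    apply mul_left_cancel (a := g')
    rw [hφ]
    exact e.symm
  rw [← Finset.sum_subset (Finset.subset_univ Ω) (fun u _ hu => hzero u hu)] at hsum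
  have hval : ∀ u ∈ Ω, D.steinbergCharacter F (g' * (u : ↥(D.group F))) = D.steinbergCharacter F g' := by
    intro u hu
    obtain ⟨v, -, rfl⟩ := Finset.mem_image.1 hu
    rw [hφ, hclass]
  rw [Finset.sum_congr rfl hval, Finset.sum_const, nsmul_eq_mul, hcount] at hsum
  have hΩ0 : (Ω.card : ℂ) ≠ 0 := by
    rw [Nat.cast_ne_zero, Finset.card_ne_zero]
    exact Finset.univ_nonempty.image φ
  push_cast at hsum
  rw [mul_assoc] at hsum
  have hgval : D.steinbergCharacter F g' = (Nat.card ↥CU : ℂ) * (-1) ^ K.card :=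
    mul_left_cancel₀ hΩ0 hsum
  -- the `p`-part of the centralizer
  have hcard : Nat.card ↥CU = p ^ (Nat.card ↥C).factorization p := by
    set T := CU.map (MulAut.conj h).toMonoidHom with hT
    have hTC : T ≤ C := by
      rintro _ ⟨x, hx, rfl⟩
      have hx' := Subgroup.mem_centralizer_singleton_iff.1 (Subgroup.mem_inf.1 hx).2
      rw [hC, Subgroup.mem_centralizer_singleton_iff]
      show h * x * h⁻¹ * g = g * (h * x * h⁻¹)
      rw [show g = h * g' * h⁻¹ by rw [hg']; group]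
      calc h * x * h⁻¹ * (h * g' * h⁻¹) = h * (x * g') * h⁻¹ := by group
        _ = h * (g' * x) * h⁻¹ := by rw [hx']
        _ = _ := by group
    have hTp : IsPGroup p ↥(T.subgroupOf C) :=
      ((hUp.to_le inf_le_left).map _).of_equiv (Subgroup.subgroupOfEquivOfLe hTC).symm
    have hRT : (R : Subgroup ↥C) ≤ T.subgroupOf C := by
      intro r hr
      refine ⟨h⁻¹ * (r : ↥(D.group F)) * h, Subgroup.mem_inf.2 ⟨hRK _ ⟨r, hr, rfl⟩, ?_⟩, ?_⟩
      · have hc := Subgroup.mem_centralizer_singleton_iff.1 r.2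
        rw [Subgroup.mem_centralizer_singleton_iff, hg']
        calc h⁻¹ * (r : ↥(D.group F)) * h * (h⁻¹ * g * h) = h⁻¹ * ((r : ↥(D.group F)) * g) * h := by group
          _ = h⁻¹ * (g * (r : ↥(D.group F))) * h := by rw [hc]
          _ = _ := by group
      · show h * (h⁻¹ * (r : ↥(D.group F)) * h) * h⁻¹ = (r : ↥(D.group F))
        group
    have heq := R.is_maximal' hTp hRT
    rw [← Subgroup.card_map_of_injective (f := (MulAut.conj h).toMonoidHom) (MulAut.conj h).injective,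
      ← Nat.card_congr (Subgroup.subgroupOfEquivOfLe hTC).toEquiv, heq, R.card_eq_multiplicity]
  refine ⟨K.card, ?_⟩
  rw [show g = h * g' * h⁻¹ by rw [hg']; group, hclass, hgval, hcard, mul_comm]

end finite

end Chev

end CfsgLib.Chev
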