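/-
The four dimensional symplectic group acting on symmetric matrices, and the Chevalley group of type B2.

`S ↦ g S gᵀ` is a representation of `Sp 4` on the symmetric matrices; in the basis `bz` its root elements
are the matrices `x_r(t)` of the tabulated datum, over every field.
-/
import Cfsg.Agent.Lib.Chev.Group
import Cfsg.Agent.Lib.Chev.Inst
import Cfsg.Agent.Lib.SympGen

set_option autoImplicit false
set_option linter.dupNamespace false
set_option maxRecDepth 4000
set_option synthInstance.maxSize 1024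

namespace CfsgLib.SympB2

open Matrix Cfsg.Lie
open CfsgLib.Chev

/-- The index set of the natural module. -/
abbrev V4 := Fin 2 ⊕ Fin 2

/-- The index set of the adjoint module. -/
abbrev W10 := Cfsg.Lie.chevB2.Idx

/-- Positions `0, 1` in the first summand, `2, 3` in the second. -/
def enc : V4 → ℕ
  | Sum.inl a => a.val
  | Sum.inr a => a.val + 2

/-- An integral matrix given by its nonzero entries. -/
def ofList (l : List (ℕ × ℕ × ℤ)) : Matrix V4 V4 ℤ :=
  Matrix.of fun a b => (l.map fun e => if e.1 = enc a ∧ e.2.1 = enc b then e.2.2 else 0).sum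

/-- The root vectors in the natural module. -/
def rootVec (r : Fin Cfsg.Lie.chevB2.nroots) : Matrix V4 V4 ℤ :=
  ofList ([[(2, 0, -1)], [(2, 1, -1), (3, 0, -1)], [(1, 0, 1), (2, 3, -1)], [(3, 1, 1)], [(1, 3, 1)],
    [(0, 1, 1), (3, 2, -1)], [(0, 3, -1), (1, 2, -1)], [(0, 2, -1)]].getD r.val [])

/-- The basis of the symmetric matrices. -/
def bz : W10 → Matrix V4 V4 ℤ
  | Sum.inl i => ofList ([[(0, 2, -1), (1, 3, 1), (2, 0, -1), (3, 1, 1)], [(1, 3, -1), (3, 1, -1)]].getD i.val [])
  | Sum.inr r => ofList ([[(2, 2, 1)], [(2, 3, 1), (3, 2, 1)], [(1, 2, -1), (2, 1, -1)], [(3, 3, -1)], [(1, 1, 1)],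
      [(0, 3, -1), (3, 0, -1)], [(0, 1, -1), (1, 0, -1)], [(0, 0, -1)]].getD r.val [])

variable {R : Type*} [CommRing R]

/-- The coordinates of a symmetric matrix in the basis `bz`. -/
def coo (S : Matrix V4 V4 R) : W10 → R
  | Sum.inl i => [-S (.inl 0) (.inr 0), -S (.inl 0) (.inr 0) - S (.inl 1) (.inr 1)].getD i.val 0
  | Sum.inr r => [S (.inr 0) (.inr 0), S (.inr 0) (.inr 1), -S (.inl 1) (.inr 0), -S (.inr 1) (.inr 1),
      S (.inl 1) (.inl 1), -S (.inl 0) (.inr 1), -S (.inl 0) (.inl 1), -S (.inl 0) (.inl 0)].getD r.val 0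

/-- The basis over an arbitrary ring. -/
def bas (R : Type*) [CommRing R] (j : W10) : Matrix V4 V4 R := (bz j).map (Int.castRingHom R)

theorem coo_add (S T : Matrix V4 V4 R) (i : W10) : coo (S + T) i = coo S i + coo T i := by
  rcases i with i | i <;> fin_cases i <;> simp [coo] <;> ring

theorem coo_smul (c : R) (S : Matrix V4 V4 R) (i : W10) : coo (c • S) i = c * coo S i := by
  rcases i with i | i <;> fin_cases i <;> simp [coo] <;> ring

theorem coo_zero (i : W10) : coo (0 : Matrix V4 V4 R) i = 0 := by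
  rcases i with i | i <;> fin_cases i <;> simp [coo]

theorem coo_sum {ι : Type*} (s : Finset ι) (f : ι → Matrix V4 V4 R) (i : W10) :
    coo (∑ x ∈ s, f x) i = ∑ x ∈ s, coo (f x) i := by
  classical
  induction s using Finset.induction_on with
  | empty => simp [coo_zero]
  | insert a t ha ih => rw [Finset.sum_insert ha, Finset.sum_insert ha, coo_add, ih]

theorem coo_map {S : Type*} [CommRing S] (f : R →+* S) (A : Matrix V4 V4 R) (i : W10) :
    coo (A.map f) i = f (coo A i) := by
  rcases i with i | i <;> fin_cases i <;> simp [coo]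

theorem coo_bz : ∀ i j : W10, coo (bz j) i = if i = j then 1 else 0 := by decide +kernel

theorem coo_bas (i j : W10) : coo (bas R j) i = if i = j then 1 else 0 := by
  rw [bas, coo_map, coo_bz]
  split_ifs <;> simp

theorem bz_symm : ∀ j : W10, (bz j)ᵀ = bz j := by decide +kernel

theorem bas_symm (j : W10) : (bas R j)ᵀ = bas R j := by
  rw [bas, ← Matrix.transpose_map, bz_symm]

theorem recon {S : Matrix V4 V4 R} (hS : Sᵀ = S) : S = ∑ j, coo S j • bas R j := by
  have h : ∀ a b, S b a = S a b := fun a b => by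
    have := congrFun (congrFun hS a) b
    rwa [Matrix.transpose_apply] at this
  ext a b
  simp only [Matrix.sum_apply, Matrix.smul_apply, smul_eq_mul, Fintype.sum_sum_type]
  show _ = (∑ i : Fin 2, _) + ∑ i : Fin 8, _
  rcases a with a | a <;> rcases b with b | b <;> fin_cases a <;> fin_cases b <;>
    simp [coo, bas, bz, ofList, enc, Fin.sum_univ_two, Fin.sum_univ_eight, h (Sum.inl 0) (Sum.inl 1),
      h (Sum.inl 0) (Sum.inr 0), h (Sum.inl 0) (Sum.inr 1), h (Sum.inl 1) (Sum.inr 0),
      h (Sum.inl 1) (Sum.inr 1), h (Sum.inr 0) (Sum.inr 1)] <;> ring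

theorem congr_symm (g : Matrix V4 V4 R) (j : W10) : (g * bas R j * gᵀ)ᵀ = g * bas R j * gᵀ := by
  rw [Matrix.transpose_mul, Matrix.transpose_mul, Matrix.transpose_transpose, bas_symm, Matrix.mul_assoc]

/-- The action on the symmetric matrices. -/
def psiMat : Matrix V4 V4 R →* Matrix W10 W10 R where
  toFun g := Matrix.of fun i j => coo (g * bas R j * gᵀ) i
  map_one' := by
    ext i j
    simp [coo_bas, Matrix.one_apply]
  map_mul' g h := by
    ext i j
    have e : g * h * bas R j * (g * h)ᵀ = g * (h * bas R j * hᵀ) * gᵀ := by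
      rw [Matrix.transpose_mul]
      simp only [Matrix.mul_assoc]
    rw [Matrix.mul_apply, Matrix.of_apply, e]
    conv_lhs => rw [recon (congr_symm h j), Matrix.mul_sum, Matrix.sum_mul, coo_sum]
    refine Finset.sum_congr rfl fun k _ => ?_
    rw [Matrix.mul_smul, Matrix.smul_mul, coo_smul, mul_comm]
    rfl

theorem psiMat_apply (g : Matrix V4 V4 R) (i j : W10) : psiMat g i j = coo (g * bas R j * gᵀ) i := rfl

/-! ### Root elements -/

theorem root_sq : ∀ r, rootVec r * Matrix.J (Fin 2) ℤ + Matrix.J (Fin 2) ℤ * (rootVec r)ᵀ = 0 ∧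
    rootVec r * Matrix.J (Fin 2) ℤ * (rootVec r)ᵀ = 0 := by decide +kernel

/-- The coefficient of `t ^ k` in `(1 + t X) S (1 + t Xᵀ)`. -/
def coef (X S : Matrix V4 V4 ℤ) : ℕ → Matrix V4 V4 ℤ
  | 0 => S
  | 1 => X * S + S * Xᵀ
  | 2 => X * S * Xᵀ
  | _ => 0

theorem root_check : ∀ (r : Fin Cfsg.Lie.chevB2.nroots) (k : Fin 4),
    (Matrix.of fun i j => coo (coef (rootVec r) (bz j) k.val) i) = CfsgLib.Chev.chevB2.toSys.E ℤ k.val r := by
  decide +kernel

variable {F : Type*} [Field F]

theorem expand (X A : Matrix V4 V4 F) (t : F) :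
    (1 + t • X) * A * (1 + t • X)ᵀ = A + t • (X * A + A * Xᵀ) + t ^ 2 • (X * A * Xᵀ) := by
  rw [Matrix.transpose_add, Matrix.transpose_one, Matrix.transpose_smul]
  simp only [Matrix.add_mul, Matrix.mul_add, Matrix.one_mul, Matrix.mul_one, Matrix.smul_mul, Matrix.mul_smul,
    smul_smul, smul_add, pow_two]
  abel

theorem J_cast : Matrix.J (Fin 2) F = (Matrix.J (Fin 2) ℤ).map (Int.castRingHom F) :=
  (Matrix.map_J (Fin 2) (Int.castRingHom F)).symm

/-- The root element of `Sp 4`. -/
def root (r : Fin Cfsg.Lie.chevB2.nroots) (t : F) : Matrix.symplecticGroup (Fin 2) F :=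
  ⟨1 + t • (rootVec r).map (Int.castRingHom F), by
    rw [SymplecticGroup.mem_iff, expand, J_cast, ← Matrix.transpose_map, ← Matrix.map_mul, ← Matrix.map_mul,
      ← Matrix.map_mul, ← Matrix.map_add _ (fun a b => map_add _ a b), (root_sq r).1, (root_sq r).2,
      Matrix.map_zero _ (map_zero _), smul_zero, smul_zero, add_zero, add_zero]⟩

/-- The representation of `Sp 4` on symmetric matrices. -/
noncomputable def psi : Matrix.symplecticGroup (Fin 2) F →* GL W10 F :=
  MonoidHom.toHomUnits (psiMat.comp (Matrix.symplecticGroup (Fin 2) F).subtype)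

theorem psi_val (g : Matrix.symplecticGroup (Fin 2) F) : ((psi g : GL W10 F) : Matrix W10 W10 F) = psiMat g.1 := rfl

theorem psi_root (r : Fin Cfsg.Lie.chevB2.nroots) (t : F) : psi (root r t) = CfsgLib.Chev.chevB2.toAlg.xg r t := by
  refine Units.ext (Matrix.ext fun i j => ?_)
  rw [psi_val, psiMat_apply, Chev.Alg.xg_val]
  show coo ((1 + t • (rootVec r).map (Int.castRingHom F)) * bas F j *
    (1 + t • (rootVec r).map (Int.castRingHom F))ᵀ) i = _
  rw [expand, bas, ← Matrix.transpose_map, ← Matrix.map_mul, ← Matrix.map_mul, ← Matrix.map_mul,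
    ← Matrix.map_add _ (fun a b => map_add _ a b), coo_add, coo_add, coo_smul, coo_smul, coo_map, coo_map, coo_map]
  have h : ∀ k : Fin 4, CfsgLib.Chev.chevB2.toSys.E F k.val r i j =
      Int.castRingHom F (coo (coef (rootVec r) (bz j) k.val) i) := fun k => by
    rw [← CfsgLib.Chev.chevB2.toSys.E_map (Int.castRingHom F), Matrix.map_apply, ← root_check r k, Matrix.of_apply]
  have h0 := h 0
  have h1 := h 1
  have h2 := h 2
  have h3 := h 3
  simp only [Fin.val_zero, Fin.val_one, Fin.val_two, show ((3 : Fin 4) : ℕ) = 3 from rfl, coef, coo_zero, map_zero]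
    at h0 h1 h2 h3
  simp only [Sys.X, Matrix.sum_apply, Matrix.smul_apply, smul_eq_mul, Finset.sum_range_succ, Finset.sum_range_zero,
    zero_add, pow_zero, pow_one, one_mul, h0, h1, h2, h3, mul_zero, add_zero]

theorem group_le_range : Cfsg.Lie.chevB2.group F ≤ (psi (F := F)).range := by
  rw [CfsgLib.Chev.chevB2.toAlg.group_eq, Subgroup.closure_le]
  rintro g ⟨r, t, rfl⟩
  exact ⟨root r t, psi_root r t⟩

/-! ### The kernel -/

theorem congr_fix {g : Matrix.symplecticGroup (Fin 2) F} (hg : psi g = 1) {S : Matrix V4 V4 F} (hS : Sᵀ = S) :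
    g.1 * S * g.1ᵀ = S := by
  have hb : ∀ j, g.1 * bas F j * g.1ᵀ = bas F j := fun j => by
    conv_lhs => rw [recon (congr_symm g.1 j)]
    conv_rhs => rw [recon (bas_symm j)]
    refine Finset.sum_congr rfl fun i _ => ?_
    rw [← psiMat_apply, ← psi_val, hg, Units.val_one, coo_bas, Matrix.one_apply]
  conv_lhs => rw [recon hS, Matrix.mul_sum, Matrix.sum_mul]
  conv_rhs => rw [recon hS]
  refine Finset.sum_congr rfl fun i _ => ?_
  rw [Matrix.mul_smul, Matrix.smul_mul, hb]

theorem mem_center_of_psi {g : Matrix.symplecticGroup (Fin 2) F} (hg : psi g = 1) :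
    g ∈ Subgroup.center (Matrix.symplecticGroup (Fin 2) F) := by
  have key : ∀ (u : V4 → F) (c : F), g * SympTransvection.tv u c = SympTransvection.tv u c * g := by
    intro u c
    have h1 := SympGen.conj_tv g u c
    have h2 : SympTransvection.tv (g.1 *ᵥ u) c = SympTransvection.tv u c := by
      refine Subtype.ext ?_
      show Cfsg.sympTransvection 2 (g.1 *ᵥ u) c = Cfsg.sympTransvection 2 u c
      have hv : ∀ v : V4 → F, Matrix.vecMulVec v (Matrix.J (Fin 2) F *ᵥ v) =
          Matrix.vecMulVec v v * (Matrix.J (Fin 2) F)ᵀ := fun v => by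
        rw [Matrix.vecMulVec_mul, Matrix.vecMul_transpose]
      have hf := congr_fix hg (S := Matrix.vecMulVec u u) (Matrix.transpose_vecMulVec u u)
      rw [Matrix.mul_vecMulVec, Matrix.vecMulVec_mul, Matrix.vecMul_transpose] at hf
      simp only [Cfsg.sympTransvection, hv, hf]
    rw [h2, mul_inv_eq_iff_eq_mul] at h1
    exact h1
  refine Subgroup.mem_center_iff.2 fun x => ?_
  have hx : x ∈ SympGen.TV F 2 := by rw [SympGen.TV_eq_top]; exact Subgroup.mem_top x
  induction hx using Subgroup.closure_induction with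
  | mem y hy =>
    obtain ⟨u, c, hy⟩ := hy
    obtain rfl : y = SympTransvection.tv u c := Subtype.ext hy
    exact (key u c).symm
  | one => simp
  | mul a b _ _ ha hb => rw [mul_assoc, hb, ← mul_assoc, ha, mul_assoc]
  | inv a _ ha => exact ((Commute.inv_left (show Commute a g from ha))).eq

theorem ker_psi : (psi (F := F)).ker = Subgroup.center (Matrix.symplecticGroup (Fin 2) F) := by
  refine le_antisymm (fun g hg => mem_center_of_psi hg) fun g hg => ?_
  obtain ⟨r, hr⟩ := SympTransvection.scalar_of_central g hg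
  have hr2 : r ^ 2 = 1 := (SympTransvection.scalar_mem_iff le_add_self r).1 (hr ▸ g.2)
  refine Units.ext (Matrix.ext fun i j => ?_)
  rw [psi_val, psiMat_apply, hr, Matrix.scalar_apply, Matrix.diagonal_transpose, ← Matrix.smul_one_eq_diagonal,
    Matrix.smul_mul, Matrix.mul_smul, Matrix.one_mul, Matrix.mul_one, smul_smul, coo_smul, coo_bas, Units.val_one,
    Matrix.one_apply, ← pow_two, hr2, one_mul]

end CfsgLib.SympB2
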