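/-
The projective symplectic group in dimension four over a finite field is the Chevalley group of type B2.
-/
import Cfsg.Agent.Lib.Chev.SympB2
import Cfsg.Agent.Lib.Chev.OrderB2
import Cfsg.Agent.S0245
import Cfsg.Prelude.Def_Classical
import Cfsg.Prelude.Def_KGroupFacts

set_option autoImplicit false
set_option linter.dupNamespace false

namespace CfsgLib.SympB2

open Matrix Cfsg.Lie
open CfsgLib.Chev

variable {F : Type*} [Field F] [Fintype F]

theorem range_psi : (psi (F := F)).range = Cfsg.Lie.chevB2.group F := by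
  set q := Fintype.card F
  have hq : Nat.card F = q := Nat.card_eq_fintype_card
  have h1 := CfsgLib.Chev.chevB2.order_formula (F := F) (degs := [2, 4]) rfl
    (CfsgLib.Chev.cardHB2 CfsgLib.Chev.chevB2 F) (CfsgLib.Chev.sumWB2 CfsgLib.Chev.chevB2)
  rw [show Cfsg.Lie.chevB2.nroots / 2 = 4 from rfl, hq] at h1
  have h2 : Nat.card (Matrix.symplecticGroup (Fin 2) F) = q ^ 4 * ((q ^ 2 - 1) * (q ^ 4 - 1)) := by
    rw [Cfsg.Agent.S0245.result (q := q) rfl 2, Finset.prod_range_succ, Finset.prod_range_one]; norm_num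
  have h1' : Nat.gcd 2 (q - 1) * Nat.card (Cfsg.Lie.chevB2.group F) = q ^ 4 * ((q ^ 2 - 1) * (q ^ 4 - 1)) := by
    simp [Fin.prod_univ_succ, List.map, List.prod_cons, Nat.gcd_comm (q - 1), pow_two, mul_assoc] at h1 ⊢
    exact h1
  have h3 : Nat.gcd 2 (q - 1) * Nat.card (psi (F := F)).range = Nat.card (Matrix.symplecticGroup (Fin 2) F) := by
    rw [← SympTransvection.card_center (F := F) (m := 2) one_le_two, ← ker_psi, ← Subgroup.index_ker,
      Subgroup.card_mul_index]
  haveI : Finite (psi (F := F)).range := inferInstance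
  refine (Subgroup.eq_of_le_of_card_ge group_le_range (le_of_eq ?_)).symm
  have hpos : 0 < Nat.gcd 2 (q - 1) := Nat.gcd_pos_of_pos_left _ two_pos
  exact Nat.eq_of_mul_eq_mul_left hpos (by rw [h3, h2, h1'])

/-- `PSp 4` is the Chevalley group of type B2. -/
noncomputable def pspIso : Cfsg.PSp 2 F ≃* ↥(Cfsg.Lie.chevB2.group F) :=
  (QuotientGroup.quotientMulEquivOfEq (ker_psi (F := F)).symm).trans
    ((QuotientGroup.quotientKerEquivRange (psi (F := F))).trans (MulEquiv.subgroupCongr range_psi))

end CfsgLib.SympB2
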