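/-
Certificates for two generators of a Chevalley group: the checker.
-/
import Cfsg.Prelude.Def_ChevStructure

namespace CfsgLib.Chev.TwoGen

open Cfsg.Lie

/-- The image of a root under the product of the fundamental reflections in `w`. -/
def piNat (D : ChevalleyDatum) (w : List ℕ) (s : ℕ) : ℕ := w.foldr (fun i t => D.reflectRoot i t) s

/-- The image of a root under the `k`-th power of `piNat`. -/
def piPow (D : ChevalleyDatum) (w : List ℕ) : ℕ → ℕ → ℕ
  | 0, s => s
  | k + 1, s => piNat D w (piPow D w k s)

/-- A deduction: apply the reflection product to a known root, or read off one term of the commutator of two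
known roots. -/
inductive Step where
  | rot (s : ℕ)
  | comm (r s pos : ℕ)

/-- The root deduced by a step, if the step is valid. -/
def stepNew (D : ChevalleyDatum) (w : List ℕ) (known : List ℕ) : Step → Option ℕ
  | .rot s => if known.contains s && decide (s < D.nroots) then some (piNat D w s) else none
  | .comm r s pos =>
    if known.contains r && known.contains s && decide (r < D.nroots) && decide (s < D.nroots) &&
        decide (s ≠ r) && decide (s ≠ D.neg r) then
      let T := D.commTerms r s
      match T.drop pos with
      | [] => none
      | c :: rest =>
        if (T.take pos).all (fun d => known.contains d.1) && rest.all (fun d => known.contains d.1) &&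
            decide (c.2.1 = 1 ∨ c.2.1 = -1) && decide (c.2.2.1 = 1) && decide (c.2.2.2 = 1) &&
            decide (c.1 < D.nroots) then some c.1 else none
    else none

/-- The roots known after the steps. -/
def run (D : ChevalleyDatum) (w : List ℕ) : List ℕ → List Step → Option (List ℕ)
  | known, [] => some known
  | known, st :: rest =>
    match stepNew D w known st with
    | some u => run D w (u :: known) rest
    | none => none

/-- All fundamental roots and their negatives are reached. -/
def complete (D : ChevalleyDatum) (known : List ℕ) : Bool :=
  (List.range D.rank).all fun i => known.contains (D.simple i) && known.contains (D.neg (D.simple i))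

/-- The torus exponent of a root. -/
def expo (D : ChevalleyDatum) (m : List ℤ) (s : ℕ) : ℤ :=
  (List.range D.rank).foldl (fun a i => a + m.getD i 0 * D.cartan i s) 0

/-- The certificate for fields with more than two elements. -/
def bigCert (D : ChevalleyDatum) (w : List ℕ) (m : List ℤ) (r r' k : ℕ) (steps : List Step) : Bool :=
  decide (r < D.nroots) && decide (r' < D.nroots) && w.all (fun i => decide (i < D.rank)) &&
  decide (expo D m r = 0) && decide (expo D m r' = 1 ∨ expo D m r' = -1) &&
  decide (expo D m (piNat D w r') = 1 ∨ expo D m (piNat D w r') = -1) &&
  decide (expo D m (piPow D w k r) = 1 ∨ expo D m (piPow D w k r) = -1 ∨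
    expo D m (piPow D w k r) = 2 ∨ expo D m (piPow D w k r) = -2) &&
  match run D w [r', piPow D w k r] steps with
  | some known => complete D known
  | none => false

/-- The certificate for the field with two elements and one root element. -/
def twoCert (D : ChevalleyDatum) (w : List ℕ) (r : ℕ) (steps : List Step) : Bool :=
  decide (r < D.nroots) && w.all (fun i => decide (i < D.rank)) &&
  match run D w [r] steps with
  | some known => complete D known
  | none => false

/-- Two roots commute modulo two. -/
def commTwo (D : ChevalleyDatum) (r s : ℕ) : Bool :=
  decide (r < D.nroots) && decide (s < D.nroots) && decide (s ≠ D.neg r) && decide (s ≠ r) &&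
    (D.commTerms r s).all fun c => c.2.1 % 2 == 0

/-- A deduction over the field with two elements in the presence of `x_s(1) x_{-s}(1)`. -/
inductive Step2 where
  | base (st : Step)
  | up (u : ℕ)
  | down (u : ℕ)

/-- The root deduced by a step of the second kind. -/
def stepNew2 (D : ChevalleyDatum) (w : List ℕ) (s : ℕ) (known : List ℕ) : Step2 → Option ℕ
  | .base st => stepNew D w known st
  | .up u =>
    if known.contains u && decide (u ≠ s) && decide (u ≠ D.neg s) && commTwo D (D.neg s) u &&
        decide (u < D.nroots) then
      match D.commTerms s u with
      | [c] => if decide (c.2.1 % 2 = 1) && decide (c.1 < D.nroots) then some c.1 else none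
      | _ => none
    else none
  | .down u =>
    if known.contains u && decide (u ≠ s) && decide (u ≠ D.neg s) && commTwo D s u &&
        decide (u < D.nroots) then
      match D.commTerms (D.neg s) u with
      | [c] => if decide (c.2.1 % 2 = 1) && decide (c.1 < D.nroots) then some c.1 else none
      | _ => none
    else none

/-- The roots known after the steps of the second kind. -/
def run2 (D : ChevalleyDatum) (w : List ℕ) (s : ℕ) : List ℕ → List Step2 → Option (List ℕ)
  | known, [] => some known
  | known, st :: rest =>
    match stepNew2 D w s known st with
    | some u => run2 D w s (u :: known) rest
    | none => none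

/-- The certificate for the field with two elements and an element of order six. -/
def sixCert (D : ChevalleyDatum) (w : List ℕ) (r s : ℕ) (steps : List Step2) : Bool :=
  decide (r < D.nroots) && decide (s < D.nroots) && w.all (fun i => decide (i < D.rank)) &&
  commTwo D r s && commTwo D r (D.neg s) &&
  match run2 D w s [r] steps with
  | some known => complete D known
  | none => false

/-- The certificate for the field with two elements and a product of two root elements. -/
def twoCertPair (D : ChevalleyDatum) (w : List ℕ) (r r' k : ℕ) (steps steps' : List Step) : Bool :=
  let s := piPow D w k r
  let s' := piPow D w k r'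
  decide (r < D.nroots) && decide (r' < D.nroots) && w.all (fun i => decide (i < D.rank)) &&
  commTwo D r r' && commTwo D r' s && commTwo D r s' && commTwo D r' s' && commTwo D s s' &&
  decide (s ≠ r) && decide (s ≠ D.neg r) &&
  match D.commTerms r s with
  | [c] =>
    decide (c.2.1 % 2 = 1) && commTwo D r' c.1 && commTwo D s' c.1 &&
      match run D w [c.1] steps with
      | some known => known.contains r &&
          match run D w (r' :: known) steps' with
          | some known' => complete D known'
          | none => false
      | none => false
  | _ => false

end CfsgLib.Chev.TwoGen
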