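/-
Two generators of a finite Chevalley group, from certificates.
-/
import Cfsg.Agent.Lib.Chev.RootCentralizer
import Cfsg.Agent.Lib.Chev.SL2Hom
import Cfsg.Agent.Lib.Chev.SimpleGen
import Cfsg.Agent.Lib.Chev.TwoGenCheck

namespace CfsgLib.Chev

open Cfsg.Lie Matrix

set_option linter.dupNamespace false
set_option linter.unusedSectionVars false
set_option maxRecDepth 100000

variable {D : ChevalleyDatum}

namespace Chev

variable (Φ : Chev D) {F : Type*} [Field F]

/-- The root subgroup of the index `u` lies in `M`. -/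
def FullIn (M : Subgroup (GL D.Idx F)) (u : ℕ) : Prop :=
  ∀ (h : u < D.nroots) (t : F), Φ.toAlg.xg ⟨u, h⟩ t ∈ M

/-- The product of the monomial representatives of the reflections in `w`. -/
def nWord (F : Type*) [Field F] (w : List ℕ) : GL D.Idx F :=
  (w.map fun i => if h : i < D.rank then Φ.nw (Φ.p ⟨i, h⟩) 1 else 1).prod

theorem nWord_mem (w : List ℕ) : Φ.nWord F w ∈ D.monomialSubgroup F := by
  refine Subgroup.list_prod_mem _ fun x hx => ?_
  obtain ⟨i, -, rfl⟩ := List.mem_map.1 hx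
  split
  · exact Φ.nw_mem_N _ _
  · exact one_mem _

theorem nWord_mono : ∀ {w : List ℕ}, (∀ i ∈ w, i < D.rank) →
    ∃ π : Equiv.Perm (Fin D.nroots), Φ.Mono (Φ.nWord F w) π ∧
      ∀ s : Fin D.nroots, (π s).val = TwoGen.piNat D w s.val
  | [], _ => ⟨1, Mono.one Φ, fun s => rfl⟩
  | i :: w, h => by
    obtain ⟨π, hm, hπ⟩ := nWord_mono (w := w) fun j hj => h j (List.mem_cons_of_mem _ hj)
    have hi := h i List.mem_cons_self
    refine ⟨Φ.reflPerm ⟨i, hi⟩ * π, ?_, fun s => ?_⟩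
    · have := Mono.mul Φ (Φ.nw_one_mono (F := F) ⟨i, hi⟩) hm
      simpa [nWord, dif_pos hi] using this
    · show (Φ.refl ⟨i, hi⟩ (π s)).val = _
      rw [← Φ.reflectRoot_eq, hπ]
      rfl

section General

variable {M : Subgroup (GL D.Idx F)} {w : List ℕ}

theorem fullIn_rot (hw : ∀ i ∈ w, i < D.rank) (hn : Φ.nWord F w ∈ M) {u : ℕ} (hu : u < D.nroots)
    (hf : Φ.FullIn M u) : Φ.FullIn M (TwoGen.piNat D w u) := by
  obtain ⟨π, hm, hπ⟩ := Φ.nWord_mono (F := F) hw
  intro h t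
  obtain ⟨a, ha, e, -⟩ := hm.1 ⟨u, hu⟩
  have e' : (⟨TwoGen.piNat D w u, h⟩ : Fin D.nroots) = π ⟨u, hu⟩ := Fin.ext (hπ ⟨u, hu⟩).symm
  rw [e', show t = a * (t / a) by field_simp, ← e]
  exact mul_mem (mul_mem hn (hf hu _)) (inv_mem hn)

theorem exists_rot_pow (hw : ∀ i ∈ w, i < D.rank) (hn : Φ.nWord F w ∈ M) {r : Fin D.nroots}
    (hr : Φ.toAlg.xg r (1 : F) ∈ M) : ∀ k : ℕ, ∃ (s : Fin D.nroots) (a : F),
      s.val = TwoGen.piPow D w k r.val ∧ a ≠ 0 ∧ Φ.toAlg.xg s a ∈ M
  | 0 => ⟨r, 1, rfl, one_ne_zero, hr⟩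
  | k + 1 => by
    obtain ⟨s, a, hs, ha, hM⟩ := exists_rot_pow hw hn hr k
    obtain ⟨π, hm, hπ⟩ := Φ.nWord_mono (F := F) hw
    obtain ⟨c, hc, e, -⟩ := hm.1 s
    refine ⟨π s, c * a, ?_, mul_ne_zero hc ha, ?_⟩
    · rw [hπ, hs]; rfl
    · rw [← e]; exact mul_mem (mul_mem hn hM) (inv_mem hn)

theorem tval_mem_two {t u : F} : ∀ {L : List (ℕ × ℤ × ℕ × ℕ)}, (∀ d ∈ L, Φ.FullIn M d.1) → Φ.tval t u L ∈ M := by
  intro L hL
  refine Subgroup.list_prod_mem _ fun x hx => ?_
  obtain ⟨c, hc, rfl⟩ := List.mem_map.1 hx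
  split
  · exact hL c hc _ _
  · exact one_mem _

theorem fullIn_step (hw : ∀ i ∈ w, i < D.rank) (hn : Φ.nWord F w ∈ M) {known : List ℕ}
    (hk : ∀ u ∈ known, Φ.FullIn M u) {st : TwoGen.Step} {v : ℕ}
    (h : TwoGen.stepNew D w known st = some v) : Φ.FullIn M v := by
  cases st with
  | rot s =>
    simp only [TwoGen.stepNew] at h
    split at h
    · next hc =>
      simp only [Bool.and_eq_true, List.contains_iff_mem, decide_eq_true_eq] at hc
      obtain rfl : TwoGen.piNat D w s = v := by simpa using h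
      exact Φ.fullIn_rot hw hn hc.2 (hk s hc.1)
    · simp at h
  | comm r s pos =>
    simp only [TwoGen.stepNew] at h
    split at h
    · next hc =>
      simp only [Bool.and_eq_true, List.contains_iff_mem, decide_eq_true_eq] at hc
      obtain ⟨⟨⟨⟨⟨hr, hs⟩, hrn⟩, hsn⟩, hne⟩, hneg⟩ := hc
      split at h
      · simp at h
      · next c rest hdrop =>
        split at h
        · next hcond =>
          simp only [Bool.and_eq_true, List.all_eq_true, List.contains_iff_mem, decide_eq_true_eq] at hcond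
          obtain ⟨⟨⟨⟨⟨htake, hrest⟩, hco⟩, hi⟩, hj⟩, hcn⟩ := hcond
          obtain rfl : c.1 = v := by simpa using h
          intro hlt x
          let R : Fin D.nroots := ⟨r, hrn⟩
          let S : Fin D.nroots := ⟨s, hsn⟩
          have hsplit : D.commTerms r s = (D.commTerms r s).take pos ++ c :: rest := by
            rw [← hdrop, List.take_append_drop]
          have key : ∀ u : F, Φ.tval (1 : F) u (D.commTerms r s) ∈ M := by
            intro u
            have e := Φ.comm_xg (F := F) (r := R) (s := S) (fun e => hne (congrArg Fin.val e))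
              (fun e => hneg (by rw [show D.neg r = R.rev.val from Φ.negIdx_eq R]; exact congrArg Fin.val e)) 1 u
            have hxr : Φ.toAlg.xg R (1 : F) ∈ M := hk r hr hrn 1
            have hxs : Φ.toAlg.xg S u ∈ M := hk s hs hsn u
            have : Φ.tval (1 : F) u (D.commTerms R.val S.val) =
                (Φ.toAlg.xg R 1 * Φ.toAlg.xg S u)⁻¹ * (Φ.toAlg.xg S u * Φ.toAlg.xg R 1) := by
              rw [e]; group
            rw [show D.commTerms r s = D.commTerms R.val S.val from rfl, this]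
            exact mul_mem (inv_mem (mul_mem hxr hxs)) (mul_mem hxs hxr)
          have hc2 : (c.2.1 : F) * (c.2.1 : F) = 1 := by
            rcases hco with e | e <;> simp [e]
          have hsplit' : ∀ u : F, Φ.tval (1 : F) u (D.commTerms r s) =
              Φ.tval (1 : F) u ((D.commTerms r s).take pos) *
                (Φ.toAlg.xg ⟨c.1, hlt⟩ ((c.2.1 : F) * (-1) ^ c.2.2.1 * u ^ c.2.2.2) *
                  Φ.tval (1 : F) u rest) := by
            intro u
            conv_lhs => rw [hsplit]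
            simp only [tval, List.map_append, List.prod_append, List.map_cons, List.prod_cons, dif_pos hlt]
          have hx := key (-(c.2.1 : F) * x)
          rw [hsplit', hi, hj, pow_one, pow_one,
            Subgroup.mul_mem_cancel_left _ (Φ.tval_mem_two fun d hd => hk _ (htake d hd)),
            Subgroup.mul_mem_cancel_right _ (Φ.tval_mem_two fun d hd => hk _ (hrest d hd))] at hx
          rwa [show (c.2.1 : F) * -1 * (-(c.2.1 : F) * x) = x by linear_combination x * hc2] at hx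
        · simp at h
    · simp at h

theorem fullIn_run (hw : ∀ i ∈ w, i < D.rank) (hn : Φ.nWord F w ∈ M) :
    ∀ (steps : List TwoGen.Step) {known out : List ℕ}, (∀ u ∈ known, Φ.FullIn M u) →
      TwoGen.run D w known steps = some out → ∀ u ∈ out, Φ.FullIn M u
  | [], known, out, hk, h => by
    obtain rfl : known = out := by simpa [TwoGen.run] using h
    exact hk
  | st :: rest, known, out, hk, h => by
    simp only [TwoGen.run] at h
    split at h
    · next v hv =>
      refine fullIn_run hw hn rest (fun u hu => ?_) h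
      rcases List.mem_cons.1 hu with rfl | hu
      · exact Φ.fullIn_step hw hn hk hv
      · exact hk u hu
    · simp at h

theorem group_le_of_complete {known : List ℕ} (hk : ∀ u ∈ known, Φ.FullIn M u)
    (hc : TwoGen.complete D known = true) : D.group F ≤ M := by
  simp only [TwoGen.complete, List.all_eq_true, List.mem_range, Bool.and_eq_true, List.contains_iff_mem] at hc
  refine Φ.group_le_of_fundamental fun i t => ?_
  obtain ⟨h1, h2⟩ := hc i.val i.isLt
  rw [Φ.simple_val] at h1 h2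
  rw [show D.neg (Φ.p i).val = (Φ.p i).rev.val from Φ.negIdx_eq _] at h2
  exact ⟨hk _ h1 (Φ.p i).isLt t, hk _ h2 (Φ.p i).rev.isLt t⟩

theorem expo_eq (m : List ℤ) (s : Fin D.nroots) :
    TwoGen.expo D m s.val = ∑ i : Fin D.rank, m.getD i.val 0 * Φ.A i s := by
  have hfold : ∀ N : ℕ, (List.range N).foldl (fun a i => a + m.getD i 0 * D.cartan i s.val) 0 =
      ∑ i ∈ Finset.range N, m.getD i 0 * D.cartan i s.val := by
    intro N
    induction N with
    | zero => simp
    | succ N ih => rw [List.range_succ, List.foldl_append, ih, Finset.sum_range_succ]; simp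
  rw [TwoGen.expo, hfold, ← Fin.sum_univ_eq_sum_range (fun i => m.getD i 0 * D.cartan i s.val)]
  exact Finset.sum_congr rfl fun i _ => by rw [Φ.cartan_val]

theorem chi_gen (g : Fˣ) (m : List ℤ) (s : Fin D.nroots) :
    Φ.toSys.chi (Φ.coHom F fun k => g ^ m.getD k.val 0) s = g ^ TwoGen.expo D m s.val := by
  rw [Φ.chi_coHom, Φ.expo_eq]
  have hp : ∀ (S : Finset (Fin D.rank)) (K : Fin D.rank → ℤ), ∏ j ∈ S, g ^ K j = g ^ ∑ j ∈ S, K j := by
    intro S K
    induction S using Finset.induction_on with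
    | empty => simp
    | insert j S hj ih => rw [Finset.prod_insert hj, Finset.sum_insert hj, ih, _root_.zpow_add]
  simp only [← _root_.zpow_mul]
  exact hp _ _

/-- A set closed under addition and under a generating multiplier is everything or zero. -/
theorem full_of_multiplier [Finite F] {g : Fˣ} (hg : ∀ u : Fˣ, u ∈ Subgroup.zpowers g) {e : ℤ}
    (he : e = 1 ∨ e = -1 ∨ e = 2 ∨ e = -2) {T : AddSubgroup F}
    (hT : ∀ t ∈ T, ((g ^ e : Fˣ) : F) * t ∈ T) {a : F} (ha : a ≠ 0) (haT : a ∈ T) : ∀ x, x ∈ T := by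
  haveI := Fintype.ofFinite F
  have hpow : ∀ (k : ℕ), ∀ t ∈ T, (((g ^ e) ^ k : Fˣ) : F) * t ∈ T := by
    intro k
    induction k with
    | zero => simp
    | succ k ih =>
      intro t ht
      rw [pow_succ', Units.val_mul, mul_assoc]
      exact hT _ (ih t ht)
  have hz : ∀ (z : ℤ), ∀ t ∈ T, ((g ^ (e * z) : Fˣ) : F) * t ∈ T := by
    intro z t ht
    obtain ⟨k, hk⟩ := (isOfFinOrder_of_finite (g ^ e)).mem_powers_iff_mem_zpowers.2
      (Subgroup.mem_zpowers_iff.2 ⟨z, (_root_.zpow_mul g e z).symm⟩)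
    rw [← hk]
    exact hpow k t ht
  have hsq : ∀ u : F, u ^ 2 * a ∈ T := by
    intro u
    by_cases hu : u = 0
    · subst hu; simp [T.zero_mem]
    obtain ⟨j, hj⟩ := Subgroup.mem_zpowers_iff.1 (hg (Units.mk0 u hu))
    have hu' : (Units.mk0 u hu) ^ (2 : ℤ) = g ^ (j * 2) := by rw [← hj, ← _root_.zpow_mul]
    have hu2 : ((g ^ (j * 2) : Fˣ) : F) = u ^ 2 := by
      rw [← hu', show (2 : ℤ) = ((2 : ℕ) : ℤ) from rfl, zpow_natCast, Units.val_pow_eq_pow_val, Units.val_mk0]
    rw [← hu2]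
    rcases he with rfl | rfl | rfl | rfl
    · rw [show j * 2 = 1 * (j * 2) by ring]; exact hz _ a haT
    · rw [show j * 2 = -1 * -(j * 2) by ring]; exact hz _ a haT
    · rw [show j * 2 = 2 * j by ring]; exact hz _ a haT
    · rw [show j * 2 = -2 * -j by ring]; exact hz _ a haT
  intro x
  by_cases h2 : (2 : F) = 0
  · haveI : CharP F 2 := by
      have := ringChar.eq_iff.1 (CharP.ringChar_of_prime_eq_zero Nat.prime_two (by exact_mod_cast h2) :
        ringChar F = 2)
      exact this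
    haveI : Fact (Nat.Prime 2) := ⟨Nat.prime_two⟩
    obtain ⟨u, hu⟩ := perfect_finite 2 (x / a)
    have := hsq u
    rwa [hu, div_mul_cancel₀ _ ha] at this
  · have := T.sub_mem (hsq ((x / a + 1) / 2)) (hsq ((x / a - 1) / 2))
    rwa [show ((x / a + 1) / 2) ^ 2 * a - ((x / a - 1) / 2) ^ 2 * a = x by field_simp; ring] at this

/-- The parameters of a root whose root elements lie in `M`, as an additive subgroup. -/
def params (M : Subgroup (GL D.Idx F)) (r : Fin D.nroots) : AddSubgroup F where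
  carrier := {t | Φ.toAlg.xg r t ∈ M}
  zero_mem' := by simp [one_mem]
  add_mem' ha hb := by
    simp only [Set.mem_setOf_eq] at ha hb ⊢
    rw [Φ.toAlg.xg_add]; exact mul_mem ha hb
  neg_mem' ha := by
    simp only [Set.mem_setOf_eq] at ha ⊢
    rw [Φ.toAlg.xg_neg]; exact inv_mem ha

theorem fullIn_of_torus [Finite F] {g : Fˣ} (hg : ∀ u : Fˣ, u ∈ Subgroup.zpowers g) (c : Fin D.rank → Fˣ)
    (hd : Φ.toAlg.torus c ∈ M) {r : Fin D.nroots} {e : ℤ} (hc : Φ.toSys.chi c r = g ^ e)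
    (he : e = 1 ∨ e = -1 ∨ e = 2 ∨ e = -2) {a : F} (ha : a ≠ 0) (haM : Φ.toAlg.xg r a ∈ M) :
    Φ.FullIn M r.val := fun _ t => by
  refine full_of_multiplier hg he (T := Φ.params M r) (fun t (ht : Φ.toAlg.xg r t ∈ M) => ?_) ha haM t
  show Φ.toAlg.xg r _ ∈ M
  have := mul_mem (mul_mem hd ht) (inv_mem hd)
  rwa [Φ.toAlg.torus_xg, mul_inv_cancel_right, hc] at this

theorem exists_pair {a b : GL D.Idx F} (ha : a ∈ D.group F) (hb : b ∈ D.group F)
    (h : D.group F ≤ Subgroup.closure {a, b}) :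
    ∃ a b : ↥(D.group F), Subgroup.closure ({a, b} : Set ↥(D.group F)) = ⊤ := by
  refine ⟨⟨a, ha⟩, ⟨b, hb⟩, ?_⟩
  apply Subgroup.map_injective (D.group F).subtype_injective
  rw [MonoidHom.map_closure, ← MonoidHom.range_eq_map, Subgroup.range_subtype, Set.image_insert_eq,
    Set.image_singleton]
  refine le_antisymm ((Subgroup.closure_le _).2 ?_) h
  rintro x (rfl | rfl)
  exacts [ha, hb]

end General

section Big

variable [Finite F]

include Φ in
theorem two_gen_big {w : List ℕ} {m : List ℤ} {r r' k : ℕ} {steps : List TwoGen.Step}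
    (hok : TwoGen.bigCert D w m r r' k steps = true) (h3 : ∃ x : F, x ≠ 0 ∧ x ≠ 1) :
    ∃ a b : ↥(D.group F), Subgroup.closure ({a, b} : Set ↥(D.group F)) = ⊤ := by
  classical
  haveI := Fintype.ofFinite F
  simp only [TwoGen.bigCert, Bool.and_eq_true, decide_eq_true_eq, List.all_eq_true] at hok
  obtain ⟨⟨⟨⟨⟨⟨⟨hr, hr'⟩, hw⟩, er⟩, er'⟩, eπ⟩, es⟩, hrun⟩ := hok
  obtain ⟨g, hg⟩ := IsCyclic.exists_generator (α := Fˣ)
  have hg1 : ∀ e : ℤ, e = 1 ∨ e = -1 → g ^ e ≠ 1 := by
    intro e he h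
    have hgone : g = 1 := by rcases he with rfl | rfl <;> simpa using h
    obtain ⟨x, hx0, hx1⟩ := h3
    obtain ⟨j, hj⟩ := Subgroup.mem_zpowers_iff.1 (hg (Units.mk0 x hx0))
    apply hx1
    rw [hgone, _root_.one_zpow] at hj
    exact (congrArg Units.val hj).symm
  set n := Φ.nWord F w with hndef
  set c := Φ.coHom F fun i => g ^ m.getD i.val 0 with hcdef
  set d := Φ.toAlg.torus c with hddef
  have hdH : d ∈ D.diagonalSubgroup F := by rw [Φ.diagonalSubgroup_eq]; exact ⟨_, rfl⟩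
  let R : Fin D.nroots := ⟨r, hr⟩
  let R' : Fin D.nroots := ⟨r', hr'⟩
  have hnN := Φ.nWord_mem (F := F) w
  refine exists_pair (a := d * Φ.toAlg.xg R 1) (b := n * Φ.toAlg.xg R' 1)
    (mul_mem (Φ.B_le_group (H_le_B hdH)) (Φ.toAlg.xg_mem_group _ _))
    (mul_mem (Φ.N_le_group hnN) (Φ.toAlg.xg_mem_group _ _)) ?_
  set M := Subgroup.closure ({d * Φ.toAlg.xg R 1, n * Φ.toAlg.xg R' 1} : Set (GL D.Idx F))
  have haM : d * Φ.toAlg.xg R 1 ∈ M := Subgroup.subset_closure (Or.inl rfl)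
  have hbM : n * Φ.toAlg.xg R' 1 ∈ M := Subgroup.subset_closure (Or.inr rfl)
  -- split `a`
  have hchiR : Φ.toSys.chi c R = 1 := by rw [hcdef, Φ.chi_gen, er, zpow_zero]
  have hcomm : Commute d (Φ.toAlg.xg R (1 : F)) := by
    show _ = _
    rw [hddef, Φ.toAlg.torus_xg, hchiR, Units.val_one, one_mul]
  set N := Nat.card F - 1 with hN
  have hdN : d ^ N = 1 := by
    rw [hddef, ← map_pow]
    have : (c ^ N : Fin D.rank → Fˣ) = 1 := by
      funext j
      rw [Pi.pow_apply, Pi.one_apply, hN, Nat.card_eq_fintype_card, ← Fintype.card_units]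
      exact pow_card_eq_one
    rw [this, map_one]
  have hNF : (N : F) = -1 := by
    rw [hN, Nat.cast_sub (Nat.card_pos (α := F)), Nat.card_eq_fintype_card, Nat.cast_card_eq_zero]
    simp
  have hxR : Φ.toAlg.xg R (1 : F) ∈ M := by
    have h := pow_mem haM N
    rw [hcomm.mul_pow, hdN, one_mul] at h
    have hp : ∀ k : ℕ, Φ.toAlg.xg R (1 : F) ^ k = Φ.toAlg.xg R (k : F) := by
      intro k
      induction k with
      | zero => simp
      | succ k ih => rw [pow_succ, ih, ← Φ.toAlg.xg_add, Nat.cast_succ]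
    rw [hp, hNF, Φ.toAlg.xg_neg] at h
    exact inv_mem_iff.1 h
  have hdM : d ∈ M := by
    have := mul_mem haM (inv_mem hxR)
    rwa [mul_inv_cancel_right] at this
  -- split `b`
  obtain ⟨π, hm, hπ⟩ := Φ.nWord_mono (F := F) hw
  obtain ⟨aπ, haπ, eπ', -⟩ := hm.1 R'
  set μ := g ^ TwoGen.expo D m (TwoGen.piNat D w r') with hμ
  set lam := g ^ TwoGen.expo D m r' with hlam
  have hμ1 : (μ : F) ≠ 1 := fun e => hg1 _ eπ (Units.ext e)
  have hlam1 : (lam : F) ≠ 1 := fun e => hg1 _ er' (Units.ext e)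
  have hchiπ : Φ.toSys.chi c (π R') = μ := by rw [hcdef, Φ.chi_gen, hπ]
  set t := n⁻¹ * d * n with ht
  have htH : t ∈ D.diagonalSubgroup F := Φ.H_conj_mem' hnN hdH
  have htd := Φ.H_comm hdH htH
  have htx : t * Φ.toAlg.xg R' 1 * t⁻¹ = Φ.toAlg.xg R' (μ : F) := by
    have h1 : n * Φ.toAlg.xg R' (μ : F) * n⁻¹ = d * (n * Φ.toAlg.xg R' 1 * n⁻¹) * d⁻¹ := by
      rw [hndef, eπ', eπ', hddef, Φ.toAlg.torus_xg, mul_inv_cancel_right, hchiπ]
      congr 1
      ring
    calc t * Φ.toAlg.xg R' 1 * t⁻¹ = n⁻¹ * (d * (n * Φ.toAlg.xg R' 1 * n⁻¹) * d⁻¹) * n := by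
          rw [ht]; group
      _ = _ := by rw [← h1]; group
  have hyM : Φ.toAlg.xg R' ((μ : F) - 1) * t ∈ M := by
    have h := mul_mem (mul_mem (inv_mem hbM) hdM) hbM
    rwa [show (n * Φ.toAlg.xg R' 1)⁻¹ * d * (n * Φ.toAlg.xg R' 1) =
      (Φ.toAlg.xg R' 1)⁻¹ * (t * Φ.toAlg.xg R' 1 * t⁻¹) * t by rw [ht]; group, htx, Φ.toAlg.xg_inv,
      ← Φ.toAlg.xg_add, neg_add_eq_sub] at h
  have hlamR : Φ.toSys.chi c R' = lam := by rw [hcdef, Φ.chi_gen]
  have hzM : Φ.toAlg.xg R' (((lam : F) - 1) * ((μ : F) - 1)) ∈ M := by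
    have h := mul_mem (mul_mem (mul_mem hdM hyM) (inv_mem hdM)) (inv_mem hyM)
    rwa [show d * (Φ.toAlg.xg R' ((μ : F) - 1) * t) * d⁻¹ * (Φ.toAlg.xg R' ((μ : F) - 1) * t)⁻¹ =
      (d * Φ.toAlg.xg R' ((μ : F) - 1) * d⁻¹) * (d * t * d⁻¹ * t⁻¹) * (Φ.toAlg.xg R' ((μ : F) - 1))⁻¹ by group,
      htd.eq, mul_inv_cancel_right, mul_inv_cancel, mul_one, hddef, Φ.toAlg.torus_xg, mul_inv_cancel_right,
      hlamR, Φ.toAlg.xg_inv, ← Φ.toAlg.xg_add,
      show (lam : F) * ((μ : F) - 1) + -((μ : F) - 1) = ((lam : F) - 1) * ((μ : F) - 1) by ring] at h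
  have hfR' : Φ.FullIn M r' :=
    Φ.fullIn_of_torus hg c hdM (r := R') hlamR (er'.elim Or.inl fun e => Or.inr (Or.inl e))
      (mul_ne_zero (sub_ne_zero.2 hlam1) (sub_ne_zero.2 hμ1)) hzM
  have hnM : n ∈ M := by
    have := mul_mem hbM (inv_mem (hfR' hr' 1))
    rwa [mul_inv_cancel_right] at this
  obtain ⟨S, a, hS, ha, hSM⟩ := Φ.exists_rot_pow hw hnM hxR k
  have hfS : Φ.FullIn M (TwoGen.piPow D w k r) := by
    have := Φ.fullIn_of_torus hg c hdM (r := S) (e := TwoGen.expo D m S.val) (by rw [hcdef, Φ.chi_gen])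
      (by rw [hS]; exact es) ha hSM
    rwa [hS] at this
  split at hrun
  · next known hknown =>
    refine Φ.group_le_of_complete (Φ.fullIn_run hw hnM steps ?_ hknown) hrun
    intro u hu
    simp only [List.mem_cons, List.not_mem_nil, or_false] at hu
    rcases hu with rfl | rfl
    exacts [hfR', hfS]
  · exact absurd hrun Bool.false_ne_true

end Big

section Two

variable [CharP F 2]

theorem commTwo_sound {r s : Fin D.nroots} (h : TwoGen.commTwo D r.val s.val = true) (a b : F) :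
    Commute (Φ.toAlg.xg r a) (Φ.toAlg.xg s b) := by
  simp only [TwoGen.commTwo, Bool.and_eq_true, decide_eq_true_eq, List.all_eq_true, beq_iff_eq] at h
  obtain ⟨⟨⟨-, hneg⟩, hne⟩, hev⟩ := h
  refine Φ.commute_of_even (fun e => hne (congrArg Fin.val e)) (fun e => hneg ?_) hev a b
  rw [show D.neg r.val = r.rev.val from Φ.negIdx_eq r]
  exact congrArg Fin.val e

theorem fullIn_of_one (hF : ∀ x : F, x = 0 ∨ x = 1) {M : Subgroup (GL D.Idx F)} {r : Fin D.nroots}
    (h : Φ.toAlg.xg r (1 : F) ∈ M) : Φ.FullIn M r.val := fun _ t => by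
  rcases hF t with rfl | rfl
  · simp [one_mem]
  · exact h

/-- `x_s(1) x_r(1) = x_r(1) x_s(1) x_c(1)` for a single odd commutator term. -/
theorem comm_single {r s : Fin D.nroots} (hne : s ≠ r) (hneg : s ≠ r.rev) {c : ℕ × ℤ × ℕ × ℕ}
    (hL : D.commTerms r.val s.val = [c]) (hc : c.2.1 % 2 = 1) (hlt : c.1 < D.nroots) :
    Φ.toAlg.xg s (1 : F) * Φ.toAlg.xg r 1 =
      Φ.toAlg.xg r 1 * Φ.toAlg.xg s 1 * Φ.toAlg.xg ⟨c.1, hlt⟩ 1 := by
  rw [Φ.comm_xg hne hneg 1 1, hL]
  congr 1
  have hz : (c.2.1 : F) = 1 := by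
    rw [← Int.emod_add_ediv_mul c.2.1 2, hc]
    simp [CharTwo.two_eq_zero]
  simp [tval, hlt, hz, CharTwo.neg_eq]

theorem xg_sq_two (r : Fin D.nroots) (a : F) : Φ.toAlg.xg r a * Φ.toAlg.xg r a = 1 := by
  rw [← Φ.toAlg.xg_add, CharTwo.add_self_eq_zero, Φ.toAlg.xg_zero]

theorem xg_inv_two (r : Fin D.nroots) (a : F) : (Φ.toAlg.xg r a)⁻¹ = Φ.toAlg.xg r a :=
  inv_eq_of_mul_eq_one_right (Φ.xg_sq_two r a)

include Φ in
theorem two_gen_one {w : List ℕ} {r : ℕ} {steps : List TwoGen.Step}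
    (hok : TwoGen.twoCert D w r steps = true) (hF : ∀ x : F, x = 0 ∨ x = 1) :
    ∃ a b : ↥(D.group F), Subgroup.closure ({a, b} : Set ↥(D.group F)) = ⊤ := by
  simp only [TwoGen.twoCert, Bool.and_eq_true, decide_eq_true_eq, List.all_eq_true] at hok
  obtain ⟨⟨hr, hw⟩, hrun⟩ := hok
  have hnN := Φ.nWord_mem (F := F) w
  refine exists_pair (a := Φ.toAlg.xg ⟨r, hr⟩ 1) (b := Φ.nWord F w) (Φ.toAlg.xg_mem_group _ _)
    (Φ.N_le_group hnN) ?_
  split at hrun
  · next known hknown =>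
    refine Φ.group_le_of_complete (Φ.fullIn_run hw (Subgroup.subset_closure (Or.inr rfl)) steps ?_ hknown) hrun
    intro u hu
    obtain rfl := List.mem_singleton.1 hu
    exact Φ.fullIn_of_one hF (r := ⟨u, hr⟩) (Subgroup.subset_closure (Or.inl rfl))
  · exact absurd hrun Bool.false_ne_true

/-- `x_s(1) x_{-s}(1)` has order dividing three. -/
theorem six_cube (s : Fin D.nroots) :
    (Φ.toAlg.xg s (1 : F) * Φ.toAlg.xg s.rev 1) ^ 3 = 1 := by
  set x := Φ.toAlg.xg s (1 : F)
  set y := Φ.toAlg.xg s.rev (1 : F)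
  have hn : Φ.nw s 1 = x * y * x := by simp [nw, x, y, CharTwo.neg_eq]
  have h1 : x * y * x * x * (x * y * x)⁻¹ = y := by
    have := Φ.nw_xg_self s (1 : F)
    rw [hn, CharTwo.neg_eq] at this
    rw [this, mul_inv_cancel_right]
  have h2 : (x * y * x) * (x * y * x) = 1 := by
    rw [← hn, Φ.nw_sq, show (-1 : Fˣ) = 1 from Units.ext (by simp [CharTwo.neg_eq]), Φ.hw_one]
  have h3 : (x * y * x)⁻¹ = x * y * x := inv_eq_of_mul_eq_one_right h2
  rw [h3] at h1
  have hy : y * y = 1 := Φ.xg_sq_two _ _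
  have hx : x * x = 1 := Φ.xg_sq_two _ _
  rw [show (x * y) ^ 3 = (x * y * x) * (y * x * y) by rw [pow_succ, pow_two]; group]
  have h4 : y * x * y = x * y * x := by
    calc y * x * y = (x * y * x * x * (x * y * x)) * x * y := by rw [h1]
      _ = x * y * (x * x) * (x * y * (x * x) * y) := by group
      _ = x * y * x * (y * y) := by rw [hx]; group
      _ = _ := by rw [hy, mul_one]
  rw [h4, h2]

theorem fullIn_step2 (hF : ∀ x : F, x = 0 ∨ x = 1) {M : Subgroup (GL D.Idx F)} {w : List ℕ}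
    (hw : ∀ i ∈ w, i < D.rank) (hn : Φ.nWord F w ∈ M) {s : Fin D.nroots}
    (hy : Φ.toAlg.xg s (1 : F) * Φ.toAlg.xg s.rev 1 ∈ M) {known : List ℕ}
    (hk : ∀ u ∈ known, Φ.FullIn M u) {st : TwoGen.Step2} {v : ℕ}
    (h : TwoGen.stepNew2 D w s.val known st = some v) : Φ.FullIn M v := by
  have hneg : D.neg s.val = s.rev.val := Φ.negIdx_eq s
  have hconj : ∀ (p q : Fin D.nroots), Φ.toAlg.xg p (1 : F) * Φ.toAlg.xg q 1 ∈ M → q = p.rev →
      ∀ u : Fin D.nroots, Φ.toAlg.xg u (1 : F) ∈ M → u ≠ p → u ≠ q → TwoGen.commTwo D q.val u.val = true →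
      ∀ c, D.commTerms p.val u.val = [c] → c.2.1 % 2 = 1 → ∀ hlt : c.1 < D.nroots,
        Φ.toAlg.xg ⟨c.1, hlt⟩ (1 : F) ∈ M := by
    intro p q hpq hqp u hu hup huq hcm c hL hc hlt
    have e := Φ.comm_single (F := F) hup (fun e => huq (e.trans hqp.symm)) hL hc hlt
    have hq := Φ.commTwo_sound (F := F) hcm 1 1
    set X := Φ.toAlg.xg p (1 : F)
    set Y := Φ.toAlg.xg q (1 : F)
    set U := Φ.toAlg.xg u (1 : F)
    set C := Φ.toAlg.xg ⟨c.1, hlt⟩ (1 : F)
    have h2 : C = U⁻¹ * X⁻¹ * U * X := by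
      calc C = (X * U)⁻¹ * (X * U * C) := by group
        _ = (X * U)⁻¹ * (U * X) := by rw [← e]
        _ = _ := by group
    have hX : X⁻¹ = X := Φ.xg_inv_two _ _
    have key : C = U⁻¹ * ((X * Y) * U * (X * Y)⁻¹) := by
      rw [show (X * Y) * U * (X * Y)⁻¹ = X * (Y * U * Y⁻¹) * X⁻¹ by group, hq.eq, mul_inv_cancel_right, h2, hX]
      group
    rw [key]
    exact mul_mem (inv_mem hu) (mul_mem (mul_mem hpq hu) (inv_mem hpq))
  have hyinv : Φ.toAlg.xg s.rev (1 : F) * Φ.toAlg.xg s 1 ∈ M := by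
    have := inv_mem hy
    rwa [_root_.mul_inv_rev, Φ.xg_inv_two, Φ.xg_inv_two] at this
  cases st with
  | base st => exact Φ.fullIn_step hw hn hk (by simpa [TwoGen.stepNew2] using h)
  | up u =>
    simp only [TwoGen.stepNew2] at h
    split at h
    · next hc =>
      simp only [Bool.and_eq_true, List.contains_iff_mem, decide_eq_true_eq] at hc
      obtain ⟨⟨⟨⟨hu, h1⟩, h2⟩, h3⟩, hun⟩ := hc
      split at h
      · next c hL =>
        split at h
        · next hcc =>
          simp only [Bool.and_eq_true, decide_eq_true_eq] at hcc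
          obtain rfl : c.1 = v := by simpa using h
          refine Φ.fullIn_of_one hF (r := ⟨c.1, hcc.2⟩) (hconj s s.rev hy rfl ⟨u, hun⟩ (hk u hu hun 1)
            (fun e => h1 (congrArg Fin.val e)) (fun e => h2 (by rw [hneg]; exact congrArg Fin.val e))
            (by rw [← hneg]; exact h3) c hL hcc.1 hcc.2)
        · simp at h
      · simp at h
    · simp at h
  | down u =>
    simp only [TwoGen.stepNew2] at h
    split at h
    · next hc =>
      simp only [Bool.and_eq_true, List.contains_iff_mem, decide_eq_true_eq] at hc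
      obtain ⟨⟨⟨⟨hu, h1⟩, h2⟩, h3⟩, hun⟩ := hc
      split at h
      · next c hL =>
        split at h
        · next hcc =>
          simp only [Bool.and_eq_true, decide_eq_true_eq] at hcc
          obtain rfl : c.1 = v := by simpa using h
          refine Φ.fullIn_of_one hF (r := ⟨c.1, hcc.2⟩) (hconj s.rev s hyinv (Fin.rev_rev s).symm ⟨u, hun⟩
            (hk u hu hun 1) (fun e => h2 (by rw [hneg]; exact congrArg Fin.val e))
            (fun e => h1 (congrArg Fin.val e)) h3 c (by rw [← hneg]; exact hL) hcc.1 hcc.2)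
        · simp at h
      · simp at h
    · simp at h

include Φ in
theorem two_gen_six {w : List ℕ} {r s : ℕ} {steps : List TwoGen.Step2}
    (hok : TwoGen.sixCert D w r s steps = true) (hF : ∀ x : F, x = 0 ∨ x = 1) :
    ∃ a b : ↥(D.group F), Subgroup.closure ({a, b} : Set ↥(D.group F)) = ⊤ := by
  simp only [TwoGen.sixCert, Bool.and_eq_true, decide_eq_true_eq, List.all_eq_true] at hok
  obtain ⟨⟨⟨⟨⟨hr, hs⟩, hw⟩, c1⟩, c2⟩, hrun⟩ := hok
  let R : Fin D.nroots := ⟨r, hr⟩
  let S : Fin D.nroots := ⟨s, hs⟩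
  set x := Φ.toAlg.xg R (1 : F) with hx
  set y := Φ.toAlg.xg S (1 : F) * Φ.toAlg.xg S.rev 1 with hy
  have hnN := Φ.nWord_mem (F := F) w
  refine exists_pair (a := x * y) (b := Φ.nWord F w)
    (mul_mem (Φ.toAlg.xg_mem_group _ _) (mul_mem (Φ.toAlg.xg_mem_group _ _) (Φ.toAlg.xg_mem_group _ _)))
    (Φ.N_le_group hnN) ?_
  set M := Subgroup.closure ({x * y, Φ.nWord F w} : Set (GL D.Idx F))
  have haM : x * y ∈ M := Subgroup.subset_closure (Or.inl rfl)
  have hcomm : Commute x y := by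
    refine (Φ.commTwo_sound (r := R) (s := S) c1 1 1).mul_right (Φ.commTwo_sound (r := R) (s := S.rev) ?_ 1 1)
    rw [← show D.neg s = S.rev.val from Φ.negIdx_eq S]
    exact c2
  have hxM : x ∈ M := by
    have h := pow_mem haM 3
    rwa [hcomm.mul_pow, hy, Φ.six_cube, mul_one, pow_succ, pow_two, hx, Φ.xg_sq_two, one_mul] at h
  have hyM : y ∈ M := by
    have := mul_mem (inv_mem hxM) haM
    rwa [inv_mul_cancel_left] at this
  have hnM : Φ.nWord F w ∈ M := Subgroup.subset_closure (Or.inr rfl)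
  have hrun2 : ∀ (steps : List TwoGen.Step2) {known out : List ℕ}, (∀ u ∈ known, Φ.FullIn M u) →
      TwoGen.run2 D w s known steps = some out → ∀ u ∈ out, Φ.FullIn M u := by
    intro steps
    induction steps with
    | nil =>
      intro known out hk h
      obtain rfl : known = out := by simpa [TwoGen.run2] using h
      exact hk
    | cons st rest ih =>
      intro known out hk h
      simp only [TwoGen.run2] at h
      split at h
      · next v hv =>
        refine ih (fun u hu => ?_) h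
        rcases List.mem_cons.1 hu with rfl | hu
        · exact Φ.fullIn_step2 hF hw hnM (s := S) hyM hk hv
        · exact hk u hu
      · simp at h
  split at hrun
  · next known hknown =>
    refine Φ.group_le_of_complete (hrun2 steps ?_ hknown) hrun
    intro u hu
    obtain rfl := List.mem_singleton.1 hu
    exact Φ.fullIn_of_one hF (r := ⟨u, hr⟩) hxM
  · exact absurd hrun Bool.false_ne_true

include Φ in
theorem two_gen_pair {w : List ℕ} {r r' k : ℕ} {steps steps' : List TwoGen.Step}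
    (hok : TwoGen.twoCertPair D w r r' k steps steps' = true) (hF : ∀ x : F, x = 0 ∨ x = 1) :
    ∃ a b : ↥(D.group F), Subgroup.closure ({a, b} : Set ↥(D.group F)) = ⊤ := by
  simp only [TwoGen.twoCertPair, Bool.and_eq_true, decide_eq_true_eq, List.all_eq_true] at hok
  obtain ⟨⟨⟨⟨⟨⟨⟨⟨⟨⟨hr, hr'⟩, hw⟩, c1⟩, c2⟩, c3⟩, c4⟩, c5⟩, hne⟩, hneg⟩, hrest⟩ := hok
  let R : Fin D.nroots := ⟨r, hr⟩
  let R' : Fin D.nroots := ⟨r', hr'⟩
  have hnN := Φ.nWord_mem (F := F) w
  refine exists_pair (a := Φ.toAlg.xg R 1 * Φ.toAlg.xg R' 1) (b := Φ.nWord F w)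
    (mul_mem (Φ.toAlg.xg_mem_group _ _) (Φ.toAlg.xg_mem_group _ _)) (Φ.N_le_group hnN) ?_
  set M := Subgroup.closure ({Φ.toAlg.xg R 1 * Φ.toAlg.xg R' 1, Φ.nWord F w} : Set (GL D.Idx F))
  have haM : Φ.toAlg.xg R 1 * Φ.toAlg.xg R' 1 ∈ M := Subgroup.subset_closure (Or.inl rfl)
  have hnM : Φ.nWord F w ∈ M := Subgroup.subset_closure (Or.inr rfl)
  obtain ⟨π, hm, hπ⟩ := Φ.nWord_mono (F := F) hw
  have hrot : ∀ j : ℕ, ∃ S S' : Fin D.nroots, S.val = TwoGen.piPow D w j r ∧
      S'.val = TwoGen.piPow D w j r' ∧ Φ.toAlg.xg S (1 : F) * Φ.toAlg.xg S' 1 ∈ M := by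
    intro j
    induction j with
    | zero => exact ⟨R, R', rfl, rfl, haM⟩
    | succ j ih =>
      obtain ⟨S, S', hS, hS', hmem⟩ := ih
      obtain ⟨a, ha, e, -⟩ := hm.1 S
      obtain ⟨a', ha', e', -⟩ := hm.1 S'
      have ha1 : a = 1 := (hF a).resolve_left ha
      have ha1' : a' = 1 := (hF a').resolve_left ha'
      refine ⟨π S, π S', by rw [hπ, hS]; rfl, by rw [hπ, hS']; rfl, ?_⟩
      have := mul_mem (mul_mem hnM hmem) (inv_mem hnM)
      rwa [show ∀ p q : GL D.Idx F, Φ.nWord F w * (p * q) * (Φ.nWord F w)⁻¹ =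
        (Φ.nWord F w * p * (Φ.nWord F w)⁻¹) * (Φ.nWord F w * q * (Φ.nWord F w)⁻¹) from fun p q => by group,
        e, e', ha1, ha1', one_mul] at this
  obtain ⟨S, S', hS, hS', hzM⟩ := hrot k
  rw [← hS] at c2 c5 hne hneg hrest
  rw [← hS'] at c3 c4 c5 hrest
  have d2 := Φ.commTwo_sound (F := F) (r := R') (s := S) c2 1 1
  have d3 := Φ.commTwo_sound (F := F) (r := R) (s := S') c3 1 1
  have d4 := Φ.commTwo_sound (F := F) (r := R') (s := S') c4 1 1
  have d5 := Φ.commTwo_sound (F := F) (r := S) (s := S') c5 1 1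
  split at hrest
  · next c hL =>
    simp only [Bool.and_eq_true, decide_eq_true_eq] at hrest
    obtain ⟨⟨⟨hodd, e1⟩, e2⟩, hrun⟩ := hrest
    have hlt : c.1 < D.nroots := by
      simp only [TwoGen.commTwo, Bool.and_eq_true, decide_eq_true_eq] at e1
      exact e1.1.1.1.2
    have e := Φ.comm_single (F := F) (r := R) (s := S) (fun e => hne (congrArg Fin.val e))
      (fun e => hneg (by rw [show D.neg r = R.rev.val from Φ.negIdx_eq R]; exact congrArg Fin.val e))
      hL hodd hlt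
    have f1 := Φ.commTwo_sound (F := F) (r := R') (s := ⟨c.1, hlt⟩) e1 1 1
    have f2 := Φ.commTwo_sound (F := F) (r := S') (s := ⟨c.1, hlt⟩) e2 1 1
    set X := Φ.toAlg.xg R (1 : F)
    set X' := Φ.toAlg.xg R' (1 : F)
    set Z := Φ.toAlg.xg S (1 : F)
    set Z' := Φ.toAlg.xg S' (1 : F)
    set C := Φ.toAlg.xg ⟨c.1, hlt⟩ (1 : F)
    have hza : Z * Z' * (X * X') = X * X' * (Z * Z') * C := by
      calc Z * Z' * (X * X') = Z * (Z' * X) * X' := by group
        _ = Z * X * (Z' * X') := by rw [← d3.eq]; group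
        _ = X * Z * (C * X') * Z' := by rw [e, ← d4.eq]; group
        _ = X * (Z * X') * (C * Z') := by rw [← f1.eq]; group
        _ = X * X' * (Z * Z') * C := by rw [← d2.eq, ← f2.eq]; group
    have hCM : C ∈ M := by
      have : C = (X * X' * (Z * Z'))⁻¹ * (Z * Z' * (X * X')) := by rw [hza]; group
      rw [this]
      exact mul_mem (inv_mem (mul_mem haM hzM)) (mul_mem hzM haM)
    split at hrun
    · next known hknown =>
      simp only [Bool.and_eq_true, List.contains_iff_mem] at hrun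
      obtain ⟨hrk, hrun'⟩ := hrun
      have hk := Φ.fullIn_run hw hnM steps (fun u hu => by
        obtain rfl := List.mem_singleton.1 hu
        exact Φ.fullIn_of_one hF (r := ⟨c.1, hlt⟩) hCM) hknown
      have hX'M : X' ∈ M := by
        have := mul_mem (inv_mem (hk r hrk hr 1)) haM
        rwa [inv_mul_cancel_left] at this
      split at hrun'
      · next known' hknown' =>
        refine Φ.group_le_of_complete (Φ.fullIn_run hw hnM steps' (fun u hu => ?_) hknown') hrun'
        rcases List.mem_cons.1 hu with rfl | hu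
        · exact Φ.fullIn_of_one hF (r := R') hX'M
        · exact hk u hu
      · exact absurd hrun' Bool.false_ne_true
    · exact absurd hrun Bool.false_ne_true
  · exact absurd hrest Bool.false_ne_true

end Two

end Chev

end CfsgLib.Chev
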