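/-
Subgroups of U that are weakly closed in U: they are unipotent radicals of standard parabolic subgroups.
-/
import Cfsg.Agent.Lib.Chev.Levi
import Cfsg.Agent.Lib.Chev.Collect
import Cfsg.Agent.Lib.Chev.Twist.BN
import Cfsg.Agent.Lib.Chev.RootCentralizer
import Mathlib.FieldTheory.Finite.Basic

namespace CfsgLib.Chev

open Cfsg.Lie Matrix

set_option linter.dupNamespace false
set_option linter.unusedSectionVars false

variable {D : ChevalleyDatum}

namespace WC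

/-- A certificate `(r₀, s, s', separators)` producing the root `r` in the window starting at `r₀`. -/
abbrev Cert := ℕ × ℕ × ℕ × List (List ℤ)

/-- An entry: a root, a scaling exponent and certificates. -/
abbrev Ent := List ℤ × List Cert

/-- The exponent of a torus element on a root. -/
def dot (D : ChevalleyDatum) (v : List ℤ) (r : ℕ) : ℤ :=
  ((List.range D.rank).map fun k => v.getD k 0 * D.cartan k r).sum

/-- Admissible exponents. -/
def eTest (one : Bool) (e : ℤ) : Bool := Nat.beq e.natAbs 1 || (!one && Nat.beq e.natAbs 2)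

/-- The window contains no two roots with sum `r`. -/
def winOK (D : ChevalleyDatum) (r0 r : ℕ) : Bool :=
  (List.range' r0 (r - r0)).all fun q => (List.range' r0 (r - r0)).all fun q' =>
    match D.chainEntry q q' with
    | [] => true
    | c :: _ => !(Nat.beq c.1 r)

/-- The roots of the window are separated from `r`. -/
def sepOK (D : ChevalleyDatum) (one : Bool) (r0 r : ℕ) (seps : List (List ℤ)) : Bool :=
  (List.range (r - r0)).all fun i =>
    dot D (seps.getD i []) (r0 + i) == 0 && eTest one (dot D (seps.getD i []) r)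

/-- The check of a certificate. -/
def certOK (D : ChevalleyDatum) (z u : ℤ → Bool) (one : Bool) (r : ℕ) (c : Cert) : Bool :=
  Nat.ble D.nroots (2 * c.1) && Nat.ble c.1 r && Nat.ble D.nroots (2 * c.2.1) &&
    Nat.ble D.nroots (2 * c.2.2.1) && Nat.blt c.2.1 r && Nat.blt c.2.2.1 D.nroots &&
    !(Nat.beq c.2.1 c.2.2.1) && winOK D c.1 r && sepOK D one c.1 r c.2.2.2 &&
    ((D.commTerms c.2.2.1 c.2.1).all fun t => Nat.ble c.1 t.1) &&
    (match (D.commTerms c.2.2.1 c.2.1).filter fun t => Nat.beq t.1 r with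
    | [t] => u t.2.1
    | _ => false) &&
    ((List.range' (c.2.1 + 1) (r - (c.2.1 + 1))).all fun q => Nat.beq q c.2.2.1 ||
      (D.commTerms c.2.2.1 q).all fun t => (Nat.ble c.1 t.1 && !(Nat.beq t.1 r)) || z t.2.1) &&
    ((List.range' (c.2.1 + 1) (r - (c.2.1 + 1))).all fun y => (List.range' c.1 (r - c.1)).all fun q =>
      Nat.beq y q || (D.commTerms y q).all fun t => !(Nat.beq t.1 r) || z t.2.1)

/-- The check of the entry of a root. -/
def entOK (D : ChevalleyDatum) (z u : ℤ → Bool) (one : Bool) (r : ℕ) (e : Ent) : Bool :=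
  eTest one (dot D e.1 r) &&
    if (List.range D.rank).any fun i => Nat.beq (D.simple i) r then
      match e.2 with
      | [c] => Nat.beq c.1 (D.nroots / 2) && winOK D c.1 r && sepOK D one c.1 r c.2.2.2
      | _ => false
    else
      e.2.all (certOK D z u one r) &&
        (List.range D.rank).all fun i => decide ((D.coroot.getD r #[]).getD i 0 = 0) ||
          e.2.any fun c => decide ((D.coroot.getD c.2.1 #[]).getD i 0 ≠ 0)

/-- The check of a table. -/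
def tableOK (D : ChevalleyDatum) (z u : ℤ → Bool) (one : Bool) (T : List Ent) : Bool :=
  Nat.beq (2 * (D.nroots / 2)) D.nroots &&
    (List.range (D.nroots / 2)).all fun i => entOK D z u one (D.nroots / 2 + i) (T.getD i ([], []))

end WC

namespace Chev

variable (Φ : Chev D) {F : Type*} [Field F]

/-- The roots outside `J` with index at least `c`. -/
def Gw (J : Set (Fin D.rank)) (c : ℕ) (r : Fin D.nroots) : Prop := Φ.Out J r ∧ c ≤ r.val

/-- The window without `r`. -/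
def Tw' (J : Set (Fin D.rank)) (r0 r : ℕ) (x : Fin D.nroots) : Prop := Φ.Gw J r0 x ∧ x.val ≠ r

variable {J : Set (Fin D.rank)}

theorem Gw.pos {c : ℕ} {r : Fin D.nroots} (h : Φ.Gw J c r) : Φ.toTables.Pos r := Out.pos Φ h.1

theorem Tw'.pos {r0 r : ℕ} {x : Fin D.nroots} (h : Φ.Tw' J r0 r x) : Φ.toTables.Pos x := Out.pos Φ h.1.1

theorem code_lt_iff {r s : Fin D.nroots} : Φ.toTables.code r < Φ.toTables.code s ↔ r.val < s.val :=
  ⟨fun h => by
    by_contra hn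
    rcases Nat.lt_or_eq_of_le (not_lt.mp hn) with h1 | h1
    · have := Φ.code_strictMono (Fin.lt_def.mpr h1); omega
    · rw [Fin.ext h1] at h; exact lt_irrefl _ h,
  fun h => Φ.code_strictMono (Fin.lt_def.mpr h)⟩

theorem out_add {a b : Fin D.nroots} (ha : Φ.toTables.Pos a) (hb : Φ.toTables.Pos b)
    (h : Φ.Out J a ∨ Φ.Out J b) (hN : Φ.N a b ≠ 0) : Φ.Out J (Φ.S a b) := by
  rcases h with ⟨i, hi, hv⟩ | ⟨i, hi, hv⟩
  · exact ⟨i, hi, by rw [Φ.toSys.V_add a b hN i]; have := Φ.V_nonneg b hb i; omega⟩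
  · exact ⟨i, hi, by rw [Φ.toSys.V_add a b hN i]; have := Φ.V_nonneg a ha i; omega⟩

theorem terms_out {a b : Fin D.nroots} (ha : Φ.toTables.Pos a) (hb : Φ.toTables.Pos b)
    (h : Φ.Out J a ∨ Φ.Out J b) {c : ℕ × ℤ × ℕ × ℕ} (hc : c ∈ D.commTerms a.val b.val) :
    ∃ hl : c.1 < D.nroots, Φ.Out J ⟨c.1, hl⟩ ∧ a.val < c.1 ∧ b.val < c.1 := by
  have hca := Φ.code_pos ha
  have hcb := Φ.code_pos hb
  obtain ⟨hl, h1, h2, h3⟩ := Φ.commTerms_mem
    (Q := fun x => Φ.Out J x ∧ Φ.toTables.code a < Φ.toTables.code x ∧ Φ.toTables.code b < Φ.toTables.code x)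
    (fun hN => ⟨Φ.out_add ha hb h hN, by rw [Φ.toSys.code_add hN]; omega, by rw [Φ.toSys.code_add hN]; omega⟩)
    (fun x hx hN => ⟨Φ.out_add ha (Out.pos Φ hx.1) (Or.inr hx.1) hN, by rw [Φ.toSys.code_add hN]; omega,
      by rw [Φ.toSys.code_add hN]; omega⟩)
    (fun x hx hN => ⟨Φ.out_add hb (Out.pos Φ hx.1) (Or.inr hx.1) hN, by rw [Φ.toSys.code_add hN]; omega,
      by rw [Φ.toSys.code_add hN]; omega⟩) hc
  exact ⟨hl, h1, Φ.code_lt_iff.mp h2, Φ.code_lt_iff.mp h3⟩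

theorem sum_gt {a b : Fin D.nroots} (ha : Φ.toTables.Pos a) (hb : Φ.toTables.Pos b) (hN : Φ.N a b ≠ 0) :
    a.val < (Φ.S a b).val ∧ b.val < (Φ.S a b).val := by
  have h := Φ.toSys.code_add hN
  have := Φ.code_pos ha
  have := Φ.code_pos hb
  exact ⟨Φ.code_lt_iff.mp (by omega), Φ.code_lt_iff.mp (by omega)⟩

theorem closed_Gw (c : ℕ) : Φ.Closed (Φ.Gw J c) := fun a b ha hb hN =>
  ⟨Φ.out_add (Gw.pos Φ ha) (Gw.pos Φ hb) (Or.inl ha.1) hN,
    le_trans ha.2 (Φ.sum_gt (Gw.pos Φ ha) (Gw.pos Φ hb) hN).1.le⟩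

theorem closed_Tw {r0 r : ℕ} (hw : WC.winOK D r0 r = true) : Φ.Closed (Φ.Tw' J r0 r) := by
  intro a b ha hb hN
  obtain ⟨h1, h2⟩ := Φ.sum_gt (Tw'.pos Φ ha) (Tw'.pos Φ hb) hN
  refine ⟨Φ.closed_Gw r0 a b ha.1 hb.1 hN, fun e => ?_⟩
  simp only [WC.winOK, List.all_eq_true, List.mem_range'_1] at hw
  have h := hw a.val ⟨ha.1.2, by omega⟩ b.val ⟨hb.1.2, by omega⟩
  rw [show D.chainEntry a.val b.val = _ from Φ.toSys.chainEntry_eq a b, Tables.entry,
    if_neg (by rw [Φ.toSys.ch_one_snd]; exact hN)] at h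
  simp [Φ.toSys.ch_one_fst, e] at h

theorem tval_mem_wc {S : Fin D.nroots → Prop} (t u : F) : ∀ {L : List (ℕ × ℤ × ℕ × ℕ)},
    (∀ c ∈ L, (c.2.1 : F) = 0 ∨ ∃ h : c.1 < D.nroots, S ⟨c.1, h⟩) → Φ.tval t u L ∈ Φ.US F S := by
  intro L hL
  refine Subgroup.list_prod_mem _ fun g hg => ?_
  obtain ⟨c, hc, rfl⟩ := List.mem_map.mp hg
  split
  · next h =>
    rcases hL c hc with h0 | ⟨_, hS⟩
    · rw [h0, zero_mul, zero_mul, Φ.toAlg.xg_zero]; exact one_mem _
    · exact Φ.xg_mem_US hS _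
  · exact one_mem _

theorem mem_normalizer_of_terms {S : Fin D.nroots → Prop} (hS : ∀ q, S q → Φ.toTables.Pos q) {y : Fin D.nroots}
    (hy : Φ.toTables.Pos y)
    (h : ∀ q, S q → q = y ∨ ∀ c ∈ D.commTerms y.val q.val, (c.2.1 : F) = 0 ∨ ∃ h : c.1 < D.nroots, S ⟨c.1, h⟩)
    (t : F) : Φ.toAlg.xg y t ∈ Subgroup.normalizer (Φ.US F S : Set (GL D.Idx F)) := by
  have key : ∀ t : F, ∀ x ∈ Φ.US F S, (Φ.toAlg.xg y t)⁻¹ * x * Φ.toAlg.xg y t ∈ Φ.US F S := by
    intro t x hx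
    induction hx using Subgroup.closure_induction with
    | mem w hw =>
      obtain ⟨q, v, hq, rfl⟩ := hw
      rcases h q hq with rfl | hc
      · rw [← Φ.toAlg.xg_neg, ← Φ.toAlg.xg_add, ← Φ.toAlg.xg_add]
        exact Φ.xg_mem_US hq _
      · by_cases e : q = y
        · subst e
          rw [← Φ.toAlg.xg_neg, ← Φ.toAlg.xg_add, ← Φ.toAlg.xg_add]
          exact Φ.xg_mem_US hq _
        · have hne : q ≠ y.rev := fun e' => by
            have := hS q hq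
            rw [e', Φ.pos_rev_iff] at this
            exact this hy
          rw [mul_assoc, Φ.comm_pair e hne, ← mul_assoc, ← mul_assoc, inv_mul_cancel, one_mul]
          exact mul_mem (Φ.xg_mem_US hq _) (Φ.tval_mem_wc _ _ hc)
    | one => simp
    | mul a b _ _ ha hb =>
      rw [show (Φ.toAlg.xg y t)⁻¹ * (a * b) * Φ.toAlg.xg y t =
        ((Φ.toAlg.xg y t)⁻¹ * a * Φ.toAlg.xg y t) * ((Φ.toAlg.xg y t)⁻¹ * b * Φ.toAlg.xg y t) by group]
      exact mul_mem ha hb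
    | inv a _ ha =>
      rw [show (Φ.toAlg.xg y t)⁻¹ * a⁻¹ * Φ.toAlg.xg y t =
        ((Φ.toAlg.xg y t)⁻¹ * a * Φ.toAlg.xg y t)⁻¹ by group]
      exact inv_mem ha
  refine Subgroup.mem_normalizer_iff.mpr fun x => ⟨fun hx => ?_, fun hx => ?_⟩
  · have := key (-t) x hx
    rwa [Φ.toAlg.xg_neg, inv_inv] at this
  · have := key t _ hx
    rwa [show (Φ.toAlg.xg y t)⁻¹ * (Φ.toAlg.xg y t * x * (Φ.toAlg.xg y t)⁻¹) * Φ.toAlg.xg y t = x by group] at this

theorem U_le_normalizer_Gw (c : ℕ) : D.posUnipotent F ≤ Subgroup.normalizer (Φ.US F (Φ.Gw J c) : Set (GL D.Idx F)) := by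
  rw [Φ.posUnipotent_eq_US, US, Subgroup.closure_le]
  rintro _ ⟨y, t, hy, rfl⟩
  refine Φ.mem_normalizer_of_terms (fun q hq => Gw.pos Φ hq) hy (fun q hq => Or.inr fun d hd => Or.inr ?_) t
  obtain ⟨hl, h1, -, h3⟩ := Φ.terms_out hy (Gw.pos Φ hq) (Or.inr hq.1) hd
  exact ⟨hl, h1, le_trans hq.2 h3.le⟩

theorem xg_r_normalizer {r0 : ℕ} {r : Fin D.nroots} (hr : Φ.Gw J r0 r) (t : F) :
    Φ.toAlg.xg r t ∈ Subgroup.normalizer (Φ.US F (Φ.Tw' J r0 r.val) : Set (GL D.Idx F)) := by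
  refine Φ.mem_normalizer_of_terms (fun q hq => Tw'.pos Φ hq) (Gw.pos Φ hr) (fun q hq => Or.inr fun d hd => Or.inr ?_) t
  obtain ⟨hl, h1, h2, h3⟩ := Φ.terms_out (Gw.pos Φ hr) (Tw'.pos Φ hq) (Or.inl hr.1) hd
  exact ⟨hl, ⟨h1, le_trans hr.2 h2.le⟩, Nat.ne_of_gt h2⟩

/-- The coset of the root `r` in a window. -/
def InCoset (J : Set (Fin D.rank)) (r0 : ℕ) (r : Fin D.nroots) (b : F) (g : GL D.Idx F) : Prop :=
  (Φ.toAlg.xg r b)⁻¹ * g ∈ Φ.US F (Φ.Tw' J r0 r.val)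

variable {r0 : ℕ} {r : Fin D.nroots}

theorem inCoset_mul (hr : Φ.Gw J r0 r) {a b : F} {g g' : GL D.Idx F} (h : Φ.InCoset J r0 r a g)
    (h' : Φ.InCoset J r0 r b g') : Φ.InCoset J r0 r (a + b) (g * g') := by
  have hn := (Subgroup.mem_normalizer_iff''.mp (Φ.xg_r_normalizer hr b) _).mp h
  unfold InCoset at h h' ⊢
  rw [Φ.toAlg.xg_add, show (Φ.toAlg.xg r a * Φ.toAlg.xg r b)⁻¹ * (g * g') =
    (Φ.toAlg.xg r b)⁻¹ * ((Φ.toAlg.xg r a)⁻¹ * g) * Φ.toAlg.xg r b * ((Φ.toAlg.xg r b)⁻¹ * g') by group]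
  exact mul_mem hn h'

theorem inCoset_inv (hr : Φ.Gw J r0 r) {a : F} {g : GL D.Idx F} (h : Φ.InCoset J r0 r a g) :
    Φ.InCoset J r0 r (-a) g⁻¹ := by
  have hn := (Subgroup.mem_normalizer_iff.mp (Φ.xg_r_normalizer hr a) _).mp (inv_mem h)
  unfold InCoset
  rw [Φ.toAlg.xg_neg, inv_inv]
  rwa [show Φ.toAlg.xg r a * ((Φ.toAlg.xg r a)⁻¹ * g)⁻¹ * (Φ.toAlg.xg r a)⁻¹ = Φ.toAlg.xg r a * g⁻¹ by group] at hn

theorem inCoset_zero {g : GL D.Idx F} (h : g ∈ Φ.US F (Φ.Tw' J r0 r.val)) : Φ.InCoset J r0 r (0 : F) g := by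
  unfold InCoset
  rwa [Φ.toAlg.xg_zero, _root_.inv_one, one_mul]

theorem inCoset_xg (b : F) : Φ.InCoset J r0 r b (Φ.toAlg.xg r b) := by
  unfold InCoset
  rw [inv_mul_cancel]; exact one_mem _

theorem exists_inCoset (hr : Φ.Gw J r0 r) {g : GL D.Idx F} (hg : g ∈ Φ.US F (Φ.Gw J r0)) :
    ∃ b, Φ.InCoset J r0 r b g := by
  induction hg using Subgroup.closure_induction with
  | mem w hw =>
    obtain ⟨q, v, hq, rfl⟩ := hw
    by_cases e : q = r
    · subst e; exact ⟨v, Φ.inCoset_xg v⟩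
    · exact ⟨0, Φ.inCoset_zero (Φ.xg_mem_US ⟨hq, fun e' => e (Fin.ext e')⟩ v)⟩
  | one => exact ⟨0, Φ.inCoset_zero (one_mem _)⟩
  | mul a b _ _ ha hb =>
    obtain ⟨x, hx⟩ := ha; obtain ⟨y, hy⟩ := hb
    exact ⟨x + y, Φ.inCoset_mul hr hx hy⟩
  | inv a _ ha =>
    obtain ⟨x, hx⟩ := ha
    exact ⟨-x, Φ.inCoset_inv hr hx⟩

theorem inCoset_unique (hr : Φ.Gw J r0 r) (hw : WC.winOK D r0 r.val = true) {a b : F} {g : GL D.Idx F}
    (h : Φ.InCoset J r0 r a g) (h' : Φ.InCoset J r0 r b g) : a = b := by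
  by_contra hne
  unfold InCoset at h h'
  have h1 : Φ.toAlg.xg r (a - b) ∈ Φ.US F (Φ.Tw' J r0 r.val) := by
    have := mul_mem h' (inv_mem h)
    rw [show (Φ.toAlg.xg r b)⁻¹ * g * ((Φ.toAlg.xg r a)⁻¹ * g)⁻¹ = (Φ.toAlg.xg r b)⁻¹ * Φ.toAlg.xg r a by group,
      ← Φ.toAlg.xg_neg, ← Φ.toAlg.xg_add] at this
    rwa [sub_eq_neg_add]
  exact (Φ.mem_of_xg_mem (fun q hq => Tw'.pos Φ hq) (Φ.closed_Tw hw) h1 (sub_ne_zero.mpr hne)).2 rfl

/-- The hypotheses on a subgroup: contained in the radical and normalized by `B`. -/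
structure BNormal (J : Set (Fin D.rank)) (X : Subgroup (GL D.Idx F)) : Prop where
  le : X ≤ Φ.US F (Φ.Gw J 0)
  conj : ∀ b ∈ D.borelSubgroup F, ∀ x ∈ X, b * x * b⁻¹ ∈ X

variable {X : Subgroup (GL D.Idx F)}

theorem BNormal.normalizer (h : Φ.BNormal J X) :
    D.borelSubgroup F ≤ Subgroup.normalizer (X : Set (GL D.Idx F)) := fun b hb =>
  Subgroup.mem_normalizer_iff.mpr fun x => ⟨h.conj b hb x, fun hx => by
    have := h.conj b⁻¹ (inv_mem hb) _ hx
    rwa [show b⁻¹ * (b * x * b⁻¹) * b⁻¹⁻¹ = x by group] at this⟩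

/-- Every unit is a power `t ^ e` up to squares. -/
def GoodExp (F : Type*) [Field F] (one : Bool) : Prop :=
  ∀ e : ℤ, WC.eTest one e = true → (∃ t : Fˣ, t ^ e ≠ 1) ∧ ∀ a : Fˣ, ∃ t : Fˣ, t ^ e = a ^ 2

/-- The character of a torus element given by exponents. -/
def expTor (v : List ℤ) (t : Fˣ) : Fin D.rank → Fˣ := fun k => t ^ v.getD k.val 0

theorem chi_expTor (v : List ℤ) (t : Fˣ) (s : Fin D.nroots) :
    Φ.toSys.chi (Φ.coHom F (expTor v t)) s = t ^ WC.dot D v s.val := by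
  rw [Φ.chi_coHom, WC.dot]
  have hsum : ∀ (n : ℕ) (f : ℕ → ℤ), ∏ k : Fin n, t ^ f k.val = t ^ ((List.range n).map f).sum := by
    intro n f
    induction n with
    | zero => simp
    | succ n ih =>
      rw [Fin.prod_univ_castSucc, List.range_succ, List.map_append, List.sum_append, List.map_singleton,
        List.sum_singleton, _root_.zpow_add]
      simp only [Fin.val_castSucc, Fin.val_last, ih]
  rw [← hsum]
  exact Finset.prod_congr rfl fun k _ => by rw [expTor, Φ.cartan_val, ← _root_.zpow_mul]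

theorem tor_mem_H (v : List ℤ) (t : Fˣ) :
    Φ.toAlg.torus (Φ.coHom F (expTor v t)) ∈ D.diagonalSubgroup F := by
  rw [Φ.diagonalSubgroup_eq]; exact ⟨_, rfl⟩

theorem tor_conj (c : Fin D.rank → Fˣ) (s : Fin D.nroots) (a : F) :
    Φ.toAlg.torus c * Φ.toAlg.xg s a * (Φ.toAlg.torus c)⁻¹ = Φ.toAlg.xg s ((Φ.toSys.chi c s : F) * a) := by
  rw [Φ.toAlg.torus_xg, mul_inv_cancel_right]

theorem US_mono_Gw {c c' : ℕ} (h : c ≤ c') : Φ.US F (Φ.Gw J c') ≤ Φ.US F (Φ.Gw J c) :=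
  Φ.US_mono fun _ hq => ⟨hq.1, le_trans h hq.2⟩

theorem Gw_le_U (c : ℕ) : Φ.US F (Φ.Gw J c) ≤ D.posUnipotent F := by
  rw [Φ.posUnipotent_eq_US]; exact Φ.US_mono fun _ hq => Gw.pos Φ hq

theorem winOK_self (r : ℕ) : WC.winOK D r r = true := by simp [WC.winOK]

theorem Gw_succ {c : ℕ} {r : Fin D.nroots} (hc : r.val = c) {g : GL D.Idx F} (hg : g ∈ Φ.US F (Φ.Gw J c))
    (hr : Φ.Out J r) : ∃ a, (Φ.toAlg.xg r a)⁻¹ * g ∈ Φ.US F (Φ.Gw J (c + 1)) := by
  obtain ⟨a, ha⟩ := Φ.exists_inCoset (r0 := c) (r := r) ⟨hr, hc.ge⟩ hg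
  refine ⟨a, Φ.US_mono (fun q hq => ⟨hq.1.1, ?_⟩) ha⟩
  have := hq.1.2
  have := hq.2
  omega

/-- Killing the roots of a window. -/
theorem kill {one : Bool} (he : GoodExp F one) (h : Φ.BNormal J X) {r : Fin D.nroots} {seps : List (List ℤ)}
    (hr : Φ.Gw J r0 r) (hw : WC.winOK D r0 r.val = true) (hs : WC.sepOK D one r0 r.val seps = true) :
    ∀ (d q : ℕ), q + d = r.val → r0 ≤ q → ∀ (C : GL D.Idx F) (b : F), C ∈ X → C ∈ Φ.US F (Φ.Gw J q) →
      Φ.InCoset J r0 r b C → b ≠ 0 → ∃ a : F, a ≠ 0 ∧ Φ.toAlg.xg r a ∈ X ⊔ Φ.US F (Φ.Gw J (r.val + 1)) := by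
  intro d
  induction d with
  | zero =>
    intro q hq hq0 C b hCX hC hb hb0
    obtain ⟨a, ha⟩ := Φ.Gw_succ (r := r) (by omega) hC hr.1
    have hab : Φ.InCoset J r0 r a C := Φ.US_mono (fun x hx => ⟨⟨hx.1, by have := hx.2; omega⟩,
      by have := hx.2; omega⟩) ha
    obtain rfl := Φ.inCoset_unique hr hw hab hb
    refine ⟨a, hb0, ?_⟩
    have e : Φ.toAlg.xg r a = C * ((Φ.toAlg.xg r a)⁻¹ * C)⁻¹ := by group
    rw [e]
    rw [show q + 1 = r.val + 1 by omega] at ha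
    exact mul_mem (Subgroup.mem_sup_left hCX) (Subgroup.mem_sup_right (inv_mem ha))
  | succ d ih =>
    intro q hq hq0 C b hCX hC hb hb0
    have hqn : q < D.nroots := by have := r.isLt; omega
    let qq : Fin D.nroots := ⟨q, hqn⟩
    have key : ∃ v, WC.dot D v q = 0 ∧ WC.eTest one (WC.dot D v r.val) = true := by
      simp only [WC.sepOK, List.all_eq_true, List.mem_range, Bool.and_eq_true, beq_iff_eq] at hs
      have := hs (q - r0) (by omega)
      rw [show r0 + (q - r0) = q by omega] at this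
      exact ⟨_, this⟩
    obtain ⟨v, hv0, hv1⟩ := key
    obtain ⟨t, ht⟩ := (he _ hv1).1
    set c := Φ.coHom F (expTor v t) with hc
    set h' := Φ.toAlg.torus c with hh'
    have hH : h' ∈ D.diagonalSubgroup F := Φ.tor_mem_H v t
    have hχq : Φ.toSys.chi c qq = 1 := by rw [hc, Φ.chi_expTor, hv0, zpow_zero]
    have hχr : Φ.toSys.chi c r ≠ 1 := by rw [hc, Φ.chi_expTor]; exact ht
    -- the leading component
    obtain ⟨a, D', hD', hqa, e⟩ : ∃ a : F, ∃ D' ∈ Φ.US F (Φ.Gw J (q + 1)),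
        (Φ.InCoset J r0 r (0 : F) (Φ.toAlg.xg qq a) ∧ (a ≠ 0 → Φ.Gw J r0 qq)) ∧ C = Φ.toAlg.xg qq a * D' := by
      by_cases ho : Φ.Out J qq
      · obtain ⟨a, ha⟩ := Φ.Gw_succ (r := qq) rfl hC ho
        exact ⟨a, _, ha, ⟨Φ.inCoset_zero (Φ.xg_mem_US ⟨⟨ho, hq0⟩, by show q ≠ r.val; omega⟩ a),
          fun _ => ⟨ho, hq0⟩⟩, by group⟩
      · have hC' : C ∈ Φ.US F (Φ.Gw J (q + 1)) := Φ.US_mono (fun x hx => ⟨hx.1, by
          rcases Nat.eq_or_lt_of_le hx.2 with e | e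
          · exact absurd (show x = qq from Fin.ext e.symm) fun e' => ho (e' ▸ hx.1)
          · omega⟩) hC
        refine ⟨0, C, hC', ⟨?_, fun h0 => absurd rfl h0⟩, by simp⟩
        rw [Φ.toAlg.xg_zero]; exact Φ.inCoset_zero (one_mem _)
    have hbD : Φ.InCoset J r0 r b D' := by
      obtain ⟨b', hb'⟩ := Φ.exists_inCoset hr (Φ.US_mono_Gw (by omega : r0 ≤ q + 1) hD')
      have := Φ.inCoset_mul hr hqa.1 hb'
      rw [← e, zero_add] at this
      rwa [Φ.inCoset_unique hr hw hb this]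
    set E := h' * D' * h'⁻¹ * D'⁻¹ with hE
    have hEX : E ∈ X := by
      have h1 : h' * C * h'⁻¹ * C⁻¹ ∈ X := mul_mem (h.conj _ (Subgroup.mem_sup_right hH) _ hCX) (inv_mem hCX)
      have h2 := h.conj (Φ.toAlg.xg qq a)⁻¹ (inv_mem (by
        by_cases h0 : a = 0
        · subst h0; rw [Φ.toAlg.xg_zero]; exact one_mem _
        · exact Φ.xg_mem_B (Gw.pos Φ (hqa.2 h0)) a)) _ h1
      convert h2 using 1
      rw [hE, e, show h' * (Φ.toAlg.xg qq a * D') * h'⁻¹ = (h' * Φ.toAlg.xg qq a * h'⁻¹) * (h' * D' * h'⁻¹) by group,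
        hh', Φ.tor_conj, hχq, Units.val_one, one_mul]
      group
    have hEG : E ∈ Φ.US F (Φ.Gw J (q + 1)) :=
      mul_mem ((Subgroup.mem_normalizer_iff.mp (Φ.H_le_normalizer_US _ hH) _).mp hD') (inv_mem hD')
    have hEb : Φ.InCoset J r0 r (((Φ.toSys.chi c r : F) - 1) * b) E := by
      have h1 : Φ.InCoset J r0 r ((Φ.toSys.chi c r : F) * b) (h' * D' * h'⁻¹) := by
        unfold InCoset at hbD ⊢
        have := (Subgroup.mem_normalizer_iff.mp (Φ.H_le_normalizer_US _ hH) _).mp hbD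
        rw [← Φ.tor_conj c r b, ← hh']
        convert this using 1
        group
      have := Φ.inCoset_mul hr h1 (Φ.inCoset_inv hr hbD)
      rwa [← hE, ← sub_eq_add_neg, ← sub_one_mul] at this
    refine ih (q + 1) (by omega) (by omega) E _ hEX hEG hEb (mul_ne_zero (sub_ne_zero.mpr fun e1 => hχr ?_) hb0)
    exact Units.ext e1

/-- A root subgroup with one non-trivial element is covered. -/
theorem scale {one : Bool} (he : GoodExp F one) [Finite F] (h : Φ.BNormal J X) {r : Fin D.nroots} {v : List ℤ}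
    (hv : WC.eTest one (WC.dot D v r.val) = true) {c : ℕ} {a : F} (ha : a ≠ 0)
    (hmem : Φ.toAlg.xg r a ∈ X ⊔ Φ.US F (Φ.Gw J c)) (x : F) :
    Φ.toAlg.xg r x ∈ X ⊔ Φ.US F (Φ.Gw J c) := by
  have hsq : ∀ y : F, Φ.toAlg.xg r (y ^ 2 * a) ∈ X ⊔ Φ.US F (Φ.Gw J c) := by
    intro y
    rcases eq_or_ne y 0 with rfl | hy
    · simp
    obtain ⟨t, ht⟩ := (he _ hv).2 (Units.mk0 y hy)
    set h' := Φ.toAlg.torus (Φ.coHom F (expTor v t)) with hh'
    have hH := Φ.tor_mem_H (F := F) v t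
    have h1 : h' * Φ.toAlg.xg r a * h'⁻¹ ∈
        (X ⊔ Φ.US F (Φ.Gw J c)).map (MulAut.conj h').toMonoidHom :=
      ⟨_, hmem, rfl⟩
    rw [Subgroup.map_sup] at h1
    have h2 : X.map (MulAut.conj h').toMonoidHom ⊔ (Φ.US F (Φ.Gw J c)).map (MulAut.conj h').toMonoidHom ≤
        X ⊔ Φ.US F (Φ.Gw J c) :=
      sup_le_sup (by
        rintro _ ⟨z, hz, rfl⟩
        exact h.conj _ (Subgroup.mem_sup_right hH) _ hz) (by
        rintro _ ⟨z, hz, rfl⟩
        exact (Subgroup.mem_normalizer_iff.mp (Φ.H_le_normalizer_US _ hH) _).mp hz)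
    have h3 := h2 h1
    rwa [hh', Φ.tor_conj, Φ.chi_expTor, ht, Units.val_pow_eq_pow_val, Units.val_mk0] at h3
  obtain ⟨y, z, hyz⟩ : ∃ y z : F, y ^ 2 + z ^ 2 = x / a := by
    haveI := Fintype.ofFinite F
    by_cases h2 : ringChar F = 2
    · obtain ⟨y, hy⟩ := FiniteField.isSquare_of_char_two h2 (x / a)
      exact ⟨y, 0, by rw [hy]; ring⟩
    · obtain ⟨y, z, hyz⟩ := FiniteField.exists_root_sum_quadratic (f := Polynomial.X ^ 2)
        (g := Polynomial.X ^ 2 - Polynomial.C (x / a)) (Polynomial.degree_X_pow 2)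
        (Polynomial.degree_X_pow_sub_C (by decide) _) (FiniteField.odd_card_of_char_ne_two h2)
      simp only [Polynomial.eval_pow, Polynomial.eval_X, Polynomial.eval_sub, Polynomial.eval_C] at hyz
      exact ⟨y, z, by linear_combination hyz⟩
  rw [show x = y ^ 2 * a + z ^ 2 * a by rw [← add_mul, hyz, div_mul_cancel₀ _ ha], Φ.toAlg.xg_add]
  exact mul_mem (hsq y) (hsq z)

theorem tval_inCoset (hr : Φ.Gw J r0 r) (t u : F) : ∀ {L : List (ℕ × ℤ × ℕ × ℕ)},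
    (∀ c ∈ L, r0 ≤ c.1 ∧ ∃ h : c.1 < D.nroots, Φ.Out J ⟨c.1, h⟩) →
    Φ.InCoset J r0 r ((L.filter fun c => Nat.beq c.1 r.val).map
      fun c => (c.2.1 : F) * (-t) ^ c.2.2.1 * u ^ c.2.2.2).sum (Φ.tval t u L) := by
  intro L
  induction L with
  | nil => intro _; exact Φ.inCoset_zero (one_mem _)
  | cons c L ih =>
    intro hL
    have h2 := ih fun d hd => hL d (List.mem_cons_of_mem _ hd)
    obtain ⟨hc0, hl, hc⟩ := hL c List.mem_cons_self
    have e : Φ.tval t u (c :: L) =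
        Φ.toAlg.xg ⟨c.1, hl⟩ ((c.2.1 : F) * (-t) ^ c.2.2.1 * u ^ c.2.2.2) * Φ.tval t u L := by
      simp [Chev.tval, hl]
    rw [e]
    by_cases hcr : c.1 = r.val
    · rw [List.filter_cons_of_pos (by simp [hcr]), List.map_cons, List.sum_cons]
      refine Φ.inCoset_mul hr ?_ h2
      rw [show (⟨c.1, hl⟩ : Fin D.nroots) = r from Fin.ext hcr]
      exact Φ.inCoset_xg _
    · rw [List.filter_cons_of_neg (by simp [hcr])]
      have := Φ.inCoset_mul hr (Φ.inCoset_zero (r := r) (Φ.xg_mem_US (S := Φ.Tw' J r0 r.val)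
        (r := ⟨c.1, hl⟩) ⟨⟨hc, hc0⟩, hcr⟩ ((c.2.1 : F) * (-t) ^ c.2.2.1 * u ^ c.2.2.2))) h2
      rwa [zero_add] at this

/-- The production of a root by a certificate. -/
theorem produce {z u : ℤ → Bool} {one : Bool} (hz : ∀ c, z c = true → (c : F) = 0)
    (hu : ∀ c, u c = true → (c : F) ≠ 0) (he : GoodExp F one) (h : Φ.BNormal J X) {r : Fin D.nroots}
    {c : WC.Cert} (hc : WC.certOK D z u one r.val c = true) (ho : ∀ hs : c.2.1 < D.nroots, Φ.Out J ⟨c.2.1, hs⟩)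
    (hro : Φ.Out J r)
    (hyp : ∀ s : Fin D.nroots, s.val < r.val → Φ.Out J s → ∀ a : F,
      Φ.toAlg.xg s a ∈ X ⊔ Φ.US F (Φ.Gw J (s.val + 1))) :
    ∃ a : F, a ≠ 0 ∧ Φ.toAlg.xg r a ∈ X ⊔ Φ.US F (Φ.Gw J (r.val + 1)) := by
  obtain ⟨r0, s0, s1, seps⟩ := c
  simp only [WC.certOK, Bool.and_eq_true, Nat.ble_eq, Nat.blt_eq, Bool.not_eq_true', List.all_eq_true,
    Bool.or_eq_true, List.mem_range'_1] at hc
  obtain ⟨⟨⟨⟨⟨⟨⟨⟨⟨⟨⟨⟨hr0, hr0r⟩, hs⟩, hs'⟩, hsr⟩, hs'n⟩, hne⟩, hw⟩, hsep⟩, hH3⟩, hH3'⟩, hH2⟩, hH1⟩ := hc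
  have hsn : s0 < D.nroots := by have := r.isLt; omega
  let s : Fin D.nroots := ⟨s0, hsn⟩
  let s' : Fin D.nroots := ⟨s1, hs'n⟩
  have hso : Φ.Out J s := ho hsn
  have hsp' : Φ.toTables.Pos s' := hs'
  have hr : Φ.Gw J r0 r := ⟨hro, hr0r⟩
  have hss : s ≠ s' := fun e => by
    have h1 : s0 = s1 := congrArg Fin.val e
    subst h1
    simp at hne
  have hrev : ∀ q : Fin D.nroots, Φ.toTables.Pos q → q ≠ s'.rev := fun q hq e => by
    rw [e, Φ.pos_rev_iff] at hq; exact hq hsp'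
  -- the element of `X`
  have hmem := hyp s hsr hso (1 : F)
  have hN : Φ.US F (Φ.Gw J (s.val + 1)) ≤ Subgroup.normalizer (X : Set (GL D.Idx F)) := fun g hg =>
    BNormal.normalizer Φ h (Subgroup.mem_sup_left (Φ.Gw_le_U _ hg))
  rw [← SetLike.mem_coe, Subgroup.coe_mul_of_right_le_normalizer_left _ _ hN] at hmem
  obtain ⟨x, hx, m, hm, exm⟩ := Set.mem_mul.mp hmem
  set y := Φ.toAlg.xg s' (1 : F)
  set C := x⁻¹ * y⁻¹ * x * y with hC
  have hCX : C ∈ X := by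
    have h1 := h.conj y⁻¹ (inv_mem (Φ.xg_mem_B hsp' _)) x hx
    rw [inv_inv] at h1
    have := mul_mem (inv_mem hx) h1
    rwa [show x⁻¹ * (y⁻¹ * x * y) = C by rw [hC]; group] at this
  -- the normalizing property of the tail
  have hT : Φ.US F (Φ.Gw J (s0 + 1)) ≤
      Subgroup.normalizer (Φ.US F (Φ.Tw' J r0 r.val) : Set (GL D.Idx F)) := by
    rw [US, Subgroup.closure_le]
    rintro _ ⟨p, t, hp, rfl⟩
    refine Φ.mem_normalizer_of_terms (fun q hq => Tw'.pos Φ hq) (Gw.pos Φ hp)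
      (fun q hq => (em (q = p)).imp_right fun hqp d hd => ?_) t
    obtain ⟨hl, h1, h2, h3⟩ := Φ.terms_out (Gw.pos Φ hp) (Tw'.pos Φ hq) (Or.inl hp.1) hd
    by_cases hdr : d.1 = r.val
    · left
      have hp2 := hp.2
      have hq2 := hq.1.2
      rcases hH1 p.val ⟨hp2, by omega⟩ q.val ⟨hq2, by omega⟩ with he' | he'
      · exact absurd (Fin.ext (Nat.eq_of_beq_eq_true he').symm) hqp
      · rcases he' d hd with h4 | h4
        · simp [hdr] at h4
        · exact hz _ h4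
    · exact Or.inr ⟨hl, ⟨h1, le_trans hq.1.2 h3.le⟩, hdr⟩
  -- the tail commutator
  have hmy : ∀ g ∈ Φ.US F (Φ.Gw J (s0 + 1)), g⁻¹ * y⁻¹ * g * y ∈ Φ.US F (Φ.Tw' J r0 r.val) := by
    intro g hg
    induction hg using Subgroup.closure_induction with
    | mem w hw' =>
      obtain ⟨q, t, hq, rfl⟩ := hw'
      by_cases e : q = s'
      · subst e
        rw [show (Φ.toAlg.xg s' t)⁻¹ * y⁻¹ * Φ.toAlg.xg s' t * y = (y * Φ.toAlg.xg s' t)⁻¹ * (Φ.toAlg.xg s' t * y) by group]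
        rw [show y * Φ.toAlg.xg s' t = Φ.toAlg.xg s' t * y by
          rw [← Φ.toAlg.xg_add, ← Φ.toAlg.xg_add, add_comm], inv_mul_cancel]
        exact one_mem _
      · rw [show (Φ.toAlg.xg q t)⁻¹ * y⁻¹ * Φ.toAlg.xg q t * y = (y * Φ.toAlg.xg q t)⁻¹ * (Φ.toAlg.xg q t * y) by group,
          Φ.comm_pair e (hrev q (Gw.pos Φ hq)), inv_mul_cancel_left]
        refine Φ.tval_mem_wc _ _ fun d hd => ?_
        obtain ⟨hl, h1, h2, h3⟩ := Φ.terms_out hsp' (Gw.pos Φ hq) (Or.inr hq.1) hd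
        have hq2 := hq.2
        by_cases hlt : q.val < r.val
        · rcases hH2 q.val ⟨hq2, by omega⟩ with he' | he'
          · exact absurd (Fin.ext (Nat.eq_of_beq_eq_true he') : q = s') e
          · rcases he' d hd with ⟨h4, h5⟩ | h4
            · exact Or.inr ⟨hl, ⟨h1, h4⟩, fun e' => by
                have e2 : d.1 = r.val := e'
                simp [e2] at h5⟩
            · exact Or.inl (hz _ h4)
        · exact Or.inr ⟨hl, ⟨h1, show r0 ≤ d.1 by omega⟩, show d.1 ≠ r.val by omega⟩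
    | one => simp
    | mul a b ha _ iha ihb =>
      rw [show (a * b)⁻¹ * y⁻¹ * (a * b) * y = b⁻¹ * (a⁻¹ * y⁻¹ * a * y) * b * (b⁻¹ * y⁻¹ * b * y) by group]
      refine mul_mem ?_ ihb
      exact (Subgroup.mem_normalizer_iff''.mp (hT (by assumption)) _).mp iha
    | inv a ha iha =>
      rw [show a⁻¹⁻¹ * y⁻¹ * a⁻¹ * y = a * (a⁻¹ * y⁻¹ * a * y)⁻¹ * a⁻¹ by group]
      exact (Subgroup.mem_normalizer_iff.mp (hT ha) _).mp (inv_mem iha)
  -- the leading commutator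
  set W := Φ.tval (1 : F) (1 : F) (D.commTerms s1 s0) with hW
  have hterms : ∀ d ∈ D.commTerms s1 s0, r0 ≤ d.1 ∧ ∃ hl : d.1 < D.nroots, Φ.Out J ⟨d.1, hl⟩ := fun d hd => by
    obtain ⟨hl, h1, -, -⟩ := Φ.terms_out hsp' (Out.pos Φ hso) (Or.inr hso) hd
    exact ⟨hH3 d hd, hl, h1⟩
  obtain ⟨b, hb0, hWb⟩ : ∃ b : F, b ≠ 0 ∧ Φ.InCoset J r0 r b W := by
    have hco := Φ.tval_inCoset hr (1 : F) (1 : F) hterms
    split at hH3'
    · next d hd =>
      rw [hd] at hco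
      refine ⟨_, ?_, hco⟩
      simpa using mul_ne_zero (hu _ hH3') (pow_ne_zero d.2.2.1 (neg_ne_zero.mpr (one_ne_zero (α := F))))
    · exact absurd hH3' (by simp)
  have hxs : x = Φ.toAlg.xg s (1 : F) * m⁻¹ := by rw [← exm, mul_inv_cancel_right]
  have hm' : m⁻¹ ∈ Φ.US F (Φ.Gw J (s0 + 1)) := inv_mem hm
  have hWval : Φ.toAlg.xg s (1 : F) * y = y * Φ.toAlg.xg s (1 : F) * W :=
    Φ.comm_pair hss (hrev s (Out.pos Φ hso)) (1 : F) (1 : F)
  have hCeq : C = m * W * m⁻¹ * (m⁻¹⁻¹ * y⁻¹ * m⁻¹ * y) := by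
    have : W = (Φ.toAlg.xg s (1 : F))⁻¹ * y⁻¹ * (Φ.toAlg.xg s (1 : F) * y) := by rw [hWval]; group
    rw [hC, hxs, this]
    group
  have hWG : W ∈ Φ.US F (Φ.Gw J r0) := Φ.tval_mem_wc _ _ fun d hd => by
    obtain ⟨h1, hl, h2⟩ := hterms d hd
    exact Or.inr ⟨hl, h2, h1⟩
  have hTG : Φ.US F (Φ.Tw' J r0 r.val) ≤ Φ.US F (Φ.Gw J r0) := Φ.US_mono fun q hq => hq.1
  have hconjG : m * W * m⁻¹ ∈ Φ.US F (Φ.Gw J r0) :=
    (Subgroup.mem_normalizer_iff.mp (Φ.U_le_normalizer_Gw r0 (Φ.Gw_le_U _ hm)) _).mp hWG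
  have hconj : Φ.InCoset J r0 r b (m * W * m⁻¹) := by
    -- conjugation by the tail fixes the coset
    have e1 : m * W * m⁻¹ = (m * Φ.toAlg.xg r b * m⁻¹) * (m * ((Φ.toAlg.xg r b)⁻¹ * W) * m⁻¹) := by group
    have h2 : Φ.InCoset J r0 r 0 (m * ((Φ.toAlg.xg r b)⁻¹ * W) * m⁻¹) :=
      Φ.inCoset_zero ((Subgroup.mem_normalizer_iff.mp (hT hm) _).mp hWb)
    have h3 : Φ.InCoset J r0 r b (m * Φ.toAlg.xg r b * m⁻¹) := by
      have key : ∀ g ∈ Φ.US F (Φ.Gw J (s0 + 1)),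
          (Φ.toAlg.xg r b)⁻¹ * (g * Φ.toAlg.xg r b * g⁻¹) ∈ Φ.US F (Φ.Tw' J r0 r.val) := by
        intro g hg
        induction hg using Subgroup.closure_induction with
        | mem w hw' =>
          obtain ⟨q, t, hq, rfl⟩ := hw'
          by_cases e : q = r
          · subst e
            rw [show Φ.toAlg.xg q t * Φ.toAlg.xg q b = Φ.toAlg.xg q b * Φ.toAlg.xg q t by
              rw [← Φ.toAlg.xg_add, ← Φ.toAlg.xg_add, add_comm], mul_inv_cancel_right, inv_mul_cancel]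
            exact one_mem _
          · have hne : q ≠ r.rev := fun e' => by
              have := Gw.pos Φ hq
              rw [e', Φ.pos_rev_iff] at this
              exact this (Gw.pos Φ hr)
            rw [Φ.comm_pair e hne, show (Φ.toAlg.xg r b)⁻¹ *
              (Φ.toAlg.xg r b * Φ.toAlg.xg q t * Φ.tval b t (D.commTerms r.val q.val) * (Φ.toAlg.xg q t)⁻¹) =
              Φ.toAlg.xg q t * Φ.tval b t (D.commTerms r.val q.val) * (Φ.toAlg.xg q t)⁻¹ by group]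
            refine (Subgroup.mem_normalizer_iff.mp (hT (Φ.xg_mem_US hq t)) _).mp (Φ.tval_mem_wc _ _ fun d hd => ?_)
            obtain ⟨hl, h1, h2', -⟩ := Φ.terms_out (Gw.pos Φ hr) (Gw.pos Φ hq) (Or.inl hr.1) hd
            exact Or.inr ⟨hl, ⟨h1, show r0 ≤ d.1 by omega⟩, show d.1 ≠ r.val by omega⟩
        | one => simp
        | mul a c ha _ iha ihc =>
          rw [show (Φ.toAlg.xg r b)⁻¹ * (a * c * Φ.toAlg.xg r b * (a * c)⁻¹) =
            ((Φ.toAlg.xg r b)⁻¹ * (a * Φ.toAlg.xg r b * a⁻¹)) *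
              (a * ((Φ.toAlg.xg r b)⁻¹ * (c * Φ.toAlg.xg r b * c⁻¹)) * a⁻¹) by group]
          exact mul_mem iha ((Subgroup.mem_normalizer_iff.mp (hT ha) _).mp ihc)
        | inv a ha iha =>
          rw [show (Φ.toAlg.xg r b)⁻¹ * (a⁻¹ * Φ.toAlg.xg r b * a⁻¹⁻¹) =
            a⁻¹ * ((Φ.toAlg.xg r b)⁻¹ * (a * Φ.toAlg.xg r b * a⁻¹))⁻¹ * a⁻¹⁻¹ by group]
          exact (Subgroup.mem_normalizer_iff.mp (hT (inv_mem ha)) _).mp (inv_mem iha)
      exact key m hm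
    have := Φ.inCoset_mul hr h3 h2
    rwa [← e1, add_zero] at this
  have hCb : Φ.InCoset J r0 r b C := by
    have := Φ.inCoset_mul hr hconj (Φ.inCoset_zero (hmy _ hm'))
    rwa [← hCeq, add_zero] at this
  have hCG : C ∈ Φ.US F (Φ.Gw J r0) := by
    rw [hCeq]; exact mul_mem hconjG (hTG (hmy _ hm'))
  exact Φ.kill he h hr hw hsep (r.val - r0) r0 (by omega) le_rfl C b hCX hCG hCb hb0

include Φ in
/-- A table covers every root of the radical. -/
theorem radical_le [Finite F] {z u : ℤ → Bool} {one : Bool} (hz : ∀ c, z c = true → (c : F) = 0)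
    (hu : ∀ c, u c = true → (c : F) ≠ 0) (he : GoodExp F one) {T : List WC.Ent}
    (hT : WC.tableOK D z u one T = true) (h : Φ.BNormal J X)
    (hsimple : ∀ i, i ∉ J → ∃ x ∈ X, ∃ b : F, b ≠ 0 ∧ Φ.InCoset J (D.nroots / 2) (Φ.p i) b x) :
    Φ.US F (Φ.Gw J 0) ≤ X := by
  simp only [WC.tableOK, Bool.and_eq_true, List.all_eq_true, List.mem_range] at hT
  obtain ⟨hev, hT⟩ := hT
  have hev' : 2 * (D.nroots / 2) = D.nroots := Nat.eq_of_beq_eq_true hev
  have hge : ∀ {r : Fin D.nroots}, Φ.Out J r → D.nroots / 2 ≤ r.val := fun {r} hr => by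
    have : D.nroots ≤ 2 * r.val := Out.pos Φ hr
    omega
  have key : ∀ (n : ℕ) (r : Fin D.nroots), r.val = n → Φ.Out J r → ∀ a : F,
      Φ.toAlg.xg r a ∈ X ⊔ Φ.US F (Φ.Gw J (r.val + 1)) := by
    intro n
    induction n using Nat.strong_induction_on with
    | _ n ih =>
      intro r hrn hro x
      have hlow := hge hro
      have hE := hT (r.val - D.nroots / 2) (by have := r.isLt; omega)
      rw [show D.nroots / 2 + (r.val - D.nroots / 2) = r.val by omega] at hE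
      generalize T.getD (r.val - D.nroots / 2) ([], []) = e at hE
      simp only [WC.entOK, Bool.and_eq_true] at hE
      obtain ⟨hv, hbody⟩ := hE
      suffices hmain : ∃ a : F, a ≠ 0 ∧ Φ.toAlg.xg r a ∈ X ⊔ Φ.US F (Φ.Gw J (r.val + 1)) by
        obtain ⟨a, ha, hmem⟩ := hmain
        exact Φ.scale he h hv ha hmem x
      split at hbody
      · next hs =>
        simp only [List.any_eq_true, List.mem_range] at hs
        obtain ⟨i, hi, hir⟩ := hs
        have hp : Φ.p ⟨i, hi⟩ = r := Fin.ext ((Φ.simple_val ⟨i, hi⟩).symm.trans (Nat.eq_of_beq_eq_true hir))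
        have hiJ : (⟨i, hi⟩ : Fin D.rank) ∉ J := fun hJ => by
          rw [← hp] at hro
          exact ((Φ.out_iff_pos_and_not_sub).mp hro).2 (Φ.sub_p.mpr hJ)
        obtain ⟨y, hy, b, hb0, hb⟩ := hsimple _ hiJ
        rw [hp] at hb
        split at hbody
        · next c hc =>
          simp only [Bool.and_eq_true] at hbody
          obtain ⟨⟨hc0, hw⟩, hsep⟩ := hbody
          have e0 : c.1 = D.nroots / 2 := Nat.eq_of_beq_eq_true hc0
          rw [e0] at hw hsep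
          have hyG : y ∈ Φ.US F (Φ.Gw J (D.nroots / 2)) :=
            Φ.US_mono (fun q hq => ⟨hq.1, hge hq.1⟩) (h.le hy)
          exact Φ.kill he h (r0 := D.nroots / 2) ⟨hro, hlow⟩ hw hsep (r.val - D.nroots / 2) (D.nroots / 2)
            (by omega) le_rfl y b hy hyG hb hb0
        · exact absurd hbody (by simp)
      · simp only [Bool.and_eq_true, List.all_eq_true, List.mem_range, Bool.or_eq_true, List.any_eq_true,
          decide_eq_true_eq] at hbody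
        obtain ⟨hcert, hcov⟩ := hbody
        obtain ⟨i, hi, hV⟩ := id hro
        have hne : (D.coroot.getD r.val #[]).getD i.val 0 ≠ 0 := fun e0 => by
          have := (Φ.C_eq_zero_iff r i).1 ((Φ.coroot_eq r i).symm.trans e0)
          omega
        obtain ⟨c, hc, hci⟩ := (hcov i.val i.isLt).resolve_left hne
        have hcok := hcert c hc
        refine Φ.produce hz hu he h hcok (fun hs => ?_) hro (fun s hs hso a => ih s.val (hrn ▸ hs) s rfl hso a)
        have hsp : Φ.toTables.Pos (⟨c.2.1, hs⟩ : Fin D.nroots) := by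
          simp only [WC.certOK, Bool.and_eq_true, Nat.ble_eq] at hcok
          exact hcok.1.1.1.1.1.1.1.1.1.1.2
        refine ⟨i, hi, lt_of_le_of_ne (Φ.V_nonneg _ hsp i) fun e0 => hci ?_⟩
        exact (Φ.coroot_eq ⟨c.2.1, hs⟩ i).trans ((Φ.C_eq_zero_iff _ i).2 e0.symm)
  have down : ∀ (d c : ℕ), c + d = D.nroots → Φ.US F (Φ.Gw J c) ≤ X := by
    intro d
    induction d with
    | zero =>
      intro c hc
      rw [US, Subgroup.closure_le]
      rintro _ ⟨r, t, hr, rfl⟩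
      have := r.isLt
      have := hr.2
      omega
    | succ d ih =>
      intro c hc
      have hsub := ih (c + 1) (by omega)
      rw [US, Subgroup.closure_le]
      rintro _ ⟨r, t, hr, rfl⟩
      rcases Nat.eq_or_lt_of_le hr.2 with e | e
      · have hk := key r.val r rfl hr.1 t
        rw [← e] at hk
        exact (sup_le le_rfl hsub) hk
      · exact hsub (Φ.xg_mem_US ⟨hr.1, e⟩ t)
  exact down D.nroots 0 (by omega)

include Φ in
/-- A subgroup of U that is weakly closed in U is a unipotent radical. -/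
theorem exists_radical [Finite F] {z u : ℤ → Bool} {one : Bool} (hz : ∀ c, z c = true → (c : F) = 0)
    (hu : ∀ c, u c = true → (c : F) ≠ 0) (he : GoodExp F one) {T : List WC.Ent}
    (hT : WC.tableOK D z u one T = true) (X : Subgroup (GL D.Idx F)) (hXU : X ≤ D.posUnipotent F)
    (hwc : ∀ g ∈ D.group F, X.map (MulAut.conj g).toMonoidHom ≤ D.posUnipotent F →
      X.map (MulAut.conj g).toMonoidHom = X) :
    ∃ J : Set ℕ, (∀ j ∈ J, j < D.rank) ∧ X = D.unipotentRadical F J := by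
  classical
  have hUB : ∀ b ∈ D.borelSubgroup F, ∀ x ∈ D.posUnipotent F, b * x * b⁻¹ ∈ D.posUnipotent F := by
    intro b hb x hx
    obtain ⟨v, hv, c, hc, rfl⟩ := Φ.mem_B_iff.mp hb
    rw [show v * c * x * (v * c)⁻¹ = v * (c * x * c⁻¹) * v⁻¹ by group]
    refine mul_mem (mul_mem hv ?_) (inv_mem hv)
    rw [Φ.posUnipotent_eq_US] at hx ⊢
    exact (Subgroup.mem_normalizer_iff.mp (Φ.H_le_normalizer_US _ hc) _).mp hx
  have hB : ∀ b ∈ D.borelSubgroup F, X.map (MulAut.conj b).toMonoidHom = X := fun b hb =>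
    hwc b (Φ.B_le_group hb) (by rintro _ ⟨x, hx, rfl⟩; exact hUB b hb x (hXU hx))
  have hconjB : ∀ b ∈ D.borelSubgroup F, ∀ x ∈ X, b * x * b⁻¹ ∈ X := fun b hb x hx => by
    rw [← hB b hb]; exact ⟨x, hx, rfl⟩
  set nn : Fin D.rank → GL D.Idx F := fun i => Φ.nw (Φ.p i) (1 : Fˣ) with hnn
  set Js : Set ℕ := {j | ∃ i : Fin D.rank, i.val = j ∧ X.map (MulAut.conj (nn i)).toMonoidHom = X} with hJs
  have hJmem : ∀ i, i ∈ natSet (D := D) Js ↔ X.map (MulAut.conj (nn i)).toMonoidHom = X := fun i =>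
    ⟨fun ⟨i', e, h'⟩ => by rwa [Fin.ext e] at h', fun h' => ⟨i, rfl, h'⟩⟩
  refine ⟨Js, fun j ⟨i, e, _⟩ => e ▸ i.isLt, ?_⟩
  -- a longest element normalizing `X`
  let Ps : Equiv.Perm (Fin D.nroots) → Prop := fun π => ∃ n : GL D.Idx F,
    n ∈ D.monomialSubgroup F ∧ Φ.Mono n π ∧ X.map (MulAut.conj n).toMonoidHom = X ∧
      n ∈ D.parabolicSubgroup F Js
  have hP1 : Ps 1 := ⟨1, one_mem _, Mono.one Φ, by rw [map_one]; exact Subgroup.map_id X, one_mem _⟩
  let f : Equiv.Perm (Fin D.nroots) → Finset (Fin D.nroots) := fun π =>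
    Finset.univ.filter fun r => Φ.toTables.Pos r ∧ ¬ Φ.toTables.Pos (π r)
  obtain ⟨π, hπ, hmax⟩ := (Finset.univ.filter fun π => Ps π).exists_max_image (fun π => (f π).card)
    ⟨1, by simp [hP1]⟩
  simp only [Finset.mem_filter, Finset.mem_univ, true_and] at hπ hmax
  obtain ⟨n, hnN, hnm, hnX, hnP⟩ := hπ
  have hπW : π ∈ Φ.W := by
    obtain ⟨σ, hσ, h1, -⟩ := Φ.exists_monoW hnN
    rwa [Mono.unique Φ hnm h1]
  have hf : ∀ σ r, r ∈ f σ ↔ Φ.toTables.Pos r ∧ ¬ Φ.toTables.Pos (σ r) := fun σ r => by simp [f]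
  have hneg : ∀ i, i ∈ natSet (D := D) Js → ¬ Φ.toTables.Pos (π (Φ.p i)) := by
    intro i hi hp
    have hin : nn i ∈ D.parabolicSubgroup F Js := by
      rw [Φ.parabolicSubgroup_eq]
      exact Subgroup.mem_sup_right (Subgroup.subset_closure ⟨i, hi, rfl⟩)
    have h1 := hmax (π * Φ.reflPerm i) ⟨n * nn i, mul_mem hnN (Φ.nw_mem_N _ _),
      Mono.mul Φ hnm (Φ.mono_nw_p i 1), by
        rw [map_mul, show (MulAut.conj n * MulAut.conj (nn i)).toMonoidHom =
          (MulAut.conj n).toMonoidHom.comp (MulAut.conj (nn i)).toMonoidHom from rfl, ← Subgroup.map_map,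
          (hJmem i).mp hi, hnX], mul_mem hnP hin⟩
    have hsub : insert (Φ.p i) ((f π).image (Φ.refl i)) ⊆ f (π * Φ.reflPerm i) := by
      intro r hr
      simp only [Finset.mem_insert, Finset.mem_image, hf, Equiv.Perm.mul_apply, Φ.reflPerm_apply] at hr ⊢
      rcases hr with rfl | ⟨s, ⟨hs, hs'⟩, rfl⟩
      · refine ⟨Φ.p_pos i, ?_⟩
        rw [Φ.refl_p, Φ.W_rev hπW, Φ.pos_rev_iff]
        exact not_not_intro hp
      · have hne : s ≠ Φ.p i := fun e => hs' (e ▸ hp)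
        exact ⟨(Φ.refl_pos hs hne).1, by rwa [Φ.refl_refl]⟩
    have hni : Φ.p i ∉ (f π).image (Φ.refl i) := by
      simp only [Finset.mem_image, hf, not_exists, not_and]
      intro s hs e
      have := congrArg (Φ.refl i) e
      rw [Φ.refl_refl, Φ.refl_p] at this
      have h3 := hs.1
      rw [this, Φ.pos_rev_iff] at h3
      exact h3 (Φ.p_pos i)
    have h2 := Finset.card_le_card hsub
    rw [Finset.card_insert_of_notMem hni,
      Finset.card_image_of_injective _ (Function.LeftInverse.injective (Φ.refl_refl i))] at h2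
    omega
  -- `X` lies in the radical
  have hXJ : X ≤ Φ.US F (Φ.Gw (natSet Js) 0) := by
    intro x hx
    have hxp : x ∈ D.parabolicSubgroup F Js :=
      Subgroup.mem_sup_left (Subgroup.mem_sup_left (hXU hx))
    obtain ⟨P, hP, M, hM, rfl⟩ : ∃ P ∈ Φ.US F (Φ.Out (natSet Js)),
        ∃ M ∈ Φ.US F (fun r => Φ.toTables.Pos r ∧ Φ.Sub (natSet Js) r), x = P * M := by
      have hg := hXU hx
      rw [Φ.posUnipotent_eq_US, ← Φ.US_rootList] at hg
      obtain ⟨P, hP, M, hM, e⟩ := Φ.exists_splitList (A := Φ.Out (natSet Js))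
        (pairwise_rootList _) (fun r hr => mem_rootList.mp hr)
        (fun r s hr hs hN => mem_rootList.mpr (Φ.closed_pos r s (mem_rootList.mp hr) (mem_rootList.mp hs) hN)) hg
      refine ⟨P, Φ.US_mono (fun r hr => hr.2) hP, M, Φ.US_mono (fun r hr => ⟨mem_rootList.mp hr.1, ?_⟩) hM, e⟩
      by_contra hns
      exact hr.2 (Φ.out_iff_pos_and_not_sub.mpr ⟨mem_rootList.mp hr.1, hns⟩)
    have hxc : n * (P * M) * n⁻¹ ∈ X := by rw [← hnX]; exact ⟨P * M, hx, rfl⟩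
    have hPr : P ∈ D.unipotentRadical F Js := by rw [Φ.unipotentRadical_eq]; exact hP
    have hPc : n * P * n⁻¹ ∈ D.posUnipotent F := by
      have := (Subgroup.mem_normalizer_iff.mp (Φ.parabolic_le_normalizer Js hnP) _).mp hPr
      rw [Φ.unipotentRadical_eq] at this
      rw [Φ.posUnipotent_eq_US]
      exact Φ.US_mono (fun r hr => Out.pos Φ hr) this
    have hMneg : n * M * n⁻¹ ∈ D.negUnipotent F := by
      rw [Φ.negUnipotent_eq_US]
      refine Φ.map_US_le hnm (T := fun r => ¬ Φ.toTables.Pos r) (fun r hr => ?_) M hM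
      exact Φ.not_pos_of_comb hπW hr.1 fun k hk => hneg k (by_contra fun hk' => hk (hr.2 k hk'))
    have hMpos : n * M * n⁻¹ ∈ D.posUnipotent F := by
      have := mul_mem (inv_mem hPc) (hXU hxc)
      rwa [show (n * P * n⁻¹)⁻¹ * (n * (P * M) * n⁻¹) = n * M * n⁻¹ by group] at this
    have h1 : n * M * n⁻¹ ∈ D.borelSubgroup F ⊓ D.negUnipotent F := ⟨U_le_B hMpos, hMneg⟩
    rw [Φ.B_inf_V, Subgroup.mem_bot, mul_inv_eq_one, mul_eq_left] at h1
    rw [h1, mul_one]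
    exact Φ.US_mono (fun r hr => ⟨hr, Nat.zero_le _⟩) hP
  have hBN : Φ.BNormal (natSet Js) X := ⟨hXJ, hconjB⟩
  refine le_antisymm ?_ ?_
  · rw [Φ.unipotentRadical_eq]
    exact le_trans hXJ (Φ.US_mono fun r hr => hr.1)
  · rw [Φ.unipotentRadical_eq]
    refine le_trans (Φ.US_mono fun r hr => ⟨hr, Nat.zero_le _⟩) (Φ.radical_le hz hu he hT hBN fun i hi => ?_)
    by_contra hc
    push Not at hc
    apply hi
    rw [hJmem]
    have hev : 2 * (D.nroots / 2) = D.nroots := by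
      have h0 := hT
      simp only [WC.tableOK, Bool.and_eq_true] at h0
      exact Nat.eq_of_beq_eq_true h0.1
    have hlow : ∀ {r : Fin D.nroots}, Φ.toTables.Pos r → D.nroots / 2 ≤ r.val := fun {r} hr => by
      have : D.nroots ≤ 2 * r.val := hr
      omega
    have hio : Φ.Gw (natSet Js) (D.nroots / 2) (Φ.p i) :=
      ⟨⟨i, hi, by rw [Φ.V_p, if_pos rfl]; norm_num⟩, hlow (Φ.p_pos i)⟩
    refine hwc _ (Φ.nw_mem_group _ _) ?_
    rintro _ ⟨x, hx, rfl⟩
    obtain ⟨b, hb⟩ := Φ.exists_inCoset hio (Φ.US_mono (fun q hq => ⟨hq.1, hlow (Out.pos Φ hq.1)⟩) (hXJ hx))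
    obtain rfl : b = 0 := by_contra fun hb0 => (hc x hx b hb0) hb
    rw [InCoset, Φ.toAlg.xg_zero, _root_.inv_one, one_mul] at hb
    rw [Φ.posUnipotent_eq_US]
    refine Φ.map_US_le (Φ.mono_nw_p i 1) (fun r hr => ?_) x hb
    rw [Φ.reflPerm_apply]
    exact (Φ.refl_pos (Tw'.pos Φ hr) fun e => hr.2 (congrArg Fin.val e)).1

end Chev

end CfsgLib.Chev
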