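/-
Tables for weakly closed subgroups of U.
-/
import Cfsg.Agent.Lib.Chev.WeaklyClosed
import Cfsg.Prelude.Def_ChevB2
import Cfsg.Prelude.Def_ChevG2
import Cfsg.Prelude.Def_ChevD4
import Cfsg.Prelude.Def_ChevF4
import Cfsg.Prelude.Def_ChevE6
import Cfsg.Prelude.Def_ChevE7
import Cfsg.Prelude.Def_ChevE8

namespace CfsgLib.Chev.WC

set_option maxRecDepth 100000
set_option maxHeartbeats 2000000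

/-- The table of type G2. -/
def tabG22 : List Ent := [
  ([0, 1], [(6, 6, 6, [])]),
  ([1, 0], [(6, 6, 6, [[2, 3]])]),
  ([1, 0], [(8, 6, 7, []), (8, 7, 6, [])]),
  ([1, 0], [(8, 6, 7, [[1, 1]]), (8, 7, 6, [[1, 1]])]),
  ([0, 1], [(10, 9, 7, [])]),
  ([0, 1], [(11, 8, 9, [])])]

theorem tabG22_ok : tableOK Cfsg.Lie.chevG2 (fun c => c % 2 == 0) (fun c => !(c % 2 == 0)) false tabG22 = true := by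
  decide +kernel

/-- The table of type G2. -/
def tabG23 : List Ent := [
  ([0, 1], [(6, 6, 6, [])]),
  ([1, 0], [(6, 6, 6, [[2, 3]])]),
  ([1, 0], [(8, 6, 7, []), (8, 7, 6, [])]),
  ([1, 0], [(9, 8, 7, [])]),
  ([0, 1], [(8, 6, 7, [[1, 1], [0, 1]]), (8, 7, 6, [[1, 1], [0, 1]])]),
  ([0, 1], [(11, 10, 6, [])])]

theorem tabG23_ok : tableOK Cfsg.Lie.chevG2 (fun c => c % 3 == 0) (fun c => !(c % 3 == 0)) false tabG23 = true := by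
  decide +kernel

/-- The table of type G2. -/
def tabG2 : List Ent := [
  ([0, 1], [(6, 6, 6, [])]),
  ([1, 0], [(6, 6, 6, [[2, 3]])]),
  ([1, 0], [(8, 6, 7, []), (8, 7, 6, [])]),
  ([1, 0], [(9, 8, 7, [])]),
  ([0, 1], [(10, 9, 7, [])]),
  ([0, 1], [(11, 8, 9, [])])]

theorem tabG2_ok : tableOK Cfsg.Lie.chevG2 (fun c => c == 0) (fun c => !(c == 0) && Nat.blt c.natAbs 5) false tabG2 = true := by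
  decide +kernel

/-- The table of type B2. -/
def tabB22 : List Ent := [
  ([1, 0], [(4, 4, 4, [])]),
  ([1, 0], [(4, 4, 4, [[1, 1]])]),
  ([0, 1], [(6, 4, 5, []), (6, 5, 4, [])]),
  ([1, 0], [(6, 4, 5, [[1, 0]]), (6, 5, 4, [[1, 0]])])]

theorem tabB22_ok : tableOK Cfsg.Lie.chevB2 (fun c => c % 2 == 0) (fun c => !(c % 2 == 0)) false tabB22 = true := by
  decide +kernel

/-- The table of type B2. -/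
def tabB23 : List Ent := [
  ([1, 0], [(4, 4, 4, [])]),
  ([1, 0], [(4, 4, 4, [[1, 1]])]),
  ([0, 1], [(6, 4, 5, []), (6, 5, 4, [])]),
  ([1, 0], [(7, 6, 5, [])])]

theorem tabB23_ok : tableOK Cfsg.Lie.chevB2 (fun c => c % 3 == 0) (fun c => !(c % 3 == 0)) false tabB23 = true := by
  decide +kernel

/-- The table of type B2. -/
def tabB2 : List Ent := [
  ([1, 0], [(4, 4, 4, [])]),
  ([1, 0], [(4, 4, 4, [[1, 1]])]),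
  ([0, 1], [(6, 4, 5, []), (6, 5, 4, [])]),
  ([1, 0], [(7, 6, 5, [])])]

theorem tabB2_ok : tableOK Cfsg.Lie.chevB2 (fun c => c == 0) (fun c => !(c == 0) && Nat.blt c.natAbs 5) false tabB2 = true := by
  decide +kernel

/-- The table of type D4. -/
def tabD4 : List Ent := [
  ([0, 1, 0, 0], [(12, 12, 12, [])]),
  ([0, 1, 0, 0], [(12, 12, 12, [[0, 0, 1, 0]])]),
  ([1, 0, 0, 0], [(12, 12, 12, [[1, 0, 0, 0], [1, 0, 0, 0]])]),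
  ([1, 0, 0, 0], [(15, 12, 14, []), (15, 14, 12, [])]),
  ([1, 0, 0, 0], [(16, 13, 14, []), (16, 14, 13, [])]),
  ([1, 0, 0, 0], [(17, 15, 13, []), (17, 16, 12, [])]),
  ([1, 0, 0, 0], [(12, 12, 12, [[1, 0, 0, 0], [1, 0, 0, 0], [1, 0, -1, 0], [1, 1, 0, 0], [1, 1, 0, 0], [0, 1, 0, 0]])]),
  ([1, 0, 0, 0], [(19, 14, 18, []), (19, 18, 14, [])]),
  ([1, 0, 0, 0], [(20, 15, 18, []), (20, 19, 12, [])]),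
  ([1, 0, 0, 0], [(21, 16, 18, []), (21, 19, 13, [])]),
  ([1, 0, 0, 0], [(22, 17, 18, []), (22, 20, 13, [])]),
  ([0, 1, 0, 0], [(23, 22, 14, [])])]

theorem tabD4_ok : tableOK Cfsg.Lie.chevD4 (fun c => c == 0) (fun c => Nat.beq c.natAbs 1) false tabD4 = true := by
  decide +kernel

/-- The table of type F4. -/
def tabF42 : List Ent := [
  ([0, 0, 1, 0], [(24, 24, 24, [])]),
  ([0, 1, 0, 0], [(24, 24, 24, [[0, 1, 0, 0]])]),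
  ([0, 1, 0, 0], [(26, 24, 25, []), (26, 25, 24, [])]),
  ([1, 0, 0, 0], [(24, 24, 24, [[1, 0, 0, 0], [1, 0, 0, 0], [1, 0, 0, 0]])]),
  ([1, 0, 0, 0], [(28, 25, 27, []), (28, 27, 25, [])]),
  ([1, 0, 0, 0], [(29, 26, 27, []), (29, 28, 24, [])]),
  ([1, 0, 0, 0], [(28, 25, 27, [[0, 1, 0, 0], [0, 1, 0, 0]]), (28, 27, 25, [[0, 1, 0, 0], [0, 1, 0, 0]])]),
  ([1, 0, 0, 0], [(31, 30, 24, []), (31, 24, 30, [])]),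
  ([1, 0, 0, 0], [(32, 31, 25, [])]),
  ([1, 0, 0, 0], [(24, 24, 24, [[1, 0, 0, 0], [1, 0, 0, 0], [1, 0, 0, 0], [1, 0, -1, 0], [0, 1, 0, 0], [0, 1, 0, 0], [1, 1, 0, 0], [1, 1, 0, 0], [0, 1, 0, 0]])]),
  ([1, 0, 0, 0], [(34, 27, 33, []), (34, 33, 27, [])]),
  ([1, 0, 0, 0], [(35, 28, 33, []), (35, 34, 25, [])]),
  ([1, 0, 0, 0], [(36, 29, 33, []), (36, 35, 24, [])]),
  ([0, 1, 0, 0], [(37, 35, 27, [])]),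
  ([0, 1, 0, 0], [(38, 36, 27, [])]),
  ([0, 1, 0, 0], [(39, 36, 28, [])]),
  ([1, 0, 0, 0], [(40, 36, 30, [])]),
  ([1, 0, 0, 0], [(37, 30, 33, [[1, 0, 0, 0], [1, 0, 0, 0], [1, 0, 0, 0], [0, 0, 0, 1]]), (37, 33, 30, [[1, 0, 0, 0], [1, 0, 0, 0], [1, 0, 0, 0], [0, 0, 0, 1]])]),
  ([1, 0, 0, 0], [(42, 41, 24, []), (42, 24, 41, [])]),
  ([1, 0, 0, 0], [(43, 42, 25, [])]),
  ([1, 0, 0, 0], [(44, 36, 37, [])]),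
  ([0, 1, 0, 0], [(45, 42, 30, [])]),
  ([0, 0, 1, 0], [(46, 43, 30, [])]),
  ([0, 0, 0, 1], [(47, 42, 32, [])])]

theorem tabF42_ok : tableOK Cfsg.Lie.chevF4 (fun c => c % 2 == 0) (fun c => !(c % 2 == 0)) false tabF42 = true := by
  decide +kernel

/-- The table of type F4. -/
def tabF43 : List Ent := [
  ([0, 0, 1, 0], [(24, 24, 24, [])]),
  ([0, 1, 0, 0], [(24, 24, 24, [[0, 1, 0, 0]])]),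
  ([0, 1, 0, 0], [(26, 24, 25, []), (26, 25, 24, [])]),
  ([1, 0, 0, 0], [(24, 24, 24, [[1, 0, 0, 0], [1, 0, 0, 0], [1, 0, 0, 0]])]),
  ([1, 0, 0, 0], [(28, 25, 27, []), (28, 27, 25, [])]),
  ([1, 0, 0, 0], [(29, 26, 27, []), (29, 28, 24, [])]),
  ([1, 0, 0, 0], [(30, 28, 27, [])]),
  ([1, 0, 0, 0], [(31, 29, 27, [])]),
  ([1, 0, 0, 0], [(32, 29, 28, [])]),
  ([1, 0, 0, 0], [(24, 24, 24, [[1, 0, 0, 0], [1, 0, 0, 0], [1, 0, 0, 0], [1, 0, -1, 0], [0, 1, 0, 0], [0, 1, 0, 0], [1, 1, 0, 0], [1, 1, 0, 0], [0, 1, 0, 0]])]),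
  ([1, 0, 0, 0], [(34, 27, 33, []), (34, 33, 27, [])]),
  ([1, 0, 0, 0], [(35, 28, 33, []), (35, 34, 25, [])]),
  ([1, 0, 0, 0], [(36, 29, 33, []), (36, 35, 24, [])]),
  ([0, 1, 0, 0], [(37, 35, 27, [])]),
  ([0, 1, 0, 0], [(38, 36, 27, [])]),
  ([0, 1, 0, 0], [(39, 36, 28, [])]),
  ([1, 0, 0, 0], [(40, 36, 30, [])]),
  ([1, 0, 0, 0], [(41, 35, 34, [])]),
  ([1, 0, 0, 0], [(42, 36, 34, [])]),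
  ([1, 0, 0, 0], [(43, 36, 35, [])]),
  ([1, 0, 0, 0], [(44, 36, 37, [])]),
  ([0, 1, 0, 0], [(45, 38, 37, [])]),
  ([0, 0, 1, 0], [(46, 39, 37, [])]),
  ([0, 0, 0, 1], [(47, 36, 40, [])])]

theorem tabF43_ok : tableOK Cfsg.Lie.chevF4 (fun c => c % 3 == 0) (fun c => !(c % 3 == 0)) false tabF43 = true := by
  decide +kernel

/-- The table of type F4. -/
def tabF4 : List Ent := [
  ([0, 0, 1, 0], [(24, 24, 24, [])]),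
  ([0, 1, 0, 0], [(24, 24, 24, [[0, 1, 0, 0]])]),
  ([0, 1, 0, 0], [(26, 24, 25, []), (26, 25, 24, [])]),
  ([1, 0, 0, 0], [(24, 24, 24, [[1, 0, 0, 0], [1, 0, 0, 0], [1, 0, 0, 0]])]),
  ([1, 0, 0, 0], [(28, 25, 27, []), (28, 27, 25, [])]),
  ([1, 0, 0, 0], [(29, 26, 27, []), (29, 28, 24, [])]),
  ([1, 0, 0, 0], [(30, 28, 27, [])]),
  ([1, 0, 0, 0], [(31, 29, 27, [])]),
  ([1, 0, 0, 0], [(32, 29, 28, [])]),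
  ([1, 0, 0, 0], [(24, 24, 24, [[1, 0, 0, 0], [1, 0, 0, 0], [1, 0, 0, 0], [1, 0, -1, 0], [0, 1, 0, 0], [0, 1, 0, 0], [1, 1, 0, 0], [1, 1, 0, 0], [0, 1, 0, 0]])]),
  ([1, 0, 0, 0], [(34, 27, 33, []), (34, 33, 27, [])]),
  ([1, 0, 0, 0], [(35, 28, 33, []), (35, 34, 25, [])]),
  ([1, 0, 0, 0], [(36, 29, 33, []), (36, 35, 24, [])]),
  ([0, 1, 0, 0], [(37, 35, 27, [])]),
  ([0, 1, 0, 0], [(38, 36, 27, [])]),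
  ([0, 1, 0, 0], [(39, 36, 28, [])]),
  ([1, 0, 0, 0], [(40, 36, 30, [])]),
  ([1, 0, 0, 0], [(41, 35, 34, [])]),
  ([1, 0, 0, 0], [(42, 36, 34, [])]),
  ([1, 0, 0, 0], [(43, 36, 35, [])]),
  ([1, 0, 0, 0], [(44, 36, 37, [])]),
  ([0, 1, 0, 0], [(45, 38, 37, [])]),
  ([0, 0, 1, 0], [(46, 39, 37, [])]),
  ([0, 0, 0, 1], [(47, 36, 40, [])])]

theorem tabF4_ok : tableOK Cfsg.Lie.chevF4 (fun c => c == 0) (fun c => !(c == 0) && Nat.blt c.natAbs 5) false tabF4 = true := by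
  decide +kernel

/-- The table of type E6. -/
def tabE6 : List Ent := [
  ([0, 0, 0, 0, 1, 0], [(36, 36, 36, [])]),
  ([0, 0, 0, 1, 0, 0], [(36, 36, 36, [[0, 0, 0, 1, 0, 0]])]),
  ([0, 0, 0, 1, 0, 0], [(38, 36, 37, []), (38, 37, 36, [])]),
  ([0, 1, 0, 0, 0, 0], [(36, 36, 36, [[0, 1, 0, 0, 0, 0], [0, 1, 0, 0, 0, 0], [0, 1, 0, 0, 0, 0]])]),
  ([0, 1, 0, 0, 0, 0], [(40, 37, 39, []), (40, 39, 37, [])]),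
  ([0, 1, 0, 0, 0, 0], [(41, 38, 39, []), (41, 40, 36, [])]),
  ([1, 0, 0, 0, 0, 0], [(36, 36, 36, [[1, 0, 0, 0, 0, 0], [1, 0, 0, 0, 0, 0], [1, 0, 0, 0, 0, 0], [1, 0, 0, 0, 0, 0], [1, 0, 0, 0, 0, 0], [1, 0, 0, 0, 0, 0]])]),
  ([1, 0, 0, 0, 0, 0], [(43, 39, 42, []), (43, 42, 39, [])]),
  ([1, 0, 0, 0, 0, 0], [(44, 40, 42, []), (44, 43, 37, [])]),
  ([1, 0, 0, 0, 0, 0], [(45, 41, 42, []), (45, 44, 36, [])]),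
  ([0, 0, 0, 1, 0, 0], [(36, 36, 36, [[0, 0, 0, 1, 0, 0], [0, 0, 0, 1, 0, -1], [0, 0, 0, 1, 1, 0], [0, 0, 2, 1, 0, 0], [0, 1, 0, 1, 0, 0], [0, 1, 0, 1, 0, 0], [1, 0, 0, -1, 0, 0], [1, 0, 0, 1, 0, 0], [0, 0, 0, 1, 0, 0], [0, 0, 0, 1, 0, 0]])]),
  ([0, 1, 0, 0, 0, 0], [(47, 39, 46, []), (47, 46, 39, [])]),
  ([0, 1, 0, 0, 0, 0], [(48, 40, 46, []), (48, 47, 37, [])]),
  ([0, 1, 0, 0, 0, 0], [(49, 41, 46, []), (49, 48, 36, [])]),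
  ([1, 0, 0, 0, 0, 0], [(50, 43, 46, []), (50, 47, 42, [])]),
  ([1, 0, 0, 0, 0, 0], [(51, 44, 46, []), (51, 48, 42, [])]),
  ([1, 0, 0, 0, 0, 0], [(52, 45, 46, []), (52, 49, 42, [])]),
  ([1, 0, 0, 0, 0, 0], [(53, 51, 39, [])]),
  ([1, 0, 0, 0, 0, 0], [(54, 52, 39, [])]),
  ([1, 0, 0, 0, 0, 0], [(55, 52, 40, [])]),
  ([0, 0, 1, 0, 0, 0], [(36, 36, 36, [[0, 0, 1, 0, 0, 0], [0, 0, 1, 0, 0, 0], [0, 0, 1, 0, 0, 0], [0, 1, -1, 0, 0, 0], [0, 1, -1, 0, 0, 0], [0, 1, -1, 0, 0, 0], [0, 0, 1, 2, 0, 0], [1, 0, 1, 0, 0, 0], [1, 0, 1, 0, 0, 0], [1, 0, 1, 0, 0, 0], [0, 0, 1, 0, 0, 0], [0, 1, 1, 0, 0, 0], [0, 1, 1, 0, 0, 0], [0, 1, 1, 0, 0, 0], [1, 0, 1, 0, 0, 0], [1, 0, 1, 0, 0, 0], [1, 0, 1, 0, 0, 0], [0, 0, 1, 0, 0, 0], [0, 0, 1, 0, 0, 0], [0, 0, 1, 0, 0, 0]])]),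
  ([1, 0, 0, 0, 0, 0], [(57, 42, 56, []), (57, 56, 42, [])]),
  ([1, 0, 0, 0, 0, 0], [(58, 43, 56, []), (58, 57, 39, [])]),
  ([1, 0, 0, 0, 0, 0], [(59, 44, 56, []), (59, 58, 37, [])]),
  ([1, 0, 0, 0, 0, 0], [(60, 45, 56, []), (60, 59, 36, [])]),
  ([1, 0, 0, 0, 0, 0], [(61, 50, 56, []), (61, 58, 46, [])]),
  ([1, 0, 0, 0, 0, 0], [(62, 51, 56, []), (62, 59, 46, [])]),
  ([1, 0, 0, 0, 0, 0], [(63, 52, 56, []), (63, 60, 46, [])]),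
  ([1, 0, 0, 0, 0, 0], [(64, 62, 39, [])]),
  ([1, 0, 0, 0, 0, 0], [(65, 63, 39, [])]),
  ([1, 0, 0, 0, 0, 0], [(66, 63, 40, [])]),
  ([0, 0, 1, 0, 0, 0], [(67, 62, 43, [])]),
  ([0, 0, 1, 0, 0, 0], [(68, 63, 43, [])]),
  ([0, 0, 1, 0, 0, 0], [(69, 63, 44, [])]),
  ([0, 1, 0, 0, 0, 0], [(70, 65, 44, [])]),
  ([0, 1, 0, 0, 0, 0], [(71, 63, 53, [])])]

theorem tabE6_ok : tableOK Cfsg.Lie.chevE6 (fun c => c == 0) (fun c => Nat.beq c.natAbs 1) true tabE6 = true := by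
  decide +kernel

/-- The table of type E7. -/
def tabE7 : List Ent := [
  ([0, 0, 0, 0, 0, 1, 0], [(63, 63, 63, [])]),
  ([0, 0, 0, 0, 1, 0, 0], [(63, 63, 63, [[0, 0, 0, 0, 1, 0, 0]])]),
  ([0, 0, 0, 0, 1, 0, 0], [(65, 63, 64, []), (65, 64, 63, [])]),
  ([0, 0, 0, 1, 0, 0, 0], [(63, 63, 63, [[0, 0, 0, 1, 0, 0, 0], [0, 0, 0, 1, 0, 0, 0], [0, 0, 0, 1, 0, 0, 0]])]),
  ([0, 0, 0, 1, 0, 0, 0], [(67, 64, 66, []), (67, 66, 64, [])]),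
  ([0, 0, 0, 1, 0, 0, 0], [(68, 65, 66, []), (68, 67, 63, [])]),
  ([0, 1, 0, 0, 0, 0, 0], [(63, 63, 63, [[0, 1, 0, 0, 0, 0, 0], [0, 1, 0, 0, 0, 0, 0], [0, 1, 0, 0, 0, 0, 0], [0, 1, 0, 0, 0, 0, 0], [0, 1, 0, 0, 0, 0, 0], [0, 1, 0, 0, 0, 0, 0]])]),
  ([0, 1, 0, 0, 0, 0, 0], [(70, 66, 69, []), (70, 69, 66, [])]),
  ([0, 1, 0, 0, 0, 0, 0], [(71, 67, 69, []), (71, 70, 64, [])]),
  ([0, 1, 0, 0, 0, 0, 0], [(72, 68, 69, []), (72, 71, 63, [])]),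
  ([1, 0, 0, 0, 0, 0, 0], [(63, 63, 63, [[1, 0, 0, 0, 0, 0, 0], [1, 0, 0, 0, 0, 0, 0], [1, 0, 0, 0, 0, 0, 0], [1, 0, 0, 0, 0, 0, 0], [1, 0, 0, 0, 0, 0, 0], [1, 0, 0, 0, 0, 0, 0], [1, 0, 0, 0, 0, 0, 0], [1, 0, 0, 0, 0, 0, 0], [1, 0, 0, 0, 0, 0, 0], [1, 0, 0, 0, 0, 0, 0]])]),
  ([1, 0, 0, 0, 0, 0, 0], [(74, 69, 73, []), (74, 73, 69, [])]),
  ([1, 0, 0, 0, 0, 0, 0], [(75, 70, 73, []), (75, 74, 66, [])]),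
  ([1, 0, 0, 0, 0, 0, 0], [(76, 71, 73, []), (76, 75, 64, [])]),
  ([1, 0, 0, 0, 0, 0, 0], [(77, 72, 73, []), (77, 76, 63, [])]),
  ([0, 0, 0, 1, 0, 0, 0], [(63, 63, 63, [[0, 0, 0, 1, 0, 0, 0], [0, 0, 0, 1, 0, 0, 0], [0, 0, 0, 1, 0, 0, 0], [0, 0, 0, 1, 0, -1, 0], [0, 0, 0, 1, 1, 0, 0], [0, 0, 0, 1, 1, 0, 0], [0, 0, 2, 1, 0, 0, 0], [0, 1, 0, 1, 0, 0, 0], [0, 1, 0, 1, 0, 0, 0], [0, 1, 0, 1, 0, 0, 0], [1, 0, 0, -1, 0, 0, 0], [1, 0, 0, 1, 0, 0, 0], [0, 0, 0, 1, 0, 0, 0], [0, 0, 0, 1, 0, 0, 0], [0, 0, 0, 1, 0, 0, 0]])]),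
  ([0, 1, 0, 0, 0, 0, 0], [(79, 69, 78, []), (79, 78, 69, [])]),
  ([0, 1, 0, 0, 0, 0, 0], [(80, 70, 78, []), (80, 79, 66, [])]),
  ([0, 1, 0, 0, 0, 0, 0], [(81, 71, 78, []), (81, 80, 64, [])]),
  ([0, 1, 0, 0, 0, 0, 0], [(82, 72, 78, []), (82, 81, 63, [])]),
  ([1, 0, 0, 0, 0, 0, 0], [(83, 74, 78, []), (83, 79, 73, [])]),
  ([1, 0, 0, 0, 0, 0, 0], [(84, 75, 78, []), (84, 80, 73, [])]),
  ([1, 0, 0, 0, 0, 0, 0], [(85, 76, 78, []), (85, 81, 73, [])]),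
  ([1, 0, 0, 0, 0, 0, 0], [(86, 77, 78, []), (86, 82, 73, [])]),
  ([1, 0, 0, 0, 0, 0, 0], [(87, 84, 69, [])]),
  ([1, 0, 0, 0, 0, 0, 0], [(88, 85, 69, [])]),
  ([1, 0, 0, 0, 0, 0, 0], [(89, 86, 69, [])]),
  ([1, 0, 0, 0, 0, 0, 0], [(90, 85, 70, [])]),
  ([1, 0, 0, 0, 0, 0, 0], [(91, 86, 70, [])]),
  ([1, 0, 0, 0, 0, 0, 0], [(92, 86, 71, [])]),
  ([0, 0, 1, 0, 0, 0, 0], [(63, 63, 63, [[0, 0, 1, 0, 0, 0, 0], [0, 0, 1, 0, 0, 0, 0], [0, 0, 1, 0, 0, 0, 0], [0, 0, 1, 0, 0, 0, 0], [0, 0, 1, 0, 0, 0, 0], [0, 0, 1, 0, 0, 0, 0], [0, 1, -1, 0, 0, 0, 0], [0, 1, -1, 0, 0, 0, 0], [0, 1, -1, 0, 0, 0, 0], [0, 1, -1, 0, 0, 0, 0], [0, 0, 1, 2, 0, 0, 0], [1, 0, 1, 0, 0, 0, 0], [1, 0, 1, 0, 0, 0, 0], [1, 0, 1, 0, 0, 0, 0], [1, 0, 1, 0, 0, 0, 0], [0, 0, 1, 0, 0, 0, 0], [0, 1, 1, 0, 0, 0, 0],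 [0, 1, 1, 0, 0, 0, 0], [0, 1, 1, 0, 0, 0, 0], [0, 1, 1, 0, 0, 0, 0], [1, 0, 1, 0, 0, 0, 0], [1, 0, 1, 0, 0, 0, 0], [1, 0, 1, 0, 0, 0, 0], [1, 0, 1, 0, 0, 0, 0], [0, 0, 1, 0, 0, 0, 0], [0, 0, 1, 0, 0, 0, 0], [0, 0, 1, 0, 0, 0, 0], [0, 0, 1, 0, 0, 0, 0], [0, 0, 1, 0, 0, 0, 0], [0, 0, 1, 0, 0, 0, 0]])]),
  ([1, 0, 0, 0, 0, 0, 0], [(94, 73, 93, []), (94, 93, 73, [])]),
  ([1, 0, 0, 0, 0, 0, 0], [(95, 74, 93, []), (95, 94, 69, [])]),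
  ([1, 0, 0, 0, 0, 0, 0], [(96, 75, 93, []), (96, 95, 66, [])]),
  ([1, 0, 0, 0, 0, 0, 0], [(97, 76, 93, []), (97, 96, 64, [])]),
  ([1, 0, 0, 0, 0, 0, 0], [(98, 77, 93, []), (98, 97, 63, [])]),
  ([1, 0, 0, 0, 0, 0, 0], [(99, 83, 93, []), (99, 95, 78, [])]),
  ([1, 0, 0, 0, 0, 0, 0], [(100, 84, 93, []), (100, 96, 78, [])]),
  ([1, 0, 0, 0, 0, 0, 0], [(101, 85, 93, []), (101, 97, 78, [])]),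
  ([1, 0, 0, 0, 0, 0, 0], [(102, 86, 93, []), (102, 98, 78, [])]),
  ([1, 0, 0, 0, 0, 0, 0], [(103, 100, 69, [])]),
  ([1, 0, 0, 0, 0, 0, 0], [(104, 101, 69, [])]),
  ([1, 0, 0, 0, 0, 0, 0], [(105, 102, 69, [])]),
  ([1, 0, 0, 0, 0, 0, 0], [(106, 101, 70, [])]),
  ([1, 0, 0, 0, 0, 0, 0], [(107, 102, 70, [])]),
  ([1, 0, 0, 0, 0, 0, 0], [(108, 102, 71, [])]),
  ([0, 0, 1, 0, 0, 0, 0], [(109, 100, 74, [])]),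
  ([0, 0, 1, 0, 0, 0, 0], [(110, 101, 74, [])]),
  ([0, 0, 1, 0, 0, 0, 0], [(111, 102, 74, [])]),
  ([0, 0, 1, 0, 0, 0, 0], [(112, 101, 75, [])]),
  ([0, 0, 1, 0, 0, 0, 0], [(113, 102, 75, [])]),
  ([0, 0, 1, 0, 0, 0, 0], [(114, 102, 76, [])]),
  ([0, 1, 0, 0, 0, 0, 0], [(115, 104, 75, [])]),
  ([0, 1, 0, 0, 0, 0, 0], [(116, 105, 75, [])]),
  ([0, 1, 0, 0, 0, 0, 0], [(117, 105, 76, [])]),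
  ([0, 1, 0, 0, 0, 0, 0], [(118, 107, 76, [])]),
  ([0, 1, 0, 0, 0, 0, 0], [(119, 101, 87, [])]),
  ([0, 1, 0, 0, 0, 0, 0], [(120, 102, 87, [])]),
  ([0, 1, 0, 0, 0, 0, 0], [(121, 102, 88, [])]),
  ([0, 1, 0, 0, 0, 0, 0], [(122, 102, 90, [])]),
  ([0, 0, 1, 0, 0, 0, 0], [(123, 105, 90, [])]),
  ([1, 0, 0, 0, 0, 0, 0], [(124, 111, 90, [])]),
  ([1, 0, 0, 0, 0, 0, 0], [(125, 102, 115, [])])]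

theorem tabE7_ok : tableOK Cfsg.Lie.chevE7 (fun c => c == 0) (fun c => Nat.beq c.natAbs 1) true tabE7 = true := by
  decide +kernel

/-- The table of type E8. -/
def tabE8 : List Ent := [
  ([0, 0, 0, 0, 0, 0, 1, 0], [(120, 120, 120, [])]),
  ([0, 0, 0, 0, 0, 1, 0, 0], [(120, 120, 120, [[0, 0, 0, 0, 0, 1, 0, 0]])]),
  ([0, 0, 0, 0, 0, 1, 0, 0], [(122, 120, 121, []), (122, 121, 120, [])]),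
  ([0, 0, 0, 0, 1, 0, 0, 0], [(120, 120, 120, [[0, 0, 0, 0, 1, 0, 0, 0], [0, 0, 0, 0, 1, 0, 0, 0], [0, 0, 0, 0, 1, 0, 0, 0]])]),
  ([0, 0, 0, 0, 1, 0, 0, 0], [(124, 121, 123, []), (124, 123, 121, [])]),
  ([0, 0, 0, 0, 1, 0, 0, 0], [(125, 122, 123, []), (125, 124, 120, [])]),
  ([0, 0, 0, 1, 0, 0, 0, 0], [(120, 120, 120, [[0, 0, 0, 1, 0, 0, 0, 0], [0, 0, 0, 1, 0, 0, 0, 0], [0, 0, 0, 1, 0, 0, 0, 0], [0, 0, 0, 1, 0, 0, 0, 0], [0, 0, 0, 1, 0, 0, 0, 0], [0, 0, 0, 1, 0, 0, 0, 0]])]),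
  ([0, 0, 0, 1, 0, 0, 0, 0], [(127, 123, 126, []), (127, 126, 123, [])]),
  ([0, 0, 0, 1, 0, 0, 0, 0], [(128, 124, 126, []), (128, 127, 121, [])]),
  ([0, 0, 0, 1, 0, 0, 0, 0], [(129, 125, 126, []), (129, 128, 120, [])]),
  ([0, 1, 0, 0, 0, 0, 0, 0], [(120, 120, 120, [[0, 1, 0, 0, 0, 0, 0, 0], [0, 1, 0, 0, 0, 0, 0, 0], [0, 1, 0, 0, 0, 0, 0, 0], [0, 1, 0, 0, 0, 0, 0, 0], [0, 1, 0, 0, 0, 0, 0, 0], [0, 1, 0, 0, 0, 0, 0, 0], [0, 1, 0, 0, 0, 0, 0, 0], [0, 1, 0, 0, 0, 0, 0, 0], [0, 1, 0, 0, 0, 0, 0, 0], [0, 1, 0, 0, 0, 0, 0, 0]])]),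
  ([0, 1, 0, 0, 0, 0, 0, 0], [(131, 126, 130, []), (131, 130, 126, [])]),
  ([0, 1, 0, 0, 0, 0, 0, 0], [(132, 127, 130, []), (132, 131, 123, [])]),
  ([0, 1, 0, 0, 0, 0, 0, 0], [(133, 128, 130, []), (133, 132, 121, [])]),
  ([0, 1, 0, 0, 0, 0, 0, 0], [(134, 129, 130, []), (134, 133, 120, [])]),
  ([1, 0, 0, 0, 0, 0, 0, 0], [(120, 120, 120, [[1, 0, 0, 0, 0, 0, 0, 0], [1, 0, 0, 0, 0, 0, 0, 0], [1, 0, 0, 0, 0, 0, 0, 0], [1, 0, 0, 0, 0, 0, 0, 0], [1, 0, 0, 0, 0, 0, 0, 0], [1, 0, 0, 0, 0, 0, 0, 0], [1, 0, 0, 0, 0, 0, 0, 0], [1, 0, 0, 0, 0, 0, 0, 0], [1, 0, 0, 0, 0, 0, 0, 0], [1, 0, 0, 0, 0, 0, 0, 0], [1, 0, 0, 0, 0, 0, 0, 0], [1, 0, 0, 0, 0, 0, 0, 0], [1, 0, 0, 0, 0, 0, 0, 0], [1, 0, 0, 0, 0, 0, 0, 0], [1, 0, 0, 0, 0, 0, 0, 0]])]),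
  ([1, 0, 0, 0, 0, 0, 0, 0], [(136, 130, 135, []), (136, 135, 130, [])]),
  ([1, 0, 0, 0, 0, 0, 0, 0], [(137, 131, 135, []), (137, 136, 126, [])]),
  ([1, 0, 0, 0, 0, 0, 0, 0], [(138, 132, 135, []), (138, 137, 123, [])]),
  ([1, 0, 0, 0, 0, 0, 0, 0], [(139, 133, 135, []), (139, 138, 121, [])]),
  ([1, 0, 0, 0, 0, 0, 0, 0], [(140, 134, 135, []), (140, 139, 120, [])]),
  ([0, 0, 0, 1, 0, 0, 0, 0], [(120, 120, 120, [[0, 0, 0, 1, 0, 0, 0, 0], [0, 0, 0, 1, 0, 0, 0, 0], [0, 0, 0, 1, 0, 0, 0, 0], [0, 0, 0, 1, 0, 0, 0, 0], [0, 0, 0, 1, 0, 0, 0, 0], [0, 0, 0, 1, 0, 0, 0, 0], [0, 0, 0, 1, 0, -1, 0, 0], [0, 0, 0, 1, 1, 0, 0, 0], [0, 0, 0, 1, 1, 0, 0, 0], [0, 0, 0, 1, 1, 0, 0, 0], [0, 0, 2, 1, 0, 0, 0, 0], [0, 1, 0, 1, 0, 0, 0, 0], [0, 1, 0, 1, 0, 0, 0, 0], [0, 1, 0, 1, 0, 0, 0, 0],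 [0, 1, 0, 1, 0, 0, 0, 0], [1, 0, 0, -1, 0, 0, 0, 0], [1, 0, 0, 1, 0, 0, 0, 0], [0, 0, 0, 1, 0, 0, 0, 0], [0, 0, 0, 1, 0, 0, 0, 0], [0, 0, 0, 1, 0, 0, 0, 0], [0, 0, 0, 1, 0, 0, 0, 0]])]),
  ([0, 1, 0, 0, 0, 0, 0, 0], [(142, 130, 141, []), (142, 141, 130, [])]),
  ([0, 1, 0, 0, 0, 0, 0, 0], [(143, 131, 141, []), (143, 142, 126, [])]),
  ([0, 1, 0, 0, 0, 0, 0, 0], [(144, 132, 141, []), (144, 143, 123, [])]),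
  ([0, 1, 0, 0, 0, 0, 0, 0], [(145, 133, 141, []), (145, 144, 121, [])]),
  ([0, 1, 0, 0, 0, 0, 0, 0], [(146, 134, 141, []), (146, 145, 120, [])]),
  ([1, 0, 0, 0, 0, 0, 0, 0], [(147, 136, 141, []), (147, 142, 135, [])]),
  ([1, 0, 0, 0, 0, 0, 0, 0], [(148, 137, 141, []), (148, 143, 135, [])]),
  ([1, 0, 0, 0, 0, 0, 0, 0], [(149, 138, 141, []), (149, 144, 135, [])]),
  ([1, 0, 0, 0, 0, 0, 0, 0], [(150, 139, 141, []), (150, 145, 135, [])]),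
  ([1, 0, 0, 0, 0, 0, 0, 0], [(151, 140, 141, []), (151, 146, 135, [])]),
  ([1, 0, 0, 0, 0, 0, 0, 0], [(152, 148, 130, [])]),
  ([1, 0, 0, 0, 0, 0, 0, 0], [(153, 149, 130, [])]),
  ([1, 0, 0, 0, 0, 0, 0, 0], [(154, 150, 130, [])]),
  ([1, 0, 0, 0, 0, 0, 0, 0], [(155, 151, 130, [])]),
  ([1, 0, 0, 0, 0, 0, 0, 0], [(156, 149, 131, [])]),
  ([1, 0, 0, 0, 0, 0, 0, 0], [(157, 150, 131, [])]),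
  ([1, 0, 0, 0, 0, 0, 0, 0], [(158, 151, 131, [])]),
  ([1, 0, 0, 0, 0, 0, 0, 0], [(159, 150, 132, [])]),
  ([1, 0, 0, 0, 0, 0, 0, 0], [(160, 151, 132, [])]),
  ([1, 0, 0, 0, 0, 0, 0, 0], [(161, 151, 133, [])]),
  ([0, 0, 1, 0, 0, 0, 0, 0], [(120, 120, 120, [[0, 0, 1, 0, 0, 0, 0, 0], [0, 0, 1, 0, 0, 0, 0, 0], [0, 0, 1, 0, 0, 0, 0, 0], [0, 0, 1, 0, 0, 0, 0, 0], [0, 0, 1, 0, 0, 0, 0, 0], [0, 0, 1, 0, 0, 0, 0, 0], [0, 0, 1, 0, 0, 0, 0, 0], [0, 0, 1, 0, 0, 0, 0, 0], [0, 0, 1, 0, 0, 0, 0, 0], [0, 0, 1, 0, 0, 0, 0, 0], [0, 1, -1, 0, 0, 0, 0, 0], [0, 1, -1, 0, 0, 0, 0, 0], [0, 1, -1, 0, 0, 0, 0, 0], [0, 1, -1, 0, 0, 0, 0, 0], [0, 1, -1, 0, 0, 0, 0, 0], [0, 0, 1, 2, 0, 0, 0, 0], [1, 0, 1, 0, 0, 0, 0, 0], [1, 0, 1, 0, 0, 0, 0, 0], [1, 0, 1, 0, 0, 0, 0, 0], [1, 0, 1, 0, 0, 0, 0, 0],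 [1, 0, 1, 0, 0, 0, 0, 0], [0, 0, 1, 0, 0, 0, 0, 0], [0, 1, 1, 0, 0, 0, 0, 0], [0, 1, 1, 0, 0, 0, 0, 0], [0, 1, 1, 0, 0, 0, 0, 0], [0, 1, 1, 0, 0, 0, 0, 0], [0, 1, 1, 0, 0, 0, 0, 0], [1, 0, 1, 0, 0, 0, 0, 0], [1, 0, 1, 0, 0, 0, 0, 0], [1, 0, 1, 0, 0, 0, 0, 0], [1, 0, 1, 0, 0, 0, 0, 0], [1, 0, 1, 0, 0, 0, 0, 0], [0, 0, 1, 0, 0, 0, 0, 0], [0, 0, 1, 0, 0, 0, 0, 0], [0, 0, 1, 0, 0, 0, 0, 0], [0, 0, 1, 0, 0, 0, 0, 0], [0, 0, 1, 0, 0, 0, 0, 0], [0, 0, 1, 0, 0, 0, 0, 0], [0, 0, 1, 0, 0, 0, 0, 0], [0, 0, 1, 0, 0, 0, 0, 0], [0, 0, 1, 0, 0, 0, 0, 0], [0, 0, 1, 0, 0, 0, 0, 0]])]),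
  ([1, 0, 0, 0, 0, 0, 0, 0], [(163, 135, 162, []), (163, 162, 135, [])]),
  ([1, 0, 0, 0, 0, 0, 0, 0], [(164, 136, 162, []), (164, 163, 130, [])]),
  ([1, 0, 0, 0, 0, 0, 0, 0], [(165, 137, 162, []), (165, 164, 126, [])]),
  ([1, 0, 0, 0, 0, 0, 0, 0], [(166, 138, 162, []), (166, 165, 123, [])]),
  ([1, 0, 0, 0, 0, 0, 0, 0], [(167, 139, 162, []), (167, 166, 121, [])]),
  ([1, 0, 0, 0, 0, 0, 0, 0], [(168, 140, 162, []), (168, 167, 120, [])]),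
  ([1, 0, 0, 0, 0, 0, 0, 0], [(169, 147, 162, []), (169, 164, 141, [])]),
  ([1, 0, 0, 0, 0, 0, 0, 0], [(170, 148, 162, []), (170, 165, 141, [])]),
  ([1, 0, 0, 0, 0, 0, 0, 0], [(171, 149, 162, []), (171, 166, 141, [])]),
  ([1, 0, 0, 0, 0, 0, 0, 0], [(172, 150, 162, []), (172, 167, 141, [])]),
  ([1, 0, 0, 0, 0, 0, 0, 0], [(173, 151, 162, []), (173, 168, 141, [])]),
  ([1, 0, 0, 0, 0, 0, 0, 0], [(174, 170, 130, [])]),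
  ([1, 0, 0, 0, 0, 0, 0, 0], [(175, 171, 130, [])]),
  ([1, 0, 0, 0, 0, 0, 0, 0], [(176, 172, 130, [])]),
  ([1, 0, 0, 0, 0, 0, 0, 0], [(177, 173, 130, [])]),
  ([1, 0, 0, 0, 0, 0, 0, 0], [(178, 171, 131, [])]),
  ([1, 0, 0, 0, 0, 0, 0, 0], [(179, 172, 131, [])]),
  ([1, 0, 0, 0, 0, 0, 0, 0], [(180, 173, 131, [])]),
  ([1, 0, 0, 0, 0, 0, 0, 0], [(181, 172, 132, [])]),
  ([1, 0, 0, 0, 0, 0, 0, 0], [(182, 173, 132, [])]),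
  ([1, 0, 0, 0, 0, 0, 0, 0], [(183, 173, 133, [])]),
  ([0, 0, 1, 0, 0, 0, 0, 0], [(184, 170, 136, [])]),
  ([0, 0, 1, 0, 0, 0, 0, 0], [(185, 171, 136, [])]),
  ([0, 0, 1, 0, 0, 0, 0, 0], [(186, 172, 136, [])]),
  ([0, 0, 1, 0, 0, 0, 0, 0], [(187, 173, 136, [])]),
  ([0, 0, 1, 0, 0, 0, 0, 0], [(188, 171, 137, [])]),
  ([0, 0, 1, 0, 0, 0, 0, 0], [(189, 172, 137, [])]),
  ([0, 0, 1, 0, 0, 0, 0, 0], [(190, 173, 137, [])]),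
  ([0, 0, 1, 0, 0, 0, 0, 0], [(191, 172, 138, [])]),
  ([0, 0, 1, 0, 0, 0, 0, 0], [(192, 173, 138, [])]),
  ([0, 0, 1, 0, 0, 0, 0, 0], [(193, 173, 139, [])]),
  ([0, 1, 0, 0, 0, 0, 0, 0], [(194, 175, 137, [])]),
  ([0, 1, 0, 0, 0, 0, 0, 0], [(195, 176, 137, [])]),
  ([0, 1, 0, 0, 0, 0, 0, 0], [(196, 177, 137, [])]),
  ([0, 1, 0, 0, 0, 0, 0, 0], [(197, 176, 138, [])]),
  ([0, 1, 0, 0, 0, 0, 0, 0], [(198, 177, 138, [])]),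
  ([0, 1, 0, 0, 0, 0, 0, 0], [(199, 177, 139, [])]),
  ([0, 1, 0, 0, 0, 0, 0, 0], [(200, 179, 138, [])]),
  ([0, 1, 0, 0, 0, 0, 0, 0], [(201, 180, 138, [])]),
  ([0, 1, 0, 0, 0, 0, 0, 0], [(202, 180, 139, [])]),
  ([0, 1, 0, 0, 0, 0, 0, 0], [(203, 182, 139, [])]),
  ([0, 1, 0, 0, 0, 0, 0, 0], [(204, 171, 152, [])]),
  ([0, 1, 0, 0, 0, 0, 0, 0], [(205, 172, 152, [])]),
  ([0, 1, 0, 0, 0, 0, 0, 0], [(206, 173, 152, [])]),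
  ([0, 1, 0, 0, 0, 0, 0, 0], [(207, 172, 153, [])]),
  ([0, 1, 0, 0, 0, 0, 0, 0], [(208, 173, 153, [])]),
  ([0, 1, 0, 0, 0, 0, 0, 0], [(209, 173, 154, [])]),
  ([0, 1, 0, 0, 0, 0, 0, 0], [(210, 172, 156, [])]),
  ([0, 1, 0, 0, 0, 0, 0, 0], [(211, 173, 156, [])]),
  ([0, 1, 0, 0, 0, 0, 0, 0], [(212, 173, 157, [])]),
  ([0, 1, 0, 0, 0, 0, 0, 0], [(213, 173, 159, [])]),
  ([0, 0, 1, 0, 0, 0, 0, 0], [(214, 176, 156, [])]),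
  ([0, 0, 1, 0, 0, 0, 0, 0], [(215, 177, 156, [])]),
  ([0, 0, 1, 0, 0, 0, 0, 0], [(216, 177, 157, [])]),
  ([0, 0, 1, 0, 0, 0, 0, 0], [(217, 177, 159, [])]),
  ([0, 0, 1, 0, 0, 0, 0, 0], [(218, 180, 159, [])]),
  ([1, 0, 0, 0, 0, 0, 0, 0], [(219, 186, 156, [])]),
  ([1, 0, 0, 0, 0, 0, 0, 0], [(220, 187, 156, [])]),
  ([1, 0, 0, 0, 0, 0, 0, 0], [(221, 187, 157, [])]),
  ([1, 0, 0, 0, 0, 0, 0, 0], [(222, 187, 159, [])]),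
  ([1, 0, 0, 0, 0, 0, 0, 0], [(223, 190, 159, [])]),
  ([1, 0, 0, 0, 0, 0, 0, 0], [(224, 196, 159, [])]),
  ([1, 0, 0, 0, 0, 0, 0, 0], [(225, 206, 159, [])]),
  ([1, 0, 0, 0, 0, 0, 0, 0], [(226, 172, 194, [])]),
  ([1, 0, 0, 0, 0, 0, 0, 0], [(227, 173, 194, [])]),
  ([1, 0, 0, 0, 0, 0, 0, 0], [(228, 173, 195, [])]),
  ([1, 0, 0, 0, 0, 0, 0, 0], [(229, 173, 197, [])]),
  ([1, 0, 0, 0, 0, 0, 0, 0], [(230, 173, 200, [])]),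
  ([1, 0, 0, 0, 0, 0, 0, 0], [(231, 177, 200, [])]),
  ([0, 1, 0, 0, 0, 0, 0, 0], [(232, 187, 200, [])]),
  ([1, 0, 0, 0, 0, 0, 0, 0], [(233, 173, 214, [])]),
  ([0, 1, 0, 0, 0, 0, 0, 0], [(234, 173, 219, [])]),
  ([0, 0, 0, 1, 0, 0, 0, 0], [(235, 177, 219, [])]),
  ([0, 0, 0, 0, 1, 0, 0, 0], [(236, 180, 219, [])]),
  ([0, 0, 0, 0, 0, 1, 0, 0], [(237, 182, 219, [])]),
  ([0, 0, 0, 0, 0, 0, 1, 0], [(238, 183, 219, [])]),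
  ([0, 0, 0, 0, 0, 0, 0, 1], [(239, 173, 224, [])])]

theorem tabE8_ok : tableOK Cfsg.Lie.chevE8 (fun c => c == 0) (fun c => Nat.beq c.natAbs 1) true tabE8 = true := by
  decide +kernel

end CfsgLib.Chev.WC
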