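/-
Centres of the seven Weyl groups as Coxeter groups.
-/
import Cfsg.Agent.Lib.Chev.WeylCentre

namespace CfsgLib.Chev

open Cfsg.Lie

variable {D : ChevalleyDatum} (Φ : Chev D) {CM : CoxeterMatrix (Fin D.rank)}

theorem coe_prod_simple (e : CM.Group ≃* Φ.WL)
    (he : ∀ i, (e (CM.simple i) : Equiv.Perm (Fin D.nroots)) = Φ.reflPerm i) :
    (e ((List.finRange D.rank).map CM.simple).prod : Equiv.Perm (Fin D.nroots)) = Φ.coxPerm := by
  rw [map_list_prod, List.map_map, SubmonoidClass.coe_list_prod, List.map_map, Chev.coxPerm]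
  congr 1
  exact List.map_congr_left fun i _ => he i

theorem central_iff (e : CM.Group ≃* Φ.WL)
    (he : ∀ i, (e (CM.simple i) : Equiv.Perm (Fin D.nroots)) = Φ.reflPerm i) (hc : Φ.Connected)
    (x : CM.Group) : x ∈ Subgroup.center CM.Group ↔
      (e x : Equiv.Perm (Fin D.nroots)) = 1 ∨ (e x : Equiv.Perm (Fin D.nroots)) = Φ.negPerm := by
  constructor
  · intro hx
    refine Φ.central_cases hc (e x).2 fun i => ?_
    have h := Subgroup.mem_center_iff.mp hx (CM.simple i)
    have h2 := congrArg (fun y => ((e y : Φ.WL) : Equiv.Perm (Fin D.nroots))) h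
    simp only [map_mul, Subgroup.coe_mul, he] at h2
    exact h2.symm
  · intro hx
    rw [Subgroup.mem_center_iff]
    intro g
    apply e.injective
    apply Subtype.ext
    rw [map_mul, map_mul, Subgroup.coe_mul, Subgroup.coe_mul]
    rcases hx with h | h <;> rw [h]
    · rw [mul_one, one_mul]
    · exact Φ.negPerm_commute (e g).2

theorem centre_two (e : CM.Group ≃* Φ.WL)
    (he : ∀ i, (e (CM.simple i) : Equiv.Perm (Fin D.nroots)) = Φ.reflPerm i) (hc : Φ.Connected)
    {k : ℕ} (hk : ∀ s, orbIter Φ.coxMap k s = s.rev) (hn : 0 < D.nroots) :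
    Nat.card (Subgroup.center CM.Group) = 2 ∧
      Subgroup.center CM.Group ≤ Subgroup.zpowers ((List.finRange D.rank).map CM.simple).prod := by
  classical
  set c := ((List.finRange D.rank).map CM.simple).prod
  have hck : (e (c ^ k) : Equiv.Perm (Fin D.nroots)) = Φ.negPerm := by
    rw [map_pow, SubgroupClass.coe_pow, coe_prod_simple Φ e he]
    refine Equiv.ext fun s => ?_
    rw [pow_apply_eq_orbIter, show (Φ.coxPerm : Fin D.nroots → Fin D.nroots) = Φ.coxMap from
      funext Φ.coxPerm_apply, hk]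
    rfl
  have hne : c ^ k ≠ 1 := fun h => by
    rw [h, map_one, Subgroup.coe_one] at hck
    exact Φ.toSys.rev_ne ⟨0, hn⟩ (DFunLike.congr_fun hck ⟨0, hn⟩).symm
  have hset : ∀ x, x ∈ Subgroup.center CM.Group ↔ x = 1 ∨ x = c ^ k := fun x => by
    rw [central_iff Φ e he hc]
    constructor
    · rintro (h | h)
      · exact Or.inl (e.injective (Subtype.ext (by rw [h, map_one, Subgroup.coe_one])))
      · exact Or.inr (e.injective (Subtype.ext (by rw [h, hck])))
    · rintro (rfl | rfl)
      · exact Or.inl (by rw [map_one, Subgroup.coe_one])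
      · exact Or.inr hck
  refine ⟨?_, fun x hx => ?_⟩
  · have : (Subgroup.center CM.Group : Set CM.Group) = {1, c ^ k} := Set.ext fun x => by
      simpa using hset x
    rw [show Nat.card (Subgroup.center CM.Group) = Nat.card (Subgroup.center CM.Group : Set CM.Group) from rfl,
      this, Nat.card_coe_set_eq, Set.ncard_pair hne.symm]
  · rcases (hset x).mp hx with rfl | rfl
    · exact one_mem _
    · exact pow_mem (Subgroup.mem_zpowers _) k

theorem centre_one (e : CM.Group ≃* Φ.WL)
    (he : ∀ i, (e (CM.simple i) : Equiv.Perm (Fin D.nroots)) = Φ.reflPerm i) (hc : Φ.Connected)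
    (w : List (Fin D.rank))
    (hw : ∀ r, Φ.toTables.Pos r → ¬ Φ.toTables.Pos (w.foldr (fun i x => Φ.refl i x) r))
    (hne : ∃ r, w.foldr (fun i x => Φ.refl i x) r ≠ r.rev) :
    Nat.card (Subgroup.center CM.Group) = 1 ∧
      Subgroup.center CM.Group ≤ Subgroup.zpowers ((List.finRange D.rank).map CM.simple).prod := by
  set π := (w.map Φ.reflPerm).prod
  have hπ : π ∈ Φ.WL := Subgroup.list_prod_mem _ fun x hx => by
    obtain ⟨i, -, rfl⟩ := List.mem_map.mp hx
    exact Φ.reflPerm_mem_WL i
  have hnot : Φ.negPerm ∉ Φ.WL := fun h => by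
    have h1 : Φ.negPerm * π = 1 := Φ.eq_one_of_pos (mul_mem h hπ) fun r hr => by
      show Φ.toTables.Pos (π r).rev
      rw [Φ.pos_rev_iff, Φ.prod_reflPerm_apply]
      exact hw r hr
    obtain ⟨r, hr⟩ := hne
    apply hr
    have h2 := DFunLike.congr_fun h1 r
    rw [← Φ.prod_reflPerm_apply]
    calc π r = ((π r).rev).rev := (Fin.rev_rev _).symm
      _ = r.rev := congrArg Fin.rev h2
  have hb : Subgroup.center CM.Group = ⊥ := by
    rw [Subgroup.eq_bot_iff_forall]
    intro x hx
    rcases (central_iff Φ e he hc x).mp hx with h | h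
    · exact e.injective (Subtype.ext (by rw [h, map_one, Subgroup.coe_one]))
    · exact absurd (h ▸ (e x).2) hnot
  rw [hb]
  exact ⟨Subgroup.card_bot, bot_le⟩

theorem gen_of_words (e : CM.Group ≃* Φ.WL)
    (he : ∀ i, (e (CM.simple i) : Equiv.Perm (Fin D.nroots)) = Φ.reflPerm i) (T : Finset (Fin D.rank))
    (h : ∀ j, Φ.reflPerm j ∈ Subgroup.closure ({Φ.coxPerm} ∪ Φ.reflPerm '' (T : Set (Fin D.rank)))) :
    Subgroup.closure (({((List.finRange D.rank).map CM.simple).prod} : Set CM.Group) ∪
      CM.simple '' (T : Set (Fin D.rank))) = ⊤ := by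
  let g : CM.Group →* Equiv.Perm (Fin D.nroots) := Φ.WL.subtype.comp e.toMonoidHom
  have hg : Function.Injective g := Φ.WL.subtype_injective.comp e.injective
  set H := Subgroup.closure (({((List.finRange D.rank).map CM.simple).prod} : Set CM.Group) ∪
    CM.simple '' (T : Set (Fin D.rank)))
  have himg : g '' (({((List.finRange D.rank).map CM.simple).prod} : Set CM.Group) ∪
      CM.simple '' (T : Set (Fin D.rank))) = {Φ.coxPerm} ∪ Φ.reflPerm '' (T : Set (Fin D.rank)) := by
    rw [Set.image_union, Set.image_singleton, Set.image_image]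
    congr 1
    · rw [Set.singleton_eq_singleton_iff]; exact coe_prod_simple Φ e he
    · exact Set.image_congr fun i _ => he i
  rw [eq_top_iff, ← CM.toCoxeterSystem.subgroup_closure_range_simple, Subgroup.closure_le]
  rintro _ ⟨j, rfl⟩
  have hj := h j
  rw [← himg, ← MonoidHom.map_closure] at hj
  obtain ⟨x, hx, hxe⟩ := hj
  have : x = CM.simple j := hg (hxe.trans (he j).symm)
  rw [CoxeterMatrix.toCoxeterSystem_simple]
  exact this ▸ hx

end CfsgLib.Chev
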